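/-
Basic tools of local analysis: p-cores, O^p, O^{p'}, commutators with p-groups.
-/
import Cfsg.Prelude.Def_CaseTheorems
import Cfsg.Prelude.Def_Transfer
import Mathlib.GroupTheory.Nilpotent
import Mathlib.GroupTheory.Sylow

set_option autoImplicit false
set_option linter.unusedSectionVars false

namespace Cfsg.Agent.LEBasic

open scoped commutatorElement

variable {G : Type*} [Group G] {p : ℕ}

/-! ### Conjugation of subgroups -/

theorem mem_map_conj {H : Subgroup G} {g x : G} :
    x ∈ H.map (MulAut.conj g).toMonoidHom ↔ g⁻¹ * x * g ∈ H := by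
  rw [Subgroup.mem_map_equiv, MulAut.conj_symm_apply]

theorem map_conj_map_conj (H : Subgroup G) (g h : G) :
    (H.map (MulAut.conj h).toMonoidHom).map (MulAut.conj g).toMonoidHom =
      H.map (MulAut.conj (g * h)).toMonoidHom := by
  ext x
  simp only [mem_map_conj, mul_inv_rev, mul_assoc]

theorem map_conj_one (H : Subgroup G) : H.map (MulAut.conj (1 : G)).toMonoidHom = H := by
  ext x
  simp [mem_map_conj]

theorem map_conj_eq_iff_mem_normalizer {H : Subgroup G} {g : G} :
    H.map (MulAut.conj g).toMonoidHom = H ↔ g ∈ Subgroup.normalizer (H : Set G) := by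
  rw [Subgroup.mem_normalizer_iff'', SetLike.ext_iff]
  simp only [mem_map_conj, SetLike.mem_coe]
  exact ⟨fun h x => (h x).symm, fun h x => (h x).symm⟩

theorem card_map_conj (H : Subgroup G) (g : G) :
    Nat.card ↥(H.map (MulAut.conj g).toMonoidHom) = Nat.card ↥H :=
  Nat.card_congr (H.equivMapOfInjective _ (MulAut.conj g).injective).toEquiv.symm

theorem isPGroup_map_conj {H : Subgroup G} (hH : IsPGroup p ↥H) (g : G) :
    IsPGroup p ↥(H.map (MulAut.conj g).toMonoidHom) := hH.map _

theorem map_conj_mono {H K : Subgroup G} (g : G) (h : H ≤ K) :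
    H.map (MulAut.conj g).toMonoidHom ≤ K.map (MulAut.conj g).toMonoidHom := Subgroup.map_mono h

theorem map_conj_le_iff {H K : Subgroup G} (g : G) :
    H.map (MulAut.conj g).toMonoidHom ≤ K ↔ H ≤ K.map (MulAut.conj g⁻¹).toMonoidHom := by
  constructor
  · intro h
    have := map_conj_mono g⁻¹ h
    rwa [map_conj_map_conj, inv_mul_cancel, map_conj_one] at this
  · intro h
    have := map_conj_mono g h
    rwa [map_conj_map_conj, mul_inv_cancel, map_conj_one] at this

/-! ### O_p -/

theorem le_pCore {N : Subgroup G} (hN : N.Normal) (hp : IsPGroup p ↥N) : N ≤ Cfsg.pCore p G :=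
  le_sSup ⟨hN, hp⟩

variable [Fact p.Prime]

/-- A normal `p`-subgroup lies in every Sylow `p`-subgroup. -/
theorem normal_le_sylow {N : Subgroup G} [N.Normal] (hN : IsPGroup p ↥N) (P : Sylow p G) :
    N ≤ (P : Subgroup G) := by
  have h := P.is_maximal' (IsPGroup.to_sup_of_normal_left hN P.isPGroup') le_sup_right
  exact le_sup_left.trans h.le

theorem pCore_le_sylow (P : Sylow p G) : Cfsg.pCore p G ≤ (P : Subgroup G) :=
  sSup_le fun _ hN => by
    have := hN.1
    exact normal_le_sylow hN.2 P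

theorem pCore_isPGroup : IsPGroup p ↥(Cfsg.pCore p G) := by
  obtain ⟨P⟩ : Nonempty (Sylow p G) := inferInstance
  exact P.isPGroup'.to_le (pCore_le_sylow P)

theorem map_pCore_le {H : Type*} [Group H] {f : G →* H} (hf : Function.Surjective f) :
    (Cfsg.pCore p G).map f ≤ Cfsg.pCore p H := by
  rw [Subgroup.map_le_iff_le_comap]
  refine sSup_le fun N hN => ?_
  rw [← Subgroup.map_le_iff_le_comap]
  exact le_pCore (hN.1.map f hf) (hN.2.map f)

theorem map_pCore_equiv {H : Type*} [Group H] (e : G ≃* H) :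
    (Cfsg.pCore p G).map e.toMonoidHom = Cfsg.pCore p H := by
  refine le_antisymm (map_pCore_le e.surjective) ?_
  intro x hx
  have := map_pCore_le (p := p) (f := e.symm.toMonoidHom) e.symm.surjective ⟨x, hx, rfl⟩
  exact ⟨_, this, e.apply_symm_apply x⟩

theorem pCore_characteristic : (Cfsg.pCore p G).Characteristic :=
  Subgroup.characteristic_iff_map_le.2 fun φ => map_pCore_le (f := φ.toMonoidHom) φ.surjective

theorem pCore_eq_self {H : Subgroup G} (hH : H.Normal) (hp : IsPGroup p ↥H)
    (hmax : Cfsg.pCore p G ≤ H) : Cfsg.pCore p G = H :=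
  le_antisymm hmax (le_pCore hH hp)

theorem pCore_quotient_pCore : Cfsg.pCore p (G ⧸ Cfsg.pCore p G) = ⊥ := by
  rw [eq_bot_iff]
  set π := QuotientGroup.mk' (Cfsg.pCore p G) with hπ
  have h1 : (Cfsg.pCore p (G ⧸ Cfsg.pCore p G)).comap π ≤ Cfsg.pCore p G :=
    le_pCore ((Cfsg.pCore_normal p _).comap π) (pCore_isPGroup.comap_of_ker_isPGroup π
      (by rw [hπ, QuotientGroup.ker_mk']; exact pCore_isPGroup))
  intro x hx
  obtain ⟨a, rfl⟩ := QuotientGroup.mk'_surjective _ x
  exact Subgroup.mem_bot.2 ((QuotientGroup.eq_one_iff a).2 (h1 hx))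

theorem pCore_quotient_of_isPGroup {N : Subgroup G} [N.Normal] (hN : IsPGroup p ↥N) :
    (Cfsg.pCore p (G ⧸ N)).comap (QuotientGroup.mk' N) = Cfsg.pCore p G := by
  refine le_antisymm (le_pCore ((Cfsg.pCore_normal p _).comap _) ?_) ?_
  · exact pCore_isPGroup.comap_of_ker_isPGroup _ (by rw [QuotientGroup.ker_mk']; exact hN)
  · rw [← Subgroup.map_le_iff_le_comap]
    exact map_pCore_le (QuotientGroup.mk'_surjective N)

/-- `O_p(H)` of a subgroup, seen in the ambient group, is a `p`-group. -/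
theorem pCoreMap_isPGroup (H : Subgroup G) : IsPGroup p ↥((Cfsg.pCore p ↥H).map H.subtype) :=
  pCore_isPGroup.map H.subtype

theorem le_pCoreMap {H K : Subgroup G} (hK : K ≤ H) (hn : H ≤ Subgroup.normalizer (K : Set G))
    (hp : IsPGroup p ↥K) : K ≤ (Cfsg.pCore p ↥H).map H.subtype := by
  have h1 : (K.subgroupOf H).Normal := Subgroup.normal_subgroupOf_of_le_normalizer hn
  have h2 : IsPGroup p ↥(K.subgroupOf H) := hp.comap_of_injective H.subtype H.subtype_injective
  intro x hx
  exact ⟨⟨x, hK hx⟩, le_pCore h1 h2 hx, rfl⟩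

theorem le_normalizer_map_of_characteristic {H : Subgroup G} {C : Subgroup ↥H}
    (hC : C.Characteristic) :
    Subgroup.normalizer (H : Set G) ≤ Subgroup.normalizer ((C.map H.subtype : Subgroup G) : Set G) := by
  intro g hg
  rw [← map_conj_eq_iff_mem_normalizer]
  let φ : ↥H ≃* ↥H :=
    { toFun := fun x => ⟨g * x * g⁻¹, (Subgroup.mem_normalizer_iff.1 hg x).1 x.2⟩
      invFun := fun x => ⟨g⁻¹ * x * g, (Subgroup.mem_normalizer_iff''.1 hg x).1 x.2⟩
      left_inv := fun x => by ext; simp [mul_assoc]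
      right_inv := fun x => by ext; simp [mul_assoc]
      map_mul' := fun x y => by ext; simp [mul_assoc] }
  have hfix : C.map φ.toMonoidHom = C := Subgroup.characteristic_iff_map_eq.1 hC φ
  calc (C.map H.subtype).map (MulAut.conj g).toMonoidHom
      = (C.map φ.toMonoidHom).map H.subtype := by
        rw [Subgroup.map_map, Subgroup.map_map]
        congr 1
    _ = C.map H.subtype := by rw [hfix]

theorem normalizer_le_normalizer_pCoreMap (H : Subgroup G) :
    Subgroup.normalizer (H : Set G) ≤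
      Subgroup.normalizer (((Cfsg.pCore p ↥H).map H.subtype : Subgroup G) : Set G) :=
  le_normalizer_map_of_characteristic pCore_characteristic

/-- `O_p` of a normal subgroup lies in `O_p` of the group. -/
theorem pCoreMap_le_pCore {N : Subgroup G} [N.Normal] :
    (Cfsg.pCore p ↥N).map N.subtype ≤ Cfsg.pCore p G := by
  refine le_pCore ?_ (pCoreMap_isPGroup N)
  rw [← Subgroup.normalizer_eq_top_iff, eq_top_iff]
  have h : Subgroup.normalizer (N : Set G) = ⊤ := Subgroup.normalizer_eq_top_iff.2 inferInstance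
  exact h ▸ normalizer_le_normalizer_pCoreMap N

/-! ### O^p -/

theorem mem_pResidual {g : G} (h : Nat.Coprime (orderOf g) p) : g ∈ Cfsg.pResidual p G :=
  Subgroup.subset_closure h

theorem pResidual_map_le {H : Type*} [Group H] [Finite G] (f : G →* H) :
    (Cfsg.pResidual p G).map f ≤ Cfsg.pResidual p H := by
  rw [Subgroup.map_le_iff_le_comap, Cfsg.pResidual, Subgroup.closure_le]
  intro g hg
  exact mem_pResidual (Nat.Coprime.coprime_dvd_left (orderOf_map_dvd f g) hg)

theorem pResidual_characteristic [Finite G] : (Cfsg.pResidual p G).Characteristic :=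
  Subgroup.characteristic_iff_map_le.2 fun φ => pResidual_map_le φ.toMonoidHom

theorem pResidual_normal [Finite G] : (Cfsg.pResidual p G).Normal :=
  have := pResidual_characteristic (p := p) (G := G)
  inferInstance

/-- Every element is a product of a `p`-element and a `p'`-element, both powers of it. -/
theorem exists_p_part [Finite G] (g : G) : ∃ a b : G, g = a * b ∧ (∃ k, orderOf a = p ^ k) ∧
    (orderOf b).Coprime p ∧ a ∈ Subgroup.zpowers g ∧ b ∈ Subgroup.zpowers g := by
  have hp : p.Prime := Fact.out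
  obtain ⟨e, m, hm, he⟩ := Nat.exists_eq_pow_mul_and_not_dvd (orderOf_pos g).ne' p hp.ne_one
  have hco : Nat.Coprime (p ^ e) m := Nat.Coprime.pow_left e (hp.coprime_iff_not_dvd.2 hm)
  have hb := Int.gcd_eq_gcd_ab (p ^ e : ℕ) (m : ℕ)
  rw [Int.gcd_natCast_natCast, hco, Nat.cast_one] at hb
  set u := Int.gcdA (p ^ e : ℕ) (m : ℕ)
  set v := Int.gcdB (p ^ e : ℕ) (m : ℕ)
  refine ⟨g ^ ((m : ℤ) * v), g ^ (((p ^ e : ℕ) : ℤ) * u), ?_, ?_, ?_, Subgroup.zpow_mem_zpowers _ _,
    Subgroup.zpow_mem_zpowers _ _⟩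
  · rw [← zpow_add, add_comm, ← hb, zpow_one]
  · have h1 : (g ^ ((m : ℤ) * v)) ^ (p ^ e) = 1 := by
      rw [← zpow_natCast, ← zpow_mul, ← orderOf_dvd_iff_zpow_eq_one, he]
      exact ⟨v, by push_cast; ring⟩
    obtain ⟨k, -, hk⟩ := (Nat.dvd_prime_pow hp).1 (orderOf_dvd_of_pow_eq_one h1)
    exact ⟨k, hk⟩
  · have h1 : (g ^ (((p ^ e : ℕ) : ℤ) * u)) ^ m = 1 := by
      rw [← zpow_natCast, ← zpow_mul, ← orderOf_dvd_iff_zpow_eq_one, he]
      exact ⟨u, by push_cast; ring⟩
    exact Nat.Coprime.coprime_dvd_left (orderOf_dvd_of_pow_eq_one h1) (hp.coprime_iff_not_dvd.2 hm).symm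

/-- The quotient by `O^p` is a `p`-group. -/
theorem quotient_pResidual_isPGroup [Finite G] [(Cfsg.pResidual p G).Normal] :
    IsPGroup p (G ⧸ Cfsg.pResidual p G) := by
  intro x
  induction x using QuotientGroup.induction_on with
  | H g =>
    obtain ⟨a, b, rfl, ⟨k, hk⟩, hb, -⟩ := exists_p_part (p := p) g
    refine ⟨k, ?_⟩
    have hb1 : ((b : G) : G ⧸ Cfsg.pResidual p G) = 1 := (QuotientGroup.eq_one_iff b).2 (mem_pResidual hb)
    rw [QuotientGroup.mk_mul, hb1, mul_one, ← QuotientGroup.mk_pow, ← hk, pow_orderOf_eq_one,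
      QuotientGroup.mk_one]

theorem pResidual_le_of_quotient [Finite G] {N : Subgroup G} [N.Normal] [Fact p.Prime]
    (h : IsPGroup p (G ⧸ N)) : Cfsg.pResidual p G ≤ N := by
  rw [Cfsg.pResidual, Subgroup.closure_le]
  intro g hg
  obtain ⟨k, hk⟩ := h (g : G ⧸ N)
  have h1 : orderOf ((g : G) : G ⧸ N) ∣ p ^ k := orderOf_dvd_of_pow_eq_one hk
  have h2 : orderOf ((g : G) : G ⧸ N) ∣ orderOf g := orderOf_map_dvd (QuotientGroup.mk' N) g
  have h3 : orderOf ((g : G) : G ⧸ N) = 1 :=
    Nat.eq_one_of_dvd_coprimes (Nat.Coprime.pow_right k hg) h2 h1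
  exact (QuotientGroup.eq_one_iff g).1 (orderOf_eq_one_iff.1 h3)

theorem pResidual_eq_bot_iff [Finite G] : Cfsg.pResidual p G = ⊥ ↔ IsPGroup p G := by
  have := pResidual_normal (p := p) (G := G)
  constructor
  · intro h
    have h1 : IsPGroup p (G ⧸ Cfsg.pResidual p G) := quotient_pResidual_isPGroup
    refine IsPGroup.of_surjective h1 (QuotientGroup.quotientBot.toMonoidHom.comp
      (QuotientGroup.quotientMulEquivOfEq h).toMonoidHom) ?_
    exact (QuotientGroup.quotientBot.surjective).comp (QuotientGroup.quotientMulEquivOfEq h).surjective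
  · intro h
    rw [eq_bot_iff]
    exact pResidual_le_of_quotient (N := ⊥) (h.to_quotient ⊥)

/-- `G = O^p(G) P` for a Sylow `p`-subgroup `P`. -/
theorem pResidual_sup_sylow [Finite G] (P : Sylow p G) :
    Cfsg.pResidual p G ⊔ (P : Subgroup G) = ⊤ := by
  have := pResidual_normal (p := p) (G := G)
  have h1 : IsPGroup p (G ⧸ Cfsg.pResidual p G) := quotient_pResidual_isPGroup
  have hPmap := (P.mapSurjective (QuotientGroup.mk'_surjective (Cfsg.pResidual p G)))
  have htop : (P : Subgroup G).map (QuotientGroup.mk' (Cfsg.pResidual p G)) = ⊤ := by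
    have h2 := (P.mapSurjective (QuotientGroup.mk'_surjective (Cfsg.pResidual p G))).is_maximal'
      (h1.to_subgroup ⊤) le_top
    rw [Sylow.coe_mapSurjective] at h2
    exact h2.symm
  have h3 := congrArg (Subgroup.comap (QuotientGroup.mk' (Cfsg.pResidual p G))) htop
  rw [Subgroup.comap_map_eq, QuotientGroup.ker_mk', Subgroup.comap_top, sup_comm] at h3
  exact h3

/-! ### Commutators with p-groups -/

theorem le_lowerCentralSeries_of_le_commutator {X P : Subgroup G} (hX : X ≤ P)
    (h : X ≤ ⁅X, P⁆) : ∀ n, X ≤ P.lowerCentralSeries n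
  | 0 => hX
  | n + 1 => h.trans (Subgroup.commutator_mono (le_lowerCentralSeries_of_le_commutator hX h n) le_rfl)

/-- A finite `p`-group cannot fix a nontrivial subgroup under commutation. -/
theorem eq_bot_of_le_commutator [Finite G] {X P : Subgroup G} (hP : IsPGroup p ↥P) (hX : X ≤ P)
    (h : X ≤ ⁅X, P⁆) : X = ⊥ := by
  have := hP.isNilpotent
  obtain ⟨n, hn⟩ := (Subgroup.isNilpotent_iff_lowerCentralSeries P).1 inferInstance
  exact eq_bot_iff.2 (hn ▸ le_lowerCentralSeries_of_le_commutator hX h n)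

/-- If a `p`-group `A` normalizes the `p`-group `X` and `X ≤ [X, A]`, then `X = 1`. -/
theorem eq_bot_of_le_commutator' [Finite G] {X A : Subgroup G} (hX : IsPGroup p ↥X)
    (hA : IsPGroup p ↥A) (hn : A ≤ Subgroup.normalizer (X : Set G)) (h : X ≤ ⁅X, A⁆) : X = ⊥ :=
  eq_bot_of_le_commutator (P := A ⊔ X) (IsPGroup.to_sup_of_normal_right' hA hX hn) le_sup_right
    (h.trans (Subgroup.commutator_mono le_rfl le_sup_left))

end Cfsg.Agent.LEBasic
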