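/-
For odd `p`, a `p'`-element acting on a `p`-group and fixing all elements of order `p` acts trivially.
-/
import Cfsg.Agent.Lib.Techniques.CharP
import Mathlib.GroupTheory.Abelianization.Defs
import Mathlib.Data.Nat.Choose.Dvd

set_option autoImplicit false

namespace Cfsg.Agent.LEOmega

open scoped commutatorElement

variable {G : Type*} [Group G]

theorem pow_mul_swap {a b z : G} (hba : b * a = a * b * z) (hzb : Commute z b) :
    ∀ n : ℕ, b ^ n * a = a * b ^ n * z ^ n := by
  intro n
  induction n with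
  | zero => simp
  | succ n ih =>
    calc b ^ (n + 1) * a = b * (b ^ n * a) := by rw [pow_succ']; group
      _ = (b * a) * b ^ n * z ^ n := by rw [ih]; group
      _ = a * b * (z * b ^ n) * z ^ n := by rw [hba]; group
      _ = a * b * (b ^ n * z) * z ^ n := by rw [(hzb.pow_right n).eq]
      _ = a * b ^ (n + 1) * z ^ (n + 1) := by rw [pow_succ', pow_succ']; group

theorem mul_pow_class_two {a b z : G} (hba : b * a = a * b * z) (hza : Commute z a)
    (hzb : Commute z b) : ∀ n : ℕ, (a * b) ^ n = a ^ n * b ^ n * z ^ n.choose 2 := by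
  intro n
  induction n with
  | zero => simp
  | succ n ih =>
    have e : (n + 1).choose 2 = n + n.choose 2 := by rw [Nat.choose_succ_succ', Nat.choose_one_right]
    calc (a * b) ^ (n + 1) = a ^ n * b ^ n * (z ^ n.choose 2 * (a * b)) := by rw [pow_succ, ih]; group
      _ = a ^ n * b ^ n * (a * b * z ^ n.choose 2) := by rw [((hza.mul_right hzb).pow_left _).eq]
      _ = a ^ n * (b ^ n * a) * b * z ^ n.choose 2 := by group
      _ = a ^ n * a * b ^ n * (z ^ n * b) * z ^ n.choose 2 := by rw [pow_mul_swap hba hzb n]; group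
      _ = a ^ n * a * b ^ n * (b * z ^ n) * z ^ n.choose 2 := by rw [(hzb.pow_left n).eq]
      _ = a ^ (n + 1) * b ^ (n + 1) * z ^ (n + 1).choose 2 := by rw [e, pow_add, pow_succ, pow_succ]; group

variable [Finite G] {p : ℕ} [Fact p.Prime]

/-- For odd `p`: a `p'`-element normalizing the `p`-group `Q` and fixing its elements of order `p`
centralizes `Q`. -/
theorem commute_of_omega (hp : p ≠ 2) {x : G} (hxc : (orderOf x).Coprime p) :
    ∀ (m : ℕ) (Q : Subgroup G), Nat.card ↥Q ≤ m → IsPGroup p ↥Q →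
      x ∈ Subgroup.normalizer (Q : Set G) → (∀ a ∈ Q, a ^ p = 1 → x * a = a * x) →
      ∀ a ∈ Q, x * a = a * x := by
  intro m
  induction m with
  | zero => intro Q hm; exact absurd hm (Nat.not_le.2 Nat.card_pos)
  | succ m ih =>
    intro Q hm hQ hxQ hΩ a ha
    -- proper subgroups are centralized
    have small : ∀ K : Subgroup G, K ≤ Q → K ≠ Q → x ∈ Subgroup.normalizer (K : Set G) →
        ∀ k ∈ K, x * k = k * x := by
      intro K hK hne hxK
      refine ih K ?_ (hQ.to_le hK) hxK fun k hk => hΩ k (hK hk)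
      have : Nat.card ↥K < Nat.card ↥Q :=
        lt_of_le_of_ne (Subgroup.card_le_of_le hK) fun h => hne (Subgroup.eq_of_le_of_card_ge hK h.ge)
      omega
    rcases eq_or_ne Q ⊥ with hQ1 | hQ1
    · rw [hQ1, Subgroup.mem_bot] at ha
      simp [ha]
    haveI := (Subgroup.nontrivial_iff_ne_bot Q).2 hQ1
    haveI := hQ.isNilpotent
    haveI : Group.IsSolvable ↥Q := inferInstance
    let F : Subgroup ↥Q :=
      (powMonoidHom p : Abelianization ↥Q →* Abelianization ↥Q).range.comap Abelianization.of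
    have hFc : ∀ u v : ↥Q, ⁅u, v⁆ ∈ F := fun u v => ⟨1, by
      rw [powMonoidHom_apply, one_pow, map_commutatorElement, commutatorElement_eq_one_iff_mul_comm.2 (mul_comm _ _)]⟩
    have hFp : ∀ u : ↥Q, u ^ p ∈ F := fun u => ⟨Abelianization.of u, by rw [powMonoidHom_apply, map_pow]⟩
    have hF : F ≠ ⊤ := by
      intro htop
      have hsurj : Function.Surjective (powMonoidHom p : Abelianization ↥Q →* Abelianization ↥Q) := by
        intro y
        obtain ⟨u, rfl⟩ := QuotientGroup.mk_surjective y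
        exact (htop ▸ Subgroup.mem_top u : u ∈ F)
      have hinj := Finite.injective_iff_surjective.2 hsurj
      have hA : IsPGroup p (Abelianization ↥Q) := hQ.of_surjective Abelianization.of QuotientGroup.mk_surjective
      obtain ⟨k, hk⟩ := hA.exists_card_eq
      rcases k with _ | k
      · have hlt := Group.IsSolvable.commutator_lt_top_of_nontrivial ↥Q
        apply hlt.ne
        rw [← QuotientGroup.ker_mk' (commutator ↥Q)]
        rw [eq_top_iff]
        intro u _
        rw [pow_zero, Nat.card_eq_one_iff_unique] at hk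
        exact (hk.1).elim _ _
      · obtain ⟨y, hy⟩ := exists_prime_orderOf_dvd_card' p (hk ▸ dvd_pow_self p k.succ_ne_zero)
        have : y = 1 := hinj (by rw [powMonoidHom_apply, powMonoidHom_apply, one_pow, ← hy, pow_orderOf_eq_one])
        rw [this, orderOf_one] at hy
        exact (Fact.out : p.Prime).ne_one hy.symm
    set F' := F.map Q.subtype with hF'
    have hFne : F' ≠ Q := fun h => hF (by
      apply Subgroup.map_injective Q.subtype_injective
      rw [← hF', h, ← MonoidHom.range_eq_map, Subgroup.range_subtype])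
    have hxF : x ∈ Subgroup.normalizer (F' : Set G) := by
      have key : ∀ y : G, y ∈ Subgroup.normalizer (Q : Set G) → ∀ f ∈ F', y * f * y⁻¹ ∈ F' := by
        rintro y hy _ ⟨f, ⟨b, hb⟩, rfl⟩
        let e : ↥Q →* ↥Q :=
          { toFun := fun k => ⟨y * k * y⁻¹, (Subgroup.mem_normalizer_iff.1 hy _).1 k.2⟩
            map_one' := Subtype.ext (by simp)
            map_mul' := fun u v => Subtype.ext (by simp [mul_assoc]) }
        refine ⟨e f, ⟨Abelianization.map e b, ?_⟩, rfl⟩
        rw [powMonoidHom_apply, ← map_pow, ← powMonoidHom_apply, hb, Abelianization.map_of]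
      rw [Subgroup.mem_normalizer_iff]
      refine fun f => ⟨key x hxQ f, fun h => ?_⟩
      have := key x⁻¹ (inv_mem hxQ) _ h
      simpa [mul_assoc] using this
    have hfix : ∀ f ∈ F', x * f = f * x := small F' (Subgroup.map_subtype_le F) hFne hxF
    set C := Q ⊓ Subgroup.centralizer (F' : Set G) with hC
    have hxC : x ∈ Subgroup.normalizer (C : Set G) :=
      Subgroup.le_normalizer_iff.2 (fun g hg h hh => by
        obtain ⟨h1, h2⟩ := Subgroup.mem_inf.1 hh
        refine Subgroup.mem_inf.2 ⟨(Subgroup.mem_normalizer_iff.1 (Subgroup.mem_inf.1 hg).1 _).1 h1, ?_⟩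
        rw [Subgroup.mem_centralizer_iff] at h2 ⊢
        intro f hf
        have hf' := h2 _ ((Subgroup.mem_normalizer_iff''.1 (Subgroup.mem_inf.1 hg).2 f).1 hf)
        calc f * (g * h * g⁻¹) = g * (g⁻¹ * f * g * h) * g⁻¹ := by group
          _ = g * (h * (g⁻¹ * f * g)) * g⁻¹ := by rw [hf']
          _ = g * h * g⁻¹ * f := by group)
        (show x ∈ Subgroup.normalizer (Q : Set G) ⊓ Subgroup.normalizer (F' : Set G) from ⟨hxQ, hxF⟩)
    -- the displacement c
    set c := a⁻¹ * (x * a * x⁻¹) with hc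
    have hxa : x * a * x⁻¹ ∈ Q := (Subgroup.mem_normalizer_iff.1 hxQ a).1 ha
    have hcQ : c ∈ Q := mul_mem (inv_mem ha) hxa
    have hcC : c ∈ C := by
      refine Subgroup.mem_inf.2 ⟨hcQ, Subgroup.mem_centralizer_iff.2 fun f hf => ?_⟩
      have haf : a * f * a⁻¹ ∈ F' := by
        obtain ⟨f₀, hf₀, rfl⟩ := hf
        refine ⟨⁅⟨a, ha⟩, f₀⁆ * f₀, mul_mem (hFc _ _) hf₀, ?_⟩
        simp [commutatorElement_def, mul_assoc]
      have h1 := hfix _ haf
      have h2 : Commute x⁻¹ f := (show Commute x f from hfix f hf).inv_left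
      calc f * c = a⁻¹ * (a * f * a⁻¹) * (x * a * x⁻¹) := by rw [hc]; group
        _ = a⁻¹ * ((a * f * a⁻¹) * x) * a * x⁻¹ := by group
        _ = a⁻¹ * (x * (a * f * a⁻¹)) * a * x⁻¹ := by rw [h1]
        _ = a⁻¹ * x * a * (f * x⁻¹) := by group
        _ = a⁻¹ * x * a * (x⁻¹ * f) := by rw [h2.eq]
        _ = c * f := by rw [hc]; group
    have hconj : x * a * x⁻¹ = a * c := by rw [hc]; group
    suffices h : x * c = c * x from CharP.commute_of_conj_eq_mul hQ hcQ hxc hconj h
    by_cases hCQ : C = Q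
    swap
    · exact small C inf_le_left hCQ hxC c hcC
    -- now F' is central in Q
    have hcentral : ∀ f ∈ F', ∀ q ∈ Q, f * q = q * f := fun f hf q hq =>
      Subgroup.mem_centralizer_iff.1 (Subgroup.mem_inf.1 (hCQ.symm ▸ hq : q ∈ C)).2 f hf
    set z' := c⁻¹ * a⁻¹ * c * a with hz'
    have hz'F : z' ∈ F' := ⟨⁅(⟨c, hcQ⟩ : ↥Q)⁻¹, (⟨a, ha⟩ : ↥Q)⁻¹⁆, hFc _ _, by
      simp [hz', commutatorElement_def, mul_assoc]⟩
    have hba : c * a = a * c * z' := by rw [hz']; group
    have hzc : Commute z' c := hcentral z' hz'F c hcQ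
    have hza : Commute z' a := hcentral z' hz'F a ha
    have hcp : c ^ p ∈ F' := ⟨(⟨c, hcQ⟩ : ↥Q) ^ p, hFp _, by simp⟩
    have hzp : z' ^ p = 1 := by
      have h1 := pow_mul_swap hba hzc p
      rw [hcentral _ hcp a ha] at h1
      exact left_eq_mul.1 h1
    obtain ⟨d, hd⟩ := (Fact.out : p.Prime).dvd_choose_self (k := 2) two_ne_zero
      (lt_of_le_of_ne (Fact.out : p.Prime).two_le (Ne.symm hp))
    have hpow := mul_pow_class_two hba hza hzc p
    rw [← hconj, conj_pow, hfix (a ^ p) ⟨(⟨a, ha⟩ : ↥Q) ^ p, hFp _, by simp⟩, mul_inv_cancel_right, hd,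
      pow_mul, hzp, one_pow, mul_one, left_eq_mul] at hpow
    exact hΩ c hcQ hpow

theorem mem_centralizer_of_omega (hp : p ≠ 2) {x : G} (hxc : (orderOf x).Coprime p) {Q : Subgroup G}
    (hQ : IsPGroup p ↥Q) (hxQ : x ∈ Subgroup.normalizer (Q : Set G))
    (hΩ : ∀ a ∈ Q, a ^ p = 1 → x * a = a * x) : x ∈ Subgroup.centralizer (Q : Set G) :=
  Subgroup.mem_centralizer_iff.2 fun a ha =>
    (commute_of_omega hp hxc _ Q le_rfl hQ hxQ hΩ a ha).symm

end Cfsg.Agent.LEOmega
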