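/-
Sylow-theoretic helpers in the subgroup language.
-/
import Cfsg.Agent.Lib.LocalEven.Basic

set_option autoImplicit false
set_option linter.unusedSectionVars false

namespace Cfsg.Agent.LESylow

open Cfsg.Agent.LEBasic

variable {G : Type*} [Group G] {p : ℕ} [Fact p.Prime]

theorem exists_conj_eq [Finite G] (P Q : Sylow p G) :
    ∃ g : G, (P : Subgroup G).map (MulAut.conj g).toMonoidHom = (Q : Subgroup G) := by
  obtain ⟨g, hg⟩ := MulAction.exists_smul_eq G P Q
  refine ⟨g, ?_⟩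
  rw [← hg, Sylow.smul_def, Sylow.pointwise_smul_def, Subgroup.pointwise_smul_def]
  rfl

/-- Conjugate of a Sylow subgroup, as a subgroup. -/
theorem exists_sylow_conj [Finite G] (P : Sylow p G) (g : G) :
    ∃ Q : Sylow p G, (Q : Subgroup G) = (P : Subgroup G).map (MulAut.conj g).toMonoidHom := by
  refine ⟨g • P, ?_⟩
  rw [Sylow.smul_def, Sylow.pointwise_smul_def, Subgroup.pointwise_smul_def]
  rfl

theorem exists_conj_le [Finite G] {A : Subgroup G} (hA : IsPGroup p ↥A) (P : Sylow p G) :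
    ∃ g : G, A.map (MulAut.conj g).toMonoidHom ≤ (P : Subgroup G) := by
  obtain ⟨Q, hQ⟩ := hA.exists_le_sylow
  obtain ⟨g, hg⟩ := exists_conj_eq Q P
  exact ⟨g, hg ▸ map_conj_mono g hQ⟩

/-- Sylow's theorem inside a subgroup, in the ambient language. -/
theorem exists_conj_le_of_le [Finite G] {M A : Subgroup G} (hAM : A ≤ M) (hA : IsPGroup p ↥A)
    (S : Sylow p ↥M) :
    ∃ m ∈ M, A.map (MulAut.conj m).toMonoidHom ≤ (S : Subgroup ↥M).map M.subtype := by
  obtain ⟨m, hm⟩ := exists_conj_le (A := A.subgroupOf M)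
    (hA.comap_of_injective M.subtype M.subtype_injective) S
  refine ⟨m, m.2, ?_⟩
  intro x hx
  rw [mem_map_conj] at hx
  refine ⟨⟨x, ?_⟩, hm ?_, rfl⟩
  · have := mul_mem (mul_mem m.2 (hAM hx)) (inv_mem m.2)
    simpa [mul_assoc] using this
  · rw [mem_map_conj, Subgroup.mem_subgroupOf]
    exact hx

/-- A `p`-subgroup equal to its normalizer inside a `p`-group is the whole group. -/
theorem eq_of_normalizer_inf_le [Finite G] {R P : Subgroup G} (hP : IsPGroup p ↥P) (hRP : R ≤ P)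
    (h : P ⊓ Subgroup.normalizer (R : Set G) ≤ R) : R = P := by
  by_contra hne
  haveI := hP.isNilpotent
  have hlt : R.subgroupOf P < ⊤ := by
    rw [lt_top_iff_ne_top]
    exact fun heq => hne (le_antisymm hRP (Subgroup.subgroupOf_eq_top.1 heq))
  obtain ⟨x, hx, hxR⟩ := SetLike.exists_of_lt (Group.normalizerCondition_of_isNilpotent _ hlt)
  refine hxR (h (Subgroup.mem_inf.2 ⟨x.2, ?_⟩))
  refine Subgroup.mem_normalizer_iff.2 ?_
  intro y
  constructor
  · intro hy
    exact (Subgroup.mem_normalizer_iff.1 hx ⟨y, hRP hy⟩).1 hy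
  · intro hy
    have h1 : (x : G) * y * (x : G)⁻¹ ∈ P := hRP hy
    have h2 : y ∈ P := by
      have := mul_mem (mul_mem (inv_mem x.2) h1) x.2
      simpa [mul_assoc] using this
    exact (Subgroup.mem_normalizer_iff.1 hx ⟨y, h2⟩).2 hy

/-- A `p`-subgroup whose normalizer grows nowhere is Sylow. -/
theorem exists_sylow_eq [Finite G] {R : Subgroup G} (hR : IsPGroup p ↥R)
    (h : ∀ Q : Subgroup G, IsPGroup p ↥Q → R ≤ Q → Q ≤ Subgroup.normalizer (R : Set G) → Q ≤ R) :
    ∃ P : Sylow p G, (P : Subgroup G) = R := by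
  obtain ⟨P, hP⟩ := hR.exists_le_sylow
  refine ⟨P, (eq_of_normalizer_inf_le P.isPGroup' hP ?_).symm⟩
  exact h _ (P.isPGroup'.to_le inf_le_left) (le_inf hP Subgroup.le_normalizer) inf_le_right

theorem exists_orderOf_eq [Finite G] {A : Subgroup G} (hp : p ∣ Nat.card ↥A) :
    ∃ a ∈ A, orderOf a = p := by
  obtain ⟨a, ha⟩ := exists_prime_orderOf_dvd_card' p hp
  exact ⟨a, a.2, by rwa [← Subgroup.orderOf_coe] at ha⟩

theorem dvd_card_of_ne_bot {A : Subgroup G} (hA : IsPGroup p ↥A) (hne : A ≠ ⊥) : p ∣ Nat.card ↥A :=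
  hA.card_eq_or_dvd.resolve_left fun h => hne (Subgroup.eq_bot_of_card_eq A h)

theorem isPGroup_zpowers {a : G} {k : ℕ} (h : orderOf a = p ^ k) :
    IsPGroup p ↥(Subgroup.zpowers a) :=
  IsPGroup.of_card ((Nat.card_zpowers a).trans h)

theorem zpowers_ne_bot {a : G} (h : orderOf a = p) : Subgroup.zpowers a ≠ ⊥ := by
  rw [Subgroup.zpowers_ne_bot]
  rintro rfl
  rw [orderOf_one] at h
  exact (Fact.out : p.Prime).ne_one h.symm

theorem centralizer_le_normalizer_zpowers (a : G) :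
    Subgroup.centralizer ({a} : Set G) ≤ Subgroup.normalizer (Subgroup.zpowers a : Set G) := by
  intro g hg
  rw [← map_conj_eq_iff_mem_normalizer, MonoidHom.map_zpowers]
  congr 1
  show g * a * g⁻¹ = a
  rw [(Subgroup.mem_centralizer_singleton_iff.1 hg), mul_inv_cancel_right]

/-- A nontrivial `p`-group contains a central element of order `p`. -/
theorem exists_central_orderOf [Finite G] {P : Subgroup G} (hP : IsPGroup p ↥P) (hne : P ≠ ⊥) :
    ∃ z ∈ P, orderOf z = p ∧ ∀ x ∈ P, x * z = z * x := by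
  haveI : Nontrivial ↥P := (Subgroup.nontrivial_iff_ne_bot P).2 hne
  have hc := IsPGroup.center_nontrivial hP
  have hd : p ∣ Nat.card ↥(Subgroup.center ↥P) :=
    dvd_card_of_ne_bot (hP.to_subgroup _) ((Subgroup.nontrivial_iff_ne_bot _).1 hc)
  obtain ⟨z, hz, hzp⟩ := exists_orderOf_eq hd
  exact ⟨z, z.2, by rwa [Subgroup.orderOf_coe], fun x hx =>
    congrArg Subtype.val (Subgroup.mem_center_iff.1 hz ⟨x, hx⟩)⟩

end Cfsg.Agent.LESylow
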