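/-
Strongly p-embedded subgroups: equivalent forms and first consequences.
-/
import Cfsg.Agent.Lib.LocalEven.SylowAux
import Cfsg.Prelude.Def_EvenType

set_option autoImplicit false
set_option linter.unusedSectionVars false

namespace Cfsg.Agent.LEStrongEmb

open Cfsg.Agent.LEBasic Cfsg.Agent.LESylow

variable {G : Type*} [Group G] {p : ℕ} [Fact p.Prime]

theorem not_pRankLE_zero_iff [Finite G] (Q : Subgroup G) :
    ¬ Cfsg.PRankLE p 0 ↥Q ↔ p ∣ Nat.card ↥Q := by
  constructor
  · intro h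
    unfold Cfsg.PRankLE at h
    push Not at h
    obtain ⟨A, -, hexp, hcard⟩ := h
    have hA : IsPGroup p ↥A := fun a => ⟨1, Subtype.ext (by simpa using hexp a a.2)⟩
    have hne : A ≠ ⊥ := by rintro rfl; simp at hcard
    exact (dvd_card_of_ne_bot hA hne).trans (Subgroup.card_subgroup_dvd_card A)
  · intro h hle
    obtain ⟨a, ha⟩ := exists_prime_orderOf_dvd_card' p h
    have h1 := hle (Subgroup.zpowers a) inferInstance (by
      rintro _ ⟨k, rfl⟩
      show (a ^ k) ^ p = 1
      rw [← zpow_natCast, ← zpow_mul, mul_comm, zpow_mul, zpow_natCast, ← ha, pow_orderOf_eq_one,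
        one_zpow])
    rw [Nat.card_zpowers, ha, pow_zero] at h1
    exact absurd h1 (not_le.2 (Fact.out : p.Prime).one_lt)

theorem kGeneratedCore_le_iff [Finite G] (P : Sylow p G) (M : Subgroup G) :
    Cfsg.kGeneratedCore p 1 (P : Subgroup G) ≤ M ↔
      ∀ A : Subgroup G, A ≤ (P : Subgroup G) → A ≠ ⊥ → Subgroup.normalizer (A : Set G) ≤ M := by
  unfold Cfsg.kGeneratedCore
  rw [iSup_le_iff]
  constructor
  · intro h A hA hne
    refine h ⟨A, hA, ?_⟩
    show ¬ Cfsg.PRankLE p 0 ↥A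
    exact (not_pRankLE_zero_iff A).2 (dvd_card_of_ne_bot (P.isPGroup'.to_le hA) hne)
  · rintro h ⟨A, hA, hr⟩
    refine h A hA ?_
    rintro rfl
    have := (not_pRankLE_zero_iff (⊥ : Subgroup G)).1 hr
    simp [(Fact.out : p.Prime).ne_one] at this

/-- Strong `p`-embedding says: proper, order divisible by `p`, and containing the normalizer of each of
its nontrivial `p`-subgroups. -/
theorem iff_normalizers [Finite G] (M : Subgroup G) :
    Cfsg.IsStronglyPEmbedded p M ↔ M ≠ ⊤ ∧ p ∣ Nat.card ↥M ∧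
      ∀ A : Subgroup G, A ≤ M → IsPGroup p ↥A → A ≠ ⊥ → Subgroup.normalizer (A : Set G) ≤ M := by
  constructor
  · rintro ⟨hp, hne, P, hP⟩
    rw [kGeneratedCore_le_iff] at hP
    have hP1 : (P : Subgroup G) ≠ ⊥ := P.ne_bot_of_dvd_card hp
    have hPM : (P : Subgroup G) ≤ M := Subgroup.le_normalizer.trans (hP _ le_rfl hP1)
    refine ⟨hne, (P.dvd_card_of_dvd_card hp).trans (Subgroup.card_dvd_of_le hPM), fun A hA hAp hA1 => ?_⟩
    obtain ⟨m, hm, hle⟩ := exists_conj_le_of_le hA hAp (P.subtype hPM)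
    rw [Sylow.coe_subtype, Subgroup.map_subgroupOf_eq_of_le hPM] at hle
    have h1 := hP _ hle (by rwa [ne_eq, Subgroup.map_eq_bot_iff_of_injective _ (MulAut.conj m).injective])
    intro n hn
    have hmem : m * n * m⁻¹ ∈ Subgroup.normalizer
        ((A.map (MulAut.conj m).toMonoidHom : Subgroup G) : Set G) := by
      rw [← map_conj_eq_iff_mem_normalizer, map_conj_map_conj,
        show m * n * m⁻¹ * m = m * n by simp [mul_assoc], ← map_conj_map_conj A m n,
        map_conj_eq_iff_mem_normalizer.2 hn]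
    have := mul_mem (mul_mem (inv_mem hm) (h1 hmem)) hm
    simpa [mul_assoc] using this
  · rintro ⟨hne, hdvd, hN⟩
    obtain ⟨S⟩ : Nonempty (Sylow p ↥M) := inferInstance
    have hSp : IsPGroup p ↥((S : Subgroup ↥M).map M.subtype) := S.isPGroup'.map _
    have hS1 : (S : Subgroup ↥M).map M.subtype ≠ ⊥ := by
      rw [ne_eq, Subgroup.map_eq_bot_iff_of_injective _ M.subtype_injective]
      exact S.ne_bot_of_dvd_card hdvd
    obtain ⟨P, hP⟩ := exists_sylow_eq hSp fun Q hQ hle hQN => by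
      have hQM : Q ≤ M := hQN.trans (hN _ (Subgroup.map_subtype_le _) hSp hS1)
      have h2 := S.is_maximal' (hQ.comap_of_injective M.subtype M.subtype_injective)
        (Q := Q.subgroupOf M) (fun x hx => hle ⟨x, hx, rfl⟩)
      rw [← h2, Subgroup.map_subgroupOf_eq_of_le hQM]
    refine ⟨hdvd.trans (Subgroup.card_subgroup_dvd_card M), hne, P, (kGeneratedCore_le_iff P M).2 ?_⟩
    intro A hA hA1
    exact hN A ((hA.trans hP.le).trans (Subgroup.map_subtype_le _)) (P.isPGroup'.to_le hA) hA1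

variable [Finite G] {M : Subgroup G} (hM : Cfsg.IsStronglyPEmbedded p M)
include hM

theorem ne_top : M ≠ ⊤ := hM.2.1

theorem dvd_card : p ∣ Nat.card ↥M := ((iff_normalizers M).1 hM).2.1

theorem normalizer_le {A : Subgroup G} (hA : A ≤ M) (hp : IsPGroup p ↥A) (h1 : A ≠ ⊥) :
    Subgroup.normalizer (A : Set G) ≤ M := ((iff_normalizers M).1 hM).2.2 A hA hp h1

theorem centralizer_le {a : G} (ha : a ∈ M) (hp : orderOf a = p) :
    Subgroup.centralizer ({a} : Set G) ≤ M :=
  (centralizer_le_normalizer_zpowers a).trans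
    (normalizer_le hM (Subgroup.zpowers_le.2 ha) (isPGroup_zpowers (k := 1) (by rw [hp, pow_one]))
      (zpowers_ne_bot hp))

/-- A `p`-subgroup meeting `M` nontrivially lies in `M`. -/
theorem le_of_pSubgroup {R : Subgroup G} (hR : IsPGroup p ↥R) (h : R ⊓ M ≠ ⊥) : R ≤ M := by
  obtain ⟨z, hzR, hzp, hz⟩ := exists_central_orderOf hR (fun hb => h (by rw [hb, bot_inf_eq]))
  obtain ⟨a, haA, hap⟩ := exists_orderOf_eq (dvd_card_of_ne_bot (hR.to_le inf_le_left) h)
  have hzM : z ∈ M := centralizer_le hM (Subgroup.mem_inf.1 haA).2 hap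
    (Subgroup.mem_centralizer_singleton_iff.2 (hz a (Subgroup.mem_inf.1 haA).1).symm)
  exact fun x hx => centralizer_le hM hzM hzp (Subgroup.mem_centralizer_singleton_iff.2 (hz x hx))

/-- Every Sylow `p`-subgroup of `M` is one of `G`. -/
theorem sylow_isSylow (S : Sylow p ↥M) :
    ∃ P : Sylow p G, (P : Subgroup G) = (S : Subgroup ↥M).map M.subtype := by
  obtain ⟨P, hP⟩ := (S.isPGroup'.map M.subtype).exists_le_sylow
  have hne : (P : Subgroup G) ⊓ M ≠ ⊥ := by
    intro hb
    have h1 : (S : Subgroup ↥M).map M.subtype ≤ ⊥ := hb ▸ le_inf hP (Subgroup.map_subtype_le _)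
    rw [le_bot_iff, Subgroup.map_eq_bot_iff_of_injective _ M.subtype_injective] at h1
    exact S.ne_bot_of_dvd_card (dvd_card hM) h1
  have hPM : (P : Subgroup G) ≤ M := le_of_pSubgroup hM P.isPGroup' hne
  have h2 := S.is_maximal' (P.isPGroup'.comap_of_injective M.subtype M.subtype_injective)
    (Q := (P : Subgroup G).subgroupOf M) (fun x hx => hP ⟨x, hx, rfl⟩)
  exact ⟨P, by rw [← h2, Subgroup.map_subgroupOf_eq_of_le hPM]⟩

/-- If `a` of order `p` and its conjugate by `g` both lie in `M` then so does `g`. -/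
theorem mem_of_conj_mem {a g : G} (hp : orderOf a = p) (ha : a ∈ M) (hg : g * a * g⁻¹ ∈ M) :
    g ∈ M := by
  obtain ⟨S, hS⟩ := (isPGroup_zpowers (k := 1) (by rw [hp, pow_one]) : IsPGroup p ↥(Subgroup.zpowers a)).comap_of_injective
    M.subtype M.subtype_injective |>.exists_le_sylow
  obtain ⟨P, hP⟩ := sylow_isSylow hM S
  have haP : a ∈ (P : Subgroup G) := by
    rw [hP]; exact ⟨⟨a, ha⟩, hS (Subgroup.mem_zpowers a), rfl⟩
  obtain ⟨Q, hQ⟩ := exists_sylow_conj P g
  have hQM : (Q : Subgroup G) ≤ M := by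
    refine le_of_pSubgroup hM Q.isPGroup' fun hb => ?_
    have h1 : g * a * g⁻¹ ∈ (Q : Subgroup G) ⊓ M :=
      Subgroup.mem_inf.2 ⟨by rw [hQ]; exact ⟨a, haP, rfl⟩, hg⟩
    rw [hb, Subgroup.mem_bot, conj_eq_one_iff] at h1
    rw [h1, orderOf_one] at hp
    exact (Fact.out : p.Prime).ne_one hp.symm
  have hPM : (P : Subgroup G) ≤ M := hP.le.trans (Subgroup.map_subtype_le _)
  obtain ⟨⟨m, hm⟩, hconj⟩ := exists_conj_eq (P.subtype hPM) (Q.subtype hQM)
  have hmQ : (P : Subgroup G).map (MulAut.conj m).toMonoidHom = (Q : Subgroup G) := by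
    rw [Sylow.coe_subtype, Sylow.coe_subtype] at hconj
    have h3 := congrArg (Subgroup.map M.subtype) hconj
    rw [Subgroup.map_subgroupOf_eq_of_le hQM, Subgroup.map_map] at h3
    rw [← h3]
    conv_lhs => rw [← Subgroup.map_subgroupOf_eq_of_le hPM, Subgroup.map_map]
    congr 1
  have h4 : m⁻¹ * g ∈ Subgroup.normalizer ((P : Subgroup G) : Set G) := by
    rw [← map_conj_eq_iff_mem_normalizer, ← map_conj_map_conj, ← hQ, ← hmQ, map_conj_map_conj,
      inv_mul_cancel, map_conj_one]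
  have h5 := mul_mem hm (normalizer_le hM hPM P.isPGroup' (P.ne_bot_of_dvd_card hM.1) h4)
  simpa using h5

end Cfsg.Agent.LEStrongEmb
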