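/-
Further criteria for strong p-embedding.
-/
import Cfsg.Agent.Lib.LocalEven.StrongEmb

set_option autoImplicit false
set_option linter.unusedSectionVars false

namespace Cfsg.Agent.LEStrongEmb

open Cfsg.Agent.LEBasic Cfsg.Agent.LESylow

variable {G : Type*} [Group G] [Finite G] {p : ℕ} [Fact p.Prime]

/-- The classical definition: trivial `p`-part of the intersections with other conjugates. -/
theorem iff_inter (M : Subgroup G) :
    Cfsg.IsStronglyPEmbedded p M ↔ M ≠ ⊤ ∧ p ∣ Nat.card ↥M ∧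
      ∀ g : G, g ∉ M → ¬ p ∣ Nat.card ↥(M ⊓ M.map (MulAut.conj g).toMonoidHom) := by
  constructor
  · intro hM
    refine ⟨hM.2.1, dvd_card hM, fun g hg hdvd => hg ?_⟩
    obtain ⟨b, hb, hbp⟩ := exists_orderOf_eq hdvd
    obtain ⟨hb1, hb2⟩ := Subgroup.mem_inf.1 hb
    rw [mem_map_conj] at hb2
    have ho : orderOf (g⁻¹ * b * g) = p := by
      have : g⁻¹ * b * g = MulAut.conj g⁻¹ b := by simp
      rw [this, MulEquiv.orderOf_eq, hbp]
    exact mem_of_conj_mem hM ho hb2 (by simpa [mul_assoc] using hb1)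
  · rintro ⟨hne, hdvd, hI⟩
    refine (iff_normalizers M).2 ⟨hne, hdvd, fun A hA hAp hA1 n hn => ?_⟩
    by_contra hn'
    refine hI n hn' ((dvd_card_of_ne_bot hAp hA1).trans (Subgroup.card_dvd_of_le (le_inf hA ?_)))
    intro x hx
    rw [mem_map_conj]
    exact hA ((Subgroup.mem_normalizer_iff''.1 hn x).1 hx)

/-- `S2899`-style criterion: centralizers of elements of order `p` and the normalizer of a Sylow. -/
theorem of_centralizers {H : Subgroup G} (hH : H ≠ ⊤) (S : Sylow p ↥H)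
    (hC : ∀ x : G, x ∈ (S : Subgroup ↥H).map H.subtype → orderOf x = p →
      Subgroup.centralizer ({x} : Set G) ≤ H)
    (hN : Subgroup.normalizer (((S : Subgroup ↥H).map H.subtype : Subgroup G) : Set G) ≤ H) :
    Cfsg.IsStronglyPEmbedded p H := by
  set S' := (S : Subgroup ↥H).map H.subtype with hS'
  have hSp : IsPGroup p ↥S' := S.isPGroup'.map _
  have hS1 : S' ≠ ⊥ := by
    intro hb
    rw [hb] at hN
    apply hH
    rw [eq_top_iff]
    refine le_trans ?_ hN
    rw [Subgroup.normalizer_eq_top_iff.2 inferInstance]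
  have hdvd : p ∣ Nat.card ↥H :=
    (dvd_card_of_ne_bot hSp hS1).trans (Subgroup.card_dvd_of_le (Subgroup.map_subtype_le _))
  -- centralizers of elements of order p in H
  have hC' : ∀ x : G, x ∈ H → orderOf x = p → Subgroup.centralizer ({x} : Set G) ≤ H := by
    intro x hx hxp
    obtain ⟨m, hm, hle⟩ := exists_conj_le_of_le (A := Subgroup.zpowers x) (Subgroup.zpowers_le.2 hx)
      (isPGroup_zpowers (k := 1) (by rw [hxp, pow_one])) S
    have hmem : m * x * m⁻¹ ∈ S' := hle ⟨x, Subgroup.mem_zpowers x, rfl⟩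
    have ho : orderOf (m * x * m⁻¹) = p := by
      rw [show m * x * m⁻¹ = MulAut.conj m x by simp, MulEquiv.orderOf_eq, hxp]
    intro c hc
    have h1 : m * c * m⁻¹ ∈ Subgroup.centralizer ({m * x * m⁻¹} : Set G) := by
      rw [Subgroup.mem_centralizer_singleton_iff] at hc ⊢
      calc m * c * m⁻¹ * (m * x * m⁻¹) = m * (c * x) * m⁻¹ := by simp [mul_assoc]
        _ = m * (x * c) * m⁻¹ := by rw [hc]
        _ = m * x * m⁻¹ * (m * c * m⁻¹) := by simp [mul_assoc]
    have h2 := mul_mem (mul_mem (inv_mem hm) (hC _ hmem ho h1)) hm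
    simpa [mul_assoc] using h2
  -- every p-subgroup meeting H lies in H
  have key : ∀ R : Subgroup G, IsPGroup p ↥R → R ⊓ H ≠ ⊥ → R ≤ H := by
    intro R hR h
    obtain ⟨z, hzR, hzp, hz⟩ := exists_central_orderOf hR (fun hb => h (by rw [hb, bot_inf_eq]))
    obtain ⟨a, haA, hap⟩ := exists_orderOf_eq (dvd_card_of_ne_bot (hR.to_le inf_le_left) h)
    have hzH : z ∈ H := hC' a (Subgroup.mem_inf.1 haA).2 hap
      (Subgroup.mem_centralizer_singleton_iff.2 (hz a (Subgroup.mem_inf.1 haA).1).symm)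
    exact fun x hx => hC' z hzH hzp (Subgroup.mem_centralizer_singleton_iff.2 (hz x hx))
  refine (iff_normalizers H).2 ⟨hH, hdvd, fun A hA hAp hA1 n hn => ?_⟩
  obtain ⟨P, hP⟩ := hAp.exists_le_sylow
  have hPH : (P : Subgroup G) ≤ H := key _ P.isPGroup' fun hb =>
    hA1 (le_bot_iff.1 (hb ▸ le_inf hP hA))
  obtain ⟨Q, hQ⟩ := exists_sylow_conj P n
  have hAQ : A ≤ (Q : Subgroup G) := by
    rw [hQ, ← map_conj_eq_iff_mem_normalizer.2 hn]
    exact map_conj_mono n hP
  have hQH : (Q : Subgroup G) ≤ H := key _ Q.isPGroup' fun hb =>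
    hA1 (le_bot_iff.1 (hb ▸ le_inf hAQ hA))
  obtain ⟨a, ha, hPS⟩ := exists_conj_le_of_le hPH P.isPGroup' S
  obtain ⟨b, hb, hQS⟩ := exists_conj_le_of_le hQH Q.isPGroup' S
  have hSle : Nat.card ↥S' ≤ Nat.card ↥(P : Subgroup G) := by
    obtain ⟨P', hP'⟩ := hSp.exists_le_sylow
    obtain ⟨g, hg⟩ := exists_conj_eq P' P
    calc Nat.card ↥S' ≤ Nat.card ↥(P' : Subgroup G) := Subgroup.card_le_of_le hP'
      _ = Nat.card ↥(P : Subgroup G) := by rw [← hg, card_map_conj]
  have e1 : (P : Subgroup G).map (MulAut.conj a).toMonoidHom = S' :=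
    Subgroup.eq_of_le_of_card_ge hPS (by rw [card_map_conj]; exact hSle)
  have e2 : (Q : Subgroup G).map (MulAut.conj b).toMonoidHom = S' :=
    Subgroup.eq_of_le_of_card_ge hQS (by rw [card_map_conj, hQ, card_map_conj]; exact hSle)
  have h3 : b * n * a⁻¹ ∈ H := by
    refine hN (map_conj_eq_iff_mem_normalizer.1 ?_)
    conv_lhs => rw [← e1, map_conj_map_conj, inv_mul_cancel_right, ← map_conj_map_conj _ b n, ← hQ, e2]
  have := mul_mem (mul_mem (inv_mem hb) h3) ha
  simpa [mul_assoc] using this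

end Cfsg.Agent.LEStrongEmb
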