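/-
Wielandt: minimal normal subgroups normalize subnormal subgroups, joins of subnormal subgroups are
subnormal, and the zipper lemma.
-/
import Mathlib.GroupTheory.IsSubnormal
import Mathlib.GroupTheory.Commutator.Basic
import Mathlib.GroupTheory.QuotientGroup.Basic
import Mathlib.Order.Atoms
import Mathlib.GroupTheory.Nilpotent
import Cfsg.Agent.Lib.LocalEven.Basic

set_option autoImplicit false

namespace Cfsg.Agent.LEWielandt

universe u

theorem exists_minimal_normal {G : Type u} [Group G] [Finite G] {N : Subgroup G} (hN : N.Normal)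
    (h : N ≠ ⊥) : ∃ M : Subgroup G, M.Normal ∧ M ≠ ⊥ ∧ M ≤ N ∧
      ∀ K : Subgroup G, K.Normal → K ≤ M → K = ⊥ ∨ K = M := by
  obtain ⟨M, hM⟩ := (Set.toFinite {K : Subgroup G | K.Normal ∧ K ≠ ⊥ ∧ K ≤ N}).exists_minimal
    ⟨N, hN, h, le_rfl⟩
  obtain ⟨hMn, hM1, hMN⟩ := hM.prop
  refine ⟨M, hMn, hM1, hMN, fun K hK hKM => ?_⟩
  by_cases hK1 : K = ⊥
  · exact Or.inl hK1
  · exact Or.inr (le_antisymm hKM (hM.le_of_le ⟨hK, hK1, hKM.trans hMN⟩ hKM))

theorem minimal_normal_le_normalizer_aux : ∀ (n : ℕ) (G : Type u) [Group G] [Finite G],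
    Nat.card G ≤ n → ∀ M : Subgroup G, M.Normal →
      (∀ K : Subgroup G, K.Normal → K ≤ M → K = ⊥ ∨ K = M) →
      ∀ S : Subgroup G, S.IsSubnormal → M ≤ Subgroup.normalizer (S : Set G) := by
  intro n
  induction n with
  | zero => intro G _ _ hn; exact absurd hn (Nat.not_le.2 Nat.card_pos)
  | succ n ih =>
    intro G _ _ hn M hM hmin S hS
    rcases eq_or_ne S ⊤ with rfl | hne
    · rw [Subgroup.normalizer_eq_top_iff.2 inferInstance]; exact le_top
    obtain ⟨N, hN, hSN, hNlt⟩ := hS.exists_normal_and_le_and_lt_top_of_ne hne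
    haveI := hM
    haveI := hN
    rcases hmin (M ⊓ N) inferInstance inf_le_left with h | h
    · refine le_trans ?_ (Subgroup.centralizer_le_normalizer _)
      rw [← Subgroup.commutator_eq_bot_iff_le_centralizer, eq_bot_iff, ← h]
      exact (Subgroup.commutator_mono le_rfl hSN).trans (Subgroup.commutator_le_inf M N)
    · have hMN : M ≤ N := inf_eq_left.1 h
      have hcard : Nat.card ↥N ≤ n := by
        have h1 : Nat.card ↥N < Nat.card G := by
          refine lt_of_le_of_ne (Subgroup.card_le_card_group N) fun he => hNlt.ne ?_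
          exact Subgroup.eq_top_of_card_eq N he
        omega
      let M' := M.subgroupOf N
      haveI hM'n : M'.Normal := Subgroup.normal_subgroupOf
      let MS : Set (Subgroup ↥N) := {K | K.Normal ∧ K ≤ M' ∧
        ∀ L : Subgroup ↥N, L.Normal → L ≤ K → L = ⊥ ∨ L = K}
      let W : Subgroup ↥N := sSup MS
      have hWS : W ≤ Subgroup.normalizer ((S.subgroupOf N : Subgroup ↥N) : Set ↥N) :=
        sSup_le fun K hK => ih ↥N hcard K hK.1 hK.2.2 _ hS.subgroupOf
      have hinv : ∀ (g : G) (w : ↥N), w ∈ W → MulAut.conjNormal g w ∈ W := by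
        intro g w hw
        have h1 : W.map (MulAut.conjNormal g).toMonoidHom ≤ W := by
          rw [show W = sSup MS from rfl, Subgroup.map_le_iff_le_comap]
          refine sSup_le fun K hK => ?_
          rw [← Subgroup.map_le_iff_le_comap]
          refine le_sSup ⟨Subgroup.Normal.map hK.1 _ (MulAut.conjNormal g).surjective, ?_, ?_⟩
          · rintro _ ⟨k, hk, rfl⟩
            rw [Subgroup.mem_subgroupOf, MulEquiv.coe_toMonoidHom, MulAut.conjNormal_apply]
            exact hM.conj_mem _ (hK.2.1 hk) g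
          · intro L hL hLK
            have hc : L.comap (MulAut.conjNormal g).toMonoidHom ≤ K := by
              intro x hx
              obtain ⟨k, hk, he⟩ := hLK hx
              exact (MulAut.conjNormal g).injective he ▸ hk
            rcases hK.2.2 _ (Subgroup.Normal.comap hL _) hc with h' | h'
            · left
              rw [← Subgroup.map_comap_eq_self_of_surjective (MulAut.conjNormal g).surjective L]
              exact (congrArg _ h').trans (Subgroup.map_bot _)
            · right
              rw [← Subgroup.map_comap_eq_self_of_surjective (MulAut.conjNormal g).surjective L]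
              exact congrArg _ h'
        exact h1 ⟨w, hw, rfl⟩
      haveI hWn : (W.map N.subtype).Normal := ⟨by
        rintro _ ⟨w, hw, rfl⟩ g
        exact ⟨_, hinv g w hw, MulAut.conjNormal_apply g w⟩⟩
      have hWM : W.map N.subtype ≤ M := by
        rw [Subgroup.map_le_iff_le_comap]
        exact sSup_le fun K hK => hK.2.1
      rcases hmin _ hWn hWM with h' | h'
      · have hM'0 : M' = ⊥ := by
          by_contra hne'
          obtain ⟨K, hKn, hK1, hKM, hKmin⟩ := exists_minimal_normal hM'n hne'
          refine hK1 (le_bot_iff.1 ?_)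
          rw [← Subgroup.map_le_map_iff_of_injective N.subtype_injective, Subgroup.map_bot, ← h']
          exact Subgroup.map_mono (le_sSup ⟨hKn, hKM, hKmin⟩)
        rw [← Subgroup.map_subgroupOf_eq_of_le hMN, show M.subgroupOf N = ⊥ from hM'0, Subgroup.map_bot]
        exact bot_le
      · rw [← h', ← Subgroup.map_subgroupOf_eq_of_le hSN]
        exact (Subgroup.map_mono hWS).trans (Subgroup.le_normalizer_map _)

/-- A minimal normal subgroup normalizes every subnormal subgroup. -/
theorem minimal_normal_le_normalizer {G : Type u} [Group G] [Finite G] {M : Subgroup G}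
    (hM : M.Normal) (hmin : ∀ K : Subgroup G, K.Normal → K ≤ M → K = ⊥ ∨ K = M) {S : Subgroup G}
    (hS : S.IsSubnormal) : M ≤ Subgroup.normalizer (S : Set G) :=
  minimal_normal_le_normalizer_aux _ G le_rfl M hM hmin S hS

theorem sup_aux : ∀ (n : ℕ) (G : Type u) [Group G] [Finite G], Nat.card G ≤ n →
    ∀ A B : Subgroup G, A.IsSubnormal → B.IsSubnormal → (A ⊔ B).IsSubnormal := by
  intro n
  induction n with
  | zero => intro G _ _ hn; exact absurd hn (Nat.not_le.2 Nat.card_pos)
  | succ n ih =>
    intro G _ _ hn A B hA hB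
    rcases eq_or_ne (⊤ : Subgroup G) ⊥ with h | h
    · rw [show A ⊔ B = ⊤ from le_antisymm le_top (h ▸ bot_le)]
      exact Subgroup.IsSubnormal.top
    obtain ⟨M, hM, hM1, -, hmin⟩ := exists_minimal_normal (N := (⊤ : Subgroup G)) inferInstance h
    haveI := hM
    have hlt : Nat.card (G ⧸ M) ≤ n := by
      have h1 := Subgroup.card_eq_card_quotient_mul_card_subgroup M
      have h2 : 1 < Nat.card ↥M := (Subgroup.one_lt_card_iff_ne_bot M).2 hM1
      have h3 : 0 < Nat.card (G ⧸ M) := Nat.card_pos
      nlinarith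
    have h1 := ((ih _ hlt _ _ hA.quotient hB.quotient).comap (QuotientGroup.mk' M) :
      (Subgroup.comap (QuotientGroup.mk' M)
        (A.map (QuotientGroup.mk' M) ⊔ B.map (QuotientGroup.mk' M))).IsSubnormal)
    rw [← Subgroup.map_sup, Subgroup.comap_map_eq, QuotientGroup.ker_mk'] at h1
    refine Subgroup.IsSubnormal.step _ _ le_sup_left h1 ?_
    rw [Subgroup.normal_subgroupOf_iff_le_normalizer le_sup_left]
    refine sup_le Subgroup.le_normalizer fun m hm => ?_
    rw [← LEBasic.map_conj_eq_iff_mem_normalizer, Subgroup.map_sup,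
      LEBasic.map_conj_eq_iff_mem_normalizer.2 (minimal_normal_le_normalizer hM hmin hA hm),
      LEBasic.map_conj_eq_iff_mem_normalizer.2 (minimal_normal_le_normalizer hM hmin hB hm)]

/-- The join of two subnormal subgroups is subnormal. -/
theorem sup {G : Type u} [Group G] [Finite G] {A B : Subgroup G} (hA : A.IsSubnormal)
    (hB : B.IsSubnormal) : (A ⊔ B).IsSubnormal :=
  sup_aux _ G le_rfl A B hA hB

theorem exists_conj_ne_le_normalizer {G : Type u} [Group G] {X : Subgroup G} (hX : X.IsSubnormal)
    (hn : ¬ X.Normal) : ∃ x : G, x ∉ Subgroup.normalizer (X : Set G) ∧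
      X.map (MulAut.conj x).toMonoidHom ≤ Subgroup.normalizer (X : Set G) := by
  classical
  obtain ⟨n, f, hmono, hnorm, h0, hntop⟩ := hX.exists_chain
  have hex : ∃ i, ¬ f i ≤ Subgroup.normalizer (X : Set G) :=
    ⟨n, fun h => hn (Subgroup.normalizer_eq_top_iff.1 (top_le_iff.1 (hntop ▸ h)))⟩
  have hpos : 0 < Nat.find hex := by
    rw [Nat.pos_iff_ne_zero]
    intro h
    have := Nat.find_spec hex
    rw [h, h0] at this
    exact this Subgroup.le_normalizer
  obtain ⟨i, hi⟩ := Nat.exists_eq_succ_of_ne_zero hpos.ne'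
  have hspec := Nat.find_spec hex
  rw [hi] at hspec
  have hprev : f i ≤ Subgroup.normalizer (X : Set G) :=
    not_not.1 (Nat.find_min hex (show i < Nat.find hex by omega))
  obtain ⟨x, hxf, hxN⟩ := SetLike.not_le_iff_exists.1 hspec
  refine ⟨x, hxN, le_trans ?_ hprev⟩
  have hX_le : X ≤ f i := h0 ▸ hmono (Nat.zero_le i)
  have hxn : x ∈ Subgroup.normalizer ((f i : Subgroup G) : Set G) :=
    (Subgroup.normal_subgroupOf_iff_le_normalizer (hmono (Nat.le_succ i))).1 (hnorm i) hxf
  rw [← LEBasic.map_conj_eq_iff_mem_normalizer] at hxn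
  rw [← hxn]
  exact Subgroup.map_mono hX_le

/-- The zipper lemma: a subgroup subnormal in every proper subgroup containing it, but not in the
group, lies in a unique maximal subgroup. -/
theorem zipper {G : Type u} [Group G] [Finite G] :
    ∀ A : Subgroup G, (∀ H : Subgroup G, H ≠ ⊤ → A ≤ H → (A.subgroupOf H).IsSubnormal) →
      ¬ A.IsSubnormal →
      ∃ M : Subgroup G, IsCoatom M ∧ A ≤ M ∧ ∀ K : Subgroup G, K ≠ ⊤ → A ≤ K → K ≤ M := by
  intro A
  induction A using WellFoundedGT.induction with
  | ind A ih =>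
    intro hsub hns
    have hNne : Subgroup.normalizer (A : Set G) ≠ ⊤ := fun h =>
      hns (Subgroup.normalizer_eq_top_iff.1 h).isSubnormal
    obtain ⟨M, hM, hNM⟩ := (eq_top_or_exists_le_coatom _).resolve_left hNne
    refine ⟨M, hM, Subgroup.le_normalizer.trans hNM, fun K hK hAK => ?_⟩
    obtain ⟨K', hK', hKK'⟩ := (eq_top_or_exists_le_coatom K).resolve_left hK
    refine hKK'.trans ?_
    have hAK' := hAK.trans hKK'
    by_cases hn : (A.subgroupOf K').Normal
    · exact ((Subgroup.normal_subgroupOf_iff_le_normalizer hAK').1 hn).trans hNM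
    obtain ⟨⟨x, hxK⟩, hxN, hxle⟩ := exists_conj_ne_le_normalizer (hsub K' hK'.1 hAK') hn
    set B := A.map (MulAut.conj x).toMonoidHom with hB
    have hBK : B ≤ K' := by
      rintro _ ⟨a, ha, rfl⟩
      exact mul_mem (mul_mem hxK (hAK' ha)) (inv_mem hxK)
    have hBN : B ≤ Subgroup.normalizer (A : Set G) := by
      rintro _ ⟨a, ha, rfl⟩
      have h1 : (MulAut.conj (⟨x, hxK⟩ : ↥K')) ⟨a, hAK' ha⟩ ∈
          Subgroup.normalizer ((A.subgroupOf K' : Subgroup ↥K') : Set ↥K') :=
        hxle ⟨⟨a, hAK' ha⟩, ha, rfl⟩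
      have h2 := Subgroup.le_normalizer_map (H := A.subgroupOf K') K'.subtype ⟨_, h1, rfl⟩
      rw [Subgroup.map_subgroupOf_eq_of_le hAK'] at h2
      exact h2
    have hlt : A < A ⊔ B := by
      refine lt_of_le_of_ne le_sup_left fun h => hxN ?_
      have hBA : B ≤ A := h ▸ le_sup_right
      have hxA : x ∈ Subgroup.normalizer (A : Set G) :=
        LEBasic.map_conj_eq_iff_mem_normalizer.1
          (Subgroup.eq_of_le_of_card_ge hBA (LEBasic.card_map_conj A x).ge)
      rw [Subgroup.mem_normalizer_iff] at hxA ⊢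
      exact fun k => hxA k
    have hT : A ⊔ B ≤ Subgroup.normalizer (A : Set G) := sup_le Subgroup.le_normalizer hBN
    have hTns : ¬ (A ⊔ B).IsSubnormal := fun h => hns (Subgroup.IsSubnormal.step A (A ⊔ B) le_sup_left h
      ((Subgroup.normal_subgroupOf_iff_le_normalizer le_sup_left).2 hT))
    have hsubB : ∀ H : Subgroup G, H ≠ ⊤ → B ≤ H → (B.subgroupOf H).IsSubnormal := by
      intro H hH hBH
      have hAH' : A ≤ H.map (MulAut.conj x⁻¹).toMonoidHom := fun a ha => by
        rw [LEBasic.mem_map_conj, inv_inv]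
        exact hBH ⟨a, ha, rfl⟩
      have hH' : H.map (MulAut.conj x⁻¹).toMonoidHom ≠ ⊤ := fun h => hH (by
        rw [← LEBasic.map_conj_one H, ← mul_inv_cancel x, ← LEBasic.map_conj_map_conj, h,
          Subgroup.map_top_of_surjective _ (MulAut.conj x).surjective])
      have h1 := hsub _ hH' hAH'
      let e : ↥H →* ↥(H.map (MulAut.conj x⁻¹).toMonoidHom) :=
        ((MulAut.conj x⁻¹).toMonoidHom.comp H.subtype).codRestrict _ fun h => ⟨h, h.2, rfl⟩
      have h2 := h1.comap e
      have h3 : (A.subgroupOf (H.map (MulAut.conj x⁻¹).toMonoidHom)).comap e = B.subgroupOf H := by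
        ext h
        rw [Subgroup.mem_comap, Subgroup.mem_subgroupOf, Subgroup.mem_subgroupOf, hB,
          LEBasic.mem_map_conj]
        show x⁻¹ * (h : G) * x⁻¹⁻¹ ∈ A ↔ _
        rw [inv_inv]
      rwa [h3] at h2
    obtain ⟨M', hM', hTM', hall⟩ := ih (A ⊔ B) hlt (fun H hH hTH => by
      rw [Subgroup.subgroupOf_sup (le_sup_left.trans hTH) (le_sup_right.trans hTH)]
      exact sup (hsub H hH (le_sup_left.trans hTH)) (hsubB H hH (le_sup_right.trans hTH))) hTns
    have hMM' : M = M' := by
      have h1 : M ≤ M' := hall M hM.1 (hT.trans hNM)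
      exact h1.eq_of_not_lt fun h => hM'.1 (hM.2 _ h)
    exact hMM' ▸ hall K' hK'.1 (sup_le hAK' hBK)

theorem wielandt_criterion_aux : ∀ (n : ℕ) (G : Type u) [Group G] [Finite G], Nat.card G ≤ n →
    ∀ A : Subgroup G,
      (∀ g : G, (A.subgroupOf (A ⊔ A.map (MulAut.conj g).toMonoidHom)).IsSubnormal) →
      A.IsSubnormal := by
  intro n
  induction n with
  | zero => intro G _ _ hn; exact absurd hn (Nat.not_le.2 Nat.card_pos)
  | succ n ih =>
    intro G _ _ hn A h
    by_contra hns
    have hsub : ∀ H : Subgroup G, H ≠ ⊤ → A ≤ H → (A.subgroupOf H).IsSubnormal := by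
      intro H hH hAH
      have hlt : Nat.card ↥H ≤ n := by
        have h1 : Nat.card ↥H < Nat.card G :=
          lt_of_le_of_ne (Subgroup.card_le_card_group H) fun he => hH (Subgroup.eq_top_of_card_eq H he)
        omega
      refine ih ↥H hlt _ fun g => ?_
      set T := A.subgroupOf H ⊔ (A.subgroupOf H).map (MulAut.conj g).toMonoidHom with hT
      have hmap : T.map H.subtype = A ⊔ A.map (MulAut.conj (g : G)).toMonoidHom := by
        rw [hT, Subgroup.map_sup, Subgroup.map_subgroupOf_eq_of_le hAH]
        congr 1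
        conv_rhs => rw [← Subgroup.map_subgroupOf_eq_of_le hAH]
        rw [Subgroup.map_map, Subgroup.map_map]
        congr 1
      let e : ↥T →* ↥(A ⊔ A.map (MulAut.conj (g : G)).toMonoidHom) :=
        (H.subtype.comp T.subtype).codRestrict _ fun t => hmap ▸ ⟨t, t.2, rfl⟩
      exact (h g).comap e
    obtain ⟨M, hM, hAM, hall⟩ := zipper A hsub hns
    have hncl : ∀ g : G, A.map (MulAut.conj g).toMonoidHom ≤ M := by
      intro g
      by_cases htop : A ⊔ A.map (MulAut.conj g).toMonoidHom = ⊤
      · refine absurd ?_ hns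
        have h1 := (h g).trans le_sup_left
        exact h1 (htop ▸ Subgroup.IsSubnormal.top)
      · exact le_sup_right.trans (hall _ htop le_sup_left)
    have hncl' : Subgroup.normalClosure (A : Set G) ≤ M := by
      refine (Subgroup.closure_le _).2 fun x hx => ?_
      obtain ⟨a, ha, hc⟩ := Group.mem_conjugatesOfSet_iff.1 hx
      obtain ⟨g, rfl⟩ := isConj_iff.1 hc
      exact hncl g ⟨a, ha, rfl⟩
    refine hns (Subgroup.IsSubnormal.trans (Subgroup.le_normalClosure) (hsub _ ?_ Subgroup.le_normalClosure)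
      Subgroup.normalClosure_normal.isSubnormal)
    exact fun htop => hM.1 (top_le_iff.1 (htop ▸ hncl'))

/-- Wielandt's criterion: subnormal in the join with each conjugate implies subnormal. -/
theorem wielandt_criterion {G : Type u} [Group G] [Finite G] (A : Subgroup G)
    (h : ∀ g : G, (A.subgroupOf (A ⊔ A.map (MulAut.conj g).toMonoidHom)).IsSubnormal) :
    A.IsSubnormal :=
  wielandt_criterion_aux _ G le_rfl A h

/-- Every subgroup of a finite nilpotent group is subnormal. -/
theorem isSubnormal_of_isNilpotent {G : Type u} [Group G] [Finite G] [Group.IsNilpotent G] :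
    ∀ H : Subgroup G, H.IsSubnormal := by
  intro H
  induction H using WellFoundedGT.induction with
  | ind H ih =>
    rcases eq_or_ne H ⊤ with rfl | hne
    · exact Subgroup.IsSubnormal.top
    · refine Subgroup.IsSubnormal.step _ _ Subgroup.le_normalizer
        (ih _ (Group.normalizerCondition_of_isNilpotent H hne.lt_top)) Subgroup.normal_in_normalizer

end Cfsg.Agent.LEWielandt
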