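import Cfsg.Agent.Lib.Suzuki2.TypeAModel
import Cfsg.Agent.Lib.Suzuki2.Structure

/-!
Uniqueness of the Suzuki 2-group of order 64 with three involutions.
-/

set_option autoImplicit false

namespace Cfsg.Agent.U34Uniq

open Cfsg.Agent.Suzuki2

universe u v

/-- The two-element group. -/
abbrev B : Type := Multiplicative (ZMod 2)

theorem b_cases : ∀ i : B, i = 1 ∨ i = Multiplicative.ofAdd 1 := by decide

variable {P : Type u} [Group P]

/-- The homomorphism of the two-element group given by an element of square one. -/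
def bh (u : P) (hu : u * u = 1) : B →* P where
  toFun i := if i = 1 then 1 else u
  map_one' := if_pos rfl
  map_mul' i j := by
    rcases b_cases i with rfl | rfl <;> rcases b_cases j with rfl | rfl <;>
      simp [show (Multiplicative.ofAdd (1 : ZMod 2) * Multiplicative.ofAdd (1 : ZMod 2) : B) = 1 from rfl, hu]

/-- A power with exponent a bit. -/
def pw (u : P) (i : B) : P := if i = 1 then 1 else u

theorem pw_one (u : P) : pw u 1 = 1 := if_pos rfl
theorem pw_of (u : P) : pw u (Multiplicative.ofAdd 1) = u := if_neg (by decide)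

/-- The relations of the group. -/
structure NF (P : Type u) [Group P] where
  z : P
  w : P
  a : P
  b : P
  c : P
  d : P
  z1 : z ≠ 1
  w1 : w ≠ 1
  zw : z ≠ w
  zz : z * z = 1
  ww : w * w = 1
  zc : z ∈ Subgroup.center P
  wc : w ∈ Subgroup.center P
  aa : a * a = z
  bb : b * b = w
  cc : c * c = w
  dd : d * d = z * w
  ba : b * a = a * b
  dc : d * c = c * d
  ca : c * a = a * c * z
  da : d * a = a * d * (z * w)
  cb : c * b = b * c * (z * w)
  db : d * b = b * d * w

namespace NF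

variable (N : NF P)

theorem comm_zw : Commute N.z N.w := (Subgroup.mem_center_iff.1 N.zc N.w).symm

/-- The central four-group. -/
def iV : B × B →* P :=
  (bh N.z N.zz).noncommCoprod (bh N.w N.ww) fun i j => by
    rcases b_cases i with rfl | rfl <;> rcases b_cases j with rfl | rfl <;> simp [bh]
    exact N.comm_zw

theorem iV_central (n : B × B) (x : P) : x * N.iV n = N.iV n * x := by
  have hz := Subgroup.mem_center_iff.1 N.zc
  have hw := Subgroup.mem_center_iff.1 N.wc
  obtain ⟨i, j⟩ := n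
  rcases b_cases i with rfl | rfl <;> rcases b_cases j with rfl | rfl <;>
    simp [iV, bh, hz x, hw x]
  rw [← mul_assoc, hz x, mul_assoc, hw x, ← mul_assoc]

theorem iV_injective : Function.Injective N.iV := by
  rw [injective_iff_map_eq_one]
  rintro ⟨i, j⟩ h
  rcases b_cases i with rfl | rfl <;> rcases b_cases j with rfl | rfl <;> simp [iV, bh] at h ⊢
  · exact N.w1 h
  · exact N.z1 h
  · exact N.zw ((eq_inv_of_mul_eq_one_left h).trans (inv_eq_of_mul_eq_one_right N.ww))

theorem iV_range_le : N.iV.range ≤ Subgroup.center P := by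
  rintro _ ⟨n, rfl⟩
  exact Subgroup.mem_center_iff.2 fun x => N.iV_central n x

/-- Multiply a pair of bits by a bit. -/
def sc (i : B) (n : B × B) : B × B := if i = 1 then 1 else n

theorem sq_step {x r : P} {n nx nr : B × B} (h : r * x = x * r * N.iV n) (hx : x * x = N.iV nx)
    (hr : r * r = N.iV nr) : x * r * (x * r) = N.iV (nx * nr * n) := by
  calc x * r * (x * r) = x * (r * x) * r := by group
    _ = x * x * (r * (N.iV n * r)) := by rw [h]; group
    _ = x * x * (r * r) * N.iV n := by rw [← N.iV_central n r]; group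
    _ = N.iV (nx * nr * n) := by rw [hx, hr, ← map_mul, ← map_mul]

theorem comm_mul {x s t : P} {n₁ n₂ : B × B} (h₁ : s * x = x * s * N.iV n₁) (h₂ : t * x = x * t * N.iV n₂) :
    s * t * x = x * (s * t) * N.iV (n₁ * n₂) := by
  calc s * t * x = s * (t * x) := by group
    _ = s * x * (t * N.iV n₂) := by rw [h₂]; group
    _ = x * s * (N.iV n₁ * t) * N.iV n₂ := by rw [h₁]; group
    _ = x * s * (t * N.iV n₁) * N.iV n₂ := by rw [N.iV_central n₁ t]
    _ = x * (s * t) * N.iV (n₁ * n₂) := by rw [map_mul]; group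

theorem comm_pw {x y : P} {n : B × B} (h : y * x = x * y * N.iV n) (i j : B) :
    pw y j * pw x i = pw x i * pw y j * N.iV (sc i (sc j n)) := by
  rcases b_cases i with rfl | rfl <;> rcases b_cases j with rfl | rfl <;>
    simp [pw, sc, h]

theorem sq_pw {x : P} {n : B × B} (h : x * x = N.iV n) (i : B) : pw x i * pw x i = N.iV (sc i n) := by
  rcases b_cases i with rfl | rfl <;> simp [pw, sc, h]

/-- The lift of a vector. -/
def lift (x : B × B × B × B) : P := pw N.a x.1 * (pw N.b x.2.1 * (pw N.c x.2.2.1 * pw N.d x.2.2.2))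

/-- The common squaring map. -/
def form (x : B × B × B × B) : B × B :=
  sc x.1 (Multiplicative.ofAdd 1, 1) *
      (sc x.2.1 (1, Multiplicative.ofAdd 1) *
          (sc x.2.2.1 (1, Multiplicative.ofAdd 1) * sc x.2.2.2 (Multiplicative.ofAdd 1, Multiplicative.ofAdd 1) *
            sc x.2.2.1 (sc x.2.2.2 1)) *
          (sc x.2.1 (sc x.2.2.1 (Multiplicative.ofAdd 1, Multiplicative.ofAdd 1)) *
            sc x.2.1 (sc x.2.2.2 (1, Multiplicative.ofAdd 1)))) *
      (sc x.1 (sc x.2.1 1) *
        (sc x.1 (sc x.2.2.1 (Multiplicative.ofAdd 1, 1)) *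
          sc x.1 (sc x.2.2.2 (Multiplicative.ofAdd 1, Multiplicative.ofAdd 1))))

theorem form_eq_one : ∀ x : B × B × B × B, form x = 1 → x = 1 := by decide

theorem iV_vals : N.iV (Multiplicative.ofAdd 1, 1) = N.z ∧ N.iV (1, Multiplicative.ofAdd 1) = N.w ∧
    N.iV (Multiplicative.ofAdd 1, Multiplicative.ofAdd 1) = N.z * N.w := by
  refine ⟨?_, ?_, ?_⟩ <;> simp [iV, bh]

theorem lift_sq (x : B × B × B × B) : N.lift x * N.lift x = N.iV (form x) := by
  obtain ⟨hz, hw, hzw⟩ := N.iV_vals
  have h1 : ∀ {u v : P}, v * u = u * v → v * u = u * v * N.iV 1 := fun h => by rw [map_one, mul_one, h]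
  exact N.sq_step
    (N.comm_mul (N.comm_pw (h1 N.ba) _ _)
      (N.comm_mul (N.comm_pw (hz ▸ N.ca) _ _) (N.comm_pw (hzw ▸ N.da) _ _)))
    (N.sq_pw (hz ▸ N.aa) _)
    (N.sq_step (N.comm_mul (N.comm_pw (hzw ▸ N.cb) _ _) (N.comm_pw (hw ▸ N.db) _ _))
      (N.sq_pw (hw ▸ N.bb) _)
      (N.sq_step (N.comm_pw (h1 N.dc) _ _) (N.sq_pw (hw ▸ N.cc) _) (N.sq_pw (hzw ▸ N.dd) _)))

/-- The coordinates: a projection onto bit vectors with kernel the four-group. -/
theorem exists_proj [Finite P] (hcard : Nat.card P = 64) :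
    ∃ π : P →* B × B × B × B, Function.Surjective π ∧ π.ker = N.iV.range ∧
      ∀ p, p * p = N.iV (form (π p)) := by
  haveI : N.iV.range.Normal := ⟨fun n hn g => by
    rw [Subgroup.mem_center_iff.1 (N.iV_range_le hn) g, mul_inv_cancel_right]; exact hn⟩
  let q := QuotientGroup.mk' N.iV.range
  obtain ⟨hz, hw, hzw⟩ := N.iV_vals
  have hq : ∀ n, q (N.iV n) = 1 := fun n => (QuotientGroup.eq_one_iff _).2 ⟨n, rfl⟩
  have hzq : q N.z = 1 := hz ▸ hq _
  have hwq : q N.w = 1 := hw ▸ hq _
  have sa : q N.a * q N.a = 1 := by rw [← map_mul, N.aa, hzq]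
  have sb : q N.b * q N.b = 1 := by rw [← map_mul, N.bb, hwq]
  have sc' : q N.c * q N.c = 1 := by rw [← map_mul, N.cc, hwq]
  have sd : q N.d * q N.d = 1 := by rw [← map_mul, N.dd, map_mul, hzq, hwq, one_mul]
  have cba : Commute (q N.a) (q N.b) := (by rw [Commute, SemiconjBy, ← map_mul, ← map_mul, N.ba])
  have cdc : Commute (q N.c) (q N.d) := (by rw [Commute, SemiconjBy, ← map_mul, ← map_mul, N.dc])
  have cca : Commute (q N.a) (q N.c) := by
    rw [Commute, SemiconjBy, ← map_mul, ← map_mul, N.ca, map_mul (f := q) _ N.z, hzq, mul_one]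
  have cda : Commute (q N.a) (q N.d) := by
    rw [Commute, SemiconjBy, ← map_mul, ← map_mul, N.da, map_mul (f := q) _ (N.z * N.w), map_mul (f := q) N.z, hzq, hwq,
      mul_one, mul_one]
  have ccb : Commute (q N.b) (q N.c) := by
    rw [Commute, SemiconjBy, ← map_mul, ← map_mul, N.cb, map_mul (f := q) _ (N.z * N.w), map_mul (f := q) N.z, hzq, hwq,
      mul_one, mul_one]
  have cdb : Commute (q N.b) (q N.d) := by
    rw [Commute, SemiconjBy, ← map_mul, ← map_mul, N.db, map_mul (f := q) _ N.w, hwq, mul_one]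
  have hb : ∀ {x y : P ⧸ N.iV.range} (hx : x * x = 1) (hy : y * y = 1), Commute x y →
      ∀ i j, Commute (bh x hx i) (bh y hy j) := fun hx hy h i j => by
    rcases b_cases i with rfl | rfl <;> rcases b_cases j with rfl | rfl <;> simp [bh, h]
  let f2 : B × B →* P ⧸ N.iV.range := (bh _ sc').noncommCoprod (bh _ sd) (hb _ _ cdc)
  let f3 : B × B × B →* P ⧸ N.iV.range := (bh _ sb).noncommCoprod f2 fun i jl =>
    (hb sb sc' ccb i jl.1).mul_right (hb sb sd cdb i jl.2)
  let χ : B × B × B × B →* P ⧸ N.iV.range := (bh _ sa).noncommCoprod f3 fun i jlm =>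
    (hb sa sb cba i jlm.1).mul_right ((hb sa sc' cca i jlm.2.1).mul_right (hb sa sd cda i jlm.2.2))
  have hχ : ∀ x, χ x = q (N.lift x) := by
    intro x
    have hp : ∀ (u : P) (hu : q u * q u = 1) (i : B), bh (q u) hu i = q (pw u i) := fun u hu i => by
      rcases b_cases i with rfl | rfl <;> simp [bh, pw]
    show bh _ sa x.1 * (bh _ sb x.2.1 * (bh _ sc' x.2.2.1 * bh _ sd x.2.2.2)) = _
    simp only [lift, map_mul]
    rw [hp N.a sa, hp N.b sb, hp N.c sc', hp N.d sd]
  have hinj : Function.Injective χ := by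
    rw [injective_iff_map_eq_one]
    intro x hx
    rw [hχ] at hx
    obtain ⟨n, hn⟩ := (QuotientGroup.eq_one_iff _).1 hx
    refine form_eq_one x (N.iV_injective ?_)
    rw [← N.lift_sq, ← hn, ← map_mul, map_one, ← map_one N.iV]
    congr 1
    obtain ⟨i, j⟩ := n
    rcases b_cases i with rfl | rfl <;> rcases b_cases j with rfl | rfl <;> rfl
  have hbij : Function.Bijective χ := hinj.bijective_of_nat_card_le (by
    have h := Subgroup.card_eq_card_quotient_mul_card_subgroup N.iV.range
    rw [hcard, ← Nat.card_congr (MonoidHom.ofInjective N.iV_injective).toEquiv] at h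
    simp only [Nat.card_prod, Nat.card_eq_fintype_card (α := B)] at h ⊢
    norm_num at h ⊢
    omega)
  let e := MulEquiv.ofBijective χ hbij
  refine ⟨e.symm.toMonoidHom.comp q, e.symm.surjective.comp (QuotientGroup.mk'_surjective _), ?_, fun p => ?_⟩
  · ext p
    rw [MonoidHom.mem_ker, MonoidHom.comp_apply, MulEquiv.coe_toMonoidHom, ← map_one e.symm,
      e.symm.injective.eq_iff]
    exact QuotientGroup.eq_one_iff p
  · set x := e.symm (q p) with hx
    have h1 : q (N.lift x) = q p := by rw [← hχ]; exact e.apply_symm_apply _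
    obtain ⟨n, hn⟩ := (QuotientGroup.eq.1 h1 : (N.lift x)⁻¹ * p ∈ N.iV.range)
    have hp : p = N.lift x * N.iV n := by rw [hn]; group
    show p * p = N.iV (form x)
    rw [hp]
    have hnn : n * n = 1 := by
      obtain ⟨i, j⟩ := n
      rcases b_cases i with rfl | rfl <;> rcases b_cases j with rfl | rfl <;> rfl
    calc N.lift x * N.iV n * (N.lift x * N.iV n) = N.lift x * (N.iV n * N.lift x) * N.iV n := by group
      _ = N.lift x * N.lift x * (N.iV n * N.iV n) := by rw [← N.iV_central]; group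
      _ = N.iV (form x) := by rw [← map_mul, hnn, map_one, mul_one, N.lift_sq]

theorem nonempty_mulEquiv (N : NF P) [Finite P] {R : Type v} [Group R] [Finite R] (M : NF R) (hP : Nat.card P = 64)
    (hR : Nat.card R = 64) : Nonempty (P ≃* R) := by
  obtain ⟨π, hπs, hπk, hπ⟩ := N.exists_proj hP
  obtain ⟨ρ, hρs, hρk, hρ⟩ := M.exists_proj hR
  exact iso_of_squares π ρ N.iV M.iV hπs hρs N.iV_injective M.iV_injective hπk hρk N.iV_range_le
    M.iV_range_le fun p r h => ⟨form (π p), hπ p, h ▸ hρ r⟩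

end NF

/-- A Suzuki 2-group of order 64 with three involutions satisfies the relations. -/
theorem exists_NF [Finite P] (D : Datum P) (hna : ∃ x y : P, x * y ≠ y * x) (hV : Nat.card D.V = 4)
    (hcard : Nat.card P = 64) : Nonempty (NF P) := by
  classical
  have hK : Nat.card D.K = 3 := by have := D.card_K_add_one; omega
  haveI : Nontrivial D.K := Finite.one_lt_card_iff_nontrivial.1 (by omega)
  obtain ⟨k₀, hk₀⟩ := exists_ne (1 : D.K)
  set k : MulAut P := (k₀ : MulAut P) with hk
  have h3 : ∀ x : P, k (k (k x)) = x := fun x => by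
    have h : k₀ ^ 3 = 1 := hK ▸ pow_card_eq_one'
    have h' := DFunLike.congr_fun (congrArg (fun l : D.K => (l : MulAut P)) h) x
    simpa [pow_succ, MulAut.mul_apply] using h'
  have hkV : ∀ {v : P}, v ∈ D.V → k v ∈ D.V := fun h => D.map_V k h
  have hfree : ∀ {x : P}, k x = x → x = 1 := fun {x} h => by
    by_contra hx
    exact hk₀ (D.free hx h)
  have hsq : ∀ x : P, x * x ∈ D.V := D.sq_mem_V hna
  have hcen : ∀ {v : P}, v ∈ D.V → ∀ y, y * v = v * y := fun h y => D.V_central h y
  have hne1 : ∀ {v : P}, v ≠ 1 → k v ≠ 1 := fun h e => h (k.injective (e.trans (map_one k).symm))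
  have hsum : ∀ {v : P}, v ∈ D.V → v * k v * k (k v) = 1 := fun {v} hv => by
    refine hfree ?_
    rw [map_mul, map_mul, h3]
    rw [hcen hv (k v * k (k v)), mul_assoc]
  obtain ⟨z, hz, hz1⟩ := D.exists_ne_one
  have hkk : ∀ {v : P}, v ∈ D.V → k (k v) = v * k v := fun {v} hv => by
    have h := eq_inv_of_mul_eq_one_right (hsum hv)
    rw [h, mul_inv_rev, ← D.mem_V.1 (hkV hv) |> inv_eq_of_mul_eq_one_right,
      inv_inv, inv_eq_of_mul_eq_one_right (D.mem_V.1 hv)]
    rw [inv_eq_of_mul_eq_one_right (D.mem_V.1 (hkV hv))]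
    exact hcen hv _
  have hzk : k z ≠ z := fun h => hz1 (hfree h)
  -- the involutions are `z`, `k z`, `k (k z)`
  have hVals : ∀ v ∈ D.V, v ≠ 1 → v = z ∨ v = k z ∨ v = k (k z) := by
    intro v hv hv1
    obtain ⟨l, hl⟩ := D.exists_k hz hz1 hv hv1
    have hl' : l ∈ Subgroup.zpowers k₀ := by
      rw [zpowers_eq_top_of_prime_card (p := 3) hK hk₀]; exact Subgroup.mem_top _
    obtain ⟨i, rfl⟩ := mem_powers_iff_mem_zpowers.2 hl'
    rw [← hl]
    have key : ∀ i : ℕ, (k ^ i) z = z ∨ (k ^ i) z = k z ∨ (k ^ i) z = k (k z) := by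
      intro i
      induction i with
      | zero => exact Or.inl rfl
      | succ i ih =>
        rw [pow_succ', MulAut.mul_apply]
        rcases ih with h | h | h <;> rw [h]
        · exact Or.inr (Or.inl rfl)
        · exact Or.inr (Or.inr rfl)
        · exact Or.inl (h3 z)
    simpa [hk] using key i
  -- commutators
  set C : P → P → P := fun x y => x * y * x⁻¹ * y⁻¹ with hC
  have hCV : ∀ x y, C x y ∈ D.V := D.comm_mem_V hna
  have hswap : ∀ x y, x * y = y * x * C x y := fun x y => by
    rw [hcen (hCV x y) (y * x)]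
    simp only [hC]; group
  have hCk : ∀ x y, C (k x) (k y) = k (C x y) := fun x y => by simp [hC]
  have hCl : ∀ x x' y, C (x * x') y = C x y * C x' y := fun x x' y => by
    have e : C (x * x') y = x * C x' y * x⁻¹ * C x y := by simp only [hC]; group
    rw [e, hcen (hCV x' y) x, mul_inv_cancel_right]
    exact (hcen (hCV x' y) _).symm
  have hCr : ∀ x y y', C x (y * y') = C x y * C x y' := fun x y y' => by
    have e : C x (y * y') = C x y * (y * C x y' * y⁻¹) := by simp only [hC]; group
    rw [e, hcen (hCV x y') y, mul_inv_cancel_right]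
  have hCv : ∀ x {v}, v ∈ D.V → C x v = 1 := fun x v hv => by
    simp only [hC]; rw [hcen hv x]; group
  have hCv' : ∀ x {v}, v ∈ D.V → C v x = 1 := fun x v hv => by
    simp only [hC]; rw [← hcen hv x]; group
  have hxxx : ∀ x : P, k (k x) * (x * k x)⁻¹ ∈ D.V ∧ x * k x * k (k x) ∈ D.V := fun x => by
    have h1 : x * k x * k (k x) ∈ D.V := by
      refine D.free_section (N := D.V) D.V_stable hk₀ ?_
      show (x * k x * k (k x))⁻¹ * k (x * k x * k (k x)) ∈ D.V
      rw [map_mul, map_mul, h3]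
      have e2 : (x * k x * k (k x))⁻¹ * (k x * k (k x) * x) = C (k x * k (k x))⁻¹ x⁻¹ := by
        simp only [hC]; group
      rw [e2]; exact hCV _ _
    refine ⟨?_, h1⟩
    have e : k (k x) * (x * k x)⁻¹ = k (k x) * k (k x) * (x * k x * k (k x))⁻¹ := by group
    rw [e]
    exact D.V.mul_mem (hsq _) (D.V.inv_mem h1)
  have hkkC : ∀ x y, C (k (k x)) y = C x y * C (k x) y := fun x y => by
    have e : k (k x) = k (k x) * (x * k x)⁻¹ * (x * k x) := by group
    conv_lhs => rw [e]
    rw [hCl, hCv' _ (hxxx x).1, one_mul, hCl]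
  have hkkCr : ∀ x y, C x (k (k y)) = C x y * C x (k y) := fun x y => by
    have e : k (k y) = k (k y) * (y * k y)⁻¹ * (y * k y) := by group
    conv_lhs => rw [e]
    rw [hCr, hCv _ (hxxx y).1, one_mul, hCr]
  have hv2 : ∀ {v : P}, v ∈ D.V → v * v = 1 := fun h => D.mem_V.1 h
  have hXl : ∀ x y, C (k x) y = k (k (C x y)) := by
    intro x y
    have h1 : C x (k y) = k (C x y * C (k x) y) := by
      rw [← hkkC, ← hCk, h3]
    have h2 : C (k x) y = k (k (C x y * C (k x) y) * C x y) := by
      conv_rhs => rw [hcen (hCV x y), ← h1, ← hkkCr, ← hCk, h3]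
    set X := C (k x) y with hXdef
    set B₀ := C x y with hBdef
    have hX : X ∈ D.V := hCV _ _
    have hB : B₀ ∈ D.V := hCV _ _
    rw [map_mul, hkk (D.V.mul_mem hB hX), map_mul] at h2
    have h4 : B₀ * k X = 1 := by
      have h5 : X = X * (B₀ * k X) := by
        conv_lhs => rw [h2]
        calc B₀ * X * (k B₀ * k X) * k B₀ = B₀ * X * k B₀ * (k X * k B₀) := by group
          _ = B₀ * X * k B₀ * (k B₀ * k X) := by rw [hcen (hkV hB) (k X)]
          _ = B₀ * X * (k B₀ * k B₀) * k X := by group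
          _ = X * B₀ * k X := by rw [hv2 (hkV hB), mul_one, hcen hX B₀]
          _ = X * (B₀ * k X) := mul_assoc _ _ _
      exact left_eq_mul.1 h5
    have h6 : k X = B₀ := by
      rw [eq_inv_of_mul_eq_one_right h4]
      exact inv_eq_of_mul_eq_one_right (hv2 hB)
    rw [← h6, h3]
  have hXr : ∀ x y, C x (k y) = k (k (C x y)) := fun x y => by
    have h1 : C x (k y) = k (C x y * C (k x) y) := by
      rw [← hkkC, ← hCk, h3]
    rw [h1, hXl, hkk (hCV x y), ← mul_assoc, hv2 (hCV x y), one_mul]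
    exact hkk (hCV x y)
  -- the first generator
  have hrot : ∀ x, x ∉ D.V → ∃ y, (y = x ∨ y = k x ∨ y = k (k x)) ∧ y * y = z := by
    intro x hx
    have hne : x * x ≠ 1 := fun h => hx (D.mem_V.2 h)
    rcases hVals _ (hsq x) hne with h | h | h
    · exact ⟨x, Or.inl rfl, h⟩
    · exact ⟨k (k x), Or.inr (Or.inr rfl), by rw [← map_mul, ← map_mul, h, h3]⟩
    · exact ⟨k x, Or.inr (Or.inl rfl), by rw [← map_mul, h, h3]⟩
  obtain ⟨x₀, hx₀⟩ : ∃ x, x ∉ D.V := by
    obtain ⟨x, y, hxy⟩ := hna
    exact ⟨x, fun h => hxy (hcen h y).symm⟩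
  obtain ⟨a, -, haa⟩ := hrot x₀ hx₀
  have hbb : k a * k a = k z := by rw [← map_mul, haa]
  have hab : C a (k a) = 1 := by
    have h := hXr a a
    have hself : C a a = 1 := by simp only [hC]; group
    rwa [hself, map_one, map_one] at h
  -- the second generator
  have hexy : ∃ y, C a y ≠ 1 := by
    by_contra! hall
    let f : D.V × Fin 4 → P := fun v => v.1.1 * (![1, a, k a, a * k a] v.2)
    obtain ⟨y, hy⟩ : ∃ y, ∀ v, f v ≠ y := by
      by_contra! hs
      have := Nat.card_le_card_of_surjective f fun y => hs y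
      rw [Nat.card_prod, hV, hcard, Nat.card_eq_fintype_card, Fintype.card_fin] at this
      omega
    have hyV : y ∉ D.V := fun h => hy (⟨y, h⟩, 0) (mul_one y)
    obtain ⟨y', hy', hyy⟩ := hrot y hyV
    have hsq' : a * y' * (a * y') = 1 := by
      have hc : y' * a = a * y' := by
        rw [hswap a y', hall, mul_one]
      calc a * y' * (a * y') = a * (y' * a) * y' := by group
        _ = a * a * (y' * y') := by rw [hc]; group
        _ = 1 := by rw [haa, hyy, hv2 hz]
    have hay : a * y' ∈ D.V := D.mem_V.2 hsq'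
    have hy'mem : ∃ v : D.V, y' = v.1 * a := by
      refine ⟨⟨_, D.V.inv_mem (hsq a)⟩ * ⟨_, hay⟩, ?_⟩
      show y' = (a * a)⁻¹ * (a * y') * a
      rw [mul_assoc ((a * a)⁻¹) (a * y') a, ← hcen hay a]
      group
    obtain ⟨v, hv⟩ := hy'mem
    have hkka : k (k a) = k (k a) * (a * k a)⁻¹ * (a * k a) := by group
    rcases hy' with rfl | rfl | rfl
    · exact hy (v, 1) hv.symm
    · have hyk : y = k (k (v : P)) * k (k a) := by rw [← map_mul, ← map_mul, ← hv, h3]
      refine hy (⟨_, D.V.mul_mem (hkV (hkV v.2)) (hxxx a).1⟩, 3) ?_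
      show k (k (v : P)) * (k (k a) * (a * k a)⁻¹) * (a * k a) = y
      rw [hyk]; group
    · refine hy (⟨_, hkV v.2⟩, 2) ?_
      show k (v : P) * k a = y
      rw [← map_mul, ← hv, h3]
  obtain ⟨y₀, hy₀⟩ := hexy
  obtain ⟨y, hy⟩ : ∃ y, C a y = z := by
    rcases hVals _ (hCV a y₀) hy₀ with h | h | h
    · exact ⟨y₀, h⟩
    · exact ⟨k y₀, by rw [hXr, h, h3]⟩
    · exact ⟨k (k y₀), by rw [hXr, hXr, h, h3, h3]⟩
  have hyV : y ∉ D.V := fun h => hz1 (hy ▸ hCv a h)
  have hkz := hkV hz
  have hkkz := hkV hkz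
  obtain ⟨c, hcc, hac⟩ : ∃ c, c * c = k z ∧ C a c = z := by
    have hyne : y * y ≠ 1 := fun h => hyV (D.mem_V.2 h)
    have hC1 : C (k a) y = k (k z) := by rw [hXl, hy]
    have hsqy : y * k a * (y * k a) = y * y * (k (k z) * k z) := by
      have hc : k a * y = y * k a * k (k z) := by rw [← hC1]; exact hswap _ _
      calc y * k a * (y * k a) = y * (k a * y) * k a := by group
        _ = y * y * (k a * (k (k z) * k a)) := by rw [hc]; group
        _ = y * y * (k a * k a * k (k z)) := by rw [← hcen hkkz (k a)]; group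
        _ = y * y * (k (k z) * k z) := by rw [hbb, ← hcen hkz]
    have hzz : k (k z) * k z = z := by
      rw [hkk hz, mul_assoc, hv2 hkz, mul_one]
    rcases hVals _ (hsq y) hyne with h | h | h
    · exfalso
      rw [hzz, h, hv2 hz] at hsqy
      refine hz1 ?_
      have h' := hCv a (D.mem_V.2 hsqy)
      rwa [hCr, hy, hab, mul_one] at h'
    · exact ⟨y, h, hy⟩
    · refine ⟨y * k a, ?_, by rw [hCr, hy, hab, mul_one]⟩
      rw [hsqy, hzz, h, hkk hz, hcen hz (z * k z), ← mul_assoc, hv2 hz, one_mul]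
  have hcd : C c (k c) = 1 := by
    have hself : C c c = 1 := by simp only [hC]; group
    rw [hXr, hself, map_one, map_one]
  refine ⟨{ z := z, w := k z, a := a, b := k a, c := c, d := k c, z1 := hz1, w1 := hne1 hz1,
            zw := fun h => hzk h.symm, zz := hv2 hz, ww := hv2 hkz,
            zc := Subgroup.mem_center_iff.2 (hcen hz), wc := Subgroup.mem_center_iff.2 (hcen hkz),
            aa := haa, bb := hbb, cc := hcc, dd := ?_, ba := ?_, dc := ?_, ca := ?_, da := ?_,
            cb := ?_, db := ?_ }⟩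
  · rw [← map_mul, hcc, hkk hz]
  · have h := hswap a (k a); rw [hab, mul_one] at h; exact h.symm
  · have h := hswap c (k c); rw [hcd, mul_one] at h; exact h.symm
  · rw [hswap a c, hac, mul_assoc, hv2 hz, mul_one]
  · rw [hswap a (k c), hXr, hac, hkk hz, mul_assoc, hv2 (D.V.mul_mem hz hkz), mul_one]
  · rw [hswap (k a) c, hXl, hac, hkk hz, mul_assoc, hv2 (D.V.mul_mem hz hkz), mul_one]
  · rw [hswap (k a) (k c), hXl, hXr, hac, h3, mul_assoc, hv2 hkz, mul_one]

end Cfsg.Agent.U34Uniq
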