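/-
Coprime action of a p'-group on a p-group: fixed points on cosets, [P,B,B] = [P,B].
-/
import Cfsg.Agent.Lib.LocalEven.SylowAux
import Cfsg.Agent.Lib.Solvable.SchurZassenhaus
import Cfsg.Prelude.Def_PLocal

set_option autoImplicit false
set_option linter.unusedSectionVars false

namespace Cfsg.Agent.LECoprime

open Cfsg.Agent.LEBasic
open scoped commutatorElement Pointwise

variable {G : Type*} [Group G] [Finite G] {p : ℕ} [Fact p.Prime]

theorem coprime_card {P B : Subgroup G} (hP : IsPGroup p ↥P) (hB : ¬ p ∣ Nat.card ↥B) :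
    (Nat.card ↥B).Coprime (Nat.card ↥P) := by
  obtain ⟨k, hk⟩ := hP.exists_card_eq
  rw [hk]
  exact Nat.Coprime.pow_right k ((Fact.out : p.Prime).coprime_iff_not_dvd.2 hB).symm

/-- A coset `yN` fixed by a `p'`-group `B` normalizing the `p`-group `N` contains a fixed point. -/
theorem exists_fixed_coset {N B : Subgroup G} (hN : IsPGroup p ↥N) (hB : ¬ p ∣ Nat.card ↥B)
    (hBN : B ≤ Subgroup.normalizer (N : Set G)) {y : G} (hy : y ∈ Subgroup.normalizer (N : Set G))
    (hfix : ∀ b ∈ B, y⁻¹ * (b * y * b⁻¹) ∈ N) :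
    ∃ n ∈ N, y * n ∈ Subgroup.centralizer (B : Set G) := by
  haveI := hN.isNilpotent
  have hsolv : Group.IsSolvable ↥N := inferInstance
  have hle : B.map (MulAut.conj y⁻¹).toMonoidHom ≤ N ⊔ B := by
    rintro _ ⟨b, hb, rfl⟩
    have : (MulAut.conj y⁻¹).toMonoidHom b = y⁻¹ * (b * y * b⁻¹) * b := by simp [mul_assoc]
    rw [this]
    exact mul_mem (Subgroup.mem_sup_left (hfix b hb)) (Subgroup.mem_sup_right hb)
  obtain ⟨n, hn, hnB⟩ := SchurZ.conj_in hBN (coprime_card hN hB) (Or.inr hsolv) hle (card_map_conj B y⁻¹)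
  refine ⟨n, hn, ?_⟩
  rw [Subgroup.pointwise_smul_def] at hnB
  have h1 : B.map (MulAut.conj (y * n)).toMonoidHom = B := by
    rw [← map_conj_map_conj B y n]
    conv_lhs => rw [show B.map (MulAut.conj n).toMonoidHom = B.map (MulAut.conj y⁻¹).toMonoidHom from hnB]
    rw [map_conj_map_conj, mul_inv_cancel, map_conj_one]
  rw [Subgroup.mem_centralizer_iff]
  intro b hb
  have hb' : (y * n)⁻¹ * b * (y * n) ∈ B := mem_map_conj.1 (h1.symm ▸ hb)
  have h2 : b⁻¹ * ((y * n)⁻¹ * b * (y * n)) ∈ N := by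
    have e : b⁻¹ * ((y * n)⁻¹ * b * (y * n)) =
        b⁻¹ * (n⁻¹ * (y⁻¹ * (b * y * b⁻¹))) * b * n := by simp [mul_assoc]
    rw [e]
    exact mul_mem ((Subgroup.mem_normalizer_iff''.1 (hBN hb) _).1 (mul_mem (inv_mem hn) (hfix b hb))) hn
  have h3 : b⁻¹ * ((y * n)⁻¹ * b * (y * n)) ∈ N ⊓ B :=
    Subgroup.mem_inf.2 ⟨h2, mul_mem (inv_mem hb) hb'⟩
  rw [SchurZ.inf_eq_bot (coprime_card hN hB), Subgroup.mem_bot, inv_mul_eq_one] at h3
  calc b * (y * n) = (y * n) * ((y * n)⁻¹ * b * (y * n)) := by simp [mul_assoc]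
    _ = (y * n) * b := by rw [← h3]

/-- `P ≤ [P, B] C_P(B)`. -/
theorem le_sup_centralizer {P B : Subgroup G} (hP : IsPGroup p ↥P) (hB : ¬ p ∣ Nat.card ↥B)
    (hn : B ≤ Subgroup.normalizer (P : Set G)) :
    P ≤ ⁅P, B⁆ ⊔ (P ⊓ Subgroup.centralizer (B : Set G)) := by
  have hle : ⁅P, B⁆ ≤ P := Subgroup.le_normalizer_iff_commutator_le_left.1 hn
  intro y hy
  obtain ⟨n, hn', hc⟩ := exists_fixed_coset (hP.to_le hle) hB
    (Subgroup.normalizer_commutator_ge_right P B) (Subgroup.normalizer_commutator_ge_left P B hy)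
    (fun b hb => by
      have e : y⁻¹ * (b * y * b⁻¹) = ⁅y⁻¹, b⁆ := by simp [commutatorElement_def, mul_assoc]
      rw [e]
      exact Subgroup.commutator_mem_commutator (inv_mem hy) hb)
  rw [← mul_inv_cancel_right y n]
  exact mul_mem (Subgroup.mem_sup_right (Subgroup.mem_inf.2 ⟨mul_mem hy (hle hn'), hc⟩))
    (Subgroup.mem_sup_left (inv_mem hn'))

/-- `[P, B, B] = [P, B]`. -/
theorem commutator_commutator_eq {P B : Subgroup G} (hP : IsPGroup p ↥P) (hB : ¬ p ∣ Nat.card ↥B)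
    (hn : B ≤ Subgroup.normalizer (P : Set G)) : ⁅⁅P, B⁆, B⁆ = ⁅P, B⁆ := by
  set X := ⁅P, B⁆ with hX
  have hXP : X ≤ P := Subgroup.le_normalizer_iff_commutator_le_left.1 hn
  refine le_antisymm (Subgroup.commutator_mono hXP le_rfl) ?_
  conv_lhs => rw [hX]
  rw [Subgroup.commutator_le]
  intro y hy b hb
  have hCX : P ⊓ Subgroup.centralizer (B : Set G) ≤ Subgroup.normalizer (X : Set G) :=
    inf_le_left.trans (Subgroup.normalizer_commutator_ge_left P B)
  obtain ⟨x, hx, c, hc, rfl⟩ :=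
    (SolvBasic.mem_sup_iff_of_le_normalizer hCX).1 (le_sup_centralizer hP hB hn hy)
  have hcb : ⁅c, b⁆ = 1 := commutatorElement_eq_one_iff_mul_comm.2
    (Subgroup.mem_centralizer_iff.1 (Subgroup.mem_inf.1 hc).2 b hb).symm
  rw [commutatorElement_mul_left_eq_conj_mul, hcb]
  simpa using Subgroup.commutator_mem_commutator hx hb

/-- A `p'`-element acting nilpotently on a `p`-group centralizes it. -/
theorem mem_centralizer_of_iterCommutator {R L : Subgroup G} (hR : IsPGroup p ↥R)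
    (hL : L ≤ Subgroup.normalizer (R : Set G)) {n : ℕ} (hn : Cfsg.iterCommutator R L n = ⊥) {b : G}
    (hb : b ∈ L) (hbc : (orderOf b).Coprime p) : b ∈ Subgroup.centralizer (R : Set G) := by
  set B := Subgroup.zpowers b with hBdef
  have hBL : B ≤ L := Subgroup.zpowers_le.2 hb
  have hB : ¬ p ∣ Nat.card ↥B := by
    rw [Nat.card_zpowers]
    exact (Fact.out : p.Prime).coprime_iff_not_dvd.1 hbc.symm
  have hmono : ∀ k, Cfsg.iterCommutator R B k ≤ Cfsg.iterCommutator R L k := fun k => by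
    induction k with
    | zero => exact le_rfl
    | succ k ih => exact Subgroup.commutator_mono ih hBL
  have heq : ∀ k, Cfsg.iterCommutator R B (k + 1) = ⁅R, B⁆ := fun k => by
    induction k with
    | zero => rfl
    | succ k ih =>
      show ⁅Cfsg.iterCommutator R B (k + 1), B⁆ = ⁅R, B⁆
      rw [ih, commutator_commutator_eq hR hB (hBL.trans hL)]
  have h0 : ⁅R, B⁆ = ⊥ := by
    rcases n with _ | k
    · have hR0 : R = ⊥ := hn
      rw [hR0, Subgroup.commutator_bot_left]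
    · rw [← le_bot_iff, ← heq k, ← hn]
      exact hmono _
  rw [Subgroup.commutator_comm, Subgroup.commutator_eq_bot_iff_le_centralizer] at h0
  exact h0 (Subgroup.mem_zpowers b)

/-- A group acting nilpotently on a self-centralizing `p`-subgroup is a `p`-group. -/
theorem isPGroup_of_iterCommutator {R L : Subgroup G} (hR : IsPGroup p ↥R)
    (hC : Subgroup.centralizer (R : Set G) ≤ R) (hL : L ≤ Subgroup.normalizer (R : Set G)) {n : ℕ}
    (hn : Cfsg.iterCommutator R L n = ⊥) : IsPGroup p ↥L := by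
  rw [IsPGroup.iff_card]
  refine ⟨_, Nat.eq_prime_pow_of_unique_prime_dvd Nat.card_pos.ne' fun {q} hq hqdvd => ?_⟩
  by_contra hqp
  haveI := Fact.mk hq
  obtain ⟨a, ha⟩ := exists_prime_orderOf_dvd_card' q hqdvd
  have hac : (orderOf (a : G)).Coprime p := by
    rw [Subgroup.orderOf_coe, ha]
    exact (Nat.coprime_primes hq Fact.out).2 hqp
  have h1 := hC (mem_centralizer_of_iterCommutator hR hL hn a.2 hac)
  obtain ⟨k, hk⟩ := IsPGroup.iff_orderOf.1 hR ⟨_, h1⟩
  rw [Subgroup.orderOf_mk] at hk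
  rw [hk] at hac
  have hk0 : k = 0 := by
    by_contra hk0
    have h2 := Nat.Coprime.coprime_dvd_left (dvd_pow_self p hk0) hac
    rw [Nat.coprime_self] at h2
    exact (Fact.out : p.Prime).ne_one h2
  rw [hk0, pow_zero, Subgroup.orderOf_coe, ha] at hk
  exact hq.ne_one hk

end Cfsg.Agent.LECoprime
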