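/-
Characteristic p: the F* form, central elements in normal p-subgroups, centralizers from normalizers.
-/
import Cfsg.Agent.Lib.Techniques.CharP
import Cfsg.Agent.Lib.Components.FStar
import Cfsg.Agent.Lib.LocalEven.SylowAux
import Cfsg.Prelude.Def_LocalStructure

set_option autoImplicit false
set_option linter.unusedSectionVars false

namespace Cfsg.Agent.LECharP

open Cfsg.Agent.CharP

variable {G : Type*} [Group G] [Finite G] {p : ℕ} [Fact p.Prime]

theorem fstar_eq_iff {X : Type*} [Group X] [Finite X] :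
    Cfsg.generalizedFittingSubgroup X = Cfsg.pCore p X ↔ IsCharP p X := by
  refine ⟨fun h => ?_, generalizedFittingSubgroup_eq⟩
  show Subgroup.centralizer (Cfsg.pCore p X : Set X) ≤ Cfsg.pCore p X
  rw [← h]
  exact Cfsg.Agent.Components.centralizer_generalizedFitting_le

/-- A nontrivial subgroup normalized by a `p`-group containing it meets its centre. -/
theorem exists_central_in_normal {P : Subgroup G} (hP : IsPGroup p ↥P) :
    ∀ (m : ℕ) (R : Subgroup G), Nat.card ↥R ≤ m → R ≤ P → P ≤ Subgroup.normalizer (R : Set G) →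
      R ≠ ⊥ → ∃ z ∈ R, orderOf z = p ∧ ∀ x ∈ P, x * z = z * x := by
  intro m
  induction m with
  | zero => intro R hm; exact absurd hm (Nat.not_le.2 Nat.card_pos)
  | succ m ih =>
    intro R hm hRP hPR hR
    by_cases h0 : ⁅R, P⁆ = ⊥
    · obtain ⟨z, hz, hzp⟩ := LESylow.exists_orderOf_eq (LESylow.dvd_card_of_ne_bot (hP.to_le hRP) hR)
      exact ⟨z, hz, hzp, fun x hx => Subgroup.mem_centralizer_iff.1
        (Subgroup.commutator_eq_bot_iff_le_centralizer.1 h0 hz) x hx⟩
    · have hle : ⁅R, P⁆ ≤ R := Subgroup.le_normalizer_iff_commutator_le_left.1 hPR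
      have hne : ⁅R, P⁆ ≠ R := fun h => hR (LEBasic.eq_bot_of_le_commutator hP hRP h.ge)
      have hlt : Nat.card ↥⁅R, P⁆ < Nat.card ↥R :=
        lt_of_le_of_ne (Subgroup.card_le_of_le hle) fun h => hne (Subgroup.eq_of_le_of_card_ge hle h.ge)
      obtain ⟨z, hz, hzp, hzc⟩ :=
        ih ⁅R, P⁆ (by omega) (hle.trans hRP) (Subgroup.normalizer_commutator_ge_right R P) h0
      exact ⟨z, hle hz, hzp, hzc⟩

theorem isCharP_centralizer_of_normalizer {A : Subgroup G} (hA : IsPGroup p ↥A)
    (h : IsCharP p ↥(Subgroup.normalizer (A : Set G))) :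
    IsCharP p ↥(Subgroup.centralizer (A : Set G)) := by
  have h1 := isCharP_inf_centralizer h hA
    (Subgroup.le_normalizer.trans Subgroup.le_normalizer)
  rwa [inf_eq_right.2 (Subgroup.centralizer_le_normalizer _)] at h1

theorem isCharP_map_conj {K : Subgroup G} (g : G) (h : IsCharP p ↥K) :
    IsCharP p ↥(K.map (MulAut.conj g).toMonoidHom) :=
  isCharP_congr (K.equivMapOfInjective _ (MulAut.conj g).injective) h

theorem normalizer_map_conj (R : Subgroup G) (g : G) :
    Subgroup.normalizer ((R.map (MulAut.conj g).toMonoidHom : Subgroup G) : Set G) =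
      (Subgroup.normalizer (R : Set G)).map (MulAut.conj g).toMonoidHom := by
  ext x
  rw [← LEBasic.map_conj_eq_iff_mem_normalizer, LEBasic.mem_map_conj,
    ← LEBasic.map_conj_eq_iff_mem_normalizer, LEBasic.map_conj_map_conj]
  constructor
  · intro h
    calc R.map (MulAut.conj (g⁻¹ * x * g)).toMonoidHom
        = (R.map (MulAut.conj (x * g)).toMonoidHom).map (MulAut.conj g⁻¹).toMonoidHom := by
          rw [LEBasic.map_conj_map_conj, ← mul_assoc]
      _ = R := by rw [h, LEBasic.map_conj_map_conj, inv_mul_cancel, LEBasic.map_conj_one]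
  · intro h
    calc R.map (MulAut.conj (x * g)).toMonoidHom
        = (R.map (MulAut.conj (g⁻¹ * x * g)).toMonoidHom).map (MulAut.conj g).toMonoidHom := by
          rw [LEBasic.map_conj_map_conj, show g * (g⁻¹ * x * g) = x * g by group]
      _ = R.map (MulAut.conj g).toMonoidHom := by rw [h]

/-- Parabolic characteristic `p` read off the centralizers of the central elements of order `p`. -/
theorem parabolic_of_centralizers (S : Sylow p G)
    (h : ∀ z : G, z ∈ (S : Subgroup G) → orderOf z = p → (∀ x ∈ (S : Subgroup G), x * z = z * x) →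
      IsCharP p ↥(Subgroup.centralizer ({z} : Set G))) :
    Cfsg.IsOfParabolicCharacteristic p G := by
  intro R hR hR1 ⟨T, hT⟩
  obtain ⟨g, hg⟩ := LESylow.exists_conj_eq T S
  set R' := R.map (MulAut.conj g).toMonoidHom with hR'
  have hSN : (S : Subgroup G) ≤ Subgroup.normalizer (R' : Set G) := by
    rw [hR', normalizer_map_conj, ← hg]
    exact Subgroup.map_mono hT
  have hR'p : IsPGroup p ↥R' := hR.map _
  have hR'S : R' ≤ (S : Subgroup G) :=
    (S.is_maximal' (hR'p.to_sup_of_normal_left' S.isPGroup' hSN) le_sup_right).symm.ge.trans'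
      le_sup_left
  have hR'1 : R' ≠ ⊥ := by
    rwa [hR', ne_eq, Subgroup.map_eq_bot_iff_of_injective _ (MulAut.conj g).injective]
  obtain ⟨z, hzR, hzp, hzc⟩ := exists_central_in_normal S.isPGroup' _ R' le_rfl hR'S hSN hR'1
  have h1 := isCharP_normalizer_of_mem hR'p hzR (h z (hR'S hzR) hzp hzc)
  rw [hR', normalizer_map_conj] at h1
  exact isCharP_congr (MulEquiv.symm
    ((Subgroup.normalizer (R : Set G)).equivMapOfInjective _ (MulAut.conj g).injective)) h1

/-- In parabolic characteristic `p`, centralizers of central `p`-elements of a Sylow have characteristic `p`. -/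
theorem centralizer_of_parabolic (hG : Cfsg.IsOfParabolicCharacteristic p G) (S : Sylow p G) {z : G}
    (hzp : orderOf z = p) (hS : (S : Subgroup G) ≤ Subgroup.centralizer ({z} : Set G)) :
    IsCharP p ↥(Subgroup.centralizer ({z} : Set G)) := by
  have hz : IsPGroup p ↥(Subgroup.zpowers z) :=
    LESylow.isPGroup_zpowers (k := 1) (by rw [hzp, pow_one])
  have h1 := isCharP_centralizer_of_normalizer hz (hG _ hz (LESylow.zpowers_ne_bot hzp)
    ⟨S, hS.trans (LESylow.centralizer_le_normalizer_zpowers z)⟩)
  rwa [Subgroup.zpowers_eq_closure, Subgroup.centralizer_closure] at h1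

end Cfsg.Agent.LECharP
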