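/-
Weakly closed and large p-subgroups, the weak closure of a subgroup.
-/
import Cfsg.Agent.Lib.LocalEven.SylowAux
import Cfsg.Agent.Lib.LocalEven.CharPAux
import Cfsg.Agent.Lib.Techniques.CharP
import Cfsg.Agent.Lib.Solvable.Basic
import Cfsg.Prelude.Def_LocalStructure

set_option autoImplicit false
set_option linter.unusedSectionVars false

namespace Cfsg.Agent.LEWeakClosed

open Cfsg.Agent.LEBasic
open scoped commutatorElement

variable {G : Type*} [Group G] [Finite G] {p : ℕ} [Fact p.Prime] {Q : Subgroup G}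

theorem map_conj_cancel (X : Subgroup G) (g : G) :
    (X.map (MulAut.conj g).toMonoidHom).map (MulAut.conj g⁻¹).toMonoidHom = X := by
  rw [map_conj_map_conj, inv_mul_cancel, map_conj_one]

theorem map_conj_cancel' (X : Subgroup G) (g : G) :
    (X.map (MulAut.conj g⁻¹).toMonoidHom).map (MulAut.conj g).toMonoidHom = X := by
  rw [map_conj_map_conj, mul_inv_cancel, map_conj_one]

theorem map_conj_le_of_le {X K : Subgroup G} {k : G} (hX : X ≤ K) (hk : k ∈ K) :
    X.map (MulAut.conj k).toMonoidHom ≤ K := by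
  rintro _ ⟨x, hx, rfl⟩
  exact mul_mem (mul_mem hk (hX hx)) (inv_mem hk)

/-- A weakly closed `Q` is the only conjugate of itself in any `p`-subgroup containing it. -/
theorem conj_eq_of_le (hwc : Cfsg.IsWeaklyClosedSubgroup p Q) {R : Subgroup G} (hR : IsPGroup p ↥R)
    (hQR : Q ≤ R) {g : G} (hg : Q.map (MulAut.conj g).toMonoidHom ≤ R) :
    Q.map (MulAut.conj g).toMonoidHom = Q := by
  obtain ⟨T, -, hT⟩ := hwc
  obtain ⟨T', hT'⟩ := hR.exists_le_sylow
  obtain ⟨h, hh⟩ := LESylow.exists_conj_eq T' T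
  have h1 := hT h ((map_conj_mono h (hQR.trans hT')).trans hh.le)
  have h2 := hT (h * g) (by
    rw [← map_conj_map_conj]; exact (map_conj_mono h (hg.trans hT')).trans hh.le)
  rw [← map_conj_map_conj] at h2
  conv_lhs => rw [← map_conj_cancel (Q.map (MulAut.conj g).toMonoidHom) h, h2]
  conv_rhs => rw [← map_conj_cancel Q h, h1]

theorem normalizer_le (hwc : Cfsg.IsWeaklyClosedSubgroup p Q) {R : Subgroup G} (hR : IsPGroup p ↥R)
    (hQR : Q ≤ R) : Subgroup.normalizer (R : Set G) ≤ Subgroup.normalizer (Q : Set G) := fun _ hn =>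
  map_conj_eq_iff_mem_normalizer.1 (conj_eq_of_le hwc hR hQR
    ((map_conj_mono _ hQR).trans (map_conj_eq_iff_mem_normalizer.2 hn).le))

theorem le_normalizer_of_pGroup (hwc : Cfsg.IsWeaklyClosedSubgroup p Q) {R : Subgroup G}
    (hR : IsPGroup p ↥R) (hQR : Q ≤ R) : R ≤ Subgroup.normalizer (Q : Set G) :=
  Subgroup.le_normalizer.trans (normalizer_le hwc hR hQR)

/-- A `p`-subgroup normalized by `Q` normalizes `Q`. -/
theorem le_normalizer_of_normalized (hQp : IsPGroup p ↥Q) (hwc : Cfsg.IsWeaklyClosedSubgroup p Q)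
    {R : Subgroup G} (hR : IsPGroup p ↥R) (hn : Q ≤ Subgroup.normalizer (R : Set G)) :
    R ≤ Subgroup.normalizer (Q : Set G) :=
  le_sup_left.trans (le_normalizer_of_pGroup hwc (hR.to_sup_of_normal_left' hQp hn) le_sup_right)

theorem weaklyClosed_of_normalizers (hQp : IsPGroup p ↥Q)
    (h : ∀ R : Subgroup G, IsPGroup p ↥R → Q ≤ R →
      Subgroup.normalizer (R : Set G) ≤ Subgroup.normalizer (Q : Set G)) :
    Cfsg.IsWeaklyClosedSubgroup p Q := by
  obtain ⟨T, hT⟩ := hQp.exists_le_sylow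
  refine ⟨T, hT, fun g hg => ?_⟩
  obtain ⟨T', hT'⟩ := LESylow.exists_sylow_conj T g⁻¹
  have hQT' : Q ≤ (T' : Subgroup G) := by
    rw [hT', ← map_conj_cancel Q g]
    exact map_conj_mono _ hg
  set N := Subgroup.normalizer (Q : Set G) with hN
  have hTN : (T : Subgroup G) ≤ N := Subgroup.le_normalizer.trans (h _ T.isPGroup' hT)
  have hT'N : (T' : Subgroup G) ≤ N := Subgroup.le_normalizer.trans (h _ T'.isPGroup' hQT')
  obtain ⟨⟨n, hn⟩, hconj⟩ := LESylow.exists_conj_eq (T'.subtype hT'N) (T.subtype hTN)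
  have h3 : (T' : Subgroup G).map (MulAut.conj n).toMonoidHom = (T : Subgroup G) := by
    rw [Sylow.coe_subtype, Sylow.coe_subtype] at hconj
    have h3 := congrArg (Subgroup.map N.subtype) hconj
    rw [Subgroup.map_subgroupOf_eq_of_le hTN, Subgroup.map_map] at h3
    rw [← h3]
    conv_lhs => rw [← Subgroup.map_subgroupOf_eq_of_le hT'N, Subgroup.map_map]
    congr 1
  rw [hT', map_conj_map_conj] at h3
  have h4 : n * g⁻¹ ∈ N := h _ T.isPGroup' hT (map_conj_eq_iff_mem_normalizer.1 h3)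
  have h5 : g⁻¹ ∈ N := by simpa using mul_mem (inv_mem hn) h4
  exact map_conj_eq_iff_mem_normalizer.2 (inv_inv g ▸ inv_mem h5)

theorem exists_center_ne_bot {R : Subgroup G} (hR : IsPGroup p ↥R) (h1 : R ≠ ⊥) :
    R ⊓ Subgroup.centralizer (R : Set G) ≠ ⊥ := by
  obtain ⟨z, hz, hzp, hzc⟩ := LESylow.exists_central_orderOf hR h1
  intro hb
  have h : z ∈ R ⊓ Subgroup.centralizer (R : Set G) :=
    Subgroup.mem_inf.2 ⟨hz, Subgroup.mem_centralizer_iff.2 hzc⟩
  rw [hb, Subgroup.mem_bot] at h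
  rw [h, orderOf_one] at hzp
  exact (Fact.out : p.Prime).ne_one hzp.symm

theorem normalizer_le_normalizer_center (R : Subgroup G) :
    Subgroup.normalizer (R : Set G) ≤
      Subgroup.normalizer ((R ⊓ Subgroup.centralizer (R : Set G) : Subgroup G) : Set G) :=
  Subgroup.le_normalizer_iff.2 fun g hg x hx => by
    obtain ⟨h1, h2⟩ := Subgroup.mem_inf.1 hx
    refine Subgroup.mem_inf.2 ⟨(Subgroup.mem_normalizer_iff.1 hg x).1 h1, ?_⟩
    rw [Subgroup.mem_centralizer_iff] at h2 ⊢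
    intro w hw
    have h3 := h2 _ ((Subgroup.mem_normalizer_iff''.1 hg w).1 hw)
    calc w * (g * x * g⁻¹) = g * (g⁻¹ * w * g * x) * g⁻¹ := by group
      _ = g * (x * (g⁻¹ * w * g)) * g⁻¹ := by rw [h3]
      _ = g * x * g⁻¹ * w := by group

theorem weaklyClosed_of_isLarge (hQp : IsPGroup p ↥Q) (hQ1 : Q ≠ ⊥) (hL : Cfsg.IsLarge Q) :
    Cfsg.IsWeaklyClosedSubgroup p Q :=
  weaklyClosed_of_normalizers hQp fun R hR hQR =>
    (normalizer_le_normalizer_center R).trans (hL.2 _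
      (inf_le_right.trans (Subgroup.centralizer_le hQR))
      (exists_center_ne_bot hR fun h => hQ1 (le_bot_iff.1 (h ▸ hQR))))

/-- Conjugates inside `K` are `K`-conjugates. -/
theorem exists_mem_conj_eq (hQp : IsPGroup p ↥Q) (hwc : Cfsg.IsWeaklyClosedSubgroup p Q) {K : Subgroup G}
    (hQK : Q ≤ K) {g : G} (hg : Q.map (MulAut.conj g).toMonoidHom ≤ K) :
    ∃ k ∈ K, Q.map (MulAut.conj g).toMonoidHom = Q.map (MulAut.conj k).toMonoidHom := by
  obtain ⟨S, hS⟩ := (hQp.comap_of_injective K.subtype K.subtype_injective).exists_le_sylow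
  obtain ⟨m, hm, hle⟩ := LESylow.exists_conj_le_of_le hg (hQp.map _) S
  have hQS : Q ≤ (S : Subgroup ↥K).map K.subtype := fun x hx => ⟨⟨x, hQK hx⟩, hS hx, rfl⟩
  rw [map_conj_map_conj] at hle
  have h1 := conj_eq_of_le hwc (S.isPGroup'.map _) hQS hle
  refine ⟨m⁻¹, inv_mem hm, ?_⟩
  conv_rhs => rw [← h1, map_conj_map_conj, inv_mul_cancel_left]

theorem exists_sylow_le_normalizer (hQp : IsPGroup p ↥Q) (hwc : Cfsg.IsWeaklyClosedSubgroup p Q) :
    ∃ T : Sylow p G, Q ≤ (T : Subgroup G) ∧ (T : Subgroup G) ≤ Subgroup.normalizer (Q : Set G) := by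
  obtain ⟨T, hT⟩ := hQp.exists_le_sylow
  exact ⟨T, hT, le_normalizer_of_pGroup hwc T.isPGroup' hT⟩

theorem weaklyClosed_subgroupOf (hQp : IsPGroup p ↥Q) (hwc : Cfsg.IsWeaklyClosedSubgroup p Q)
    {K : Subgroup G} (hQK : Q ≤ K) : Cfsg.IsWeaklyClosedSubgroup p (Q.subgroupOf K) := by
  obtain ⟨S, hS⟩ := (hQp.comap_of_injective K.subtype K.subtype_injective).exists_le_sylow
  refine ⟨S, hS, fun k hk => ?_⟩
  have e : ((Q.subgroupOf K).map (MulAut.conj k).toMonoidHom).map K.subtype =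
      Q.map (MulAut.conj (k : G)).toMonoidHom := by
    conv_rhs => rw [← Subgroup.map_subgroupOf_eq_of_le hQK]
    rw [Subgroup.map_map, Subgroup.map_map]
    congr 1
  have hQS : Q ≤ (S : Subgroup ↥K).map K.subtype := fun x hx => ⟨⟨x, hQK hx⟩, hS hx, rfl⟩
  have h1 := conj_eq_of_le hwc (S.isPGroup'.map _) hQS (e.ge.trans (Subgroup.map_mono hk))
  rw [← e] at h1
  exact Subgroup.map_injective K.subtype_injective
    (h1.trans (Subgroup.map_subgroupOf_eq_of_le hQK).symm)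

/-! ### weak closure -/

theorem conj_le_weakClosure {L : Subgroup G} {g : G} (hg : Q.map (MulAut.conj g).toMonoidHom ≤ L) :
    Q.map (MulAut.conj g).toMonoidHom ≤ Cfsg.weakClosure Q L :=
  le_iSup (fun x : {g : G // Q.map (MulAut.conj g).toMonoidHom ≤ L} =>
    Q.map (MulAut.conj (x : G)).toMonoidHom) ⟨g, hg⟩

theorem le_weakClosure {L : Subgroup G} (hQL : Q ≤ L) : Q ≤ Cfsg.weakClosure Q L :=
  (map_conj_one Q).ge.trans (conj_le_weakClosure (by rwa [map_conj_one]))

theorem weakClosure_le (L : Subgroup G) : Cfsg.weakClosure Q L ≤ L := iSup_le fun x => x.2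

theorem le_normalizer_weakClosure (L : Subgroup G) :
    Subgroup.normalizer (L : Set G) ≤ Subgroup.normalizer (Cfsg.weakClosure Q L : Set G) := by
  intro n hn
  rw [← map_conj_eq_iff_mem_normalizer]
  refine Subgroup.eq_of_le_of_card_ge ?_ (card_map_conj _ n).ge
  rw [Cfsg.weakClosure, Subgroup.map_iSup]
  refine iSup_le fun x => ?_
  rw [map_conj_map_conj]
  refine conj_le_weakClosure ?_
  rw [← map_conj_map_conj]
  exact (map_conj_mono n x.2).trans (map_conj_eq_iff_mem_normalizer.2 hn).le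

theorem weakClosure_eq_iSup (hQp : IsPGroup p ↥Q) (hwc : Cfsg.IsWeaklyClosedSubgroup p Q)
    {K : Subgroup G} (hQK : Q ≤ K) :
    Cfsg.weakClosure Q K = ⨆ k : ↥K, Q.map (MulAut.conj (k : G)).toMonoidHom := by
  refine le_antisymm (iSup_le fun x => ?_) (iSup_le fun k => ?_)
  · obtain ⟨k, hk, he⟩ := exists_mem_conj_eq hQp hwc hQK x.2
    exact he.le.trans (le_iSup (fun k : ↥K => Q.map (MulAut.conj (k : G)).toMonoidHom) ⟨k, hk⟩)
  · exact conj_le_weakClosure (map_conj_le_of_le hQK k.2)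

/-- A `p'`-element of `C Y`, where the `p`-group `Y` normalizes `C`, lies in `C`. -/
theorem mem_of_sup_pGroup {C Y : Subgroup G} (hYC : Y ≤ Subgroup.normalizer (C : Set G))
    (hY : IsPGroup p ↥Y) {g : G} (hg : g ∈ C ⊔ Y) (hgc : (orderOf g).Coprime p) : g ∈ C := by
  set N := C ⊔ Y with hN
  haveI : (C.subgroupOf N).Normal :=
    (Subgroup.normal_subgroupOf_iff_le_normalizer le_sup_left).2 (sup_le Subgroup.le_normalizer hYC)
  obtain ⟨c, hc, y, hy, rfl⟩ := (SolvBasic.mem_sup_iff_of_le_normalizer hYC).1 hg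
  let f := QuotientGroup.mk' (C.subgroupOf N)
  have h1 : f ⟨c * y, hg⟩ = f ⟨y, Subgroup.mem_sup_right hy⟩ := by
    have e : (⟨c * y, hg⟩ : ↥N) = ⟨c, Subgroup.mem_sup_left hc⟩ * ⟨y, Subgroup.mem_sup_right hy⟩ :=
      Subtype.ext rfl
    have hc1 : f ⟨c, Subgroup.mem_sup_left hc⟩ = 1 := (QuotientGroup.eq_one_iff _).2 hc
    rw [e, map_mul, hc1, one_mul]
  have h3 : f ⟨c * y, hg⟩ = 1 := by
    refine Cfsg.Agent.PBasic.eq_one_of_isPGroup_of_coprime (P := (Y.subgroupOf N).map f)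
      ((hY.comap_of_injective N.subtype N.subtype_injective).map f) ?_
      (Nat.Coprime.coprime_dvd_left (orderOf_map_dvd f _) (by rwa [Subgroup.orderOf_mk]))
    rw [h1]
    exact ⟨⟨y, Subgroup.mem_sup_right hy⟩, hy, rfl⟩
  exact Subgroup.mem_subgroupOf.1 ((QuotientGroup.eq_one_iff _).1 h3)

end Cfsg.Agent.LEWeakClosed
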