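/-
Centralizers of O_p of overgroups of weakly closed, resp. large, p-subgroups.
-/
import Cfsg.Agent.Lib.LocalEven.WeakClosed

set_option autoImplicit false
set_option linter.unusedSectionVars false

namespace Cfsg.Agent.LELarge

open Cfsg.Agent.LEBasic
open scoped commutatorElement

variable {G : Type*} [Group G] [Finite G] {p : ℕ} [Fact p.Prime] {Q : Subgroup G}

theorem normalizer_le_normalizer_centralizer (A : Subgroup G) :
    Subgroup.normalizer (A : Set G) ≤ Subgroup.normalizer (Subgroup.centralizer (A : Set G) : Set G) :=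
  Subgroup.le_normalizer_iff.2 fun g hg x hx => by
    rw [Subgroup.mem_centralizer_iff] at hx ⊢
    intro w hw
    have h3 := hx _ ((Subgroup.mem_normalizer_iff''.1 hg w).1 hw)
    calc w * (g * x * g⁻¹) = g * (g⁻¹ * w * g * x) * g⁻¹ := by group
      _ = g * (x * (g⁻¹ * w * g)) * g⁻¹ := by rw [h3]
      _ = g * x * g⁻¹ * w := by group

theorem inf_normalizer_le (A B : Subgroup G) :
    Subgroup.normalizer (A : Set G) ⊓ Subgroup.normalizer (B : Set G) ≤
      Subgroup.normalizer ((A ⊓ B : Subgroup G) : Set G) := fun g hg => by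
  obtain ⟨h1, h2⟩ := Subgroup.mem_inf.1 hg
  rw [← map_conj_eq_iff_mem_normalizer, Subgroup.map_inf_eq _ _ _ (MulAut.conj g).injective,
    map_conj_eq_iff_mem_normalizer.2 h1, map_conj_eq_iff_mem_normalizer.2 h2]

theorem isCharP_centralizer_opIn (hQp : IsPGroup p ↥Q) (hwc : Cfsg.IsWeaklyClosedSubgroup p Q)
    {L : Subgroup G} (hQL : Q ≤ L)
    (hyp : CharP.IsCharP p G ∨ ∃ y : G, y ≠ 1 ∧
      y ∈ CharP.opIn p L ⊓ Subgroup.centralizer (Q : Set G) ∧
      CharP.IsCharP p ↥(Subgroup.centralizer ({y} : Set G))) :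
    CharP.IsCharP p ↥(Subgroup.centralizer (CharP.opIn p L : Set G)) := by
  set O := CharP.opIn p L with hO
  have hOp : IsPGroup p ↥O := CharP.opIn_isPGroup L
  rcases hyp with h | ⟨y, -, hyZ, hy⟩
  · have h1 := CharP.isCharP_inf_centralizer (CharP.isCharP_top.2 h) hOp
      (le_top.trans (Subgroup.normalizer_eq_top_iff.2 inferInstance).ge)
    rwa [top_inf_eq] at h1
  · set Z₀ := O ⊓ Subgroup.centralizer (Q : Set G) with hZ₀
    have hK := CharP.isCharP_centralizer_of_mem (hOp.to_le (inf_le_left : Z₀ ≤ O)) hyZ hy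
    have hOQ : O ≤ Subgroup.normalizer (Q : Set G) :=
      LEWeakClosed.le_normalizer_of_normalized hQp hwc hOp (hQL.trans (CharP.le_normalizer_opIn L))
    have hOK : O ≤ Subgroup.normalizer (Subgroup.centralizer (Z₀ : Set G) : Set G) := by
      refine le_trans ?_ (normalizer_le_normalizer_centralizer Z₀)
      exact (le_inf Subgroup.le_normalizer (hOQ.trans (normalizer_le_normalizer_centralizer Q))).trans
        (inf_normalizer_le O _)
    have h1 := CharP.isCharP_inf_centralizer hK hOp hOK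
    rwa [inf_eq_right.2 (Subgroup.centralizer_le (show (Z₀ : Set G) ⊆ (O : Set G) from fun x hx => (Subgroup.mem_inf.1 hx).1))] at h1

theorem main (hQp : IsPGroup p ↥Q) (hwc : Cfsg.IsWeaklyClosedSubgroup p Q)
    (hCQ : Subgroup.centralizer (Q : Set G) ≤ Q) {L : Subgroup G} (hQL : Q ≤ L)
    (hyp : CharP.IsCharP p G ∨ ∃ y : G, y ≠ 1 ∧
      y ∈ CharP.opIn p L ⊓ Subgroup.centralizer (Q : Set G) ∧
      CharP.IsCharP p ↥(Subgroup.centralizer ({y} : Set G))) :
    ⁅Q, Subgroup.centralizer (CharP.opIn p L : Set G)⁆ ≤ Q ⊓ CharP.opIn p L ∧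
      IsPGroup p ↥(Subgroup.centralizer (CharP.opIn p L : Set G)) ∧ CharP.IsCharP p ↥L := by
  set O := CharP.opIn p L with hO
  have hchar := isCharP_centralizer_opIn hQp hwc hQL hyp
  set C := Subgroup.centralizer (O : Set G) with hC
  set D := CharP.opIn p C with hD
  have hDp : IsPGroup p ↥D := CharP.opIn_isPGroup C
  have hLC : L ≤ Subgroup.normalizer (C : Set G) :=
    (CharP.le_normalizer_opIn L).trans (normalizer_le_normalizer_centralizer O)
  have hLD : L ≤ Subgroup.normalizer (D : Set G) := hLC.trans (CharP.normalizer_le_normalizer_opIn C)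
  have hDQ : D ≤ Subgroup.normalizer (Q : Set G) :=
    LEWeakClosed.le_normalizer_of_normalized hQp hwc hDp (hQL.trans hLD)
  have hDL : D ⊓ L ≤ O := CharP.le_opIn inf_le_right
    ((le_inf hLD Subgroup.le_normalizer).trans (inf_normalizer_le D L)) (hDp.to_le inf_le_left)
  have hz : ∀ q ∈ Q, ∀ d ∈ D, ⁅q, d⁆ ∈ O := fun q hq d hd => by
    refine hDL (Subgroup.mem_inf.2 ⟨?_, hQL ?_⟩)
    · exact mul_mem ((Subgroup.mem_normalizer_iff.1 (hLD (hQL hq)) d).1 hd) (inv_mem hd)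
    · exact Subgroup.le_normalizer_iff_commutator_le_left.1 hDQ
        (Subgroup.commutator_mem_commutator hq hd)
  have hfix : ∀ c ∈ C, ∀ o ∈ O, c * o * c⁻¹ = o := fun c hc o ho => by
    rw [← Subgroup.mem_centralizer_iff.1 hc o ho, mul_inv_cancel_right]
  -- the subgroup of C acting trivially on D modulo O
  let St : Subgroup G :=
    { carrier := {g | g ∈ C ∧ ∀ d ∈ D, ⁅g, d⁆ ∈ O}
      one_mem' := ⟨one_mem C, fun d _ => by simp⟩
      mul_mem' := fun {g h} hg hh => ⟨mul_mem hg.1 hh.1, fun d hd => by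
        rw [commutatorElement_mul_left_eq_conj_mul, hfix g hg.1 _ (hh.2 d hd)]
        exact mul_mem (hh.2 d hd) (hg.2 d hd)⟩
      inv_mem' := fun {g} hg => ⟨inv_mem hg.1, fun d hd => by
        have e : ⁅g⁻¹, d⁆ = g⁻¹ * ⁅g, d⁆⁻¹ * g⁻¹⁻¹ := by simp [commutatorElement_def, mul_assoc]
        rw [e, hfix _ (inv_mem hg.1) _ (inv_mem (hg.2 d hd))]
        exact inv_mem (hg.2 d hd)⟩ }
  have hSt : St ≤ D := by
    refine CharP.le_opIn (fun g hg => hg.1) (Subgroup.le_normalizer_iff.2 fun k hk g hg =>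
      ⟨mul_mem (mul_mem hk hg.1) (inv_mem hk), fun d hd => ?_⟩) ?_
    · have hd' : k⁻¹ * d * k ∈ D := (Subgroup.mem_normalizer_iff''.1 (CharP.le_normalizer_opIn C hk) d).1 hd
      have e : ⁅k * g * k⁻¹, d⁆ = k * ⁅g, k⁻¹ * d * k⁆ * k⁻¹ := by simp [commutatorElement_def, mul_assoc]
      rw [e, hfix k hk _ (hg.2 _ hd')]
      exact hg.2 _ hd'
    · rw [Cfsg.Agent.PBasic.isPGroup_iff_forall_coprime]
      rintro ⟨g, hgC, hgD⟩ hgc
      have hgc' : (orderOf g).Coprime p := by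
        rw [← Subgroup.orderOf_coe] at hgc
        exact hgc
      refine Subtype.ext ((CharP.isCharP_iff C).1 hchar g hgC hgc' fun d hd => ?_)
      have hdC : d ∈ C := CharP.opIn_le C hd
      refine CharP.commute_of_conj_eq_mul (P := O) (c := d⁻¹ * ⁅g, d⁆ * d) (CharP.opIn_isPGroup L) ?_
        hgc' (by simp [commutatorElement_def, mul_assoc]) ?_
      · have h2 := hfix d⁻¹ (inv_mem hdC) _ (hgD d hd)
        rw [inv_inv] at h2
        rw [h2]
        exact hgD d hd
      · have h2 := hfix d⁻¹ (inv_mem hdC) _ (hgD d hd)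
        rw [inv_inv] at h2
        rw [h2]
        exact (Subgroup.mem_centralizer_iff.1 hgC _ (hgD d hd)).symm
  have hQC : ∀ q ∈ Q, ∀ c ∈ C, ⁅q, c⁆ ∈ D := fun q hq c hc => by
    refine hSt ⟨mul_mem ((Subgroup.mem_normalizer_iff.1 (hLC (hQL hq)) c).1 hc) (inv_mem hc), fun d hd => ?_⟩
    have hd1 : c⁻¹ * d * c ∈ D := (Subgroup.mem_normalizer_iff''.1 (CharP.le_normalizer_opIn C hc) d).1 hd
    set o := ⁅q⁻¹, c⁻¹ * d * c⁆ with ho
    have hoO : o ∈ O := hz _ (inv_mem hq) _ hd1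
    have e : ⁅⁅q, c⁆, d⁆ = q * (c * o * c⁻¹) * q⁻¹ * ⁅q, d⁆ := by
      simp [ho, commutatorElement_def, mul_assoc]
    rw [e, hfix c hc o hoO]
    exact mul_mem ((Subgroup.mem_normalizer_iff.1 (CharP.le_normalizer_opIn L (hQL hq)) o).1 hoO) (hz q hq d hd)
  have hCQn : C ≤ Subgroup.normalizer (Q : Set G) := by
    refine le_trans ?_ (LEWeakClosed.normalizer_le hwc
      (hQp.to_sup_of_normal_right' hDp (hQL.trans hLD)) (le_sup_left : Q ≤ Q ⊔ D))
    intro c hc
    rw [← map_conj_eq_iff_mem_normalizer]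
    refine Subgroup.eq_of_le_of_card_ge ?_ (card_map_conj _ c).ge
    rw [Subgroup.map_sup]
    refine sup_le ?_ ((map_conj_eq_iff_mem_normalizer.2 (CharP.le_normalizer_opIn C hc)).le.trans le_sup_right)
    rintro _ ⟨q, hq, rfl⟩
    have e : (MulAut.conj c).toMonoidHom q = ⁅q, c⁆⁻¹ * q := by simp [commutatorElement_def, mul_assoc]
    rw [e]
    exact mul_mem (Subgroup.mem_sup_right (inv_mem (hQC q hq c hc))) (Subgroup.mem_sup_left hq)
  have hle : ⁅Q, C⁆ ≤ Q ⊓ O := by
    rw [Subgroup.commutator_le]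
    intro q hq c hc
    have hQ' : ⁅q, c⁆ ∈ Q := Subgroup.le_normalizer_iff_commutator_le_left.1 hCQn
      (Subgroup.commutator_mem_commutator hq hc)
    exact Subgroup.mem_inf.2 ⟨hQ', hDL (Subgroup.mem_inf.2 ⟨hQC q hq c hc, hQL hQ'⟩)⟩
  have hCp : IsPGroup p ↥C := by
    rw [Cfsg.Agent.PBasic.isPGroup_iff_forall_coprime]
    rintro ⟨x, hx⟩ hxc
    rw [Subgroup.orderOf_mk] at hxc
    have hxQ : x ∈ Subgroup.centralizer (Q : Set G) := by
      rw [Subgroup.mem_centralizer_iff]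
      intro q hq
      refine (CharP.commute_of_conj_eq_mul (P := O) (c := ⁅q⁻¹, x⁆) (CharP.opIn_isPGroup L) ?_ hxc
        (by simp [commutatorElement_def, mul_assoc]) ?_).symm
      · exact (hle (Subgroup.commutator_mem_commutator (inv_mem hq) hx)).2
      · exact (Subgroup.mem_centralizer_iff.1 hx _ (hle (Subgroup.commutator_mem_commutator (inv_mem hq) hx)).2).symm
    exact Subtype.ext (Cfsg.Agent.PBasic.eq_one_of_isPGroup_of_coprime hQp (hCQ hxQ) hxc)
  refine ⟨hle, hCp, (CharP.isCharP_iff L).2 fun x hxL hx hc => ?_⟩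
  exact Cfsg.Agent.PBasic.eq_one_of_isPGroup_of_coprime hCp
    (Subgroup.mem_centralizer_iff.2 fun y hy => (hc y hy).symm) hx

/-! ### large subgroups -/

theorem conj_eq_of_centralizers (hQp : IsPGroup p ↥Q) (hQ1 : Q ≠ ⊥) (hL : Cfsg.IsLarge Q) {g : G}
    (h : Subgroup.centralizer (Q : Set G) ⊓
      Subgroup.centralizer ((Q.map (MulAut.conj g).toMonoidHom : Subgroup G) : Set G) ≠ ⊥) :
    g ∈ Subgroup.normalizer (Q : Set G) := by
  have hQg : Q.map (MulAut.conj g).toMonoidHom ≤ Subgroup.normalizer (Q : Set G) := by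
    refine le_trans ?_ (hL.2 _ inf_le_left h)
    refine le_trans ?_ (Subgroup.centralizer_le_normalizer _)
    intro x hx
    rw [Subgroup.mem_centralizer_iff]
    exact fun u hu => (Subgroup.mem_centralizer_iff.1 (Subgroup.mem_inf.1 hu).2 x hx).symm
  exact map_conj_eq_iff_mem_normalizer.1
    (LEWeakClosed.conj_eq_of_le (LEWeakClosed.weaklyClosed_of_isLarge hQp hQ1 hL)
      (hQp.to_sup_of_normal_left' (hQp.map _) hQg) le_sup_left le_sup_right)

theorem le_opIn_normalizer (hQp : IsPGroup p ↥Q) :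
    Q ≤ CharP.opIn p (Subgroup.normalizer (Q : Set G)) :=
  CharP.le_opIn Subgroup.le_normalizer le_rfl hQp

theorem isCharP_normalizer (hQp : IsPGroup p ↥Q) (hL : Cfsg.IsLarge Q) :
    CharP.IsCharP p ↥(Subgroup.normalizer (Q : Set G)) := by
  refine (CharP.isCharP_iff _).2 fun x _ hx hc => ?_
  exact Cfsg.Agent.PBasic.eq_one_of_isPGroup_of_coprime hQp
    (hL.1 (Subgroup.mem_centralizer_iff.2 fun q hq => (hc q (le_opIn_normalizer hQp hq)).symm)) hx

/-- Every `p`-subgroup normalized by `L ≥ Q` meets `C(Q)` in an element with characteristic `p` centralizer. -/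
theorem exists_y (hQp : IsPGroup p ↥Q) (hQ1 : Q ≠ ⊥) (hL : Cfsg.IsLarge Q) {R : Subgroup G}
    (hR : IsPGroup p ↥R) (hQR : Q ≤ Subgroup.normalizer (R : Set G)) (hR1 : R ≠ ⊥) :
    ∃ y : G, y ≠ 1 ∧ y ∈ R ⊓ Subgroup.centralizer (Q : Set G) ∧
      CharP.IsCharP p ↥(Subgroup.centralizer ({y} : Set G)) := by
  obtain ⟨y, hyR, hyp, hyc⟩ := LECharP.exists_central_in_normal
    (hR.to_sup_of_normal_left' hQp hQR) _ R le_rfl le_sup_left
    (sup_le Subgroup.le_normalizer hQR) hR1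
  have hy1 : y ≠ 1 := fun e => (Fact.out : p.Prime).ne_one (by rw [← hyp, e, orderOf_one])
  have hyC : y ∈ Subgroup.centralizer (Q : Set G) :=
    Subgroup.mem_centralizer_iff.2 fun q hq => hyc q (Subgroup.mem_sup_right hq)
  refine ⟨y, hy1, Subgroup.mem_inf.2 ⟨hyR, hyC⟩, ?_⟩
  have hAy : IsPGroup p ↥(Subgroup.zpowers y) := LESylow.isPGroup_zpowers (k := 1) (by rw [hyp, pow_one])
  have hle : Subgroup.centralizer ({y} : Set G) ≤ Subgroup.normalizer (Q : Set G) := by
    refine (LESylow.centralizer_le_normalizer_zpowers y).trans (hL.2 _ ?_ (LESylow.zpowers_ne_bot hyp))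
    exact Subgroup.zpowers_le.2 hyC
  have h1 := CharP.isCharP_inf_centralizer (isCharP_normalizer hQp hL) hAy
    ((Subgroup.zpowers_le.2 (Subgroup.le_normalizer (hL.1 hyC))).trans Subgroup.le_normalizer)
  rw [Subgroup.zpowers_eq_closure, Subgroup.centralizer_closure, inf_eq_right.2 hle] at h1
  exact h1

theorem main_of_isLarge (hQp : IsPGroup p ↥Q) (hQ1 : Q ≠ ⊥) (hL : Cfsg.IsLarge Q) {L : Subgroup G}
    (hQL : Q ≤ L) (hO : CharP.opIn p L ≠ ⊥) :
    ⁅Q, Subgroup.centralizer (CharP.opIn p L : Set G)⁆ ≤ Q ⊓ CharP.opIn p L ∧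
      IsPGroup p ↥(Subgroup.centralizer (CharP.opIn p L : Set G)) ∧ CharP.IsCharP p ↥L :=
  main hQp (LEWeakClosed.weaklyClosed_of_isLarge hQp hQ1 hL) hL.1 hQL
    (Or.inr (exists_y hQp hQ1 hL (CharP.opIn_isPGroup L) (hQL.trans (CharP.le_normalizer_opIn L)) hO))

end Cfsg.Agent.LELarge
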