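/-
The normalizer of a strongly closed abelian subgroup controls strong fusion.
-/
import Cfsg.Prelude.Def_LocalEven
import Cfsg.Prelude.Def_TwoFusion
import Cfsg.Agent.Lib.Transfer.Alperin
import Cfsg.Agent.Lib.LocalEven.Coprime
import Cfsg.Agent.Lib.LocalEven.SylowAux
import Cfsg.Agent.Lib.LocalEven.Large
import Cfsg.Agent.Lib.Fusion.Sylow

set_option autoImplicit false
set_option linter.unusedSectionVars false
set_option linter.style.haveILetI false

namespace Cfsg.Agent.LEAbelianClosed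

open Cfsg.Agent.LEBasic
open scoped commutatorElement Pointwise

variable {G : Type*} [Group G] [Finite G] {p : ℕ} [Fact p.Prime]

theorem sylow_inf_normal {T N K : Subgroup G} (hK : K ≤ N) (hn : N ≤ Subgroup.normalizer (K : Set G))
    (hTN : T ≤ N) (hTp : IsPGroup p ↥T) (hT : ¬ p ∣ T.relIndex N) : ¬ p ∣ (T ⊓ K).relIndex K := by
  exact (FusionSys.IsSyl.inf_normal (show FusionSys.IsSyl p T N from ⟨hTN, hTp, hT⟩) hK hn).2.2

/-- Any `p`-subgroup fused inside `S` is fused by `N(A)`; the case of one normalizer. -/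
theorem exists_of_normalizer (S : Sylow p G) {A : Subgroup G} [IsMulCommutative ↥A]
    (hsc : Cfsg.IsStronglyClosed A (S : Subgroup G)) {E : Subgroup G} (hES : E ≤ (S : Subgroup G))
    (htame : ¬ p ∣ ((S : Subgroup G) ⊓ Subgroup.normalizer (E : Set G)).relIndex (Subgroup.normalizer (E : Set G)))
    (ih : ∀ E' : Subgroup G, E < E' → E' ≤ (S : Subgroup G) → ∀ g : G,
      E'.map (MulAut.conj g).toMonoidHom ≤ (S : Subgroup G) →
      ∃ n ∈ Subgroup.normalizer (A : Set G), ∀ e ∈ E', g * e * g⁻¹ = n * e * n⁻¹)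
    {x : G} (hx : x ∈ Subgroup.normalizer (E : Set G)) :
    ∃ n ∈ Subgroup.normalizer (A : Set G), ∀ e ∈ E, x * e * x⁻¹ = n * e * n⁻¹ := by
  set N := Subgroup.normalizer (E : Set G) with hN
  have hAS : A ≤ (S : Subgroup G) := hsc.1
  have hAn : (S : Subgroup G) ≤ Subgroup.normalizer (A : Set G) := Subgroup.le_normalizer_iff.2 fun s hs a ha =>
    hsc.2 a ha s (mul_mem (mul_mem hs (hAS ha)) (inv_mem hs))
  have hEp : IsPGroup p ↥E := S.2.to_le hES
  -- conjugation by an element of `N` fixes `E ⊓ A`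
  have hEA : ∀ m ∈ N, ∀ e ∈ E ⊓ A, m * e * m⁻¹ ∈ E ⊓ A := fun m hm e he => by
    have h1 : m * e * m⁻¹ ∈ E := (Subgroup.mem_normalizer_iff.1 hm e).1 (Subgroup.mem_inf.1 he).1
    exact Subgroup.mem_inf.2 ⟨h1, hsc.2 e (Subgroup.mem_inf.1 he).2 m (hES h1)⟩
  have hEEA : E ≤ Subgroup.normalizer ((E ⊓ A : Subgroup G) : Set G) :=
    Subgroup.le_normalizer_iff.2 fun m hm e he => hEA m (Subgroup.le_normalizer hm) e he
  -- the stabilizer of `E ≥ E ⊓ A ≥ 1`
  let K : Subgroup G :=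
    { carrier := {k | k ∈ N ∧ (∀ e ∈ E, k * e * k⁻¹ * e⁻¹ ∈ E ⊓ A) ∧ ∀ e ∈ E ⊓ A, k * e * k⁻¹ = e}
      one_mem' := ⟨one_mem _, fun e _ => by simp, fun e _ => by simp⟩
      mul_mem' := fun {a b} ha hb => ⟨mul_mem ha.1 hb.1, fun e he => by
        have h1 := hb.2.1 e he
        rw [show a * b * e * (a * b)⁻¹ * e⁻¹ =
          a * (b * e * b⁻¹ * e⁻¹) * a⁻¹ * (a * e * a⁻¹ * e⁻¹) by simp [mul_assoc]]
        exact mul_mem (by rw [ha.2.2 _ h1]; exact h1) (ha.2.1 e he),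
        fun e he => by
          rw [show a * b * e * (a * b)⁻¹ = a * (b * e * b⁻¹) * a⁻¹ by simp [mul_assoc], hb.2.2 e he, ha.2.2 e he]⟩
      inv_mem' := fun {a} ha => by
        have hfix : ∀ e ∈ E ⊓ A, a⁻¹ * e * a⁻¹⁻¹ = e := fun e he => by
          conv_lhs => rw [← ha.2.2 e he]
          simp [mul_assoc]
        refine ⟨inv_mem ha.1, fun e he => ?_, hfix⟩
        have he' : a⁻¹ * e * a⁻¹⁻¹ ∈ E := (Subgroup.mem_normalizer_iff.1 (inv_mem ha.1) e).1 he
        have h1 := inv_mem (ha.2.1 _ he')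
        simpa [mul_assoc] using h1 }
  have hKN : K ≤ N := fun k hk => hk.1
  have hNK : N ≤ Subgroup.normalizer (K : Set G) := Subgroup.le_normalizer_iff.2 fun m hm k hk => by
    refine ⟨mul_mem (mul_mem hm hk.1) (inv_mem hm), fun e he => ?_, fun e he => ?_⟩
    · have he' : m⁻¹ * e * m ∈ E := (Subgroup.mem_normalizer_iff''.1 hm e).1 he
      have h1 := hEA m hm _ (hk.2.1 _ he')
      simpa [mul_assoc] using h1
    · have he' : m⁻¹ * e * m⁻¹⁻¹ ∈ E ⊓ A := hEA m⁻¹ (inv_mem hm) e he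
      have h1 := hk.2.2 _ he'
      calc m * k * m⁻¹ * e * (m * k * m⁻¹)⁻¹ = m * (k * (m⁻¹ * e * m⁻¹⁻¹) * k⁻¹) * m⁻¹ := by simp [mul_assoc]
        _ = e := by rw [h1]; simp [mul_assoc]
  have hAK : A ⊓ N ≤ K := fun a ha => by
    obtain ⟨ha1, ha2⟩ := Subgroup.mem_inf.1 ha
    refine ⟨ha2, fun e he => ?_, fun e he => ?_⟩
    · have h1 : a * e * a⁻¹ ∈ E := (Subgroup.mem_normalizer_iff.1 ha2 e).1 he
      refine Subgroup.mem_inf.2 ⟨mul_mem h1 (inv_mem he), ?_⟩
      have h2 := (Subgroup.mem_normalizer_iff.1 (hAn (hES he)) a⁻¹).1 (inv_mem ha1)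
      have h3 := mul_mem ha1 h2
      simpa [mul_assoc] using h3
    · rw [show a * e = e * a from congrArg Subtype.val (mul_comm' (⟨a, ha1⟩ : ↥A) ⟨e, (Subgroup.mem_inf.1 he).2⟩),
        mul_inv_cancel_right]
  -- `K = C_K(E) P₀`
  set P₀ := (S : Subgroup G) ⊓ K with hP₀
  have hP₀p : IsPGroup p ↥P₀ := S.2.to_le inf_le_left
  have hP₀idx : ¬ p ∣ P₀.relIndex K := by
    have h1 := sylow_inf_normal hKN hNK inf_le_right (S.2.to_le (inf_le_left : (S : Subgroup G) ⊓ N ≤ _)) htame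
    rwa [inf_assoc, inf_eq_right.2 hKN] at h1
  let P₀s : Sylow p ↥K := (IsPGroup.toSylow (P := P₀.subgroupOf K)
    (hP₀p.comap_of_injective K.subtype K.subtype_injective) hP₀idx)
  have hmap : (P₀s : Subgroup ↥K).map K.subtype = P₀ := by
    rw [show (P₀s : Subgroup ↥K) = P₀.subgroupOf K from rfl]
    exact Subgroup.map_subgroupOf_eq_of_le inf_le_right
  have hcentral : ∀ k ∈ K, (orderOf k).Coprime p → k ∈ Subgroup.centralizer (E : Set G) := by
    intro k hk hkc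
    refine LECoprime.mem_centralizer_of_iterCommutator hEp hKN (n := 2) ?_ hk hkc
    show ⁅⁅E, K⁆, K⁆ = ⊥
    rw [eq_bot_iff]
    refine (Subgroup.commutator_mono (show ⁅E, K⁆ ≤ E ⊓ A from ?_) le_rfl).trans ?_
    · rw [Subgroup.commutator_le]
      intro e he k hk
      have h1 := inv_mem (hk.2.1 e he)
      simpa [commutatorElement_def, mul_assoc] using h1
    · rw [Subgroup.commutator_le]
      intro e he k hk
      rw [Subgroup.mem_bot, commutatorElement_eq_one_iff_mul_comm]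
      exact (mul_inv_eq_iff_eq_mul.1 (hk.2.2 e he)).symm
  haveI : ((Subgroup.centralizer (E : Set G)).subgroupOf K).Normal :=
    (Subgroup.normal_subgroupOf_iff_le_normalizer_inf).2
      ((le_inf ((hKN.trans (le_of_eq hN)).trans (LELarge.normalizer_le_normalizer_centralizer E)) Subgroup.le_normalizer).trans
        Subgroup.inf_normalizer_le_normalizer_inf)
  have hsplit : ∀ k ∈ K, ∃ c ∈ Subgroup.centralizer (E : Set G), ∃ u ∈ P₀, k = c * u := by
    intro k hk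
    have htop : Cfsg.pResidual p ↥K ⊔ (P₀s : Subgroup ↥K) = ⊤ := pResidual_sup_sylow P₀s
    have hle : Cfsg.pResidual p ↥K ≤ (Subgroup.centralizer (E : Set G)).subgroupOf K := by
      rw [Cfsg.pResidual, Subgroup.closure_le]
      intro b hb
      exact hcentral b b.2 (by rw [Subgroup.orderOf_coe]; exact hb)
    have hmem : (⟨k, hk⟩ : ↥K) ∈ (Subgroup.centralizer (E : Set G)).subgroupOf K ⊔ (P₀s : Subgroup ↥K) :=
      sup_le_sup_right hle _ (htop.ge (Subgroup.mem_top _))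
    obtain ⟨c, hc, u, hu, hcu⟩ := Subgroup.mem_sup_of_normal_left.1 hmem
    exact ⟨c, hc, u, hu, (congrArg Subtype.val hcu).symm⟩
  -- Frattini: `x = k m` with `m ∈ N(P₀)`
  have hxP : IsPGroup p ↥(P₀.map (MulAut.conj x).toMonoidHom) := isPGroup_map_conj hP₀p x
  have hxK : P₀.map (MulAut.conj x).toMonoidHom ≤ K :=
    (map_conj_mono x inf_le_right).trans (map_conj_eq_iff_mem_normalizer.2 (hNK hx)).le
  obtain ⟨k, hk, hkle⟩ := LESylow.exists_conj_le_of_le hxK hxP P₀s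
  rw [hmap, map_conj_map_conj] at hkle
  have hm : k * x ∈ Subgroup.normalizer (P₀ : Set G) :=
    map_conj_eq_iff_mem_normalizer.1 (Subgroup.eq_of_le_of_card_ge hkle (card_map_conj P₀ (k * x)).ge)
  obtain ⟨c, hc, u, hu, hcu⟩ := hsplit k⁻¹ (inv_mem hk)
  set n := u * (k * x) with hn
  have hxn : x = c * n := by rw [hn, ← mul_assoc, ← hcu, inv_mul_cancel_left]
  have hnN : n ∈ N := mul_mem (hKN (Subgroup.mem_inf.1 hu).2) (mul_mem (hKN hk) hx)
  have hnP₀ : n ∈ Subgroup.normalizer (P₀ : Set G) := mul_mem (Subgroup.le_normalizer hu) hm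
  have hact : ∀ e ∈ E, x * e * x⁻¹ = n * e * n⁻¹ := fun e he => by
    have he' : n * e * n⁻¹ ∈ E := (Subgroup.mem_normalizer_iff.1 hnN e).1 he
    have h1 := Subgroup.mem_centralizer_iff.1 hc _ he'
    calc x * e * x⁻¹ = c * (n * e * n⁻¹) * c⁻¹ := by rw [hxn]; simp [mul_assoc]
      _ = n * e * n⁻¹ := by rw [← h1, mul_inv_cancel_right]
  have hAN : ∀ a ∈ A ⊓ N, n * a * n⁻¹ ∈ A ⊓ N := fun a ha => by
    have h1 : n * a * n⁻¹ ∈ P₀ := (Subgroup.mem_normalizer_iff.1 hnP₀ a).1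
      (Subgroup.mem_inf.2 ⟨hAS (Subgroup.mem_inf.1 ha).1, hAK ha⟩)
    exact Subgroup.mem_inf.2 ⟨hsc.2 a (Subgroup.mem_inf.1 ha).1 n (Subgroup.mem_inf.1 h1).1,
      mul_mem (mul_mem hnN (Subgroup.mem_inf.1 ha).2) (inv_mem hnN)⟩
  set E' := E ⊔ (A ⊓ N) with hE'
  have hE'S : E' ≤ (S : Subgroup G) := sup_le hES (inf_le_left.trans hAS)
  rcases (show E ≤ E' from le_sup_left).lt_or_eq with hlt | heq
  · have hmapE : E'.map (MulAut.conj n).toMonoidHom ≤ (S : Subgroup G) := by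
      refine le_trans ?_ hE'S
      rw [hE', Subgroup.map_sup]
      refine sup_le ((map_conj_eq_iff_mem_normalizer.2 hnN).le.trans le_sup_left) (le_trans ?_ le_sup_right)
      rintro _ ⟨a, ha, rfl⟩
      exact hAN a ha
    obtain ⟨n', hn', hact'⟩ := ih E' hlt hE'S n hmapE
    exact ⟨n', hn', fun e he => (hact e he).trans (hact' e (Subgroup.mem_sup_left he))⟩
  · have hANE : A ⊓ N ≤ E := le_sup_right.trans heq.ge
    have hAE : A ≤ E := by
      have hEnA : E ≤ Subgroup.normalizer (A : Set G) := hES.trans hAn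
      have hPp : IsPGroup p ↥(A ⊔ E) := S.2.to_le (sup_le hAS hES)
      have heq' := LESylow.eq_of_normalizer_inf_le hPp le_sup_right (fun y hy => by
        obtain ⟨hy1, hy2⟩ := Subgroup.mem_inf.1 hy
        have hy1' : y ∈ (A : Set G) * (E : Set G) := by
          rw [← Subgroup.coe_mul_of_right_le_normalizer_left A E hEnA]; exact hy1
        obtain ⟨a, ha, e, he, rfl⟩ := hy1'
        have ha2 : a ∈ N := by
          have := mul_mem hy2 (inv_mem (Subgroup.le_normalizer he))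
          simpa using this
        exact mul_mem (hANE (Subgroup.mem_inf.2 ⟨ha, ha2⟩)) he)
      exact le_sup_left.trans heq'.ge
    refine ⟨n, ?_, hact⟩
    rw [← map_conj_eq_iff_mem_normalizer]
    refine Subgroup.eq_of_le_of_card_ge ?_ (card_map_conj A n).ge
    rintro _ ⟨a, ha, rfl⟩
    exact hsc.2 a ha n (hES ((Subgroup.mem_normalizer_iff.1 hnN a).1 (hAE ha)))

theorem controls (S : Sylow p G) {A : Subgroup G} [IsMulCommutative ↥A]
    (hsc : Cfsg.IsStronglyClosed A (S : Subgroup G)) (X : Set G) (hX : X ⊆ (S : Subgroup G)) (g : G)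
    (hg : ∀ a ∈ X, g * a * g⁻¹ ∈ (S : Subgroup G)) :
    ∃ n ∈ Subgroup.normalizer (A : Set G), ∀ a ∈ X, g * a * g⁻¹ = n * a * n⁻¹ := by
  suffices key : ∀ (k : ℕ) (E : Subgroup G), E ≤ (S : Subgroup G) → Nat.card ↥(S : Subgroup G) ≤ Nat.card ↥E + k →
      ∀ g : G, E.map (MulAut.conj g).toMonoidHom ≤ (S : Subgroup G) →
      ∃ n ∈ Subgroup.normalizer (A : Set G), ∀ e ∈ E, g * e * g⁻¹ = n * e * n⁻¹ by
    obtain ⟨n, hn, hn'⟩ := key (Nat.card ↥(S : Subgroup G)) (Subgroup.closure X) ((Subgroup.closure_le _).2 hX)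
      le_add_self g (by
        rw [Subgroup.map_le_iff_le_comap, Subgroup.closure_le]
        exact fun a ha => hg a ha)
    exact ⟨n, hn, fun a ha => hn' a (Subgroup.subset_closure ha)⟩
  intro k
  induction k using Nat.strong_induction_on with
  | _ k ih =>
  intro E hE hk g hgE
  have hch := Alperin.chain_of_conj S (E : Set G) g⁻¹ hE (by
    rintro _ ⟨a, ha, rfl⟩
    show g⁻¹⁻¹ * a * g⁻¹ ∈ ((S : Subgroup G) : Set G)
    rw [inv_inv]
    exact hgE ⟨a, ha, rfl⟩)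
  suffices key : ∀ (B : Set G) (y : G), Alperin.Chain S B y → (∀ Q : Subgroup G, B ⊆ (Q : Set G) → Nat.card ↥E ≤ Nat.card ↥Q) →
      ∃ n ∈ Subgroup.normalizer (A : Set G), ∀ a ∈ B, y⁻¹ * a * y = n * a * n⁻¹ by
    obtain ⟨n, hn, hn'⟩ := key _ _ hch (fun Q hQ => Nat.card_mono Q.carrier.toFinite hQ)
    exact ⟨n, hn, fun e he => by simpa using hn' e he⟩
  intro B y hBy
  induction hBy with
  | nil => intro _; exact ⟨1, one_mem _, fun a _ => by simp⟩
  | @cons B x y Q hQ hx hB _ ih2 =>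
    intro hcard
    obtain ⟨n1, hn1, hn1'⟩ := exists_of_normalizer S hsc (inf_le_left : (S : Subgroup G) ⊓ (Q : Subgroup G) ≤ _)
      hQ.1 (fun E' hlt hE' g' hg' => ih (Nat.card ↥(S : Subgroup G) - Nat.card ↥E') (by
          have h1 := hcard _ hB
          have h2 := Set.Finite.card_lt_card E'.carrier.toFinite (SetLike.coe_ssubset_coe.2 hlt)
          have h3 := Subgroup.card_le_of_le hE'
          simp only [SetLike.coe_sort_coe] at h2
          change Nat.card ↥((S : Subgroup G) ⊓ (Q : Subgroup G)) < Nat.card ↥E' at h2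
          omega) E' hE' (by omega) g' hg') (inv_mem hx)
    obtain ⟨n2, hn2, hn2'⟩ := ih2 (fun Q' hQ' => by
      have hsub : B ⊆ ((Q'.map (MulAut.conj x).toMonoidHom : Subgroup G) : Set G) := fun a ha =>
        ⟨x⁻¹ * a * x, hQ' ⟨a, ha, rfl⟩, by simp [mul_assoc]⟩
      exact (hcard _ hsub).trans (card_map_conj Q' x).le)
    refine ⟨n2 * n1, mul_mem hn2 hn1, fun a ha => ?_⟩
    have h1 : x⁻¹ * a * x⁻¹⁻¹ = n1 * a * n1⁻¹ := hn1' a (hB ha)
    rw [inv_inv] at h1
    have h2 := hn2' _ ⟨a, ha, rfl⟩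
    calc (x * y)⁻¹ * a * (x * y) = y⁻¹ * (x⁻¹ * a * x) * y := by simp [mul_assoc]
      _ = n2 * (x⁻¹ * a * x) * n2⁻¹ := h2
      _ = n2 * n1 * a * (n2 * n1)⁻¹ := by rw [h1]; simp [mul_assoc]

end Cfsg.Agent.LEAbelianClosed
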