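/-
Primitive prime divisors of `a ^ n - 1`.
-/
import Mathlib.RingTheory.Polynomial.Cyclotomic.Eval
import Mathlib.RingTheory.Polynomial.Cyclotomic.Expand
import Mathlib.NumberTheory.Multiplicity
import Mathlib.Tactic

set_option autoImplicit false
set_option linter.style.haveILetI false

namespace Cfsg.Agent.LEZsig

open Polynomial

/-- The value of the cyclotomic polynomial. -/
noncomputable def val (n a : ℕ) : ℤ := (cyclotomic n ℤ).eval (a : ℤ)

theorem eval_cast (n a : ℕ) (R : Type*) [CommRing R] :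
    (cyclotomic n R).eval (a : R) = ((val n a : ℤ) : R) := by
  have h := cyclotomic.eval_apply (a : ℤ) n (Int.castRingHom R)
  simpa [val] using h

theorem natCast_pow_eq_one_iff {a r i : ℕ} (ha : 0 < a) :
    r ∣ a ^ i - 1 ↔ (a : ZMod r) ^ i = 1 := by
  rw [← ZMod.natCast_eq_zero_iff, Nat.cast_sub (Nat.one_le_pow _ _ ha), Nat.cast_pow, Nat.cast_one, sub_eq_zero]

/-- A prime divisor of `Φ_n(a)` determines the order of `a`. -/
theorem primitive {n a r k d : ℕ} [Fact r.Prime] (hd : ¬ r ∣ d) (hn : r ^ k * d = n)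
    (h : (r : ℤ) ∣ val n a) : IsPrimitiveRoot (a : ZMod r) d := by
  haveI : NeZero (d : ZMod r) := ⟨fun h0 => hd ((ZMod.natCast_eq_zero_iff d r).1 h0)⟩
  rw [← isRoot_cyclotomic_prime_pow_mul_iff_of_charP (k := k) (p := r), hn, IsRoot.def, eval_cast]
  exact (ZMod.intCast_zmod_eq_zero_iff_dvd _ _).2 h

theorem order_lt {a r d : ℕ} [Fact r.Prime] (h : IsPrimitiveRoot (a : ZMod r) d) (hd : 0 < d) :
    d < r ∧ d ∣ r - 1 := by
  have hr : r.Prime := Fact.out
  have h0 : (a : ZMod r) ≠ 0 := h.ne_zero hd.ne'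
  have h1 : d ∣ r - 1 := h.dvd_of_pow_eq_one _ (ZMod.pow_card_sub_one_eq_one h0)
  exact ⟨(Nat.le_of_dvd (by have := hr.two_le; omega) h1).trans_lt (by have := hr.two_le; omega), h1⟩

theorem not_sq_dvd {n a r k d : ℕ} [Fact r.Prime] (ha : 1 < a) (hn3 : 3 ≤ n) (hd : ¬ r ∣ d)
    (hn : r ^ (k + 1) * d = n) (h : (r : ℤ) ∣ val n a) : ¬ (r : ℤ) ^ 2 ∣ val n a := by
  have hr : r.Prime := Fact.out
  have hd0 : 0 < d := Nat.pos_of_ne_zero fun h => hd (h ▸ dvd_zero r)
  have hprim := primitive hd hn h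
  set m := r ^ k * d with hm
  have hm0 : 0 < m := Nat.mul_pos (pow_pos hr.pos _) hd0
  have hnm : n = m * r := by rw [← hn, hm, pow_succ]; ring
  have hmem : m ∈ n.properDivisors := by
    rw [Nat.mem_properDivisors]
    exact ⟨⟨r, hnm⟩, by rw [hnm]; exact lt_mul_of_one_lt_right hm0 hr.one_lt⟩
  set b : ℤ := (a : ℤ) ^ m with hb
  have hb1 : 1 < b := one_lt_pow₀ (by exact_mod_cast ha) hm0.ne'
  have hdvd : val n a ∣ ∑ i ∈ Finset.range r, b ^ i := by
    have h1 := eval_dvd (x := (a : ℤ)) (X_pow_sub_one_mul_cyclotomic_dvd_X_pow_sub_one_of_dvd ℤ hmem)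
    simp only [eval_mul, eval_sub, eval_pow, eval_X, eval_one] at h1
    rw [hnm, pow_mul _ m r, ← hb, ← mul_geom_sum b r, ← hnm] at h1
    exact (mul_dvd_mul_iff_left (by omega : b - 1 ≠ 0)).1 h1
  intro hsq
  have hsum := hsq.trans hdvd
  rcases hr.eq_two_or_odd' with rfl | hodd
  · have hd1 : d = 1 := by have := (order_lt hprim hd0).1; omega
    have hk : 1 ≤ k := by
      by_contra hk
      have : k = 0 := by omega
      rw [this, hd1] at hn; omega
    obtain ⟨c, hc⟩ : ∃ c : ℤ, b = c * c := ⟨(a : ℤ) ^ (2 ^ (k - 1) * d), by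
      rw [hb, ← pow_add, hm, ← two_mul, ← mul_assoc, ← pow_succ', show k - 1 + 1 = k by omega]⟩
    rw [Finset.sum_range_succ, Finset.sum_range_one, pow_zero, pow_one, hc] at hsum
    have h4 : ((1 + c * c : ℤ) : ZMod 4) = 0 := (ZMod.intCast_zmod_eq_zero_iff_dvd _ _).2 (by simpa using hsum)
    push_cast at h4
    revert h4
    generalize (c : ZMod 4) = x
    revert x
    decide
  · have hb' : ((b - 1 : ℤ) : ZMod r) = 0 := by
      push_cast
      rw [hb, Int.cast_pow, Int.cast_natCast, sub_eq_zero, hm, mul_comm, pow_mul, hprim.pow_eq_one, one_pow]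
    obtain ⟨t, ht⟩ := (ZMod.intCast_zmod_eq_zero_iff_dvd _ _).1 hb'
    have h2 := odd_sq_dvd_geom_sum₂_sub (1 : ℤ) t hodd
    simp only [one_pow, mul_one] at h2
    rw [show (1 : ℤ) + r * t = b by rw [← ht]; ring] at h2
    have h3 : (r : ℤ) ^ 2 ∣ (r : ℤ) := by simpa using dvd_sub hsum h2
    have h4 : r ^ 2 ∣ r := by exact_mod_cast h3
    have := Nat.le_of_dvd hr.pos h4
    nlinarith [hr.two_le]

theorem zsigmondy (a n : ℕ) (ha : 1 < a) (hn : 1 < n) (h6 : ¬ (a = 2 ∧ n = 6))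
    (h2 : ¬ (n = 2 ∧ ∃ m : ℕ, a + 1 = 2 ^ m)) :
    ∃ r : ℕ, r.Prime ∧ r ∣ a ^ n - 1 ∧ ∀ k : ℕ, 0 < k → k < n → ¬ r ∣ a ^ k - 1 := by
  rcases eq_or_ne n 2 with rfl | hn2
  · obtain ⟨r, hr, hr2, hrd⟩ : ∃ r : ℕ, r.Prime ∧ r ≠ 2 ∧ r ∣ a + 1 := by
      by_contra hc
      push Not at hc
      refine h2 ⟨rfl, _, Nat.eq_prime_pow_of_unique_prime_dvd (by omega : a + 1 ≠ 0) fun {d} hd hdd => ?_⟩
      by_contra hd2
      exact hc d hd hd2 hdd
    haveI : Fact r.Prime := ⟨hr⟩
    have hm1 : (a : ZMod r) = -1 := by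
      rw [eq_neg_iff_add_eq_zero]; exact_mod_cast (ZMod.natCast_eq_zero_iff (a + 1) r).2 hrd
    refine ⟨r, hr, ?_, fun k hk hk2 h => ?_⟩
    · rw [natCast_pow_eq_one_iff (by omega), hm1]; simp
    · rw [natCast_pow_eq_one_iff (by omega), show k = 1 by omega, pow_one, hm1] at h
      have h2' : ((2 : ℕ) : ZMod r) = 0 := by push_cast; linear_combination -h
      rw [ZMod.natCast_eq_zero_iff] at h2'
      exact hr2 ((Nat.prime_dvd_prime_iff_eq hr Nat.prime_two).1 h2')
  have hn3 : 3 ≤ n := by omega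
  by_contra hno
  -- every prime divisor divides `n`
  have hdiv : ∀ r : ℕ, r.Prime → r ∣ (val n a).natAbs → ∃ k d, ¬ r ∣ d ∧ r ^ (k + 1) * d = n := by
    intro r hr hrv
    haveI : Fact r.Prime := ⟨hr⟩
    obtain ⟨k, d, hd, hkd⟩ := Nat.exists_eq_pow_mul_and_not_dvd (by omega : n ≠ 0) r hr.ne_one
    rcases k with _ | k
    · exfalso
      have hprim := primitive hd hkd.symm (Int.natCast_dvd.2 hrv)
      have hdn : d = n := by rw [hkd, pow_zero, one_mul]
      subst hdn
      exact hno ⟨r, hr, (natCast_pow_eq_one_iff (by omega)).2 hprim.pow_eq_one, fun i hi hin h => by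
        have := Nat.le_of_dvd hi (hprim.dvd_of_pow_eq_one i ((natCast_pow_eq_one_iff (by omega)).1 h))
        omega⟩
    · exact ⟨k, d, hd, hkd.symm⟩
  have hlow := sub_one_pow_totient_lt_natAbs_cyclotomic_eval (n := n) (q := a) (by omega) (by omega)
  change (a - 1) ^ n.totient < (val n a).natAbs at hlow
  have hm1 : (val n a).natAbs ≠ 1 := fun h => by
    have h1 : 1 ≤ (a - 1) ^ n.totient := Nat.one_le_pow _ _ (by omega)
    omega
  obtain ⟨r, hr, hrv⟩ := Nat.exists_prime_and_dvd hm1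
  haveI : Fact r.Prime := ⟨hr⟩
  obtain ⟨k, d, hd, hkd⟩ := hdiv r hr hrv
  have hd0 : 0 < d := Nat.pos_of_ne_zero fun h => hd (h ▸ dvd_zero r)
  have hprim := primitive hd hkd (Int.natCast_dvd.2 hrv)
  have hdlt := (order_lt hprim hd0).1
  -- it is the only one
  have huniq : ∀ s : ℕ, s.Prime → s ∣ (val n a).natAbs → s = r := by
    intro s hs hsv
    haveI : Fact s.Prime := ⟨hs⟩
    obtain ⟨j, e, he, hje⟩ := hdiv s hs hsv
    have he0 : 0 < e := Nat.pos_of_ne_zero fun h => he (h ▸ dvd_zero s)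
    have helt := (order_lt (primitive he hje (Int.natCast_dvd.2 hsv)) he0).1
    have h1 : s ≤ r := by
      have : s ∣ r ^ (k + 1) * d := hkd ▸ hje ▸ (dvd_pow_self s j.succ_ne_zero).mul_right e
      rcases (Nat.Prime.dvd_mul hs).1 this with h | h
      · exact ((Nat.prime_dvd_prime_iff_eq hs hr).1 (hs.dvd_of_dvd_pow h)).le
      · exact ((Nat.le_of_dvd hd0 h).trans_lt hdlt).le
    have h2 : r ≤ s := by
      have : r ∣ s ^ (j + 1) * e := hje ▸ hkd ▸ (dvd_pow_self r k.succ_ne_zero).mul_right d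
      rcases (Nat.Prime.dvd_mul hr).1 this with h | h
      · exact ((Nat.prime_dvd_prime_iff_eq hr hs).1 (hr.dvd_of_dvd_pow h)).le
      · exact ((Nat.le_of_dvd he0 h).trans_lt helt).le
    exact le_antisymm h1 h2
  have hval : (val n a).natAbs = r := by
    obtain ⟨q, hq⟩ := hrv
    rcases eq_or_ne q 1 with rfl | hq1
    · rw [hq, mul_one]
    obtain ⟨s, hs, hsq⟩ := Nat.exists_prime_and_dvd hq1
    have := huniq s hs (hq ▸ hsq.mul_left r)
    subst this
    exact absurd (Int.natCast_dvd.2 (show s ^ 2 ∣ (val n a).natAbs by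
      rw [hq, pow_two]; exact mul_dvd_mul_left s hsq))
      (by simpa using not_sq_dvd ha hn3 hd hkd (Int.natCast_dvd.2 ⟨q, hq⟩))
  rw [hval] at hlow
  have hrn : r ∣ n := hkd ▸ (dvd_pow_self r k.succ_ne_zero).mul_right d
  have htot : r - 1 ≤ n.totient := by
    rw [← Nat.totient_prime hr]
    exact Nat.le_of_dvd (Nat.totient_pos.2 (by omega)) (Nat.totient_dvd_of_dvd hrn)
  have ha2 : a = 2 := by
    by_contra ha2
    have h1 : 2 ^ (r - 1) ≤ (a - 1) ^ n.totient :=
      (Nat.pow_le_pow_left (by omega) _).trans (Nat.pow_le_pow_right (by omega) htot)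
    have h3 := Nat.lt_two_pow_self (n := r - 1)
    omega
  subst ha2
  have hr2 : r ≠ 2 := fun h => by
    subst h
    exact hprim.ne_zero hd0.ne' rfl
  have hr3 : 3 ≤ r := by have := hr.two_le; omega
  -- evaluation in the reals
  have hpos : 0 < (cyclotomic n ℝ).eval (2 : ℝ) :=
    (pow_pos (by norm_num : (0 : ℝ) < 2 - 1) _).trans (sub_one_pow_totient_lt_cyclotomic_eval (by omega) one_lt_two)
  have hR : (cyclotomic n ℝ).eval (2 : ℝ) = (r : ℝ) := by
    have h := eval_cast n 2 ℝ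
    rw [Nat.cast_ofNat] at h
    rw [h] at hpos ⊢
    have h0 : 0 < val n 2 := by exact_mod_cast hpos
    have : val n 2 = (r : ℤ) := by omega
    rw [this, Int.cast_natCast]
  have hgrow : ∀ j : ℕ, 4 ≤ j → 3 * j + 2 < 2 ^ j := by
    intro j hj
    induction j, hj using Nat.le_induction with
    | base => norm_num
    | succ j hj ih => rw [pow_succ]; omega
  have h2r : (1 : ℝ) < 2 ^ r := one_lt_pow₀ one_lt_two hr.ne_zero
  rcases k with _ | k
  · -- `n = r d`
    simp only [zero_add, pow_one] at hkd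
    have hexp := congrArg (eval (2 : ℝ)) (cyclotomic_expand_eq_cyclotomic_mul hr hd ℝ)
    rw [eval_mul, expand_eval, mul_comm d r, hkd, hR] at hexp
    rcases eq_or_ne r 3 with rfl | hr3'
    · have hd2 : d = 2 := by
        have h1 : (2 : ZMod 3) ^ d = 1 := hprim.pow_eq_one
        interval_cases d
        · have h2 : ((1 : ℕ) : ZMod 3) = 0 := by push_cast; linear_combination h1
          rw [ZMod.natCast_eq_zero_iff] at h2
          omega
        · rfl
      exact h6 ⟨rfl, by rw [← hkd, hd2]⟩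
    have hr5 : 4 ≤ r := by omega
    have h1 : ((2 : ℝ) ^ r - 1) ^ d.totient ≤ (r : ℝ) * (3 : ℝ) ^ d.totient := by
      refine (sub_one_pow_totient_le_cyclotomic_eval h2r d).trans ?_
      rw [hexp]
      have h := cyclotomic_eval_le_add_one_pow_totient (q := (2 : ℝ)) one_lt_two d
      norm_num at h
      exact mul_le_mul_of_nonneg_left h (Nat.cast_nonneg r)
    have hφ : d.totient ≠ 0 := (Nat.totient_pos.2 hd0).ne'
    have h2 : (r : ℝ) * (3 : ℝ) ^ d.totient ≤ ((r : ℝ) * 3) ^ d.totient := by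
      rw [mul_pow]
      exact mul_le_mul_of_nonneg_right (le_self_pow₀ (by exact_mod_cast hr.one_lt.le) hφ) (by positivity)
    have h3 : (r : ℝ) * 3 < 2 ^ r - 1 := by
      have h := hgrow r hr5
      have h' : (((3 * r + 2 : ℕ)) : ℝ) < ((2 ^ r : ℕ) : ℝ) := Nat.cast_lt.2 h
      push_cast at h'
      linarith
    exact absurd (h1.trans h2) (not_le.2 (pow_lt_pow_left₀ h3 (by positivity) hφ))
  · -- `r ^ 2 ∣ n`
    have hn' : r ∣ r ^ (k + 1) * d := (dvd_pow_self r k.succ_ne_zero).mul_right d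
    have hexp := congrArg (eval (2 : ℝ)) (cyclotomic_expand_eq_cyclotomic hr hn' ℝ)
    rw [expand_eval, show r ^ (k + 1) * d * r = n by rw [← hkd, pow_succ r (k + 1)]; ring, hR] at hexp
    have hφ : (r ^ (k + 1) * d).totient ≠ 0 := (Nat.totient_pos.2 (Nat.mul_pos (pow_pos hr.pos _) hd0)).ne'
    have h1 : (2 : ℝ) ^ r - 1 ≤ r := by
      have h : (1 : ℝ) ≤ 2 ^ r - 1 := by
        have : (2 : ℝ) ^ 1 ≤ 2 ^ r := pow_le_pow_right₀ one_le_two hr.one_lt.le
        linarith
      exact (le_self_pow₀ h hφ).trans ((sub_one_pow_totient_le_cyclotomic_eval h2r _).trans hexp.le)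
    have h2 : (r : ℝ) + 1 < 2 ^ r := by
      have h : r + 1 < 2 ^ r := by
        rcases eq_or_ne r 3 with rfl | h
        · norm_num
        · have := hgrow r (by omega); omega
      exact_mod_cast h
    linarith

end Cfsg.Agent.LEZsig
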