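import Cfsg.Prelude.Def_Local
import Cfsg.Prelude.Def_CaseTheorems
import Cfsg.Agent.Lib.TwoGroups.NormalFour
import Cfsg.Agent.Lib.TwoGroups.CyclicMax
import Cfsg.Agent.Lib.Components.Basic
import Cfsg.Agent.S0111

/-!
If a four-group `U` normalizes a perfect group `A` and the subgroup generated by the normalizers in
`A` of the nontrivial subgroups of `U` has 2-rank one, then `A` has 2-rank one.
-/

set_option autoImplicit false
set_option linter.style.haveILetI false

namespace Cfsg.Agent.KleinGammaRank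

open Subgroup
open scoped commutatorElement Pointwise

/-- A subgroup of exponent two and order four is `{1, z, t, z t}`. -/
theorem mem_four {G : Type*} [Group G] [Finite G] {V : Subgroup G} (hV : Nat.card V = 4) {z t : G}
    (hz : z ∈ V) (ht : t ∈ V) (hz1 : z ≠ 1) (ht1 : t ≠ 1) (hne : t ≠ z) (hzz : z * z = 1)
    {v : G} (hv : v ∈ V) : v = 1 ∨ v = z ∨ v = t ∨ v = z * t := by
  classical
  let F : Finset G := {1, z, t, z * t}
  have h1 : z * t ≠ 1 := fun h => hne (mul_left_cancel (h.trans hzz.symm))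
  have h2 : z * t ≠ z := fun h => ht1 (mul_eq_left.1 h)
  have h3 : z * t ≠ t := fun h => hz1 (mul_eq_right.1 h)
  have hF : F.card = 4 := by
    simp [F, hz1.symm, ht1.symm, h1.symm, hne.symm, h2.symm, h3.symm]
  letI := Fintype.ofFinite G
  have hsub : F ⊆ (V : Set G).toFinset := by
    intro x hx
    simp only [F, Finset.mem_insert, Finset.mem_singleton] at hx
    rw [Set.mem_toFinset]
    rcases hx with rfl | rfl | rfl | rfl
    · exact one_mem V
    · exact hz
    · exact ht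
    · exact mul_mem hz ht
  have heq := Finset.eq_of_subset_of_card_le hsub (by
    rw [hF, Set.toFinset_card, Fintype.card_eq_nat_card]; exact hV.le)
  have : v ∈ F := by rw [heq, Set.mem_toFinset]; exact hv
  simpa [F] using this

/-- In a cyclic 2-group, every element that is not of square one generates the element of order
four. -/
theorem four_mem_zpowers {G : Type*} [Group G] {a c : G} {n : ℕ} (hn : orderOf a = 2 ^ (n + 2))
    (hc : c ∈ zpowers a) (hcc : c * c ≠ 1) : a ^ (2 ^ n) ∈ zpowers c := by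
  obtain ⟨k, rfl⟩ := hc
  obtain ⟨v, hv, hvk⟩ : ∃ v ≤ n + 2, Int.gcd k (2 ^ (n + 2) : ℕ) = 2 ^ v :=
    (Nat.dvd_prime_pow Nat.prime_two).1 (Int.natCast_dvd_natCast.1 (Int.gcd_dvd_right _ _))
  have hvn : v ≤ n := by
    by_contra h
    apply hcc
    show a ^ k * a ^ k = 1
    have hd : ((2 ^ (n + 1) : ℕ) : ℤ) ∣ k := by
      have h1 : ((2 ^ v : ℕ) : ℤ) ∣ k := hvk ▸ Int.gcd_dvd_left _ _
      exact (Int.natCast_dvd_natCast.2 (pow_dvd_pow 2 (by omega))).trans h1
    obtain ⟨d, hd⟩ := hd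
    rw [← zpow_add, ← orderOf_dvd_iff_zpow_eq_one, hn, hd]
    exact ⟨d, by push_cast; ring⟩
  refine mem_zpowers_iff.2 ⟨Int.gcdA k (2 ^ (n + 2) : ℕ) * (2 ^ (n - v) : ℕ), ?_⟩
  show (a ^ k) ^ _ = _
  have hb : ((2 ^ v : ℕ) : ℤ) = k * Int.gcdA k (2 ^ (n + 2) : ℕ) +
      ((2 ^ (n + 2) : ℕ) : ℤ) * Int.gcdB k (2 ^ (n + 2) : ℕ) := by
    rw [← hvk]; exact Int.gcd_eq_gcd_ab _ _
  rw [← zpow_mul, ← zpow_natCast a (2 ^ n)]
  have hd : ((2 ^ n : ℕ) : ℤ) = ((2 ^ v : ℕ) : ℤ) * ((2 ^ (n - v) : ℕ) : ℤ) := by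
    rw [← Nat.cast_mul, ← pow_add, Nat.add_sub_cancel' hvn]
  have h0 : a ^ ((2 ^ (n + 2) : ℕ) : ℤ) = 1 := by
    rw [zpow_natCast, ← hn, pow_orderOf_eq_one]
  rw [hd, hb, add_mul, zpow_add,
    mul_assoc ((2 ^ (n + 2) : ℕ) : ℤ), zpow_mul a ((2 ^ (n + 2) : ℕ) : ℤ), h0, one_zpow, mul_one,
    mul_assoc]

/-- A normal subgroup of a 2-group containing no normal four-subgroup is cyclic or has a normal
cyclic subgroup of index two whose elements of order four are inverted outside it. -/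
theorem structure_of_no_normal_four {S : Type*} [Group S] [Finite S] (hS : IsPGroup 2 S)
    (T : Subgroup S) [T.Normal]
    (hno : ∀ V : Subgroup S, V.Normal → V ≤ T → Nat.card V = 4 → (∀ v ∈ V, v * v = 1) → False) :
    (∃ a : S, T = zpowers a) ∨ ∃ a : S, ∃ n : ℕ, zpowers a ≤ T ∧ (zpowers a).Normal ∧
      orderOf a = 2 ^ (n + 2) ∧
      (∀ x ∈ T, x ∉ zpowers a → ∀ y ∈ T, y ∉ zpowers a → x⁻¹ * y ∈ zpowers a) ∧
      (∀ x ∈ T, x ∉ zpowers a → x * a ^ (2 ^ n) * x⁻¹ = (a ^ (2 ^ n))⁻¹) := by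
  classical
  haveI : Fact (Nat.Prime 2) := ⟨Nat.prime_two⟩
  have hno' : ∀ N : Subgroup S, N.Normal → N ≤ T → (∀ v ∈ N, v * v = 1) → Nat.card N ≤ 2 := by
    intro N hN hNT h2
    by_contra h
    haveI := hN
    obtain ⟨k, hk⟩ := IsPGroup.iff_card.1 (hS.to_subgroup N)
    have h4 : 4 ≤ Nat.card N := by
      rw [hk] at h ⊢
      rcases k with _ | _ | k
      · norm_num at h
      · norm_num at h
      · calc 4 = 2 ^ 2 := by norm_num
          _ ≤ _ := Nat.pow_le_pow_right two_pos (by omega)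
    obtain ⟨V, hVn, hVle, hV⟩ := NormalFour.exists_normal_four_le hS h2 h4
    exact hno V hVn (hVle.trans hNT) hV (fun v hv => h2 v (hVle hv))
  obtain ⟨A, ⟨hAn, hAT, hAc⟩, hmax⟩ := Set.Finite.exists_maximal
    (s := {A : Subgroup S | A.Normal ∧ A ≤ T ∧ ∀ x ∈ A, ∀ y ∈ A, x * y = y * x})
    (Set.toFinite _) ⟨⊥, inferInstance, bot_le, fun x hx y hy => by
      rw [mem_bot] at hx hy; rw [hx, hy]⟩
  haveI := hAn
  letI : CommGroup A := { (inferInstance : Group A) with
    mul_comm := fun x y => Subtype.ext (hAc x x.2 y y.2) }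
  set Ω := ((powMonoidHom 2 : A →* A).ker).map A.subtype with hΩ
  have hΩ2 : ∀ v ∈ Ω, v * v = 1 := by
    rintro _ ⟨b, hb, rfl⟩
    have : b ^ 2 = 1 := hb
    rw [pow_two] at this
    exact congrArg Subtype.val this
  have hΩn : Ω.Normal := ⟨by
    rintro _ ⟨b, hb, rfl⟩ g
    refine ⟨⟨g * b * g⁻¹, hAn.conj_mem _ b.2 g⟩, Subtype.ext ?_, rfl⟩
    show (g * (b : S) * g⁻¹) ^ 2 = 1
    rw [conj_pow, pow_two, show (b : S) * b = 1 from hΩ2 _ ⟨b, hb, rfl⟩, mul_one, mul_inv_cancel]⟩
  have hker : Nat.card (powMonoidHom 2 : A →* A).ker ≤ 2 := by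
    rw [Nat.card_congr (Subgroup.equivMapOfInjective _ _ A.subtype_injective).toEquiv]
    exact hno' Ω hΩn (fun v hv => by obtain ⟨b, -, rfl⟩ := hv; exact hAT b.2) hΩ2
  haveI := NormalFour.isCyclic_of_sqrt_le_two (hS.to_subgroup A) hker
  obtain ⟨g₀, hg₀⟩ := IsCyclic.exists_generator (α := A)
  set a : S := (g₀ : S)
  have hAa : A = zpowers a := le_antisymm (fun x hx => by
    obtain ⟨i, hi⟩ := hg₀ ⟨x, hx⟩
    exact ⟨i, congrArg Subtype.val hi⟩) (zpowers_le.2 g₀.2)
  -- self-centralizing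
  have hself : ∀ x ∈ T, x * a = a * x → x ∈ A := by
    intro x hx hxa
    by_contra hxA
    let C : Subgroup S := T ⊓ centralizer (A : Set S)
    haveI : C.Normal := by infer_instance
    haveI : (C.map (QuotientGroup.mk' A)).Normal :=
      Subgroup.Normal.map inferInstance _ (QuotientGroup.mk'_surjective A)
    have hxC : x ∈ C := ⟨hx, mem_centralizer_iff.2 fun b hb => by
      rw [hAa] at hb
      obtain ⟨i, rfl⟩ := hb
      exact ((show Commute x a from hxa).zpow_right i).eq.symm⟩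
    have hne : C.map (QuotientGroup.mk' A) ≠ ⊥ := fun h => hxA <| by
      rw [Subgroup.map_eq_bot_iff, QuotientGroup.ker_mk'] at h
      exact h hxC
    obtain ⟨w, hw, hwo, hwc⟩ := NormalFour.exists_central_mem (hS.to_quotient A) hne
    obtain ⟨y, hy, rfl⟩ := hw
    let M := A ⊔ zpowers y
    have hMn : M.Normal := ⟨fun v hv g => by
      have hmk : ∀ v ∈ M, QuotientGroup.mk' A v ∈ zpowers (QuotientGroup.mk' A y) := by
        intro v hv
        have := mem_map_of_mem (QuotientGroup.mk' A) hv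
        rwa [Subgroup.map_sup, QuotientGroup.map_mk'_self, bot_sup_eq, MonoidHom.map_zpowers] at this
      obtain ⟨i, hi⟩ := hmk v hv
      have h1 : QuotientGroup.mk' A (g * v * g⁻¹) = QuotientGroup.mk' A (y ^ i) := by
        rw [map_mul, map_mul, map_inv, map_zpow, ← hi]
        show _ * QuotientGroup.mk' A y ^ i * _ = QuotientGroup.mk' A y ^ i
        rw [mem_center_iff.1 (zpow_mem hwc i), mul_inv_cancel_right]
      rw [QuotientGroup.mk'_apply, QuotientGroup.mk'_apply, eq_comm, QuotientGroup.eq] at h1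
      have h2 := mul_mem_sup (zpow_mem (mem_zpowers y) i) h1
      rw [sup_comm] at h2
      simpa using h2⟩
    have hMT : M ≤ T := sup_le hAT (zpowers_le.2 hy.1)
    have hMc : ∀ u ∈ M, ∀ v ∈ M, u * v = v * u := by
      have hM' : M = closure ((A : Set S) ∪ {y}) := by
        rw [Subgroup.closure_union, closure_eq, ← zpowers_eq_closure]
      have hc : IsMulCommutative M := by
        rw [hM']
        refine Subgroup.isMulCommutative_closure ?_
        rintro u (hu | hu) v (hv | hv)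
        · exact hAc u hu v hv
        · rw [Set.mem_singleton_iff.1 hv]; exact mem_centralizer_iff.1 hy.2 u hu
        · rw [Set.mem_singleton_iff.1 hu]; exact (mem_centralizer_iff.1 hy.2 v hv).symm
        · rw [Set.mem_singleton_iff.1 hu, Set.mem_singleton_iff.1 hv]
      exact fun u hu v hv => congrArg Subtype.val (hc.is_comm.comm ⟨u, hu⟩ ⟨v, hv⟩)
    have hyA : y ∈ A := (hmax ⟨hMn, hMT, hMc⟩ (le_sup_left : A ≤ M))
      (le_sup_right (a := A) (mem_zpowers y))
    have h1 : QuotientGroup.mk' A y = 1 := (QuotientGroup.eq_one_iff y).2 hyA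
    rw [h1, orderOf_one] at hwo
    norm_num at hwo
  obtain ⟨m, hm⟩ := IsPGroup.iff_orderOf.1 hS a
  by_cases hm2 : m ≤ 1
  · refine Or.inl ⟨a, le_antisymm (fun x hx => hAa ▸ hself x hx ?_) (hAa ▸ hAT)⟩
    have hord : orderOf a ≤ 2 := by
      rw [hm]; exact (Nat.pow_le_pow_right two_pos hm2).trans_eq (pow_one 2)
    have h1 : x * a * x⁻¹ ∈ A := hAn.conj_mem a (hAa ▸ mem_zpowers a) x
    rw [hAa, mem_zpowers_iff_mem_range_orderOf] at h1
    simp only [Finset.mem_image, Finset.mem_range] at h1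
    obtain ⟨i, hi, hia⟩ := h1
    have hi1 : i = 0 ∨ i = 1 := by omega
    rcases hi1 with rfl | rfl
    · rw [pow_zero, eq_comm, conj_eq_one_iff] at hia
      rw [hia, mul_one, one_mul]
    · rw [pow_one] at hia
      exact mul_inv_eq_iff_eq_mul.1 hia.symm
  obtain ⟨n, rfl⟩ : ∃ n, m = n + 2 := ⟨m - 2, by omega⟩
  refine Or.inr ⟨a, n, hAa ▸ hAT, hAa ▸ hAn, hm, ?_⟩
  set e := a ^ (2 ^ n)
  have hzero : ∀ c : ℤ, (2 : ℤ) ^ (n + 2) ∣ c → a ^ c = 1 := fun c hc => by
    rw [← orderOf_dvd_iff_zpow_eq_one, hm]; exact_mod_cast hc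
  have hzero' : ∀ c : ℤ, a ^ c = 1 → (2 : ℤ) ^ (n + 2) ∣ c := fun c hc => by
    rw [← orderOf_dvd_iff_zpow_eq_one, hm] at hc; exact_mod_cast hc
  have hexp : ∀ g : S, ∃ i : ℤ, g * a * g⁻¹ = a ^ i ∧ ¬ (2 : ℤ) ∣ i := by
    intro g
    have h1 := hAn.conj_mem a (hAa ▸ mem_zpowers a) g
    rw [hAa] at h1
    obtain ⟨i, hi⟩ := h1
    refine ⟨i, hi.symm, fun h2 => ?_⟩
    obtain ⟨j, rfl⟩ := h2
    have h3 : (g * a * g⁻¹) ^ ((2 : ℤ) ^ (n + 1)) = 1 := by
      rw [← (show a ^ (2 * j) = g * a * g⁻¹ from hi), ← zpow_mul]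
      exact hzero _ ⟨j, by rw [pow_succ (2 : ℤ) (n + 1)]; ring⟩
    rw [conj_zpow, conj_eq_one_iff] at h3
    have h4 := Int.le_of_dvd (by positivity) (hzero' _ h3)
    have : (0 : ℤ) < 2 ^ (n + 1) := by positivity
    rw [pow_succ (2 : ℤ) (n + 1)] at h4
    linarith
  have hconj : ∀ g : S, g * e * g⁻¹ = e ∨ g * e * g⁻¹ = e⁻¹ := by
    intro g
    obtain ⟨i, hi, hodd⟩ := hexp g
    have h1 : g * e * g⁻¹ = e ^ i := by
      show g * a ^ (2 ^ n) * g⁻¹ = (a ^ (2 ^ n)) ^ i
      rw [← conj_pow, hi, ← zpow_natCast (a ^ i), ← zpow_natCast a, ← zpow_mul, ← zpow_mul, mul_comm]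
    obtain ⟨k, hk | hk⟩ : ∃ k, i = 4 * k + 1 ∨ i = 4 * k - 1 :=
      ⟨(i + 1) / 4, by omega⟩
    all_goals
      have h4 : e ^ (4 : ℤ) = 1 := by
        show (a ^ (2 ^ n)) ^ (4 : ℤ) = 1
        rw [← zpow_natCast a, ← zpow_mul]
        exact hzero _ ⟨1, by push_cast; ring⟩
    · left; rw [h1, hk, zpow_add, zpow_mul, h4, one_zpow, one_mul, zpow_one]
    · right; rw [h1, hk, zpow_sub, zpow_mul, h4, one_zpow, one_mul, zpow_one]
  -- nothing in `T` outside `A` centralizes `e`
  have hT1 : ∀ x ∈ T, x * e * x⁻¹ = e → x ∈ zpowers a := by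
    intro x hxT hxe
    by_contra hxA
    have heA : e ∈ A := hAa ▸ pow_mem (mem_zpowers a) _
    have hin : ∀ g : S, g * e * g⁻¹ = e⁻¹ → g * e⁻¹ * g⁻¹ = e := fun g h => by
      rw [← conj_inv, h, inv_inv]
    let C : Subgroup S := T ⊓ centralizer ({e} : Set S)
    have hCn : C.Normal := ⟨fun v hv g => ⟨Subgroup.Normal.conj_mem ‹T.Normal› v hv.1 g, by
      show g * v * g⁻¹ ∈ centralizer ({e} : Set S)
      rw [mem_centralizer_singleton_iff]
      have hv2 : v * e = e * v := mem_centralizer_singleton_iff.1 hv.2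
      rcases hconj g⁻¹ with h | h <;> rw [inv_inv] at h
      · calc g * v * g⁻¹ * e = g * v * (g⁻¹ * e * g) * g⁻¹ := by group
          _ = g * (v * e) * g⁻¹ := by rw [h]; group
          _ = g * (e * v) * g⁻¹ := by rw [hv2]
          _ = g * (g⁻¹ * e * g) * v * g⁻¹ := by rw [h]; group
          _ = _ := by group
      · have hv3 : v * e⁻¹ = e⁻¹ * v := ((show Commute v e from hv2).inv_right).eq
        calc g * v * g⁻¹ * e = g * v * (g⁻¹ * e * g) * g⁻¹ := by group
          _ = g * (v * e⁻¹) * g⁻¹ := by rw [h]; group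
          _ = g * (e⁻¹ * v) * g⁻¹ := by rw [hv3]
          _ = g * (g⁻¹ * e * g) * v * g⁻¹ := by rw [h]; group
          _ = _ := by group⟩⟩
    haveI := hCn
    haveI : (C.map (QuotientGroup.mk' A)).Normal :=
      Subgroup.Normal.map inferInstance _ (QuotientGroup.mk'_surjective A)
    have hne : C.map (QuotientGroup.mk' A) ≠ ⊥ := fun h => hxA <| by
      rw [Subgroup.map_eq_bot_iff, QuotientGroup.ker_mk'] at h
      exact hAa ▸ h ⟨hxT, mem_centralizer_singleton_iff.2 (mul_inv_eq_iff_eq_mul.1 hxe)⟩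
    obtain ⟨w, hw, hwo, hwc⟩ := NormalFour.exists_central_mem (hS.to_quotient A) hne
    obtain ⟨y, hy, rfl⟩ := hw
    have hyA : y ∉ A := fun h => by
      rw [show QuotientGroup.mk' A y = 1 from (QuotientGroup.eq_one_iff y).2 h, orderOf_one] at hwo
      norm_num at hwo
    have hyy : y * y ∈ A := by
      refine (QuotientGroup.eq_one_iff _).1 ?_
      show QuotientGroup.mk' A (y * y) = 1
      rw [map_mul, ← pow_two, ← hwo, pow_orderOf_eq_one]
    rw [hAa] at hyy
    obtain ⟨l, hl⟩ := hyy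
    have hl' : a ^ l = y * y := hl
    obtain ⟨i, hi, -⟩ := hexp y
    have hye : y * e * y⁻¹ = e := mul_inv_eq_iff_eq_mul.2 (mem_centralizer_singleton_iff.1 hy.2)
    -- `i = 1` modulo `4`
    have hi4 : (4 : ℤ) ∣ i - 1 := by
      have h1 : e ^ (i - 1) = 1 := by
        rw [zpow_sub, zpow_one, mul_inv_eq_one]
        show (a ^ (2 ^ n)) ^ i = a ^ (2 ^ n)
        nth_rewrite 2 [show a ^ (2 ^ n) = y * a ^ (2 ^ n) * y⁻¹ from hye.symm]
        rw [← conj_pow, hi, ← zpow_natCast a, ← zpow_natCast (a ^ i), ← zpow_mul, ← zpow_mul, mul_comm]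
      have h2 := hzero' ((2 ^ n : ℕ) * (i - 1)) (by rw [zpow_mul, zpow_natCast]; exact h1)
      push_cast at h2
      rw [pow_add, show (2 : ℤ) ^ 2 = 4 by norm_num] at h2
      exact (mul_dvd_mul_iff_left (by positivity)).1 h2
    have hsq : (2 : ℤ) ^ (n + 2) ∣ i * i - 1 := by
      refine hzero' _ ?_
      rw [zpow_sub, zpow_one, mul_inv_eq_one, zpow_mul, ← hi, conj_zpow, ← hi]
      calc y * (y * a * y⁻¹) * y⁻¹ = (y * y) * a * (y * y)⁻¹ := by group
        _ = a := by rw [← hl', mul_inv_eq_iff_eq_mul]; exact ((Commute.refl a).zpow_left l).eq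
    have hi1 : ¬ (2 : ℤ) ^ (n + 2) ∣ i - 1 := by
      intro h
      refine hyA (hself y hy.1 (mul_inv_eq_iff_eq_mul.1 ?_))
      rw [hi, ← mul_inv_eq_one, ← zpow_neg_one, ← zpow_add, ← sub_eq_add_neg]
      exact hzero _ h
    obtain ⟨c, hc⟩ : (2 : ℤ) ^ (n + 1) ∣ i - 1 := by
      rcases CentFour.modEq_of_sq_modEq_one (m := n + 2) (by omega) hsq with h | h
      · simpa using h
      · simp only [show n + 2 - 1 = n + 1 by omega] at h
        rcases Nat.eq_zero_or_pos n with rfl | hn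
        · simpa using dvd_trans (by norm_num) hi4
        · exfalso
          have h4' : (4 : ℤ) ∣ i + 1 := (dvd_trans ⟨2 ^ (n - 1), by
            rw [show (4 : ℤ) = 2 ^ 2 by norm_num, ← pow_add]; congr 1; omega⟩ h)
          omega
    have hn1 : 1 ≤ n := by
      rcases Nat.eq_zero_or_pos n with rfl | hn
      · exact absurd (by simpa using hi4) hi1
      · exact hn
    obtain ⟨n', rfl⟩ : ∃ n', n = n' + 1 := ⟨n - 1, by omega⟩
    -- `l` is even
    obtain ⟨l', hl2⟩ : (2 : ℤ) ∣ l := by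
      have h1 : (2 : ℤ) ^ (n' + 1 + 2) ∣ i * l - l := by
        refine hzero' _ ?_
        rw [zpow_sub, mul_inv_eq_one, zpow_mul, ← hi, conj_zpow, hl']
        group
      rw [show i * l - l = 2 ^ (n' + 1 + 1) * (c * l) by linear_combination l * hc,
        pow_succ (2 : ℤ) (n' + 1 + 1)] at h1
      have h2 := (mul_dvd_mul_iff_left (by positivity)).1 h1
      rcases Int.prime_two.dvd_mul.1 h2 with h3 | h3
      · exfalso; refine hi1 ?_
        rw [hc, pow_succ (2 : ℤ) (n' + 1 + 1)]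
        exact mul_dvd_mul_left _ h3
      · exact h3
    -- an involution outside `A`
    have hco : IsCoprime (1 + 2 ^ (n' + 1) * c) ((2 : ℤ) ^ (n' + 2)) :=
      IsCoprime.pow_right ⟨1, -(2 ^ n' * c), by ring⟩
    obtain ⟨p, q, hpq⟩ := hco
    set k := -(l' * p) with hk
    set t := a ^ k * y with ht
    have hsqr : ∀ j : ℤ, (a ^ j * y) * (a ^ j * y) = a ^ (j * (1 + i) + l) := by
      intro j
      have h2 : (a ^ i) ^ j = y * a ^ j * y⁻¹ := by rw [← hi, conj_zpow]
      calc a ^ j * y * (a ^ j * y) = a ^ j * (y * a ^ j * y⁻¹) * (y * y) := by group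
        _ = a ^ j * (a ^ i) ^ j * a ^ l := by rw [h2, hl']
        _ = _ := by rw [← zpow_mul, ← zpow_add, ← zpow_add]; congr 1; ring
    have htt : t * t = 1 := by
      rw [ht, hsqr]; refine hzero _ ⟨l' * q, ?_⟩
      have hi' : i = 1 + 2 ^ (n' + 1 + 1) * c := by linear_combination hc
      rw [hk, hi', hl2]
      linear_combination (-2 * l') * hpq
    have htA : t ∉ A := fun h => hyA <| by
      have := mul_mem (inv_mem (zpow_mem (hAa ▸ mem_zpowers a : a ∈ A) k)) h
      rwa [ht, inv_mul_cancel_left] at this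
    set z := e * e with hz
    have hzA : z ∈ A := mul_mem heA heA
    have heN : (a ^ (2 ^ (n' + 1 : ℕ))) = e := rfl
    have hzpow : z = a ^ ((2 : ℤ) ^ (n' + 1 + 1)) := by
      rw [hz, show e = a ^ (((2 ^ (n' + 1) : ℕ) : ℤ)) by rw [zpow_natCast], ← zpow_add]
      push_cast; congr 1; ring
    have hzz : z * z = 1 := by
      rw [hzpow, ← zpow_add]; exact hzero _ ⟨1, by ring⟩
    have hz1 : z ≠ 1 := fun h => by
      rw [hzpow] at h
      have := Int.le_of_dvd (by positivity) (hzero' _ h)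
      have : (0 : ℤ) < 2 ^ (n' + 1 + 1) := by positivity
      rw [pow_succ (2 : ℤ) (n' + 1 + 1)] at *
      linarith
    have hzc : ∀ g : S, g * z = z * g := by
      intro g
      rw [← mul_inv_eq_iff_eq_mul]
      have he4 : e⁻¹ * e⁻¹ = e * e := by
        rw [← mul_inv_rev, inv_eq_iff_mul_eq_one]; exact hzz
      rcases hconj g with h | h
      · calc g * z * g⁻¹ = (g * e * g⁻¹) * (g * e * g⁻¹) := by rw [hz]; group
          _ = z := by rw [h]
      · calc g * z * g⁻¹ = (g * e * g⁻¹) * (g * e * g⁻¹) := by rw [hz]; group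
          _ = z := by rw [h, he4]
    have htc : t * z = z * t := hzc t
    have htz : t ∉ zpowers z := fun h => htA ((zpowers_le.2 hzA) h)
    have hVk := TwoFus.isKleinFour_of_pair hzz htt htc hz1 htz
    set V := closure ({z, t} : Set S) with hV
    have hV4 : Nat.card V = 4 := hVk.card_four
    have hzV : z ∈ V := subset_closure (by simp)
    have htV : t ∈ V := subset_closure (by simp)
    have htT : t ∈ T := mul_mem (zpow_mem (hAT (hAa ▸ mem_zpowers a)) k) hy.1
    refine hno V ?_ (closure_le T |>.2 fun v hv => ?_) hV4 fun v hv => ?_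
    · refine ⟨fun v hv g => ?_⟩
      have key : g * t * g⁻¹ ∈ V := by
        -- the image of `t` is again an involution of the coset
        have h1 : (g * t * g⁻¹) * y⁻¹ ∈ A := by
          refine (QuotientGroup.eq_one_iff _).1 ?_
          show QuotientGroup.mk' A (g * t * g⁻¹ * y⁻¹) = 1
          have hty : QuotientGroup.mk' A t = QuotientGroup.mk' A y := by
            rw [ht, map_mul, show QuotientGroup.mk' A (a ^ k) = 1 from
              (QuotientGroup.eq_one_iff _).2 (hAa ▸ zpow_mem (mem_zpowers a) k), one_mul]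
          rw [map_mul, map_mul, map_mul, map_inv, map_inv, hty, mem_center_iff.1 hwc,
            mul_inv_cancel_right, mul_inv_cancel]
        rw [hAa] at h1
        obtain ⟨j, hj⟩ := h1
        have hj' : a ^ j * y = g * t * g⁻¹ := by
          rw [show a ^ j = g * t * g⁻¹ * y⁻¹ from hj]; group
        have h2 : a ^ (j * (1 + i) + l) = 1 := by
          rw [← hsqr, hj']
          calc g * t * g⁻¹ * (g * t * g⁻¹) = g * (t * t) * g⁻¹ := by group
            _ = 1 := by rw [htt]; group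
        have h3 : (2 : ℤ) ^ (n' + 1 + 2) ∣ (j - k) * (1 + i) := by
          have h4 : a ^ (k * (1 + i) + l) = 1 := by rw [← hsqr]; exact htt
          have := dvd_sub (hzero' _ h2) (hzero' _ h4)
          rwa [show j * (1 + i) + l - (k * (1 + i) + l) = (j - k) * (1 + i) by ring] at this
        have hi' : i = 1 + 2 ^ (n' + 1 + 1) * c := by linear_combination hc
        rw [hi', show (j - k) * (1 + (1 + 2 ^ (n' + 1 + 1) * c)) = 2 * ((j - k) * (1 + 2 ^ (n' + 1) * c)) by ring,
          show (2 : ℤ) ^ (n' + 1 + 2) = 2 * 2 ^ (n' + 2) by ring] at h3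
        obtain ⟨d, hd⟩ := (IsCoprime.dvd_of_dvd_mul_right
          (show IsCoprime ((2 : ℤ) ^ (n' + 2)) (1 + 2 ^ (n' + 1) * c) from ⟨q, p, by linear_combination hpq⟩)
          ((mul_dvd_mul_iff_left (by norm_num)).1 h3))
        have h5 : a ^ (j - k) ∈ V := by
          rw [hd, zpow_mul, show (2 : ℤ) ^ (n' + 2) = 2 ^ (n' + 1 + 1) by ring, ← hzpow]
          exact zpow_mem hzV d
        have h6 := mul_mem h5 htV
        rwa [ht, ← mul_assoc, ← zpow_add, sub_add_cancel, hj'] at h6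
      rcases mem_four hV4 hzV htV hz1 (fun h => htA (h ▸ one_mem A))
        (fun h => htA (h ▸ hzA)) hzz hv with rfl | rfl | rfl | rfl
      · simp
      · rw [hzc g, mul_inv_cancel_right]; exact hzV
      · exact key
      · rw [show g * (z * t) * g⁻¹ = (g * z * g⁻¹) * (g * t * g⁻¹) by group, hzc g,
          mul_inv_cancel_right]
        exact mul_mem hzV key
    · rcases hv with rfl | rfl
      exacts [hAT hzA, htT]
    · have := hVk.exponent_two
      have h := Monoid.pow_exponent_eq_one (⟨v, hv⟩ : V)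
      rw [this, pow_two] at h
      exact congrArg Subtype.val h
  have hinv : ∀ x ∈ T, x ∉ zpowers a → x * e * x⁻¹ = e⁻¹ := fun x hx hxa =>
    (hconj x).resolve_left fun h => hxa (hT1 x hx h)
  refine ⟨fun x hx hxa y hy hya => hT1 _ (mul_mem (inv_mem hx) hy) ?_, hinv⟩
  calc x⁻¹ * y * e * (x⁻¹ * y)⁻¹ = x⁻¹ * (y * e * y⁻¹) * x := by group
    _ = x⁻¹ * (x * e * x⁻¹) * x := by rw [hinv y hy hya, hinv x hx hxa]
    _ = e := by group

/-- If `T` is a 2-subgroup of `K` of largest order then every 2-subgroup of `K` is conjugate into it. -/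
theorem adjust {G : Type*} [Group G] [Finite G] {K T Q : Subgroup G} (hTK : T ≤ K)
    (hT : IsPGroup 2 T) (hmax : ∀ R : Subgroup G, R ≤ K → IsPGroup 2 R → Nat.card R ≤ Nat.card T)
    (hQK : Q ≤ K) (hQ : IsPGroup 2 Q) : ∃ c ∈ K, ∀ q ∈ Q, c * q * c⁻¹ ∈ T := by
  haveI : Fact (Nat.Prime 2) := ⟨Nat.prime_two⟩
  obtain ⟨P, hP⟩ := (hT.comap_subtype (K := K)).exists_le_sylow
  obtain ⟨R, hR⟩ := (hQ.comap_subtype (K := K)).exists_le_sylow
  have hPT : (P : Subgroup K).map K.subtype = T := by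
    refine (Subgroup.eq_of_le_of_card_ge ?_ (hmax _ (map_subtype_le _) (P.2.map K.subtype))).symm
    intro x hx
    exact ⟨⟨x, hTK hx⟩, hP hx, rfl⟩
  obtain ⟨g, hg⟩ := MulAction.exists_smul_eq K R P
  refine ⟨g, g.2, fun q hq => ?_⟩
  have h1 : MulAut.conj g ⟨q, hQK hq⟩ ∈ (g • R : Sylow 2 K).1 :=
    Subgroup.smul_mem_pointwise_smul _ _ _ (hR (show (⟨q, hQK hq⟩ : K) ∈ Q.subgroupOf K from hq))
  rw [hg] at h1
  rw [← hPT]
  exact ⟨_, h1, rfl⟩

variable {G : Type*} [Group G] [Finite G]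

theorem exists_ne_one_of_ne_bot (U : Subgroup G) (h : U ≠ ⊥) : ∃ b ∈ U, b ≠ 1 := by
  by_contra h'
  push Not at h'
  exact h ((eq_bot_iff_forall U).2 h')

theorem main (A : Subgroup G) (hA : ⁅A, A⁆ = A)
    (U : Subgroup G) (hU : IsKleinFour U) (hUA : U ≤ normalizer (A : Set G))
    (hΓ : ∀ u ∈ U, u ≠ 1 → ∀ z ∈ A, ∀ t ∈ A, z * z = 1 → t * t = 1 → z * t = t * z →
      u * z = z * u → u * t = t * u → z ≠ 1 → t ≠ 1 → t ≠ z → False) :
    Cfsg.PRankLE 2 1 A := by
  classical
  haveI : Fact (Nat.Prime 2) := ⟨Nat.prime_two⟩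
  haveI := hU
  have hUp : IsPGroup 2 U := IsPGroup.of_card_dvd_pow (n := 2) (by rw [hU.card_four]; norm_num)
  have hU2 : ∀ u ∈ U, u * u = 1 := by
    intro u hu
    have h := Monoid.pow_exponent_eq_one (⟨u, hu⟩ : U)
    rw [hU.exponent_two, pow_two] at h
    exact congrArg Subtype.val h
  obtain ⟨u1, u2, hu1, hu2, h11, h21, h12⟩ : ∃ u1 u2 : G, u1 ∈ U ∧ u2 ∈ U ∧ u1 ≠ 1 ∧ u2 ≠ 1 ∧
      u1 ≠ u2 := by
    obtain ⟨b, hb, hbne⟩ := exists_ne_one_of_ne_bot U (fun h => by
      have := hU.card_four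
      rw [h, card_bot] at this; norm_num at this)
    obtain ⟨c, hc, hc'⟩ := Set.exists_mem_notMem_of_ncard_lt_ncard
      (s := ({1, b} : Set G)) (t := (U : Set G)) (by
        rw [← Nat.card_coe_set_eq (U : Set G)]
        exact lt_of_le_of_lt (Set.ncard_insert_le _ _) (by
          rw [Set.ncard_singleton]; exact (show 2 < Nat.card U by rw [hU.card_four]; norm_num)))
    simp only [Set.mem_insert_iff, Set.mem_singleton_iff, not_or] at hc'
    exact ⟨b, c, hb, hc, hbne, hc'.1, fun h => hc'.2 h.symm⟩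
  have h3 : u1 * u2 ≠ 1 := fun h => h12 (mul_left_cancel ((hU2 u1 hu1).trans h.symm))
  -- an invariant Sylow subgroup
  set H₀ := A ⊔ U with hH₀
  have hH₀N : H₀ ≤ normalizer (A : Set G) := sup_le le_normalizer hUA
  obtain ⟨P₀, hP₀⟩ := (hUp.comap_subtype (K := H₀)).exists_le_sylow
  set S := (P₀ : Subgroup H₀).map H₀.subtype with hSdef
  have hSp : IsPGroup 2 S := P₀.2.map _
  have hSH : S ≤ H₀ := map_subtype_le _
  have hUS : U ≤ S := fun u hu => ⟨⟨u, le_sup_right (a := A) hu⟩, hP₀ hu, rfl⟩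
  have hSmax : ∀ R : Subgroup G, R ≤ H₀ → IsPGroup 2 R → Nat.card R ≤ Nat.card S := by
    intro R hR hRp
    obtain ⟨P, hP⟩ := (hRp.comap_subtype (K := H₀)).exists_le_sylow
    rw [hSdef, Nat.card_congr (equivMapOfInjective _ _ H₀.subtype_injective).symm.toEquiv,
      ← Sylow.card_eq_multiplicity P₀ |>.trans (Sylow.card_eq_multiplicity P).symm |>.symm,
      ← Nat.card_congr (subgroupOfEquivOfLe hR).toEquiv]
    exact card_le_of_le hP
  set T := A ⊓ S with hT
  have hTp : IsPGroup 2 T := hSp.to_le inf_le_right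
  have hTA : T ≤ A := inf_le_left
  have hTmax : ∀ R : Subgroup G, R ≤ A → IsPGroup 2 R → Nat.card R ≤ Nat.card T := by
    intro R hR hRp
    obtain ⟨c, hc, hcR⟩ := adjust hSH hSp hSmax (hR.trans le_sup_left) hRp
    refine Nat.card_le_card_of_injective
      (fun r : R => (⟨c * r * c⁻¹, ⟨(mem_normalizer_iff.1 (hH₀N hc) r).1 (hR r.2), hcR r r.2⟩⟩ : T)) ?_
    intro r r' h
    exact Subtype.ext (mul_left_cancel (mul_right_cancel (congrArg Subtype.val h)))
  have hTinv : ∀ g ∈ S, ∀ x ∈ T, g * x * g⁻¹ ∈ T := fun g hg x hx =>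
    ⟨(mem_normalizer_iff.1 (hH₀N (hSH hg)) x).1 hx.1, S.mul_mem (S.mul_mem hg hx.2) (S.inv_mem hg)⟩
  haveI hTn : (T.subgroupOf S).Normal := ⟨fun x hx g => by
    rw [mem_subgroupOf] at hx ⊢
    simpa using hTinv g g.2 x hx⟩
  -- no invariant four-subgroup
  have hno : ∀ V : Subgroup S, V.Normal → V ≤ T.subgroupOf S → Nat.card V = 4 →
      (∀ v ∈ V, v * v = 1) → False := by
    intro V hVn hVT hV4 hV2
    haveI := hVn
    obtain ⟨z, hzV, hzo, hzc⟩ := NormalFour.exists_central_mem hSp (N := V)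
      (fun h => by rw [h, card_bot] at hV4; norm_num at hV4)
    have hz1 : z ≠ 1 := fun h => by rw [h, orderOf_one] at hzo; norm_num at hzo
    obtain ⟨t, htV, htz⟩ : ∃ t ∈ V, t ∉ zpowers z := by
      by_contra h
      push Not at h
      have := card_le_of_le (show V ≤ zpowers z from h)
      rw [hV4, Nat.card_zpowers, hzo] at this
      omega
    have ht1 : t ≠ 1 := fun h => htz (h ▸ one_mem _)
    have htne : t ≠ z := fun h => htz (h ▸ mem_zpowers z)
    have key : ∀ g : S, g * t * g⁻¹ = t ∨ g * t * g⁻¹ = z * t := by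
      intro g
      rcases mem_four hV4 hzV htV hz1 ht1 htne (hV2 z hzV) (hVn.conj_mem t htV g) with h | h | h | h
      · exact absurd (conj_eq_one_iff.1 h) ht1
      · refine absurd ?_ htne
        calc t = g⁻¹ * (g * t * g⁻¹) * g := by group
          _ = g⁻¹ * (z * g) := by rw [h]; group
          _ = z := by rw [← mem_center_iff.1 hzc g, inv_mul_cancel_left]
      · exact Or.inl h
      · exact Or.inr h
    obtain ⟨u, hu, hune, hut⟩ : ∃ u, ∃ hu : u ∈ U, u ≠ 1 ∧
        (⟨u, hUS hu⟩ : S) * t * (⟨u, hUS hu⟩ : S)⁻¹ = t := by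
      rcases key ⟨u1, hUS hu1⟩ with h | h
      · exact ⟨u1, hu1, h11, h⟩
      rcases key ⟨u2, hUS hu2⟩ with h' | h'
      · exact ⟨u2, hu2, h21, h'⟩
      refine ⟨u1 * u2, mul_mem hu1 hu2, h3, ?_⟩
      set g1 : S := ⟨u1, hUS hu1⟩
      set g2 : S := ⟨u2, hUS hu2⟩
      show g1 * g2 * t * (g1 * g2)⁻¹ = t
      calc g1 * g2 * t * (g1 * g2)⁻¹ = g1 * (g2 * t * g2⁻¹) * g1⁻¹ := by group
        _ = (g1 * z * g1⁻¹) * (g1 * t * g1⁻¹) := by rw [h']; group
        _ = t := by rw [h, mem_center_iff.1 hzc g1, mul_inv_cancel_right, ← mul_assoc, hV2 z hzV,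
          one_mul]
    have hval : ∀ {x y : S}, x = y → (x : G) = y := fun h => congrArg Subtype.val h
    refine hΓ u hu hune z (hTA (hVT hzV)) t (hTA (hVT htV)) ?_ ?_ ?_ ?_ ?_ ?_ ?_ ?_
    · exact_mod_cast hval (hV2 z hzV)
    · exact_mod_cast hval (hV2 t htV)
    · exact_mod_cast hval (mem_center_iff.1 hzc t).symm
    · exact (show ((⟨u, hUS hu⟩ : S) : G) * (z : G) = (z : G) * u from
        congrArg Subtype.val (mem_center_iff.1 hzc ⟨u, hUS hu⟩))
    · exact congrArg Subtype.val (mul_inv_eq_iff_eq_mul.1 hut)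
    · exact fun h => hz1 (Subtype.ext h)
    · exact fun h => ht1 (Subtype.ext h)
    · exact fun h => htne (Subtype.ext h)
  intro E hEc hE2
  haveI := hEc
  by_contra hE
  push Not at hE
  -- two commuting involutions in `T`
  have hEG : IsPGroup 2 (E.map A.subtype) :=
    (show IsPGroup 2 E from fun e => ⟨1, Subtype.ext (by simpa using hE2 e e.2)⟩).map _
  obtain ⟨c, hc, hcE⟩ := adjust hTA hTp hTmax (map_subtype_le E) hEG
  have hET : ∃ E' : Subgroup G, E' ≤ T ∧ 2 < Nat.card E' ∧ ∀ x ∈ E', x * x = 1 := by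
    refine ⟨(E.map A.subtype).map (MulAut.conj c).toMonoidHom, ?_, ?_, ?_⟩
    · rintro _ ⟨x, hx, rfl⟩; exact hcE x hx
    · rw [← Nat.card_congr (equivMapOfInjective _ _ (MulEquiv.injective _)).toEquiv,
        ← Nat.card_congr (equivMapOfInjective _ _ A.subtype_injective).toEquiv]
      simpa using hE
    · rintro _ ⟨_, ⟨x, hx, rfl⟩, rfl⟩
      rw [← map_mul, ← map_mul, ← pow_two x, hE2 x hx, map_one, map_one]
  obtain ⟨E', hE'T, hE'c, hE'2⟩ := hET
  rcases structure_of_no_normal_four hSp (T.subgroupOf S) hno with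
    ⟨a, ha⟩ | ⟨a, n, haT, han, hao, hidx, hinv⟩
  · -- cyclic
    have hTc : T = zpowers (a : G) := by
      have := congrArg (Subgroup.map S.subtype) ha
      rwa [map_subgroupOf_eq_of_le (hT ▸ inf_le_right : T ≤ S), MonoidHom.map_zpowers] at this
    haveI : IsCyclic T := hTc ▸ inferInstance
    haveI : IsCyclic E' := isCyclic_of_le hE'T
    have : Nat.card E' ∣ 2 := by
      rw [← IsCyclic.exponent_eq_card]
      exact Monoid.exponent_dvd_of_forall_pow_eq_one fun x => Subtype.ext (by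
        simpa [pow_two] using hE'2 x x.2)
    have := Nat.le_of_dvd two_pos this
    omega
  -- dihedral or semidihedral: contradiction
  have haG : (a : G) ∈ T := haT (mem_zpowers a)
  set b : G := (a : G) with hb
  set C := zpowers b with hC
  have hCT : C ≤ T := zpowers_le.2 haG
  have hbo : orderOf b = 2 ^ (n + 2) := by rw [hb, orderOf_coe]; exact hao
  have hmemC : ∀ x : S, (x : G) ∈ C ↔ x ∈ zpowers a := by
    intro x
    constructor
    · rintro ⟨i, hi⟩
      exact ⟨i, Subtype.ext (by simpa using hi)⟩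
    · rintro ⟨i, rfl⟩
      exact ⟨i, by simp [hb]⟩
  have hCinv : ∀ g ∈ S, ∀ x ∈ C, g * x * g⁻¹ ∈ C := by
    intro g hg x hx
    have hxS : x ∈ S := (hCT hx).2
    exact (hmemC (⟨g, hg⟩ * ⟨x, hxS⟩ * ⟨g, hg⟩⁻¹)).2
      (han.conj_mem _ ((hmemC ⟨x, hxS⟩).1 hx) _)
  set e : G := b ^ (2 ^ n) with he
  have heC : e ∈ C := pow_mem (mem_zpowers b) _
  have heT : e ∈ T := hCT heC
  have hidx' : ∀ x ∈ T, x ∉ C → ∀ y ∈ T, y ∉ C → x⁻¹ * y ∈ C := fun x hx hxC y hy hyC =>
    (hmemC (⟨x, hx.2⟩⁻¹ * ⟨y, hy.2⟩)).2 (hidx ⟨x, hx.2⟩ hx (mt (hmemC ⟨x, hx.2⟩).2 hxC) ⟨y, hy.2⟩ hy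
      (mt (hmemC ⟨y, hy.2⟩).2 hyC))
  have hinv' : ∀ x ∈ T, x ∉ C → x * e * x⁻¹ = e⁻¹ := fun x hx hxC =>
    congrArg Subtype.val (hinv ⟨x, hx.2⟩ hx (mt (hmemC ⟨x, hx.2⟩).2 hxC))
  set z : G := e * e with hz
  have hzC : z ∈ C := mul_mem heC heC
  have he4 : e * e * (e * e) = 1 := by
    rw [show e * e * (e * e) = e ^ 4 by simp only [pow_succ, pow_zero, one_mul, mul_assoc], he, ← pow_mul, show 2 ^ n * 4 = 2 ^ (n + 2) by ring,
      ← hbo, pow_orderOf_eq_one]
  have hz1 : z ≠ 1 := by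
    intro h
    rw [hz, he, ← pow_add, ← orderOf_dvd_iff_pow_eq_one, hbo] at h
    have := Nat.le_of_dvd (by positivity) h
    have : 0 < 2 ^ n := by positivity
    rw [pow_add] at *
    omega
  have hee : e ≠ e⁻¹ := fun h => hz1 (by rw [hz]; nth_rewrite 1 [h]; rw [inv_mul_cancel])
  have hCsq : ∀ x ∈ C, x * x = 1 → x = 1 ∨ x = z := by
    intro x hx hxx
    obtain ⟨i, rfl⟩ := hx
    simp only at hxx ⊢
    rw [← zpow_add, ← orderOf_dvd_iff_zpow_eq_one, hbo] at hxx
    obtain ⟨d, hd⟩ : ((2 ^ (n + 1) : ℕ) : ℤ) ∣ i := by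
      refine (mul_dvd_mul_iff_left (two_ne_zero (α := ℤ))).1 ?_
      rw [two_mul i]
      have h2 : ((2 ^ (n + 2) : ℕ) : ℤ) = 2 * ((2 ^ (n + 1) : ℕ) : ℤ) := by push_cast; ring
      rwa [h2] at hxx
    have hzi : z = b ^ ((2 ^ (n + 1) : ℕ) : ℤ) := by
      rw [zpow_natCast, hz, he, ← pow_add]; congr 1; ring
    have hz2 : z ^ (2 : ℤ) = 1 := by rw [zpow_two]; exact he4
    rw [show b ^ i = z ^ d by rw [hzi, ← zpow_mul, hd]]
    rcases Int.even_or_odd' d with ⟨k, rfl | rfl⟩
    · left; rw [zpow_mul, hz2, one_zpow]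
    · right; rw [zpow_add, zpow_mul, hz2, one_zpow, one_mul, zpow_one]
  have hzcent : ∀ g ∈ S, g * z = z * g := by
    intro g hg
    rcases hCsq (g * z * g⁻¹) (hCinv g hg z hzC) (by
      rw [show g * z * g⁻¹ * (g * z * g⁻¹) = g * (z * z) * g⁻¹ by group, hz, he4]; group) with h | h
    · exact absurd (conj_eq_one_iff.1 h) hz1
    · exact mul_inv_eq_iff_eq_mul.1 h
  -- centralizers in `T` of involutions outside `C`
  have hcentT : ∀ t ∈ T, t ∉ C → t * t = 1 → ∀ y ∈ T, y * t = t * y →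
      y = 1 ∨ y = z ∨ y = t ∨ y = z * t := by
    intro t ht htC htt y hy hyt
    have hCt : ∀ x ∈ C, x * t = t * x → x = 1 ∨ x = z := by
      intro x hx hxt
      by_contra h
      have hxx : x * x ≠ 1 := fun h' => h (hCsq x hx h')
      have h1 : Commute t e := by
        obtain ⟨i, hi⟩ := four_mem_zpowers hbo hx hxx
        rw [he, ← (show x ^ i = b ^ 2 ^ n from hi)]
        exact (show Commute t x from hxt.symm).zpow_right i
      have h2 := hinv' t ht htC
      rw [h1.eq, mul_inv_cancel_right] at h2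
      exact hee h2
    by_cases hyC : y ∈ C
    · rcases hCt y hyC hyt with h | h
      · exact Or.inl h
      · exact Or.inr (Or.inl h)
    have h1 := hidx' t ht htC y hy hyC
    have hti : t⁻¹ = t := inv_eq_of_mul_eq_one_right htt
    rw [hti] at h1
    have h2 : (t * y) * t = t * (t * y) := by rw [mul_assoc, hyt]
    rcases hCt _ h1 h2 with h | h
    · exact Or.inr (Or.inr (Or.inl (by
        rw [← mul_left_cancel (h.trans htt.symm)])))
    · refine Or.inr (Or.inr (Or.inr ?_))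
      calc y = t * (t * y) := by rw [← mul_assoc, htt, one_mul]
        _ = z * t := by rw [h, hzcent t ht.2]
  -- an involution outside `C` conjugate to `z`
  obtain ⟨s, hsT, hsC, hss⟩ : ∃ s ∈ T, s ∉ C ∧ s * s = 1 := by
    by_contra h
    push Not at h
    have hsub : (E' : Set G) ⊆ {1, z} := fun x hx =>
      hCsq x (by by_contra hxC; exact h x (hE'T hx) hxC (hE'2 x hx)) (hE'2 x hx)
    have := Set.ncard_le_ncard hsub (Set.toFinite _)
    rw [← Nat.card_coe_set_eq] at this
    have h2 : ({1, z} : Set G).ncard ≤ 2 := (Set.ncard_insert_le _ _).trans (by simp)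
    exact absurd (this.trans h2) (by simpa using hE'c)
  have hs1 : s ≠ 1 := fun h => hsC (h ▸ one_mem C)
  have hsz : s ≠ z := fun h => hsC (h ▸ hzC)
  have hzs : z * s = s * z := (hzcent s hsT.2).symm
  -- fusion
  obtain ⟨g, hgA, hgs⟩ : ∃ g ∈ A, g * s * g⁻¹ = z := by
    obtain ⟨P, hP⟩ := (hTp.comap_subtype (K := A)).exists_le_sylow
    have hPT : (P : Subgroup A) = T.subgroupOf A := by
      refine (Subgroup.eq_of_le_of_card_ge hP ?_).symm
      show Nat.card (P : Subgroup A) ≤ Nat.card (T.subgroupOf A)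
      rw [Nat.card_congr (subgroupOfEquivOfLe hTA).toEquiv,
        Nat.card_congr (equivMapOfInjective _ _ A.subtype_injective).toEquiv]
      exact hTmax _ (map_subtype_le _) (P.2.map _)
    have hrel : (C.subgroupOf A).relIndex (P : Subgroup A) = 2 := by
      rw [hPT, relIndex_subgroupOf hTA, relIndex, index_eq_two_iff]
      refine ⟨⟨s, hsT⟩, fun y => ?_⟩
      simp only [mem_subgroupOf, coe_mul]
      by_cases hy : (y : G) ∈ C
      · exact Or.inr ⟨hy, fun h => hsC ((mul_mem_cancel_left hy).1 h)⟩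
      · refine Or.inl ⟨?_, hy⟩
        have h1 := hidx' _ (inv_mem y.2) (mt inv_mem_iff.1 hy) s hsT hsC
        rwa [inv_inv] at h1
    rcases Cfsg.Agent.S0111.result P (C.subgroupOf A) (hPT ▸ fun x hx => hCT hx) hrel ⟨s, hTA hsT⟩
      (by rw [← orderOf_coe]; exact orderOf_eq_prime (by rw [pow_two]; exact hss) hs1)
      (hPT ▸ hsT) hsC with ⟨M, hMn, hMi, -⟩ | ⟨g, hg⟩
    · exfalso
      haveI := hMn
      have hle : commutator A ≤ M := by
        rw [_root_.commutator_def, commutator_le]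
        intro x _ y _
        refine (QuotientGroup.eq_one_iff _).1 ?_
        haveI : IsCyclic (A ⧸ M) := isCyclic_of_prime_card (p := 2) hMi
        letI : CommGroup (A ⧸ M) := IsCyclic.commGroup
        show QuotientGroup.mk' M ⁅x, y⁆ = 1
        rw [map_commutatorElement, commutatorElement_def, mul_inv_eq_one,
          mul_inv_eq_iff_eq_mul, mul_comm]
      have htop : commutator A = ⊤ := by
        refine Subgroup.map_injective A.subtype_injective ?_
        rw [_root_.commutator_def, Subgroup.map_commutator, ← MonoidHom.range_eq_map, range_subtype, hA]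
      rw [htop, top_le_iff] at hle
      rw [hle, index_top] at hMi
      norm_num at hMi
    · refine ⟨g, g.2, ?_⟩
      rcases hCsq (g * s * (g : G)⁻¹) (by simpa [mem_subgroupOf] using hg) (by
        rw [show (g : G) * s * (g : G)⁻¹ * ((g : G) * s * (g : G)⁻¹) = g * (s * s) * (g : G)⁻¹ by group,
          hss]; group) with h | h
      · exact absurd (conj_eq_one_iff.1 h) hs1
      · exact h
  -- an element of `A` centralizing `s` and moving `z`
  obtain ⟨x, hxA, hxs, hxz⟩ : ∃ x ∈ A, x * s * x⁻¹ = s ∧ x * z * x⁻¹ = s * z := by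
    have hTK : T ≤ A ⊓ centralizer ({z} : Set G) := fun y hy =>
      ⟨hy.1, mem_centralizer_singleton_iff.2 (hzcent y hy.2)⟩
    set Q := zpowers z ⊔ zpowers (g * z * g⁻¹) with hQ
    have hgz : Commute z (g * z * g⁻¹) := by
      have h1 : Commute (g * s * g⁻¹) (g * z * g⁻¹) := by
        show _ * _ = _ * _
        calc g * s * g⁻¹ * (g * z * g⁻¹) = g * (s * z) * g⁻¹ := by group
          _ = g * (z * s) * g⁻¹ := by rw [hzs]
          _ = _ := by group
      rwa [hgs] at h1
    have hQK : Q ≤ A ⊓ centralizer ({z} : Set G) := sup_le (zpowers_le.2 (hTK (hCT hzC)))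
      (zpowers_le.2 ⟨A.mul_mem (A.mul_mem hgA (hTA (hCT hzC))) (A.inv_mem hgA),
        mem_centralizer_singleton_iff.2 hgz.eq.symm⟩)
    have hzz : z * z = 1 := he4
    have hQp : IsPGroup 2 Q := by
      have h1 : IsPGroup 2 (zpowers z) := IsPGroup.of_card_dvd_pow (n := 1) (by
        rw [Nat.card_zpowers]; exact orderOf_dvd_of_pow_eq_one (by rw [pow_one, pow_two, hzz]))
      have h2 : IsPGroup 2 (zpowers (g * z * g⁻¹)) := IsPGroup.of_card_dvd_pow (n := 1) (by
        rw [Nat.card_zpowers]; exact orderOf_dvd_of_pow_eq_one (by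
          rw [pow_one, conj_pow, pow_two, hzz, mul_one, mul_inv_cancel]))
      refine h1.to_sup_of_normal_right' h2 ?_
      rw [zpowers_le]
      refine centralizer_le_normalizer _ (mem_centralizer_iff.2 fun y hy => ?_)
      obtain ⟨i, rfl⟩ := hy
      exact (hgz.zpow_right i).eq.symm
    obtain ⟨c, hc, hcQ⟩ := adjust hTK hTp (fun R hR hRp => hTmax R (hR.trans inf_le_left) hRp) hQK hQp
    set h := c * g with hhdef
    have hhs : h * s * h⁻¹ = z := by
      calc h * s * h⁻¹ = c * (g * s * g⁻¹) * c⁻¹ := by rw [hhdef]; group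
        _ = z := by rw [hgs, mem_centralizer_singleton_iff.1 hc.2, mul_inv_cancel_right]
    set t := h * z * h⁻¹ with ht
    have htT : t ∈ T := by
      have := hcQ _ (le_sup_right (a := zpowers z) (mem_zpowers (g * z * g⁻¹)))
      rwa [show c * (g * z * g⁻¹) * c⁻¹ = t by rw [ht, hhdef]; group] at this
    have htt : t * t = 1 := by
      rw [ht, show h * z * h⁻¹ * (h * z * h⁻¹) = h * (z * z) * h⁻¹ by group, hzz]; group
    have htC : t ∉ C := fun h' => by
      rcases hCsq t h' htt with h'' | h''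
      · exact hz1 (conj_eq_one_iff.1 h'')
      · exact hsz (mul_left_cancel (mul_right_cancel (hhs.trans h''.symm)))
    have het : e * t * e⁻¹ = z * t := by
      have h1 := hinv' t htT htC
      have h2 : t * e⁻¹ = e * t := by
        have := congrArg Inv.inv h1
        rw [conj_inv, inv_inv] at this
        exact mul_inv_eq_iff_eq_mul.1 this
      rw [mul_assoc, h2, hz, mul_assoc]
    have hhA : h ∈ A := mul_mem hc.1 hgA
    refine ⟨h⁻¹ * e * h, mul_mem (mul_mem (inv_mem hhA) (hTA heT)) hhA, ?_, ?_⟩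
    · calc h⁻¹ * e * h * s * (h⁻¹ * e * h)⁻¹ = h⁻¹ * (e * (h * s * h⁻¹) * e⁻¹) * h := by group
        _ = h⁻¹ * z * h := by rw [hhs, hz]; group
        _ = s := by rw [← hhs]; group
    · calc h⁻¹ * e * h * z * (h⁻¹ * e * h)⁻¹ = h⁻¹ * (e * t * e⁻¹) * h := by rw [ht]; group
        _ = (h⁻¹ * z * h) * (h⁻¹ * t * h) := by rw [het]; group
        _ = s * z := by rw [ht, ← hhs]; group
  -- the element `u`
  obtain ⟨u, hu, hune, hue⟩ : ∃ u ∈ U, u ≠ 1 ∧ u * e * u⁻¹ = e := by
    have hc : ∀ u ∈ U, u * e * u⁻¹ = e ∨ u * e * u⁻¹ = e⁻¹ := by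
      intro u hu
      have h1 := hCinv u (hUS hu) e heC
      have h2 : u * e * u⁻¹ * (u * e * u⁻¹) = e * e := by
        rw [show u * e * u⁻¹ * (u * e * u⁻¹) = u * z * u⁻¹ by rw [hz]; group, hzcent u (hUS hu),
          mul_inv_cancel_right, hz]
      have h12 : e * (u * e * u⁻¹) = (u * e * u⁻¹) * e := by
        obtain ⟨i, hi⟩ := h1
        rw [← (show b ^ i = u * e * u⁻¹ from hi), he]
        exact (((Commute.refl b).zpow_right i).pow_left _).eq
      rcases hCsq (e * (u * e * u⁻¹)) (mul_mem heC h1) (by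
        rw [show e * (u * e * u⁻¹) * (e * (u * e * u⁻¹)) =
          e * ((u * e * u⁻¹) * e) * (u * e * u⁻¹) by group, ← h12,
          show e * (e * (u * e * u⁻¹)) * (u * e * u⁻¹) = (e * e) * ((u * e * u⁻¹) * (u * e * u⁻¹)) by group,
          h2, he4]) with h | h
      · exact Or.inr (eq_inv_of_mul_eq_one_right h)
      · exact Or.inl (mul_left_cancel h)
    rcases hc u1 hu1 with h | h
    · exact ⟨u1, hu1, h11, h⟩
    rcases hc u2 hu2 with h' | h'
    · exact ⟨u2, hu2, h21, h'⟩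
    refine ⟨u1 * u2, mul_mem hu1 hu2, h3, ?_⟩
    calc u1 * u2 * e * (u1 * u2)⁻¹ = u1 * (u2 * e * u2⁻¹) * u1⁻¹ := by group
      _ = (u1 * e * u1⁻¹)⁻¹ := by rw [h']; group
      _ = e := by rw [h, inv_inv]
  have huu := hU2 u hu
  have hui : u⁻¹ = u := inv_eq_of_mul_eq_one_right huu
  have hzz : z * z = 1 := he4
  have hus : u * s * u⁻¹ = z * s := by
    set s' := u * s * u⁻¹ with hs'
    have hs'T : s' ∈ T := hTinv u (hUS hu) s hsT
    have hs'C : s' ∉ C := fun h => hsC <| by
      have := hCinv u (hUS hu) s' h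
      rwa [show u * s' * u⁻¹ = (u * u) * s * (u * u)⁻¹ by rw [hs']; group, huu, inv_one, one_mul,
        mul_one] at this
    have hs's' : s'⁻¹ = s' := inv_eq_of_mul_eq_one_right (by
      rw [hs', show u * s * u⁻¹ * (u * s * u⁻¹) = u * (s * s) * u⁻¹ by group, hss]; group)
    have hδ : s' * s ∈ C := hs's' ▸ hidx' s' hs'T hs'C s hsT hsC
    have hδu : u * (s' * s) * u⁻¹ = (s' * s)⁻¹ := by
      rw [mul_inv_rev, inv_eq_of_mul_eq_one_right hss, hs's', hs']
      calc u * (u * s * u⁻¹ * s) * u⁻¹ = (u * u) * s * u⁻¹ * s * u⁻¹ := by group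
        _ = _ := by rw [huu, hui]; group
    rcases hCsq (s' * s) hδ (by
      by_contra hne
      obtain ⟨i, hi⟩ := four_mem_zpowers hbo hδ hne
      have h1 : u * e * u⁻¹ = e⁻¹ := by
        rw [he, ← (show (s' * s) ^ i = b ^ 2 ^ n from hi), ← conj_zpow, hδu, inv_zpow]
      exact hee (hue.symm.trans h1)) with h | h
    · exfalso
      refine hΓ u hu hune z (hTA (hCT hzC)) s (hTA hsT) hzz hss hzs (hzcent u (hUS hu)) ?_ hz1 hs1 hsz
      refine mul_inv_eq_iff_eq_mul.1 ?_
      show s' = s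
      exact mul_right_cancel (h.trans hss.symm)
    · calc s' = (s' * s) * s := by rw [mul_assoc, hss, mul_one]
        _ = z * s := by rw [h]
  set w := u * e⁻¹ with hw
  have hue' : Commute u e := mul_inv_eq_iff_eq_mul.1 hue
  have hww : w * w = z := by
    calc w * w = u * (e⁻¹ * u) * e⁻¹ := by rw [hw]; group
      _ = (u * u) * (e⁻¹ * e⁻¹) := by rw [← hue'.inv_right.eq]; group
      _ = z := by rw [huu, one_mul, ← mul_inv_rev, hz, inv_eq_of_mul_eq_one_right he4]
  have hes : e * s * e⁻¹ = z * s := by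
    have h1 := hinv' s hsT hsC
    have h2 : s * e⁻¹ = e * s := by
      have := congrArg Inv.inv h1
      rw [conj_inv, inv_inv] at this
      exact mul_inv_eq_iff_eq_mul.1 this
    rw [mul_assoc, h2, hz, mul_assoc]
  have hwS : w ∈ S := mul_mem (hUS hu) (inv_mem heT.2)
  have hwz : w * z = z * w := hzcent w hwS
  have hws : w * s = s * w := by
    rw [← mul_inv_eq_iff_eq_mul]
    have h1 : e⁻¹ * s * e = z * s := by
      calc e⁻¹ * s * e = e⁻¹ * (z * (z * s)) * e := by rw [← mul_assoc z, hzz, one_mul]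
        _ = (e⁻¹ * z * e) * (e⁻¹ * (e * s * e⁻¹) * e) := by rw [hes]; group
        _ = z * s := by rw [mul_assoc e⁻¹ z, ← hzcent e heT.2, inv_mul_cancel_left]; group
    calc w * s * w⁻¹ = u * (e⁻¹ * s * e) * u⁻¹ := by rw [hw]; group
      _ = (u * z * u⁻¹) * (u * s * u⁻¹) := by rw [h1]; group
      _ = s := by rw [hzcent u (hUS hu), mul_inv_cancel_right, hus, ← mul_assoc, hzz, one_mul]
  -- the contradiction
  set H := A ⊔ zpowers u with hH
  have hHN : H ≤ normalizer (A : Set G) := sup_le le_normalizer (zpowers_le.2 (hUA hu))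
  set K := H ⊓ (centralizer ({z} : Set G) ⊓ centralizer ({s} : Set G)) with hK
  have hmemK : ∀ k, k ∈ K ↔ k ∈ H ∧ k * z = z * k ∧ k * s = s * k := fun k => by
    simp [hK, mem_centralizer_singleton_iff]
  set V := closure ({z, s} : Set G) with hV
  have hVk := TwoFus.isKleinFour_of_pair hzz hss hzs.symm hz1
    (fun h => hsC ((zpowers_le.2 hzC) h))
  have hV4 : Nat.card V = 4 := hVk.card_four
  have hzV : z ∈ V := subset_closure (by simp)
  have hsV : s ∈ V := subset_closure (by simp)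
  have hVmem : ∀ v ∈ V, v = 1 ∨ v = z ∨ v = s ∨ v = z * s := fun v hv =>
    mem_four hV4 hzV hsV hz1 hs1 hsz hzz hv
  have hVA : V ≤ A := (closure_le A).2 (by
    rintro v (rfl | rfl)
    exacts [hTA (hCT hzC), hTA hsT])
  have hVK : V ≤ K := (closure_le K).2 (by
    rintro v (rfl | rfl)
    · exact (hmemK _).2 ⟨mem_sup_left (hTA (hCT hzC)), rfl, hzs⟩
    · exact (hmemK _).2 ⟨mem_sup_left (hTA hsT), hzs.symm, rfl⟩)
  have hwK : w ∈ K := (hmemK w).2
    ⟨mul_mem (le_sup_right (a := A) (mem_zpowers u)) (mem_sup_left (inv_mem (hTA heT))), hwz, hws⟩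
  have hbound : ∀ R : Subgroup G, R ≤ K → IsPGroup 2 R → Nat.card R ≤ 8 := by
    intro R hRK hRp
    have h1 : Nat.card (R ⊓ A : Subgroup G) ≤ 4 := by
      set Q := (R ⊓ A) ⊔ V with hQ
      have hQA : Q ≤ A := sup_le inf_le_right hVA
      have hcomm : ∀ q ∈ R ⊓ A, q * z = z * q ∧ q * s = s * q := fun q hq =>
        ((hmemK q).1 (hRK hq.1)).2
      have hQp : IsPGroup 2 Q := by
        refine (hRp.to_le inf_le_left).to_sup_of_normal_right'
          (IsPGroup.of_card_dvd_pow (n := 2) (by rw [hV4]; norm_num)) ?_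
        intro q hq
        refine centralizer_le_normalizer _ (mem_centralizer_iff.2 fun v hv => ?_)
        obtain ⟨hqz, hqs⟩ := hcomm q hq
        rcases hVmem v hv with rfl | rfl | rfl | rfl
        · simp
        · exact hqz.symm
        · exact hqs.symm
        · exact ((show Commute q z from hqz).mul_right hqs).eq.symm
      obtain ⟨c, hc, hcQ⟩ := adjust hTA hTp hTmax hQA hQp
      have hczT := hcQ z (le_sup_right (a := R ⊓ A) hzV)
      have hcsT := hcQ s (le_sup_right (a := R ⊓ A) hsV)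
      set z' := c * z * c⁻¹
      set s' := c * s * c⁻¹
      have hz'z' : z' * z' = 1 := by
        rw [show z' * z' = c * (z * z) * c⁻¹ by simp only [z']; group, hzz]; group
      have hs's' : s' * s' = 1 := by
        rw [show s' * s' = c * (s * s) * c⁻¹ by simp only [s']; group, hss]; group
      obtain ⟨t, ht, htC, htt, htcomm⟩ : ∃ t ∈ T, t ∉ C ∧ t * t = 1 ∧
          ∀ q ∈ R ⊓ A, (c * q * c⁻¹) * t = t * (c * q * c⁻¹) := by
        have hconjc : ∀ q v : G, q * v = v * q →
            c * q * c⁻¹ * (c * v * c⁻¹) = c * v * c⁻¹ * (c * q * c⁻¹) := fun q v h => by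
          calc c * q * c⁻¹ * (c * v * c⁻¹) = c * (q * v) * c⁻¹ := by group
            _ = _ := by rw [h]; group
        by_cases hz'C : z' ∈ C
        · refine ⟨s', hcsT, fun hs'C => ?_, hs's', fun q hq => hconjc q s (hcomm q hq).2⟩
          rcases hCsq z' hz'C hz'z' with h | h
          · exact hz1 (conj_eq_one_iff.1 h)
          · rcases hCsq s' hs'C hs's' with h' | h'
            · exact hs1 (conj_eq_one_iff.1 h')
            · exact hsz (mul_left_cancel (mul_right_cancel (h'.trans h.symm)))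
        · exact ⟨z', hczT, hz'C, hz'z', fun q hq => hconjc q z (hcomm q hq).1⟩
      have hsub : ((R ⊓ A : Subgroup G) : Set G) ⊆
          (fun y => c⁻¹ * y * c) '' ({1, z, t, z * t} : Set G) := by
        intro q hq
        refine ⟨c * q * c⁻¹, ?_, by group⟩
        simpa using hcentT t ht htC htt _ (hcQ q (le_sup_left (b := V) hq)) (htcomm q hq)
      refine le_trans (le_of_eq (Nat.card_coe_set_eq _)) ((Set.ncard_le_ncard hsub (Set.toFinite _)).trans
        ((Set.ncard_image_le (Set.toFinite _)).trans ?_))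
      exact ((Set.ncard_insert_le _ _).trans (by
        have := Set.ncard_insert_le z ({t, z * t} : Set G)
        have := Set.ncard_insert_le t ({z * t} : Set G)
        simp at *; omega))
    have h2 : (R ⊓ A).relIndex R ≤ 2 := by
      rw [inf_relIndex_left]
      have h4 : A.relIndex H ≤ 2 := by
        haveI : (A.subgroupOf H).Normal := normal_subgroupOf_iff_le_normalizer (le_sup_left) |>.2 hHN
        have hsu : Nat.card (A ⊔ zpowers u : Subgroup G) ≤ Nat.card A * Nat.card (zpowers u) := by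
          have hnorm := coe_mul_of_right_le_normalizer_left A (zpowers u) (zpowers_le.2 (hUA hu))
          rw [← SetLike.coe_sort_coe, hnorm]
          exact Set.natCard_mul_le
        have h6 := card_mul_index (A.subgroupOf H)
        rw [Nat.card_congr (subgroupOfEquivOfLe (le_sup_left : A ≤ H)).toEquiv] at h6
        show A.relIndex H ≤ 2
        have h7 : Nat.card A * A.relIndex H ≤ Nat.card A * Nat.card (zpowers u) := h6.trans_le hsu
        exact (Nat.le_of_mul_le_mul_left h7 Nat.card_pos).trans (by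
          rw [Nat.card_zpowers]
          exact Nat.le_of_dvd two_pos (orderOf_dvd_of_pow_eq_one (by rw [pow_two, huu])))
      exact (relIndex_le_of_le_right (hRK.trans inf_le_left) (index_ne_zero_of_finite)).trans h4
    have h3 := card_mul_index ((R ⊓ A).subgroupOf R)
    rw [Nat.card_congr (subgroupOfEquivOfLe inf_le_left).toEquiv] at h3
    have h5 : ((R ⊓ A).subgroupOf R).index = (R ⊓ A).relIndex R := rfl
    rw [← h3, h5]
    exact (Nat.mul_le_mul h1 h2)
  set R := V ⊔ zpowers w with hR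
  have hRK : R ≤ K := sup_le hVK (zpowers_le.2 hwK)
  have hVw : zpowers w ≤ centralizer (V : Set G) := zpowers_le.2 (mem_centralizer_iff.2 fun v hv => by
    rcases hVmem v hv with rfl | rfl | rfl | rfl
    · simp
    · exact hwz.symm
    · exact hws.symm
    · exact ((show Commute w z from hwz).mul_right hws).eq.symm)
  have hRp : IsPGroup 2 R := hSp.to_le (sup_le ((closure_le S).2 (by
    rintro v (rfl | rfl)
    exacts [(hCT hzC).2, hsT.2])) (zpowers_le.2 hwS))
  have hVv : ∀ v ∈ V, v * v = 1 := fun v hv => by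
    rcases hVmem v hv with rfl | rfl | rfl | rfl
    · exact one_mul 1
    · exact hzz
    · exact hss
    · rw [mul_assoc, ← mul_assoc s, ← hzs, mul_assoc z s s, hss, mul_one, hzz]
  have hwV : w ∉ V := fun h => hz1 (hww ▸ hVv w h)
  obtain ⟨kR, hkR⟩ := IsPGroup.iff_card.1 hRp
  have hR8 : Nat.card R = 8 := by
    have hlt : Nat.card V < Nat.card R := by
      refine lt_of_le_of_ne (card_le_of_le le_sup_left) fun h => hwV ?_
      rw [eq_of_le_of_card_ge (le_sup_left : V ≤ R) h.ge]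
      exact le_sup_right (a := V) (mem_zpowers w)
    have hle := hbound R hRK hRp
    rw [hV4, hkR] at hlt
    rw [hkR] at hle ⊢
    have : kR = 3 := by
      rcases Nat.lt_or_ge kR 3 with h | h
      · interval_cases kR <;> norm_num at hlt
      rcases Nat.lt_or_ge 3 kR with h' | h'
      · exfalso
        have : 2 ^ 4 ≤ 2 ^ kR := Nat.pow_le_pow_right two_pos h'
        omega
      · omega
    rw [this]; norm_num
  have hxK : ∀ k ∈ K, x * k * x⁻¹ ∈ K := by
    intro k hk
    obtain ⟨hkH, hkz, hks⟩ := (hmemK k).1 hk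
    have hconj : ∀ v : G, k * v = v * k →
        x * k * x⁻¹ * (x * v * x⁻¹) = x * v * x⁻¹ * (x * k * x⁻¹) := fun v h => by
      calc x * k * x⁻¹ * (x * v * x⁻¹) = x * (k * v) * x⁻¹ := by group
        _ = _ := by rw [h]; group
    have h1 : Commute (x * k * x⁻¹) (s * z) := hxz ▸ hconj z hkz
    have h2 : Commute (x * k * x⁻¹) s := by
      have := hconj s hks
      rwa [hxs] at this
    refine (hmemK _).2 ⟨mul_mem (mul_mem (mem_sup_left hxA) hkH) (inv_mem (mem_sup_left hxA)), ?_, h2.eq⟩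
    have h4 := h2.mul_right h1
    rw [← mul_assoc, hss, one_mul] at h4
    exact h4.eq
  have hRmax : ∀ Q : Subgroup G, Q ≤ K → IsPGroup 2 Q → Nat.card Q ≤ Nat.card R := fun Q h1 h2 =>
    hR8 ▸ hbound Q h1 h2
  obtain ⟨c, hcK, hcR⟩ := adjust hRK hRp hRmax
    (show R.map (MulAut.conj x).toMonoidHom ≤ K by
      rintro _ ⟨r, hr, rfl⟩; exact hxK r (hRK hr)) (hRp.map _)
  set w' := c * (x * w * x⁻¹) * c⁻¹ with hw'
  have hw'R : w' ∈ R := hcR _ ⟨w, le_sup_right (a := V) (mem_zpowers w), rfl⟩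
  have hw'sq : w' * w' = s * z := by
    have h1 : c * (s * z) = (s * z) * c := by
      obtain ⟨-, hcz, hcs⟩ := (hmemK c).1 hcK
      exact ((show Commute c s from hcs).mul_right hcz).eq
    calc w' * w' = c * (x * (w * w) * x⁻¹) * c⁻¹ := by rw [hw']; group
      _ = s * z := by rw [hww, hxz, h1, mul_inv_cancel_right]
  have hsz1 : s * z ≠ 1 := fun h => hsz (mul_right_cancel (h.trans hzz.symm))
  have hw'V : w' ∉ V := fun h => hsz1 (hw'sq ▸ hVv w' h)
  have hidx2 : (V.subgroupOf R).index = 2 := by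
    have h1 := card_mul_index (V.subgroupOf R)
    rw [Nat.card_congr (subgroupOfEquivOfLe (le_sup_left : V ≤ R)).toEquiv, hV4, hR8] at h1
    omega
  have hv : w' * w ∈ V := by
    have h := (mul_mem_iff_of_index_two hidx2 (a := ⟨w', hw'R⟩)
      (b := ⟨w, le_sup_right (a := V) (mem_zpowers w)⟩)).2 ⟨fun h => absurd h hw'V, fun h => absurd h hwV⟩
    exact h
  have hcw : Commute (w' * w) w⁻¹ :=
    Commute.inv_right (mem_centralizer_iff.1 (hVw (mem_zpowers w)) _ hv)
  have : w' * w' = z := by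
    calc w' * w' = (w' * w) * w⁻¹ * ((w' * w) * w⁻¹) := by group
      _ = (w' * w) * ((w' * w) * w⁻¹) * w⁻¹ := by rw [mul_assoc (w' * w) w⁻¹, ← mul_assoc w⁻¹, ← hcw.eq]; group
      _ = ((w' * w) * (w' * w)) * (w⁻¹ * w⁻¹) := by group
      _ = z := by
        rw [hVv _ hv, one_mul, ← mul_inv_rev, hww, inv_eq_of_mul_eq_one_right hzz]
  exact hs1 (mul_eq_right.1 (hw'sq.symm.trans this))

end Cfsg.Agent.KleinGammaRank
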