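import Cfsg.Agent.Lib.LocalEven.U34Uniq
import Cfsg.Agent.Lib.Suzuki2.Free
import Cfsg.Agent.Lib.Suzuki2.TypeA
import Cfsg.Agent.Lib.Functors.Critical
import Cfsg.Agent.Lib.ConjInvol.Main

/-!
2-groups of rank two with transitively permuted involutions: no automorphism of order nine.
-/

set_option autoImplicit false

namespace Cfsg.Agent.RankTwoTrans

open Cfsg.Agent.Suzuki2
open scoped commutatorElement

universe u

variable {T : Type u} [Group T] [Finite T] {V : Subgroup T}

/-- A subgroup with squares and commutators in the four-group of involutions is small. -/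
theorem card_quotient_le (hVc : V ≤ Subgroup.center T) (hV : ∀ x : T, x ∈ V ↔ x * x = 1) (h4 : Nat.card V = 4)
    (M : Subgroup T) [(V.subgroupOf M).Normal] (hsq : ∀ x ∈ M, x * x ∈ V)
    (hcom : ∀ x ∈ M, ∀ y ∈ M, x * y * x⁻¹ * y⁻¹ ∈ V) : Nat.card (M ⧸ V.subgroupOf M) ≤ 16 := by
  classical
  set N := V.subgroupOf M with hN
  have hcen : ∀ {v : T}, v ∈ V → ∀ y, y * v = v * y := fun hv y => Subgroup.mem_center_iff.1 (hVc hv) y
  letI : CommGroup (M ⧸ N) :=
    { (inferInstance : Group (M ⧸ N)) with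
      mul_comm := fun a b => by
        obtain ⟨x, rfl⟩ := QuotientGroup.mk_surjective a
        obtain ⟨y, rfl⟩ := QuotientGroup.mk_surjective b
        rw [← QuotientGroup.mk_mul, ← QuotientGroup.mk_mul, QuotientGroup.eq, Subgroup.mem_subgroupOf]
        show ((x : T) * y)⁻¹ * (y * x) ∈ V
        have h := hcom _ (M.inv_mem y.2) _ (M.inv_mem x.2)
        rw [inv_inv, inv_inv] at h
        simpa [mul_assoc] using h }
  haveI : IsKleinFour V := ⟨h4, by
    haveI : Nontrivial V := Finite.one_lt_card_iff_nontrivial.1 (by omega)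
    refine Monoid.exponent_eq_prime_iff Nat.prime_two |>.2 fun g hg => orderOf_eq_prime ?_ hg
    rw [pow_two]
    exact Subtype.ext ((hV _).1 g.2)⟩
  haveI : IsKleinFour (Multiplicative (Fin 2 → ZMod 2)) := ⟨by simp [Nat.card_eq_fintype_card], by
    refine Monoid.exponent_eq_prime_iff Nat.prime_two |>.2 fun g hg => orderOf_eq_prime ?_ hg
    rw [pow_two]
    exact Multiplicative.toAdd.injective (funext fun i => CharTwo.add_self_eq_zero _)⟩
  obtain ⟨e⟩ : Nonempty (V ≃* Multiplicative (Fin 2 → ZMod 2)) := IsKleinFour.nonempty_mulEquiv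
  let co : T → Fin 2 → ZMod 2 := fun x => if h : x ∈ V then Multiplicative.toAdd (e ⟨x, h⟩) else 0
  have comul : ∀ v ∈ V, ∀ w ∈ V, co (v * w) = co v + co w := fun v hv w hw => by
    simp only [co, dif_pos hv, dif_pos hw, dif_pos (V.mul_mem hv hw)]
    rw [show (⟨v * w, V.mul_mem hv hw⟩ : V) = ⟨v, hv⟩ * ⟨w, hw⟩ from rfl, map_mul]
    rfl
  have co0 : ∀ v ∈ V, co v = 0 → v = 1 := fun v hv h => by
    simp only [co, dif_pos hv] at h
    exact congrArg Subtype.val ((map_eq_one_iff e e.injective).1 (Multiplicative.toAdd.injective h))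
  let qP : T → Fin 2 → ZMod 2 := fun x => co (x * x)
  let bP : T → T → Fin 2 → ZMod 2 := fun x y => co (y * x * y⁻¹ * x⁻¹)
  have hqm : ∀ x ∈ M, ∀ y ∈ M, qP (x * y) = qP x + qP y + bP x y := by
    intro x hx y hy
    have hc := hcom y hy x hx
    have e' : x * y * (x * y) = (x * x) * (y * y) * (y * x * y⁻¹ * x⁻¹) := by
      calc x * y * (x * y) = x * (y * x * y⁻¹ * x⁻¹) * (x * (y * y)) := by group
        _ = (y * x * y⁻¹ * x⁻¹) * (x * x * (y * y)) := by rw [hcen hc x]; group
        _ = _ := (hcen hc _).symm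
    show co _ = co _ + co _ + co _
    rw [e', comul _ (mul_mem (hsq x hx) (hsq y hy)) _ hc, comul _ (hsq x hx) _ (hsq y hy)]
  have hbm : ∀ x ∈ M, ∀ y ∈ M, ∀ z ∈ M, bP (x * y) z = bP x z + bP y z := by
    intro x hx y hy z hz
    have h1 := hcom z hz x hx
    have h2 := hcom z hz y hy
    have e' : z * (x * y) * z⁻¹ * (x * y)⁻¹ = (z * x * z⁻¹ * x⁻¹) * (z * y * z⁻¹ * y⁻¹) := by
      calc z * (x * y) * z⁻¹ * (x * y)⁻¹
          = z * x * z⁻¹ * ((z * y * z⁻¹ * y⁻¹) * x⁻¹) := by group
        _ = _ := by rw [← hcen h2 x⁻¹]; group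
    show co _ = co _ + co _
    rw [e', comul _ h1 _ h2]
  have hq1 : ∀ v : M, v ∈ N → ∀ x : M, qP ((x : T) * v) = qP x := by
    intro v hv x
    have hv' : (v : T) ∈ V := Subgroup.mem_subgroupOf.1 hv
    have e' : (x : T) * v * (x * v) = x * x := by
      calc (x : T) * v * (x * v) = x * ((v : T) * x) * v := by group
        _ = x * x * ((v : T) * v) := by rw [← hcen hv' x]; group
        _ = x * x := by rw [(hV _).1 hv', mul_one]
    show co _ = co _
    rw [e']
  let q : M ⧸ N → Fin 2 → ZMod 2 := fun a => qP (a.out : M)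
  have hqmk : ∀ x : M, q (x : M ⧸ N) = qP x := by
    intro x
    obtain ⟨v, hv⟩ := QuotientGroup.mk_out_eq_mul N x
    show qP _ = _
    rw [hv]
    exact hq1 v v.2 x
  let b : M ⧸ N → M ⧸ N → Fin 2 → ZMod 2 := fun a c => q (a * c) - q a - q c
  have hbmk : ∀ x y : M, b (x : M ⧸ N) y = bP x y := by
    intro x y
    show q ((x : M ⧸ N) * y) - q (x : M ⧸ N) - q (y : M ⧸ N) = _
    rw [← QuotientGroup.mk_mul, hqmk, hqmk, hqmk, Subgroup.coe_mul, hqm _ x.2 _ y.2]
    abel
  refine card_le_of_aniso (Q := M ⧸ N) (n := 2) (fun a => ?_) q b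
    (fun a c => by show _ = _ + (q (a * c) - q a - q c); abel) (fun a c d => ?_) fun a ha => ?_
  · obtain ⟨x, rfl⟩ := QuotientGroup.mk_surjective a
    rw [← QuotientGroup.mk_mul, QuotientGroup.eq_one_iff, Subgroup.mem_subgroupOf]
    exact hsq x x.2
  · obtain ⟨x, rfl⟩ := QuotientGroup.mk_surjective a
    obtain ⟨y, rfl⟩ := QuotientGroup.mk_surjective c
    obtain ⟨z, rfl⟩ := QuotientGroup.mk_surjective d
    rw [← QuotientGroup.mk_mul, hbmk, hbmk, hbmk, Subgroup.coe_mul]
    exact hbm _ x.2 _ y.2 _ z.2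
  · obtain ⟨x, rfl⟩ := QuotientGroup.mk_surjective a
    rw [hqmk] at ha
    rw [QuotientGroup.eq_one_iff, Subgroup.mem_subgroupOf, hV]
    exact co0 _ (hsq x x.2) ha

open Function in
/-- An endomorphism of a small 2-group whose ninth iterate is trivial has trivial cube. -/
theorem iterate_three {X : Type u} [Group X] [Finite X] (hX : IsPGroup 2 X) (hcard : Nat.card X ≤ 16)
    (g : X →* X) (h9 : ∀ x, g^[9] x = x) (a : X) : g^[3] a = a := by
  classical
  letI := Fintype.ofFinite X
  let F : Subgroup X :=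
    { carrier := {x | g^[3] x = x}
      one_mem' := by simp
      mul_mem' := fun {x y} (hx : g^[3] x = x) (hy : g^[3] y = y) => by
        show g^[3] (x * y) = x * y
        simp only [iterate_succ', iterate_zero, comp_apply, id_eq] at hx hy ⊢
        simp [map_mul, hx, hy]
      inv_mem' := fun {x} (hx : g^[3] x = x) => by
        show g^[3] x⁻¹ = x⁻¹
        simp only [iterate_succ', iterate_zero, comp_apply, id_eq] at hx ⊢
        simp [map_inv, hx] }
  have hper : ∀ x, x ∉ F → Set.InjOn (fun i => g^[i] x) (Set.Iio 9) := by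
    intro x hx
    have hd : minimalPeriod g x ∣ 9 := IsPeriodicPt.minimalPeriod_dvd (h9 x)
    have h9' : minimalPeriod g x = 9 := by
      obtain ⟨k, hk, hke⟩ := (Nat.dvd_prime_pow (p := 3) (m := 2) Nat.prime_three).1 hd
      interval_cases k
      · exact absurd ((isPeriodicPt_minimalPeriod g x).trans_dvd (hke ▸ one_dvd 3) : IsPeriodicPt g 3 x) hx
      · exact absurd ((isPeriodicPt_minimalPeriod g x).trans_dvd (hke ▸ (show 3 ^ 1 ∣ 3 by norm_num)) : IsPeriodicPt g 3 x) hx
      · exact hke
    exact h9' ▸ iterate_injOn_Iio_minimalPeriod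
  let O : X → Finset X := fun x => (Finset.range 9).image fun i => g^[i] x
  have hO : ∀ x, x ∉ F → (O x).card = 9 := fun x hx => by
    rw [Finset.card_image_of_injOn (by simpa using hper x hx), Finset.card_range]
  have hOF : ∀ x, x ∉ F → ∀ y ∈ O x, y ∉ F := by
    intro x hx y hy hyF
    obtain ⟨i, hi, rfl⟩ := Finset.mem_image.1 hy
    rw [Finset.mem_range] at hi
    apply hx
    show g^[3] x = x
    have h1 : g^[9 - i] (g^[3] (g^[i] x)) = g^[9 - i] (g^[i] x) := congrArg _ hyF
    rw [← iterate_add_apply, ← iterate_add_apply, ← iterate_add_apply,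
      show 9 - i + 3 + i = 3 + 9 by omega, show 9 - i + i = 9 by omega, iterate_add_apply, h9] at h1
    exact h1
  by_contra ha
  set Mv := Finset.univ.filter fun x => x ∉ F with hMv
  have hsub : O a ⊆ Mv := fun y hy => by simp [hMv, hOF a ha y hy]
  have hc1 : Mv.card + Nat.card F = Nat.card X := by
    rw [Nat.card_eq_fintype_card, Nat.card_eq_fintype_card, Fintype.card_subtype, ← Finset.card_univ,
      add_comm]
    exact Finset.card_filter_add_card_filter_not _
  haveI : Fact (Nat.Prime 2) := ⟨Nat.prime_two⟩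
  obtain ⟨m, hm⟩ := IsPGroup.iff_card.1 hX
  obtain ⟨l, hl⟩ := IsPGroup.iff_card.1 (hX.to_subgroup F)
  obtain ⟨y, hy, hyO⟩ : ∃ y ∈ Mv, y ∉ O a := by
    by_contra! hall
    have : Mv = O a := Finset.Subset.antisymm hall hsub
    rw [this, hO a ha, hl, hm] at hc1
    rw [hm] at hcard
    have hm4 : m ≤ 4 := (Nat.pow_le_pow_iff_right (le_refl 2)).1 hcard
    have hl4 : l ≤ 4 := (Nat.pow_le_pow_iff_right (le_refl 2)).1 (by omega : 2 ^ l ≤ 2 ^ 4)
    interval_cases m <;> interval_cases l <;> omega
  have hyF : y ∉ F := by simpa [hMv] using hy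
  have hdisj : Disjoint (O a) (O y) := by
    rw [Finset.disjoint_left]
    intro z hza hzy
    obtain ⟨i, hi, rfl⟩ := Finset.mem_image.1 hza
    obtain ⟨j, hj, hji⟩ := Finset.mem_image.1 hzy
    rw [Finset.mem_range] at hi hj
    refine hyO (Finset.mem_image.2 ⟨(9 - j + i) % 9, Finset.mem_range.2 (Nat.mod_lt _ (by norm_num)), ?_⟩)
    have h1 : g^[9 - j] (g^[j] y) = g^[9 - j] (g^[i] a) := congrArg _ hji
    rw [← iterate_add_apply, ← iterate_add_apply, show 9 - j + j = 9 by omega, h9] at h1
    show g^[(9 - j + i) % 9] a = y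
    rw [h1, IsPeriodicPt.iterate_mod_apply (h9 a)]
  have h18 := Finset.card_le_univ (O a ∪ O y)
  rw [Finset.card_union_of_disjoint hdisj, hO a ha, hO y hyF, ← Nat.card_eq_fintype_card] at h18
  omega

/-- An element with fixed square and fixed difference is fixed by an automorphism of order three. -/
theorem fix_step {β : MulAut T} (hβ : ∀ x, β (β (β x)) = x) (hfix : ∀ v : T, v * v = 1 → β v = v) {y : T}
    (hd : (y⁻¹ * β y) * (y⁻¹ * β y) = 1) : β y = y := by
  set d := y⁻¹ * β y with hd'
  have hy : β y = y * d := by rw [hd']; group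
  have h := hβ y
  simp only [hy, map_mul, hfix d hd, mul_assoc, hd, mul_one] at h
  rw [mul_eq_left] at h
  rw [hy, h, mul_one]

theorem no_nine (hT : IsPGroup 2 T) (hVc : V ≤ Subgroup.center T) (hV : ∀ x : T, x ∈ V ↔ x * x = 1)
    (h4 : Nat.card V = 4) (γ : MulAut T) (h9 : γ ^ 9 = 1) : γ ^ 3 = 1 := by
  classical
  haveI : Fact (Nat.Prime 2) := ⟨Nat.prime_two⟩
  set β := γ ^ 3 with hβdef
  have hβ3 : ∀ x, β (β (β x)) = x := fun x => by
    have : (β * (β * β)) x = (γ ^ 9) x := by rw [hβdef, ← pow_add, ← pow_add]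
    rwa [h9] at this
  have hit : ∀ (i : ℕ) (x : T), (γ : T → T)^[i] x = (γ ^ i) x := by
    intro i x
    induction i with
    | zero => rfl
    | succ i ih => rw [Function.iterate_succ_apply', ih, pow_succ']; rfl
  have hfix : ∀ v : T, v * v = 1 → β v = v := by
    intro v hv
    rcases eq_or_ne v 1 with rfl | hv1
    · exact map_one β
    let f : Fin 4 → {w : V // w ≠ 1} := fun i =>
      ⟨⟨(γ ^ (i : ℕ)) v, (hV _).2 (by rw [← map_mul, hv, map_one])⟩, fun h =>
        hv1 ((γ ^ (i : ℕ)).injective ((congrArg Subtype.val h).trans (map_one _).symm))⟩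
    letI := Fintype.ofFinite V
    obtain ⟨i, j, hne, hij⟩ := Fintype.exists_ne_map_eq_of_card_lt f (by
      rw [Fintype.card_fin, Fintype.card_subtype_compl, Fintype.card_subtype_eq, ← Nat.card_eq_fintype_card, h4]
      norm_num)
    have key : ∀ a b : ℕ, a < b → b < 4 → (γ ^ a) v = (γ ^ b) v → β v = v := by
      intro a b hab hb h
      have hd : Function.IsPeriodicPt (γ : T → T) (b - a) v := by
        show (γ : T → T)^[b - a] v = v
        rw [hit]
        refine (γ ^ a).injective ?_
        rw [← MulAut.mul_apply, ← pow_add, show a + (b - a) = b by omega]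
        exact h.symm
      have h9' : Function.IsPeriodicPt (γ : T → T) 9 v := by
        show (γ : T → T)^[9] v = v
        rw [hit, h9]; rfl
      have h3 : Function.IsPeriodicPt (γ : T → T) 3 v := by
        refine (hd.gcd h9').trans_dvd ?_
        have : b - a < 4 := by omega
        have : 0 < b - a := by omega
        interval_cases (b - a) <;> first | omega | decide
      have := h3.eq
      rwa [hit] at this
    have hij' : (γ ^ (i : ℕ)) v = (γ ^ (j : ℕ)) v := congrArg (fun w => ((w.1 : V) : T)) hij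
    rcases lt_or_gt_of_ne (fun e => hne (Fin.ext e) : (i : ℕ) ≠ j) with h | h
    · exact key _ _ h j.2 hij'
    · exact key _ _ h i.2 hij'.symm
  obtain ⟨H, hH⟩ := Cfsg.Agent.Critical.exists_critical hT
  haveI := hH.char
  have hZ : ∀ x ∈ H, x * x ∈ H ⊓ Subgroup.centralizer (H : Set T) := fun x hx => pow_two x ▸ hH.pow x hx
  have hmapH : ∀ {δ : MulAut T} {x : T}, x ∈ H → δ x ∈ H := fun {δ x} hx =>
    (Subgroup.characteristic_iff_map_eq.1 hH.char δ).le ⟨x, hx, rfl⟩
  have hZfix : ∀ (n : ℕ) (x : T), x ∈ H → x ∈ Subgroup.centralizer (H : Set T) → x ^ 2 ^ n = 1 → β x = x := by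
    intro n
    induction n with
    | zero => intro x _ _ h; rw [pow_zero, pow_one] at h; rw [h, map_one]
    | succ n ih =>
      intro x hx hxc h
      have hs : β (x * x) = x * x := ih _ (H.mul_mem hx hx) (Subgroup.mul_mem _ hxc hxc) (by
        rw [← pow_two, ← pow_mul, ← pow_succ']; exact h)
      refine fix_step hβ3 hfix ?_
      have hc : β x * x = x * β x := Subgroup.mem_centralizer_iff.1 hxc _ (hmapH hx)
      rw [map_mul] at hs
      calc x⁻¹ * β x * (x⁻¹ * β x) = x⁻¹ * (β x * x⁻¹) * β x := by group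
        _ = x⁻¹ * (x⁻¹ * β x) * β x := by
          rw [show β x * x⁻¹ = x⁻¹ * β x from (Commute.inv_right (show Commute (β x) x from hc)).eq]
        _ = (x * x)⁻¹ * (β x * β x) := by group
        _ = 1 := by rw [hs, inv_mul_cancel]
  have hcom : ∀ x ∈ H, ∀ y ∈ H, x * y * x⁻¹ * y⁻¹ ∈ V := by
    intro x hx y hy
    set c := x * y * x⁻¹ * y⁻¹ with hc
    have hcz : c ∈ H ⊓ Subgroup.centralizer (H : Set T) := by
      have := hH.comm (Subgroup.commutator_mem_commutator (Subgroup.mem_top x) hy)
      rwa [commutatorElement_def] at this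
    rw [hV]
    calc c * c = x * y * x⁻¹ * y⁻¹ * c := rfl
      _ = c * (x * y * x⁻¹ * y⁻¹) := (Subgroup.mem_centralizer_iff.1 hcz.2 _ hcz.1)
      _ = x * c * x⁻¹ * (x * y * x⁻¹ * y⁻¹) := by rw [Subgroup.mem_centralizer_iff.1 hcz.2 x hx, mul_inv_cancel_right]
      _ = x * x * y * (x * x)⁻¹ * y⁻¹ := by rw [hc]; group
      _ = 1 := by
        rw [← Subgroup.mem_centralizer_iff.1 (hZ x hx).2 y hy]; group
  let W : Subgroup T :=
    { carrier := {x | x ∈ H ∧ x * x ∈ V}
      one_mem' := ⟨H.one_mem, by rw [one_mul]; exact V.one_mem⟩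
      mul_mem' := fun {x y} hx hy => ⟨H.mul_mem hx.1 hy.1, by
        have e : x * y * (x * y) = x * (y * x * y⁻¹ * x⁻¹) * (x * (y * y)) := by group
        rw [e, Subgroup.mem_center_iff.1 (hVc (hcom y hy.1 x hx.1)) x]
        have e2 : y * x * y⁻¹ * x⁻¹ * x * (x * (y * y)) = y * x * y⁻¹ * x⁻¹ * ((x * x) * (y * y)) := by group
        rw [e2]
        exact V.mul_mem (hcom y hy.1 x hx.1) (V.mul_mem hx.2 hy.2)⟩
      inv_mem' := fun {x} hx => ⟨H.inv_mem hx.1, by rw [← mul_inv_rev]; exact V.inv_mem hx.2⟩ }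
  haveI hNn : (V.subgroupOf W).Normal := ⟨fun a ha g => by
    rw [Subgroup.mem_subgroupOf] at ha ⊢
    show (g : T) * a * (g : T)⁻¹ ∈ V
    rwa [Subgroup.mem_center_iff.1 (hVc ha) g, mul_inv_cancel_right]⟩
  have hWm : ∀ {δ : MulAut T} {x : T}, x ∈ W → δ x ∈ W := fun {δ x} hx =>
    ⟨hmapH hx.1, by rw [← map_mul, hV, ← map_mul, (hV _).1 hx.2, map_one]⟩
  let γW : W →* W := (γ.toMonoidHom.comp W.subtype).codRestrict W fun x => hWm x.2
  let gq : W ⧸ V.subgroupOf W →* W ⧸ V.subgroupOf W :=
    QuotientGroup.map _ _ γW fun x hx => by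
      rw [Subgroup.mem_comap, Subgroup.mem_subgroupOf, hV]
      show γ x * γ x = 1
      rw [← map_mul, (hV _).1 (Subgroup.mem_subgroupOf.1 hx), map_one]
  have hgq : ∀ (i : ℕ) (x : W), gq^[i] (x : W ⧸ V.subgroupOf W) = ((⟨(γ ^ i) x, hWm x.2⟩ : W) : W ⧸ V.subgroupOf W) := by
    intro i x
    induction i with
    | zero => rfl
    | succ i ih =>
      rw [Function.iterate_succ_apply', ih]
      refine (QuotientGroup.map_mk' _ _ _ _ _).trans (congrArg _ (Subtype.ext ?_))
      show γ ((γ ^ i) x) = _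
      rw [pow_succ']; rfl
  have hWfix : ∀ x ∈ W, β x = x := by
    intro x hx
    have h := iterate_three (hT.to_subgroup W |>.to_quotient _)
      (card_quotient_le hVc hV h4 W (fun y hy => hy.2) fun a ha b hb => hcom a ha.1 b hb.1) gq
      (fun a => by
        obtain ⟨y, rfl⟩ := QuotientGroup.mk_surjective a
        rw [hgq]
        exact congrArg _ (Subtype.ext (by rw [h9]; rfl))) ((⟨x, hx⟩ : W) : W ⧸ V.subgroupOf W)
    rw [hgq, eq_comm, QuotientGroup.eq, Subgroup.mem_subgroupOf] at h
    exact fix_step hβ3 hfix ((hV _).1 h)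
  have hHfix : ∀ x ∈ H, β x = x := by
    intro x hx
    obtain ⟨n, hn⟩ := hT (x * x)
    have hs := hZfix n _ (hZ x hx).1 (hZ x hx).2 hn
    rw [map_mul] at hs
    set d := x⁻¹ * β x with hd
    have hdH : d ∈ H := H.mul_mem (H.inv_mem hx) (hmapH hx)
    have hdW : d ∈ W := ⟨hdH, by
      have hc := hcom _ (hmapH (δ := β) hx) _ (H.inv_mem hx)
      have e : d * d = x⁻¹ * (β x * x⁻¹ * (β x)⁻¹ * x⁻¹⁻¹) * x⁻¹ * (β x * β x) := by rw [hd]; group
      rw [e, Subgroup.mem_center_iff.1 (hVc hc), mul_assoc _ x⁻¹ x⁻¹, mul_assoc (β x * x⁻¹ * (β x)⁻¹ * x⁻¹⁻¹),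
        hs, show x⁻¹ * x⁻¹ * (x * x) = 1 by group, mul_one]
      exact hc⟩
    have hdf := hWfix d hdW
    have hy : β x = x * d := by rw [hd]; group
    have h := hβ3 x
    simp only [hy, map_mul, hdf, mul_assoc] at h
    rw [mul_eq_left] at h
    obtain ⟨k, hk⟩ := hT d
    have h1 : orderOf d ∣ 3 := orderOf_dvd_of_pow_eq_one (by rw [pow_three]; exact h)
    have h2 : orderOf d = 1 := Nat.eq_one_of_dvd_coprimes ((Nat.coprime_primes Nat.prime_two Nat.prime_three).2
      (by norm_num) |>.pow_left k) (orderOf_dvd_of_pow_eq_one hk) h1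
    rw [hy, orderOf_eq_one_iff.1 h2, mul_one]
  refine hH.mulAut_eq_one' hT ?_ hHfix
  have h3 : orderOf β ∣ 3 := orderOf_dvd_of_pow_eq_one (by rw [hβdef, ← pow_mul, h9])
  exact Nat.Coprime.coprime_dvd_left h3 (by norm_num)

/-- A 2-group of rank two with transitively permuted involutions is homocyclic or of order 64 and of Suzuki type. -/
theorem classify (hT : IsPGroup 2 T) (h2 : Cfsg.PRankLE 2 2 T) (h1 : ¬ Cfsg.PRankLE 2 1 T) (φ : MulAut T)
    (htrans : ∀ s t : T, orderOf s = 2 → orderOf t = 2 → ∃ k : ℕ, (φ ^ k) s = t) :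
    (∃ n : ℕ, 1 ≤ n ∧ Nonempty (T ≃* Multiplicative (ZMod (2 ^ n) × ZMod (2 ^ n)))) ∨
      ∃ D : Datum T, (∃ x y : T, x * y ≠ y * x) ∧ Nat.card D.V = 4 ∧ Nat.card T = 64 := by
  classical
  haveI : Fact (Nat.Prime 2) := ⟨Nat.prime_two⟩
  unfold Cfsg.PRankLE at h1
  push Not at h1
  obtain ⟨A, hAc, hA2, hAcard⟩ := h1
  rw [pow_one] at hAcard
  haveI : Nontrivial T := by
    haveI : Nontrivial A := Finite.one_lt_card_iff_nontrivial.1 (by omega)
    exact Subtype.coe_injective.nontrivial (f := ((↑) : A → T))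
  have hord : ∀ {x : T}, x ≠ 1 → x * x = 1 → orderOf x = 2 := fun hx h =>
    orderOf_eq_prime (by rw [pow_two]; exact h) hx
  haveI := hT.center_nontrivial
  obtain ⟨z, hz⟩ : ∃ z : T, z ∈ Subgroup.center T ∧ orderOf z = 2 := by
    obtain ⟨k, hk⟩ := IsPGroup.iff_card.1 (hT.to_subgroup (Subgroup.center T))
    have hk0 : k ≠ 0 := fun e => by
      rw [e, pow_zero] at hk
      exact (Finite.one_lt_card (α := Subgroup.center T)).ne' hk
    obtain ⟨z, hz⟩ := exists_prime_orderOf_dvd_card' (G := Subgroup.center T) 2 (hk ▸ dvd_pow_self 2 hk0)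
    exact ⟨z, z.2, by rwa [Subgroup.orderOf_coe]⟩
  have hcen : ∀ x : T, x * x = 1 → x ∈ Subgroup.center T := by
    intro x hx
    rcases eq_or_ne x 1 with rfl | hx1
    · exact one_mem _
    obtain ⟨k, rfl⟩ := htrans z x hz.2 (hord hx1 hx)
    exact (Subgroup.characteristic_iff_map_eq.1 inferInstance (φ ^ k)).le ⟨z, hz.1, rfl⟩
  let V : Subgroup T :=
    { carrier := {x | x * x = 1}
      one_mem' := one_mul 1
      mul_mem' := fun {x y} (hx : x * x = 1) (hy : y * y = 1) => by
        show x * y * (x * y) = 1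
        calc x * y * (x * y) = x * (y * x) * y := by group
          _ = x * (x * y) * y := by rw [Subgroup.mem_center_iff.1 (hcen x hx) y]
          _ = x * x * (y * y) := by group
          _ = 1 := by rw [hx, hy, one_mul]
      inv_mem' := fun {x} (hx : x * x = 1) => by
        show x⁻¹ * x⁻¹ = 1
        rw [← mul_inv_rev, hx, inv_one] }
  have hVc : V ≤ Subgroup.center T := fun x hx => hcen x hx
  have h4 : Nat.card V = 4 := by
    have hle : Nat.card V ≤ 4 := h2 V ⟨⟨fun a b => Subtype.ext (Subgroup.mem_center_iff.1 (hVc b.2) a)⟩⟩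
      fun a ha => by rw [pow_two]; exact ha
    have hge : 2 < Nat.card V := hAcard.trans_le (Subgroup.card_le_of_le fun a ha => by
      have := hA2 a ha; rwa [pow_two] at this)
    obtain ⟨k, hk⟩ := IsPGroup.iff_card.1 (hT.to_subgroup V)
    rw [hk] at hle hge ⊢
    have : k ≤ 2 := (Nat.pow_le_pow_iff_right (le_refl 2)).1 (hle.trans_eq (by norm_num : (4 : ℕ) = 2 ^ 2))
    interval_cases k <;> simp_all
  -- an automorphism of order three moving the involutions
  obtain ⟨j, m, hm, hn⟩ := Nat.exists_eq_pow_mul_and_not_dvd (orderOf_pos φ).ne' 3 (by norm_num)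
  set ψ := φ ^ m with hψ
  have hψj : ψ ^ 3 ^ j = 1 := by rw [hψ, ← pow_mul, mul_comm, ← hn, pow_orderOf_eq_one]
  have hψ3 : ψ ^ 3 = 1 := by
    have hmin : ∀ j : ℕ, ψ ^ 3 ^ j = 1 → ψ ^ 3 = 1 := by
      intro j
      induction j with
      | zero => intro h; rw [pow_zero, pow_one] at h; rw [h, one_pow]
      | succ j ih =>
        intro h
        rcases Nat.eq_zero_or_pos j with rfl | hj
        · rwa [zero_add, pow_one] at h
        · refine ih ?_
          have := no_nine hT hVc (fun x => Iff.rfl) h4 (ψ ^ 3 ^ (j - 1)) (by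
            rw [← pow_mul, show 3 ^ (j - 1) * 9 = 3 ^ (j + 1) by
              rw [show 9 = 3 ^ 2 by norm_num, ← pow_add]; congr 1; omega, h])
          rw [← pow_mul, ← pow_succ, show j - 1 + 1 = j by omega] at this
          exact this
    exact hmin j hψj
  have hV1 : ∀ v ∈ V, v ≠ 1 → ψ v ≠ v := by
    intro v hv hv1 hfixv
    -- the orbit of `φ` on the three involutions has length three
    have horb : ∀ w : T, w ≠ 1 → w * w = 1 → ∃ k : ℕ, (φ ^ k) v = w := fun w h1 h2' =>
      htrans v w (hord hv1 hv) (hord h1 h2')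
    have hper : Function.IsPeriodicPt (φ : T → T) m v := by
      have hit : ∀ (i : ℕ) (x : T), (φ : T → T)^[i] x = (φ ^ i) x := by
        intro i x
        induction i with
        | zero => rfl
        | succ i ih => rw [Function.iterate_succ_apply', ih, pow_succ']; rfl
      show (φ : T → T)^[m] v = v
      rw [hit]; exact hfixv
    letI := Fintype.ofFinite T
    have hcount : Function.minimalPeriod (φ : T → T) v = 3 := by
      set r := Function.minimalPeriod (φ : T → T) v with hr
      have hr0 : 0 < r := Function.IsPeriodicPt.minimalPeriod_pos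
        (Nat.pos_of_ne_zero fun h => hm (by rw [h]; exact dvd_zero 3)) hper
      have hit : ∀ (i : ℕ) (x : T), (φ : T → T)^[i] x = (φ ^ i) x := by
        intro i x
        induction i with
        | zero => rfl
        | succ i ih => rw [Function.iterate_succ_apply', ih, pow_succ']; rfl
      have himg : (Finset.range r).image (fun i => (φ : T → T)^[i] v) =
          Finset.univ.filter fun w => w * w = 1 ∧ w ≠ 1 := by
        ext w
        simp only [Finset.mem_image, Finset.mem_range, Finset.mem_filter, Finset.mem_univ, true_and]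
        constructor
        · rintro ⟨i, -, rfl⟩
          rw [hit, ← map_mul, show v * v = 1 from hv, map_one]
          exact ⟨rfl, fun e => hv1 ((φ ^ i).injective (e.trans (map_one _).symm))⟩
        · rintro ⟨h2', h1'⟩
          obtain ⟨k, hk⟩ := horb w h1' h2'
          exact ⟨k % r, Nat.mod_lt _ hr0, by rw [Function.iterate_mod_minimalPeriod_eq, hit, hk]⟩
      have hc := congrArg Finset.card himg
      rw [Finset.card_image_of_injOn (by simpa using Function.iterate_injOn_Iio_minimalPeriod), Finset.card_range] at hc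
      rw [hc]
      have : Finset.univ.filter (fun w : T => w * w = 1 ∧ w ≠ 1) =
          (Finset.univ.filter (fun w : T => w * w = 1)).erase 1 := by ext; simp [and_comm]
      rw [this, Finset.card_erase_of_mem (by simp)]
      have hV' : Nat.card V = (Finset.univ.filter (fun w : T => w * w = 1)).card := by
        rw [Nat.card_eq_fintype_card, ← Fintype.card_subtype]; rfl
      omega
    exact hm (hcount ▸ hper.minimalPeriod_dvd)
  let K := Subgroup.zpowers ψ
  have hψne : ψ ≠ 1 := fun h => by
    obtain ⟨v, hv, hv1⟩ : ∃ v ∈ V, v ≠ 1 := ⟨z, show z * z = 1 by rw [← pow_two, ← hz.2, pow_orderOf_eq_one],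
      fun e => by rw [e, orderOf_one] at hz; omega⟩
    exact hV1 v hv hv1 (by rw [h]; rfl)
  have hψo : orderOf ψ = 3 := orderOf_eq_prime hψ3 hψne
  have hkey : ∀ x y : T, x ≠ 1 → x * x = 1 → y ≠ 1 → y * y = 1 → ∃! k : K, (k : MulAut T) x = y := by
    intro x y hx hx2 hy hy2
    let f : K → {w : V // w ≠ 1} := fun k => ⟨⟨(k : MulAut T) x, show _ * _ = 1 by rw [← map_mul, hx2, map_one]⟩,
      fun e => hx ((k : MulAut T).injective ((congrArg Subtype.val e).trans (map_one _).symm))⟩
    have hinj : Function.Injective f := by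
      intro k l hkl
      have h0 : (k : MulAut T) x = (l : MulAut T) x := congrArg (fun w => ((w.1 : V) : T)) hkl
      by_contra hne
      have hkl' : l⁻¹ * k ≠ 1 := fun h => hne (inv_mul_eq_one.1 h).symm
      have htop : ψ ∈ Subgroup.zpowers ((l⁻¹ * k : K) : MulAut T) := by
        have hcK : Nat.card K = 3 := by rw [Nat.card_zpowers, hψo]
        have : (⟨ψ, Subgroup.mem_zpowers ψ⟩ : K) ∈ Subgroup.zpowers (l⁻¹ * k) := by
          rw [zpowers_eq_top_of_prime_card (p := 3) hcK hkl']; exact Subgroup.mem_top _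
        obtain ⟨i, hi⟩ := Subgroup.mem_zpowers_iff.1 this
        exact Subgroup.mem_zpowers_iff.2 ⟨i, by have := congrArg Subtype.val hi; simpa using this⟩
      have hfx : ((l⁻¹ * k : K) : MulAut T) ∈ MulAction.stabilizer (MulAut T) x := by
        show (l : MulAut T).symm ((k : MulAut T) x) = x
        rw [h0, MulEquiv.symm_apply_apply]
      exact hV1 x hx2 hx ((Subgroup.zpowers_le.2 hfx) htop)
    have hbij : Function.Bijective f := hinj.bijective_of_nat_card_le (by
      rw [Nat.card_zpowers, hψo]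
      letI := Fintype.ofFinite V
      rw [Nat.card_eq_fintype_card, Fintype.card_subtype_compl, Fintype.card_subtype_eq, ← Nat.card_eq_fintype_card, h4])
    obtain ⟨k, hk⟩ := hbij.2 ⟨⟨y, hy2⟩, fun e => hy (congrArg Subtype.val e)⟩
    refine ⟨k, congrArg (fun w => ((w.1 : V) : T)) hk, fun l hl => hinj (Eq.trans ?_ hk.symm)⟩
    exact Subtype.ext (Subtype.ext hl)
  let D : Datum T :=
    { isp := hT
      K := K
      comm := fun k l => mul_comm' k l
      two := by
        obtain ⟨a, b, hab⟩ : ∃ a b : {w : V // w ≠ 1}, a ≠ b := by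
          letI := Fintype.ofFinite V
          apply Fintype.exists_pair_of_one_lt_card
          rw [Fintype.card_subtype_compl, Fintype.card_subtype_eq, ← Nat.card_eq_fintype_card, h4]
          norm_num
        exact ⟨a.1, b.1, fun h => hab (Subtype.ext (Subtype.ext h)), fun h => a.2 (Subtype.ext h), a.1.2,
          fun h => b.2 (Subtype.ext h), b.1.2⟩
      reg := hkey }
  have hDV : Nat.card D.V = 4 := h4
  by_cases hna : ∀ x y : T, x * y = y * x
  · letI : CommGroup T := { (inferInstance : Group T) with mul_comm := hna }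
    obtain ⟨n, r, ⟨e⟩⟩ := ConjInvol.homocyclic hT fun x y hx hx2 hy hy2 => by
      obtain ⟨k, hk, -⟩ := hkey x y hx (by rwa [← pow_two]) hy (by rwa [← pow_two])
      exact ⟨k, hk⟩
    refine Or.inl ⟨n, ?_, ?_⟩
    · by_contra h0
      obtain rfl : n = 0 := by omega
      haveI : Subsingleton (ZMod (2 ^ 0)) := by rw [pow_zero]; infer_instance
      haveI : Subsingleton (Multiplicative (ZMod (2 ^ 0))) := Multiplicative.toAdd.subsingleton
      haveI : Subsingleton T := e.toEquiv.subsingleton
      exact not_subsingleton T inferInstance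
    · have hn1 : 1 ≤ n := by
        by_contra h0
        obtain rfl : n = 0 := by omega
        haveI : Subsingleton (ZMod (2 ^ 0)) := by rw [pow_zero]; infer_instance
        haveI : Subsingleton (Multiplicative (ZMod (2 ^ 0))) := Multiplicative.toAdd.subsingleton
        haveI : Subsingleton T := e.toEquiv.subsingleton
        exact not_subsingleton T inferInstance
      have hr : r = 2 := by
        have hcnt : Nat.card {g : Fin r → Multiplicative (ZMod (2 ^ n)) // g * g = 1} = 4 := by
          rw [← h4]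
          refine Nat.card_congr (e.symm.toEquiv.subtypeEquiv fun g => ?_)
          show g * g = 1 ↔ e.symm g * e.symm g = 1
          rw [← map_mul, map_eq_one_iff e.symm e.symm.injective]
        haveI : NeZero (2 ^ n) := ⟨by positivity⟩
        let E : {g : Fin r → Multiplicative (ZMod (2 ^ n)) // g * g = 1} ≃
            (Fin r → {x : Multiplicative (ZMod (2 ^ n)) // x * x = 1}) :=
          { toFun := fun g i => ⟨g.1 i, congrFun g.2 i⟩
            invFun := fun f => ⟨fun i => (f i).1, funext fun i => (f i).2⟩ }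
        rw [Nat.card_congr E, Nat.card_pi, Finset.prod_const, Finset.card_univ, Fintype.card_fin] at hcnt
        have h2' : Nat.card {x : Multiplicative (ZMod (2 ^ n)) // x * x = 1} = 2 := by
          have hk := IsCyclic.card_powMonoidHom_ker (G := Multiplicative (ZMod (2 ^ n))) 2
          rw [Nat.card_congr (Equiv.subtypeEquivRight fun x => by
            show x * x = 1 ↔ x ∈ (powMonoidHom 2 : Multiplicative (ZMod (2 ^ n)) →* _).ker
            rw [MonoidHom.mem_ker, powMonoidHom_apply, pow_two])]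
          refine hk.trans ?_
          rw [Nat.card_eq_fintype_card, Fintype.card_multiplicative, ZMod.card]
          exact Nat.gcd_eq_right (dvd_pow_self 2 (by omega))
        rw [h2'] at hcnt
        exact Nat.pow_right_injective le_rfl (hcnt.trans (by norm_num : (4 : ℕ) = 2 ^ 2))
      subst hr
      let p2 : (Fin 2 → Multiplicative (ZMod (2 ^ n))) ≃*
          Multiplicative (ZMod (2 ^ n)) × Multiplicative (ZMod (2 ^ n)) :=
        { piFinTwoEquiv (fun _ => Multiplicative (ZMod (2 ^ n))) with map_mul' := fun _ _ => rfl }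
      exact ⟨e.trans (p2.trans (MulEquiv.prodMultiplicative _ _).symm)⟩
  · push Not at hna
    refine Or.inr ⟨D, hna, hDV, ?_⟩
    rcases D.card_eq hna with h | h
    · exfalso
      obtain ⟨F, _, _, σ, hF, hne, hodd, -⟩ := Datum.exists_typeA D hna h
      rw [hDV] at hF
      refine hne (RingEquiv.ext fun x => ?_)
      have hsq : σ * σ = 1 := by
        refine RingEquiv.ext fun y => ?_
        show σ (σ y) = y
        by_cases h0 : y = 0
        · rw [h0, map_zero, map_zero]
        by_cases h1' : y = 1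
        · rw [h1', map_one, map_one]
        by_cases hy : σ y = y
        · rw [hy, hy]
        -- `y`, `σ y` are the two elements other than `0` and `1`
        by_contra hne2
        have hs0 : σ y ≠ 0 := by simpa using h0
        have hs1 : σ y ≠ 1 := by simpa using h1'
        have hss0 : σ (σ y) ≠ 0 := by simpa using h0
        have hss1 : σ (σ y) ≠ 1 := by simpa using h1'
        have hss : σ (σ y) ≠ σ y := fun e' => hy (σ.injective e')
        have : ({0, 1, y, σ y, σ (σ y)} : Finset F).card = 5 := by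
          simp [Finset.card_insert_of_notMem, hs0.symm, hs1.symm, hss0.symm, hss1.symm, hss.symm, Ne.symm hne2,
            Ne.symm h0, Ne.symm h1', Ne.symm hy, zero_ne_one]
        have hle := Finset.card_le_univ ({0, 1, y, σ y, σ (σ y)} : Finset F)
        omega
      have h1' : orderOf σ ∣ 2 := orderOf_dvd_of_pow_eq_one (by rw [pow_two]; exact hsq)
      rcases (Nat.dvd_prime Nat.prime_two).1 h1' with e | e
      · rw [orderOf_eq_one_iff.1 e]; rfl
      · rw [e] at hodd; exact absurd hodd (by decide)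
    · rw [h, hDV]
      norm_num

end Cfsg.Agent.RankTwoTrans
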