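/-
p-closed normal subgroups, p-irreducible and T-minimal groups.
-/
import Cfsg.Agent.Lib.LocalEven.SylowAux
import Cfsg.Agent.Lib.Transfer.Basic
import Cfsg.Prelude.Def_LocalStructure

set_option autoImplicit false
set_option linter.unusedSectionVars false

namespace Cfsg.Agent.LEPIrred

open Cfsg.Agent.LEBasic
open scoped commutatorElement

variable {H : Type*} [Group H] [Finite H] {p : ℕ} [Fact p.Prime]

theorem pCore_eq_of_normal_sylow {T : Sylow p H} (h : (T : Subgroup H).Normal) :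
    Cfsg.pCore p H = (T : Subgroup H) :=
  le_antisymm (pCore_le_sylow T) (le_pCore h T.isPGroup')

theorem sylow_eq_pCore {T : Sylow p H} (h : (T : Subgroup H) ≤ Cfsg.pCore p H) (P : Sylow p H) :
    (P : Subgroup H) = Cfsg.pCore p H :=
  (Subgroup.eq_of_le_of_card_ge (pCore_le_sylow P) (by
    rw [P.card_eq_multiplicity, ← T.card_eq_multiplicity]
    exact Subgroup.card_le_of_le h)).symm

theorem pClosed_iff (T : Sylow p H) :
    Cfsg.IsPClosed p H ↔ (T : Subgroup H) ≤ Cfsg.pCore p H := by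
  refine ⟨fun h => (pCore_eq_of_normal_sylow (h T)).ge, fun h P => ?_⟩
  rw [sylow_eq_pCore h P]
  exact Cfsg.pCore_normal p H

theorem normal_pClosed_iff (T : Sylow p H) (N : Subgroup H) [N.Normal] :
    Cfsg.IsPClosed p ↥N ↔ N ⊓ (T : Subgroup H) ≤ Cfsg.pCore p H := by
  obtain ⟨Q, hQ⟩ := Cfsg.Agent.PBasic.exists_sylow_subgroupOf T N
  rw [pClosed_iff Q, hQ]
  constructor
  · intro h x hx
    obtain ⟨hxN, hxT⟩ := Subgroup.mem_inf.1 hx
    exact pCoreMap_le_pCore (N := N) ⟨⟨x, hxN⟩, h hxT, rfl⟩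
  · intro h
    have h1 : IsPGroup p ↥((Cfsg.pCore p H).subgroupOf N) :=
      pCore_isPGroup.comap_of_injective N.subtype N.subtype_injective
    haveI : ((Cfsg.pCore p H).subgroupOf N).Normal := (Cfsg.pCore_normal p H).comap N.subtype
    exact fun x hx => le_pCore (N := (Cfsg.pCore p H).subgroupOf N) inferInstance h1
      (h (Subgroup.mem_inf.2 ⟨x.2, hx⟩))

theorem pClosed_congr {X Y : Type*} [Group X] [Finite X] [Group Y] [Finite Y] (e : X ≃* Y)
    (h : Cfsg.IsPClosed p X) : Cfsg.IsPClosed p Y := by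
  obtain ⟨T⟩ : Nonempty (Sylow p X) := inferInstance
  have hs : Function.Surjective e.toMonoidHom := e.surjective
  rw [pClosed_iff (T.mapSurjective hs), Sylow.coe_mapSurjective,
    ← map_pCore_equiv e]
  exact Subgroup.map_mono ((pClosed_iff T).1 h)

/-- A `p`-subgroup of a `p`-closed normal subgroup lies in `O_p(H)`. -/
theorem le_pCore_of_pClosed {N : Subgroup H} [N.Normal] (hN : Cfsg.IsPClosed p ↥N) {P : Subgroup H}
    (hP : IsPGroup p ↥P) (hPN : P ≤ N) : P ≤ Cfsg.pCore p H := by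
  obtain ⟨T, hT⟩ := hP.exists_le_sylow
  exact (le_inf hPN hT).trans ((normal_pClosed_iff T N).1 hN)

/-- A `p'`-element of `C Y`, with `C` normal and `Y` a `p`-group, lies in `C`. -/
theorem mem_of_sup_pGroup {C Y : Subgroup H} [C.Normal] (hY : IsPGroup p ↥Y) {g : H} (hg : g ∈ C ⊔ Y)
    (hgc : (orderOf g).Coprime p) : g ∈ C := by
  obtain ⟨c, hc, y, hy, rfl⟩ := Subgroup.mem_sup_of_normal_left.1 hg
  have h1 : QuotientGroup.mk' C (c * y) = QuotientGroup.mk' C y := by
    rw [map_mul, QuotientGroup.mk'_apply, QuotientGroup.mk'_apply, (QuotientGroup.eq_one_iff c).2 hc,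
      one_mul]
  have h2 : QuotientGroup.mk' C (c * y) = 1 := by
    refine Cfsg.Agent.PBasic.eq_one_of_isPGroup_of_coprime (P := Y.map (QuotientGroup.mk' C))
      (hY.map _) ?_ (Nat.Coprime.coprime_dvd_left (orderOf_map_dvd _ _) hgc)
    rw [h1]
    exact ⟨y, hy, rfl⟩
  exact (QuotientGroup.eq_one_iff _).1 h2

theorem pResidual_le_of_le_sup {C Y : Subgroup H} [C.Normal] (hY : IsPGroup p ↥Y)
    (h : Cfsg.pResidual p H ≤ C ⊔ Y) : Cfsg.pResidual p H ≤ C := by
  rw [Cfsg.pResidual, Subgroup.closure_le]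
  exact fun g hg => mem_of_sup_pGroup hY (h (Subgroup.subset_closure hg)) hg

theorem sup_sylow_eq_top {N : Subgroup H} (hN : Cfsg.pResidual p H ≤ N) (T : Sylow p H) :
    N ⊔ (T : Subgroup H) = ⊤ :=
  top_le_iff.1 ((pResidual_sup_sylow T).ge.trans (sup_le_sup_right hN _))

/-- A normal subgroup containing a Sylow subgroup of a non-`p`-closed group is not `p`-closed. -/
theorem not_pClosed_of_sylow_le (hH : ¬ Cfsg.IsPClosed p H) {N : Subgroup H} [N.Normal] (T : Sylow p H)
    (hT : (T : Subgroup H) ≤ N) : ¬ Cfsg.IsPClosed p ↥N := fun h => by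
  rw [normal_pClosed_iff T N, inf_eq_right.2 hT, ← pClosed_iff T] at h
  exact hH h

theorem normal_of_sylow_pResidual {X : Subgroup H} (T : Sylow p H)
    (h1 : Cfsg.pResidual p H ≤ Subgroup.normalizer (X : Set H))
    (h2 : (T : Subgroup H) ≤ Subgroup.normalizer (X : Set H)) : X.Normal :=
  Subgroup.normalizer_eq_top_iff.1 (top_le_iff.1 ((pResidual_sup_sylow T).ge.trans (sup_le h1 h2)))

/-- A normal subgroup with `[N, H] ≤ O_p(H)` is `p`-closed. -/
theorem pClosed_of_commutator_le {N : Subgroup H} [N.Normal]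
    (h : ⁅N, (⊤ : Subgroup H)⁆ ≤ Cfsg.pCore p H) : Cfsg.IsPClosed p ↥N := by
  obtain ⟨T⟩ : Nonempty (Sylow p H) := inferInstance
  rw [normal_pClosed_iff T N]
  set X := N ⊓ (T : Subgroup H) ⊔ Cfsg.pCore p H with hX
  have hXp : IsPGroup p ↥X := T.isPGroup'.to_le (sup_le inf_le_right (pCore_le_sylow T))
  have hXn : X.Normal := ⟨fun x hx g => by
    haveI := Cfsg.pCore_normal p H
    obtain ⟨a, ha, b, hb, rfl⟩ := Subgroup.mem_sup_of_normal_right.1 hx
    have e : g * (a * b) * g⁻¹ = (⁅g, a⁆ * a) * (g * b * g⁻¹) := by simp [commutatorElement_def, mul_assoc]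
    rw [e]
    refine mul_mem (mul_mem (Subgroup.mem_sup_right ?_) (Subgroup.mem_sup_left ha))
      (Subgroup.mem_sup_right ((Cfsg.pCore_normal p H).conj_mem b hb g))
    refine h ?_
    rw [Subgroup.commutator_comm]
    exact Subgroup.commutator_mem_commutator (Subgroup.mem_top g) (Subgroup.mem_inf.1 ha).1⟩
  exact le_sup_left.trans (le_pCore hXn hXp)

/-! ### `T`-minimal groups -/

variable {Y : Subgroup H}

theorem le_uniqueMax (hmin : Cfsg.IsMinimalOver Y) {M : Subgroup H} (hM : IsCoatom M) (hYM : Y ≤ M)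
    {K : Subgroup H} (hK : K ≠ ⊤) (hYK : Y ≤ K) : K ≤ M := by
  obtain ⟨M', hM', hKM'⟩ := (eq_top_or_exists_le_coatom K).resolve_left hK
  rwa [hmin.2.unique ⟨hM, hYM⟩ ⟨hM', hYK.trans hKM'⟩]

theorem not_normal_le {M : Subgroup H} (hmin : Cfsg.IsMinimalOver Y) (hM : IsCoatom M) {K : Subgroup H}
    (hK : K.Normal) (hYK : Y ≤ K) : K = ⊤ := by
  haveI := hK
  exact top_le_iff.1 (hmin.1.ge.trans (Subgroup.normalClosure_le_normal hYK))

theorem sylow_not_normal (T : Sylow p H) (hmin : Cfsg.IsMinimalOver (T : Subgroup H)) :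
    ¬ (T : Subgroup H).Normal := fun h => by
  obtain ⟨M, ⟨hM, hTM⟩, -⟩ := hmin.2
  exact hM.1 (top_le_iff.1 ((not_normal_le hmin hM h le_rfl).ge.trans hTM))

/-- In a `T`-minimal group a normal subgroup `N` with `N T < H` is `p`-closed. -/
theorem pClosed_of_sup_ne_top (T : Sylow p H) (hmin : Cfsg.IsMinimalOver (T : Subgroup H))
    {M : Subgroup H} (hM : IsCoatom M) (hTM : (T : Subgroup H) ≤ M) {N : Subgroup H} [N.Normal]
    (h : N ⊔ (T : Subgroup H) ≠ ⊤) : Cfsg.IsPClosed p ↥N := by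
  rw [normal_pClosed_iff T N]
  by_contra hne
  obtain ⟨Q, hQ⟩ := Cfsg.Agent.PBasic.exists_sylow_subgroupOf T N
  have hmap : (Q : Subgroup ↥N).map N.subtype = N ⊓ (T : Subgroup H) := by
    rw [hQ, Subgroup.subgroupOf_map_subtype, inf_comm]
  have hF := Sylow.normalizer_sup_eq_top Q
  rw [hmap] at hF
  have hn : Subgroup.normalizer ((N ⊓ (T : Subgroup H) : Subgroup H) : Set H) ≠ ⊤ := fun htop =>
    hne (le_pCore (Subgroup.normalizer_eq_top_iff.1 htop) (T.isPGroup'.to_le inf_le_right))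
  have hTn : (T : Subgroup H) ≤ Subgroup.normalizer ((N ⊓ (T : Subgroup H) : Subgroup H) : Set H) := by
    intro t ht
    rw [← map_conj_eq_iff_mem_normalizer, Subgroup.map_inf_eq _ _ _ (MulAut.conj t).injective,
      map_conj_eq_iff_mem_normalizer.2 (by rw [Subgroup.normalizer_eq_top_iff.2 inferInstance]; trivial),
      map_conj_eq_iff_mem_normalizer.2 (Subgroup.le_normalizer ht)]
  exact hM.1 (top_le_iff.1 (hF.ge.trans (sup_le (le_uniqueMax hmin hM hTM hn hTn)
    (le_sup_left.trans (le_uniqueMax hmin hM hTM h le_sup_right)))))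

theorem isPIrreducible_of_isMinimalOver (T : Sylow p H) (hmin : Cfsg.IsMinimalOver (T : Subgroup H)) :
    Cfsg.IsPIrreducible p H := by
  refine ⟨fun h => sylow_not_normal T hmin (h T), fun N hN hncl => ?_⟩
  haveI := hN
  obtain ⟨M, ⟨hM, hTM⟩, -⟩ := hmin.2
  refine pResidual_le_of_le_sup (T.isPGroup') ?_
  by_contra h
  exact hncl (pClosed_of_sup_ne_top T hmin hM hTM fun htop => h (htop ▸ le_top))

/-! ### `p`-minimal groups -/

theorem exists_sylow_le {N : Subgroup H} (h : ¬ p ∣ N.index) : ∃ P : Sylow p H, (P : Subgroup H) ≤ N := by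
  obtain ⟨S⟩ : Nonempty (Sylow p ↥N) := inferInstance
  obtain ⟨P, hP⟩ := (S.isPGroup'.map N.subtype).exists_le_sylow
  have h1 : Nat.card ↥(P : Subgroup H) ≤ Nat.card ↥((S : Subgroup ↥N).map N.subtype) := by
    rw [Subgroup.card_map_of_injective N.subtype_injective, P.card_eq_multiplicity,
      S.card_eq_multiplicity, ← Subgroup.card_mul_index N,
      Nat.factorization_mul Nat.card_pos.ne' Subgroup.index_ne_zero_of_finite, Finsupp.add_apply,
      Nat.factorization_eq_zero_of_not_dvd h, add_zero]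
  exact ⟨P, (Subgroup.eq_of_le_of_card_ge hP h1).ge.trans (Subgroup.map_subtype_le _)⟩

theorem isMinimalOver_of_isPMinimal (hP : Cfsg.IsPMinimal p H) (S : Sylow p H) :
    Cfsg.IsMinimalOver (S : Subgroup H) := by
  obtain ⟨hnn, M, hM, huniq⟩ := hP S
  refine ⟨?_, M, hM, huniq⟩
  set K := Subgroup.normalClosure ((S : Subgroup H) : Set H) with hK
  have hSK : (S : Subgroup H) ≤ K := Subgroup.le_normalClosure
  haveI : K.Normal := Subgroup.normalClosure_normal
  have hF := Sylow.normalizer_sup_eq_top (S.subtype hSK)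
  rw [Sylow.coe_subtype, Subgroup.map_subgroupOf_eq_of_le hSK] at hF
  by_contra hne
  have hle : ∀ X : Subgroup H, X ≠ ⊤ → (S : Subgroup H) ≤ X → X ≤ M := by
    intro X hX hSX
    obtain ⟨M', hM', hXM'⟩ := (eq_top_or_exists_le_coatom X).resolve_left hX
    rwa [huniq M' ⟨hM', hSX.trans hXM'⟩] at hXM'
  exact hM.1.1 (top_le_iff.1 (hF.ge.trans (sup_le (hle _ (fun h => hnn
    (Subgroup.normalizer_eq_top_iff.1 h)) Subgroup.le_normalizer) (hle K hne hSK))))

end Cfsg.Agent.LEPIrred
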