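/-
The theory of p-reduced normal elementary abelian subgroups, in ambient form.
-/
import Cfsg.Agent.Lib.LocalEven.WeakClosed
import Cfsg.Agent.Lib.LocalEven.Coprime
import Cfsg.Agent.Lib.LocalEven.PIrred
import Cfsg.Agent.Lib.LocalEven.Large

set_option autoImplicit false
set_option linter.unusedSectionVars false

namespace Cfsg.Agent.LEPReduced

open Cfsg.Agent.LEBasic
open scoped commutatorElement

variable {G : Type*} [Group G] [Finite G] {p : ℕ} [Fact p.Prime]

theorem commute_of_elem {V : Subgroup G} (hV : Cfsg.IsElementaryAbelian p V) {a b : G} (ha : a ∈ V)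
    (hb : b ∈ V) : a * b = b * a :=
  congrArg Subtype.val (hV.1.is_comm.comm (⟨a, ha⟩ : ↥V) ⟨b, hb⟩)

theorem le_centralizer_self {V : Subgroup G} (hV : Cfsg.IsElementaryAbelian p V) :
    V ≤ Subgroup.centralizer (V : Set G) :=
  fun _ ha => Subgroup.mem_centralizer_iff.2 fun _ hb => commute_of_elem hV hb ha

theorem isPGroup_of_elem {V : Subgroup G} (hV : Cfsg.IsElementaryAbelian p V) : IsPGroup p ↥V :=
  fun a => ⟨1, Subtype.ext (by simpa using hV.2 a a.2)⟩

theorem elem_mono {V W : Subgroup G} (hV : Cfsg.IsElementaryAbelian p V) (h : W ≤ V) :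
    Cfsg.IsElementaryAbelian p W :=
  ⟨⟨⟨fun a b => Subtype.ext (commute_of_elem hV (h a.2) (h b.2))⟩⟩, fun a ha => hV.2 a (h ha)⟩

theorem elem_closure {s : Set G} (hc : ∀ x ∈ s, ∀ y ∈ s, x * y = y * x) (he : ∀ x ∈ s, x ^ p = 1) :
    Cfsg.IsElementaryAbelian p (Subgroup.closure s) := by
  have hcl : Subgroup.closure s ≤ Subgroup.centralizer (Subgroup.closure s : Set G) := by
    rw [Subgroup.centralizer_closure, Subgroup.closure_le]
    exact fun x hx => Subgroup.mem_centralizer_iff.2 fun y hy => hc y hy x hx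
  refine ⟨⟨⟨fun a b => Subtype.ext (Subgroup.mem_centralizer_iff.1 (hcl b.2) a a.2)⟩⟩, fun a ha => ?_⟩
  induction ha using Subgroup.closure_induction with
  | mem x hx => exact he x hx
  | one => exact one_pow _
  | mul x y hx hy ihx ihy =>
    rw [(show Commute x y from Subgroup.mem_centralizer_iff.1 (hcl hy) x hx).mul_pow, ihx, ihy, one_mul]
  | inv x _ ihx => rw [inv_pow, ihx, inv_one]

/-- `V` is an elementary abelian `p`-group normalized by `K` on which `K` acts with `O_p = 1`. -/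
def Red (p : ℕ) (V K : Subgroup G) : Prop :=
  K ≤ Subgroup.normalizer (V : Set G) ∧ Cfsg.IsElementaryAbelian p V ∧
    ∀ N : Subgroup G, N ≤ K → K ≤ Subgroup.normalizer (N : Set G) →
      (∀ g ∈ N, (orderOf g).Coprime p → g ∈ Subgroup.centralizer (V : Set G)) →
      N ≤ Subgroup.centralizer (V : Set G)

theorem Red.pGroup_le_centralizer {V K R : Subgroup G} (h : Red p V K) (hR : IsPGroup p ↥R) (hRK : R ≤ K)
    (hn : K ≤ Subgroup.normalizer (R : Set G)) : R ≤ Subgroup.centralizer (V : Set G) :=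
  h.2.2 R hRK hn fun g hg hgc => by
    rw [Cfsg.Agent.PBasic.eq_one_of_isPGroup_of_coprime hR hg hgc]
    exact one_mem _

theorem Red.le_opIn {V K : Subgroup G} (h : Red p V K) (hVK : V ≤ K) : V ≤ CharP.opIn p K :=
  CharP.le_opIn hVK h.1 (isPGroup_of_elem h.2.1)

theorem Red.conj {V K : Subgroup G} (h : Red p V K) (c : G) :
    Red p (V.map (MulAut.conj c).toMonoidHom) (K.map (MulAut.conj c).toMonoidHom) := by
  have hn : ∀ {A B : Subgroup G}, A ≤ Subgroup.normalizer (B : Set G) →
      A.map (MulAut.conj c).toMonoidHom ≤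
        Subgroup.normalizer ((B.map (MulAut.conj c).toMonoidHom : Subgroup G) : Set G) :=
    fun hAB => (map_conj_mono c hAB).trans (Subgroup.le_normalizer_map _)
  refine ⟨hn h.1, ?_, fun N hNK hKN hco => ?_⟩
  · rw [show V.map (MulAut.conj c).toMonoidHom =
      Subgroup.closure ((MulAut.conj c).toMonoidHom '' (V : Set G)) by
        rw [← MonoidHom.map_closure, Subgroup.closure_eq]]
    refine elem_closure ?_ ?_
    · rintro _ ⟨x, hx, rfl⟩ _ ⟨y, hy, rfl⟩
      rw [← map_mul, ← map_mul, commute_of_elem h.2.1 hx hy]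
    · rintro _ ⟨x, hx, rfl⟩
      rw [← map_pow, h.2.1.2 x hx, map_one]
  · have hN1 : N.map (MulAut.conj c⁻¹).toMonoidHom ≤ K := by
      rw [← LEWeakClosed.map_conj_cancel K c]; exact map_conj_mono _ hNK
    have hN2 : K ≤ Subgroup.normalizer ((N.map (MulAut.conj c⁻¹).toMonoidHom : Subgroup G) : Set G) := by
      rw [← LEWeakClosed.map_conj_cancel K c]
      exact (map_conj_mono _ hKN).trans (Subgroup.le_normalizer_map _)
    have hC : ∀ x : G, x ∈ Subgroup.centralizer (V : Set G) →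
        c * x * c⁻¹ ∈ Subgroup.centralizer ((V.map (MulAut.conj c).toMonoidHom : Subgroup G) : Set G) := by
      intro x hx
      rw [Subgroup.mem_centralizer_iff]
      rintro _ ⟨v, hv, rfl⟩
      show MulAut.conj c v * MulAut.conj c x = MulAut.conj c x * MulAut.conj c v
      rw [← map_mul, ← map_mul, Subgroup.mem_centralizer_iff.1 hx v hv]
    have h3 := h.2.2 _ hN1 hN2 fun g hg hgc => by
      rw [mem_map_conj, inv_inv] at hg
      have hgc' : (orderOf (c * g * c⁻¹)).Coprime p := by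
        rwa [show c * g * c⁻¹ = MulAut.conj c g by simp, MulEquiv.orderOf_eq]
      have h4 := hco _ hg hgc'
      rw [Subgroup.mem_centralizer_iff] at h4 ⊢
      intro v hv
      have h5 : MulAut.conj c (v * g) = MulAut.conj c (g * v) := by
        rw [map_mul, map_mul]
        exact h4 _ ⟨v, hv, rfl⟩
      exact (MulAut.conj c).injective h5
    intro g hg
    have h6 := hC _ (h3 ⟨g, hg, rfl⟩)
    simpa [mul_assoc] using h6

/-- Translation with `IsPReducedNormal`. -/
theorem red_top_iff {V : Subgroup G} : Cfsg.IsPReducedNormal p V ↔ Red p V ⊤ := by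
  constructor
  · rintro ⟨hVn, hVe, hCn, hcore⟩
    refine ⟨(Subgroup.normalizer_eq_top_iff.2 hVn).ge, hVe, fun N _ hN hco => ?_⟩
    haveI := hCn
    haveI hNn : N.Normal := Subgroup.normalizer_eq_top_iff.1 (top_le_iff.1 hN)
    set π := QuotientGroup.mk' (Subgroup.centralizer (V : Set G)) with hπ
    have hp : IsPGroup p ↥(N.map π) := by
      rintro ⟨_, g, hg, rfl⟩
      obtain ⟨u, v, huv, hu, -, ⟨k, hk⟩, hv⟩ := Cfsg.Agent.PBasic.exists_pPart_mul (p := p) g
      refine ⟨k, Subtype.ext ?_⟩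
      have hvN : v ∈ N := by
        obtain ⟨a, ha⟩ : ∃ a : ℤ, v = g ^ a := by
          obtain ⟨b, hb⟩ := Subgroup.mem_zpowers_iff.1 hu
          exact ⟨-b + 1, by rw [zpow_add, zpow_neg, zpow_one, hb, ← huv, inv_mul_cancel_left]⟩
        rw [ha]; exact zpow_mem hg a
      have h1 : π v = 1 := (QuotientGroup.eq_one_iff v).2 (hco v hvN hv)
      show π g ^ p ^ k = 1
      rw [← huv, map_mul, h1, mul_one, ← map_pow, ← hk, pow_orderOf_eq_one, map_one]
    have h2 : N.map π ≤ ⊥ :=
      hcore ▸ le_pCore (hNn.map π (QuotientGroup.mk'_surjective _)) hp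
    intro g hg
    exact (QuotientGroup.eq_one_iff g).1 (Subgroup.mem_bot.1 (h2 ⟨g, hg, rfl⟩))
  · rintro ⟨hVn, hVe, hco⟩
    have hVn' : V.Normal := Subgroup.normalizer_eq_top_iff.1 (top_le_iff.1 hVn)
    haveI := hVn'
    have hCn : (Subgroup.centralizer (V : Set G)).Normal := Subgroup.normal_centralizer
    haveI := hCn
    refine ⟨hVn', hVe, hCn, ?_⟩
    set π := QuotientGroup.mk' (Subgroup.centralizer (V : Set G))
    haveI hM : ((Cfsg.pCore p (G ⧸ Subgroup.centralizer (V : Set G))).comap π).Normal :=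
      (Cfsg.pCore_normal p _).comap π
    have h1 := hco _ le_top (Subgroup.normalizer_eq_top_iff.2 hM).ge fun g hg hgc =>
      (QuotientGroup.eq_one_iff g).1 (Cfsg.Agent.PBasic.eq_one_of_isPGroup_of_coprime
        (Cfsg.Agent.PBasic.pCore_isPGroup p _) hg (Nat.Coprime.coprime_dvd_left (orderOf_map_dvd π g) hgc))
    rw [eq_bot_iff]
    intro q hq
    obtain ⟨g, rfl⟩ := QuotientGroup.mk'_surjective _ q
    exact Subgroup.mem_bot.2 ((QuotientGroup.eq_one_iff g).2 (h1 hq))

theorem subtype_mem_centralizer {K : Subgroup G} {V : Subgroup ↥K} {g : ↥K} :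
    (g : G) ∈ Subgroup.centralizer ((V.map K.subtype : Subgroup G) : Set G) ↔
      g ∈ Subgroup.centralizer (V : Set ↥K) := by
  rw [Subgroup.mem_centralizer_iff, Subgroup.mem_centralizer_iff]
  constructor
  · exact fun h v hv => Subtype.ext (h _ ⟨v, hv, rfl⟩)
  · rintro h _ ⟨v, hv, rfl⟩; exact congrArg Subtype.val (h v hv)

theorem red_top_map_iff {K : Subgroup G} {V : Subgroup ↥K} :
    Red p V (⊤ : Subgroup ↥K) ↔ Red p (V.map K.subtype) K := by
  constructor
  · rintro ⟨h1, h2, h3⟩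
    haveI : V.Normal := Subgroup.normalizer_eq_top_iff.1 (top_le_iff.1 h1)
    refine ⟨?_, ?_, fun N hNK hKN hco => ?_⟩
    · conv_lhs => rw [← Subgroup.range_subtype K, MonoidHom.range_eq_map]
      exact (Subgroup.map_mono h1).trans (Subgroup.le_normalizer_map _)
    · exact ⟨⟨⟨fun a b => by
        obtain ⟨a', ha', hae⟩ := a.2
        obtain ⟨b', hb', hbe⟩ := b.2
        refine Subtype.ext ?_
        show (a : G) * b = b * a
        rw [← hae, ← hbe, ← map_mul, ← map_mul, commute_of_elem h2 ha' hb']⟩⟩, fun a ⟨a', ha', hae⟩ => by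
        rw [← hae, ← map_pow, h2.2 a' ha', map_one]⟩
    · haveI : (N.subgroupOf K).Normal := (Subgroup.normal_subgroupOf_iff_le_normalizer hNK).2 hKN
      intro g hg
      have h4 := h3 (N.subgroupOf K) le_top (Subgroup.normalizer_eq_top_iff.2 inferInstance).ge
        (fun x hx hxc => subtype_mem_centralizer.1 (hco x hx (by rwa [Subgroup.orderOf_coe])))
      exact subtype_mem_centralizer.2 (h4 (show (⟨g, hNK hg⟩ : ↥K) ∈ N.subgroupOf K from hg))
  · rintro ⟨h1, h2, h3⟩
    refine ⟨fun k _ => ?_, ⟨⟨⟨fun a b => Subtype.ext (Subtype.ext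
      (commute_of_elem h2 ⟨a, a.2, rfl⟩ ⟨b, b.2, rfl⟩))⟩⟩, fun a ha => Subtype.ext (by
        have := h2.2 _ ⟨a, ha, rfl⟩
        simpa using this)⟩, fun N _ hN hco => ?_⟩
    · rw [← map_conj_eq_iff_mem_normalizer]
      apply Subgroup.map_injective K.subtype_injective
      conv_rhs => rw [← map_conj_eq_iff_mem_normalizer.2 (h1 k.2)]
      rw [Subgroup.map_map, Subgroup.map_map]
      congr 1
    · haveI : N.Normal := Subgroup.normalizer_eq_top_iff.1 (top_le_iff.1 hN)
      have h4 := h3 (N.map K.subtype) (Subgroup.map_subtype_le _)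
        (by
          conv_lhs => rw [← Subgroup.range_subtype K, MonoidHom.range_eq_map]
          exact (Subgroup.map_mono hN).trans (Subgroup.le_normalizer_map _))
        (by
          rintro _ ⟨x, hx, rfl⟩ hxc
          exact subtype_mem_centralizer.2 (hco x hx (by simpa using hxc)))
      exact fun g hg => subtype_mem_centralizer.1 (h4 ⟨g, hg, rfl⟩)

theorem red_map_iff {K : Subgroup G} {V : Subgroup ↥K} :
    Cfsg.IsPReducedNormal p V ↔ Red p (V.map K.subtype) K :=
  red_top_iff.trans red_top_map_iff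

theorem red_subgroupOf_iff {K V : Subgroup G} (hVK : V ≤ K) :
    Cfsg.IsPReducedNormal p (V.subgroupOf K) ↔ Red p V K := by
  rw [red_map_iff, Subgroup.map_subgroupOf_eq_of_le hVK]

/-! ### joins, the largest member -/

theorem red_sSup {K : Subgroup G} {𝒱 : Set (Subgroup G)} (h : ∀ V ∈ 𝒱, Red p V K) (hle : ∀ V ∈ 𝒱, V ≤ K) :
    Red p (sSup 𝒱) K := by
  have hc : ∀ V ∈ 𝒱, ∀ W ∈ 𝒱, W ≤ Subgroup.centralizer (V : Set G) := fun V hV W hW =>
    (h V hV).pGroup_le_centralizer (isPGroup_of_elem (h W hW).2.1) (hle W hW) (h W hW).1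
  refine ⟨fun k hk => ?_, ?_, fun N hN hKN hco => ?_⟩
  · rw [← map_conj_eq_iff_mem_normalizer]
    refine Subgroup.eq_of_le_of_card_ge ?_ (card_map_conj _ k).ge
    rw [Subgroup.map_le_iff_le_comap]
    refine sSup_le fun V hV => ?_
    rw [← Subgroup.map_le_iff_le_comap, map_conj_eq_iff_mem_normalizer.2 ((h V hV).1 hk)]
    exact le_sSup hV
  · rw [sSup_eq_iSup', Subgroup.iSup_eq_closure]
    refine elem_closure ?_ ?_
    · intro x hx y hy
      obtain ⟨⟨V, hV⟩, hxV⟩ := Set.mem_iUnion.1 hx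
      obtain ⟨⟨W, hW⟩, hyW⟩ := Set.mem_iUnion.1 hy
      exact Subgroup.mem_centralizer_iff.1 (hc V hV W hW hyW) x hxV
    · intro x hx
      obtain ⟨⟨V, hV⟩, hxV⟩ := Set.mem_iUnion.1 hx
      exact (h V hV).2.1.2 x hxV
  · intro g hg
    rw [sSup_eq_iSup', Subgroup.iSup_eq_closure, Subgroup.centralizer_closure, Subgroup.mem_centralizer_iff]
    intro x hx
    obtain ⟨⟨V, hV⟩, hxV⟩ := Set.mem_iUnion.1 hx
    refine Subgroup.mem_centralizer_iff.1 ((h V hV).2.2 N hN hKN (fun g hg hgc => ?_) hg) x hxV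
    have hVs : V ≤ sSup 𝒱 := le_sSup hV
    exact Subgroup.centralizer_le hVs (hco g hg hgc)

theorem largest_isPReducedNormal {L : Type*} [Group L] [Finite L] :
    Cfsg.IsPReducedNormal p (Cfsg.largestPReduced p L) := by
  rw [red_top_iff]
  exact red_sSup (fun V hV => red_top_iff.1 hV) (fun V _ => le_top)

theorem le_largest {L : Type*} [Group L] {V : Subgroup L} (h : Cfsg.IsPReducedNormal p V) :
    V ≤ Cfsg.largestPReduced p L := le_sSup h

theorem largestOf_le (K : Subgroup G) : Cfsg.largestPReducedOf p K ≤ K := Subgroup.map_subtype_le _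

theorem largestOf_red (K : Subgroup G) : Red p (Cfsg.largestPReducedOf p K) K :=
  red_map_iff.1 largest_isPReducedNormal

theorem le_largestOf {V K : Subgroup G} (hVK : V ≤ K) (h : Red p V K) :
    V ≤ Cfsg.largestPReducedOf p K := fun v hv =>
  ⟨⟨v, hVK hv⟩, le_largest ((red_subgroupOf_iff hVK).2 h) (Subgroup.mem_subgroupOf.2 hv), rfl⟩

theorem largest_normal {L : Type*} [Group L] [Finite L] : (Cfsg.largestPReduced p L).Normal :=
  largest_isPReducedNormal.1

/-! ### generation and restriction -/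

/-- A subgroup normalized by `K ≥ T` is generated by its `p'`-elements and its intersection with the Sylow `T`. -/
theorem le_of_coprime_sylow {N K C T : Subgroup G} (hNK : N ≤ K) (hKN : K ≤ Subgroup.normalizer (N : Set G))
    (hTK : T ≤ K) (hTp : IsPGroup p ↥T) (hT : ∀ R : Subgroup G, IsPGroup p ↥R → R ≤ K → T ≤ R → R = T)
    (hco : ∀ g ∈ N, (orderOf g).Coprime p → g ∈ C) (hTN : T ⊓ N ≤ C) : N ≤ C := by
  haveI : (N.subgroupOf K).Normal := (Subgroup.normal_subgroupOf_iff_le_normalizer hNK).2 hKN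
  obtain ⟨P, hP⟩ := (hTp.comap_of_injective K.subtype K.subtype_injective).exists_le_sylow
  have hPT : (P : Subgroup ↥K).map K.subtype = T := hT _ (P.isPGroup'.map _) (Subgroup.map_subtype_le _)
    fun t ht => ⟨⟨t, hTK ht⟩, hP ht, rfl⟩
  obtain ⟨S, hS⟩ := Cfsg.Agent.PBasic.exists_sylow_subgroupOf P (N.subgroupOf K)
  let f : ↥(N.subgroupOf K) →* G := K.subtype.comp (N.subgroupOf K).subtype
  have hgen := congrArg (Subgroup.map f) (pResidual_sup_sylow S)
  rw [Subgroup.map_sup] at hgen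
  intro n hn
  have hn' : n ∈ Subgroup.map f ⊤ := ⟨⟨⟨n, hNK hn⟩, hn⟩, Subgroup.mem_top _, rfl⟩
  rw [← hgen] at hn'
  refine (sup_le ?_ ?_ : _ ≤ C) hn'
  · rw [Cfsg.pResidual, MonoidHom.map_closure, Subgroup.closure_le]
    rintro _ ⟨g, hg, rfl⟩
    refine hco _ g.2 ?_
    show (orderOf (((g : ↥K) : G))).Coprime p
    rwa [Subgroup.orderOf_coe, Subgroup.orderOf_coe]
  · rintro _ ⟨g, hg, rfl⟩
    refine hTN (Subgroup.mem_inf.2 ⟨?_, g.2⟩)
    rw [hS] at hg
    rw [← hPT]
    exact ⟨(g : ↥K), hg, rfl⟩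

/-- Two normal subgroups acting as `p`-groups on `V` generate one. -/
theorem coprime_sup {V K N₁ N₂ : Subgroup G} (hKV : K ≤ Subgroup.normalizer (V : Set G)) (h₁ : N₁ ≤ K)
    (h₂ : N₂ ≤ K) (n₁ : K ≤ Subgroup.normalizer (N₁ : Set G)) (n₂ : K ≤ Subgroup.normalizer (N₂ : Set G))
    (c₁ : ∀ g ∈ N₁, (orderOf g).Coprime p → g ∈ Subgroup.centralizer (V : Set G))
    (c₂ : ∀ g ∈ N₂, (orderOf g).Coprime p → g ∈ Subgroup.centralizer (V : Set G)) :
    ∀ g ∈ N₁ ⊔ N₂, (orderOf g).Coprime p → g ∈ Subgroup.centralizer (V : Set G) := by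
  intro g hg hgc
  set C := K ⊓ Subgroup.centralizer (V : Set G) with hC
  have hKC : K ≤ Subgroup.normalizer (C : Set G) :=
    (le_inf Subgroup.le_normalizer (hKV.trans (LELarge.normalizer_le_normalizer_centralizer V))).trans
      (LELarge.inf_normalizer_le _ _)
  obtain ⟨T, hT⟩ : ∃ T : Sylow p ↥K, True := ⟨Classical.arbitrary _, trivial⟩
  set T' := (T : Subgroup ↥K).map K.subtype with hT'
  have hmax : ∀ R : Subgroup G, IsPGroup p ↥R → R ≤ K → T' ≤ R → R = T' := fun R hR hRK hTR => by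
    have h2 := T.is_maximal' (hR.comap_of_injective K.subtype K.subtype_injective)
      (Q := R.subgroupOf K) (fun x hx => hTR ⟨x, hx, rfl⟩)
    rw [hT', ← h2, Subgroup.map_subgroupOf_eq_of_le hRK]
  have hn : ∀ N : Subgroup G, N ≤ K → K ≤ Subgroup.normalizer (N : Set G) →
      (∀ g ∈ N, (orderOf g).Coprime p → g ∈ Subgroup.centralizer (V : Set G)) → N ≤ C ⊔ T' :=
    fun N hN hKN hco => le_of_coprime_sylow (T := T') hN hKN (Subgroup.map_subtype_le _)
      (T.isPGroup'.map _) hmax (fun g hg hgc => Subgroup.mem_sup_left ⟨hN hg, hco g hg hgc⟩)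
      (inf_le_left.trans le_sup_right)
  exact (Subgroup.mem_inf.1 (LEWeakClosed.mem_of_sup_pGroup ((Subgroup.map_subtype_le _).trans hKC) (T.isPGroup'.map _)
    (sup_le (hn N₁ h₁ n₁ c₁) (hn N₂ h₂ n₂ c₂) hg) hgc)).2

theorem exists_largest_pActing {V K : Subgroup G} (hKV : K ≤ Subgroup.normalizer (V : Set G)) :
    ∃ M : Subgroup G, M ≤ K ∧ K ≤ Subgroup.normalizer (M : Set G) ∧
      (∀ g ∈ M, (orderOf g).Coprime p → g ∈ Subgroup.centralizer (V : Set G)) ∧
      ∀ N : Subgroup G, N ≤ K → K ≤ Subgroup.normalizer (N : Set G) →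
        (∀ g ∈ N, (orderOf g).Coprime p → g ∈ Subgroup.centralizer (V : Set G)) → N ≤ M := by
  obtain ⟨M, hM⟩ := (Set.toFinite {M : Subgroup G | M ≤ K ∧ K ≤ Subgroup.normalizer (M : Set G) ∧
      ∀ g ∈ M, (orderOf g).Coprime p → g ∈ Subgroup.centralizer (V : Set G)}).exists_maximal
    ⟨⊥, bot_le, le_top.trans (Subgroup.normalizer_eq_top_iff.2 inferInstance).ge, fun g hg _ => by
      rw [Subgroup.mem_bot] at hg; rw [hg]; exact one_mem _⟩
  obtain ⟨h1, h2, h3⟩ := hM.prop
  refine ⟨M, h1, h2, h3, fun N hN hKN hco => le_sup_right.trans (hM.le_of_ge ⟨sup_le h1 hN, fun k hk => ?_,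
    coprime_sup hKV h1 hN h2 hKN h3 hco⟩ (le_sup_left : M ≤ M ⊔ N))⟩
  rw [← map_conj_eq_iff_mem_normalizer, Subgroup.map_sup, map_conj_eq_iff_mem_normalizer.2 (h2 hk),
    map_conj_eq_iff_mem_normalizer.2 (hKN hk)]

/-- Being `p`-reduced passes to normal subgroups. -/
theorem Red.of_normal {V K L : Subgroup G} (h : Red p V K) (hLK : L ≤ K)
    (hn : K ≤ Subgroup.normalizer (L : Set G)) : Red p V L := by
  have hLV := hLK.trans h.1
  refine ⟨hLV, h.2.1, fun N hN hLN hco => ?_⟩
  obtain ⟨M, hML, hLM, hMc, hMmax⟩ := exists_largest_pActing (p := p) hLV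
  refine (hMmax N hN hLN hco).trans (h.2.2 M (hML.trans hLK) (fun k hk => ?_) hMc)
  rw [← map_conj_eq_iff_mem_normalizer]
  refine Subgroup.eq_of_le_of_card_ge (hMmax _ ?_ ?_ ?_) (card_map_conj M k).ge
  · exact (map_conj_mono k hML).trans (map_conj_eq_iff_mem_normalizer.2 (hn hk)).le
  · rw [← map_conj_eq_iff_mem_normalizer.2 (hn hk)]
    exact (map_conj_mono k hLM).trans (Subgroup.le_normalizer_map _)
  · rintro _ ⟨g, hg, rfl⟩ hgc
    rw [MulEquiv.coe_toMonoidHom, MulEquiv.orderOf_eq] at hgc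
    have hkC : k ∈ Subgroup.normalizer (Subgroup.centralizer (V : Set G) : Set G) :=
      LELarge.normalizer_le_normalizer_centralizer V (h.1 hk)
    exact (Subgroup.mem_normalizer_iff.1 hkC g).1 (hMc g hg hgc)

theorem Red.of_isSubnormal {V : Subgroup G} (h : Red p V ⊤) {L : Subgroup G} (hL : L.IsSubnormal) :
    Red p V L := by
  induction hL with
  | top => exact h
  | step A B hAB _ hn ih => exact ih.of_normal hAB ((Subgroup.normal_subgroupOf_iff_le_normalizer hAB).1 hn)

/-- `p'`-elements `x` with `[V, x]` inside a subgroup they centralize centralize `V`. -/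
theorem mem_centralizer_of_commutator {V W : Subgroup G} (hV : IsPGroup p ↥V) (hWV : W ≤ V) {x : G}
    (hx : (orderOf x).Coprime p) (hc : ∀ v ∈ V, v⁻¹ * (x * v * x⁻¹) ∈ W)
    (hW : x ∈ Subgroup.centralizer (W : Set G)) : x ∈ Subgroup.centralizer (V : Set G) :=
  Subgroup.mem_centralizer_iff.2 fun v hv =>
    (CharP.commute_of_conj_eq_mul hV (hWV (hc v hv)) hx (by group)
      (Subgroup.mem_centralizer_iff.1 hW _ (hc v hv)).symm).symm

/-- Normal subgroups containing `[V, O^p(K)]` with the right action are `p`-reduced. -/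
theorem Red.of_commutator {V W K : Subgroup G} (h : Red p V K) (hWV : W ≤ V)
    (hKW : K ≤ Subgroup.normalizer (W : Set G))
    (hc : ∀ x ∈ K, (orderOf x).Coprime p → ∀ v ∈ V, v⁻¹ * (x * v * x⁻¹) ∈ W) :
    Red p W K ∧ K ⊓ Subgroup.centralizer (W : Set G) ≤ Subgroup.centralizer (V : Set G) := by
  have key : ∀ N : Subgroup G, N ≤ K → K ≤ Subgroup.normalizer (N : Set G) →
      (∀ g ∈ N, (orderOf g).Coprime p → g ∈ Subgroup.centralizer (W : Set G)) →
      N ≤ Subgroup.centralizer (V : Set G) := fun N hN hKN hco =>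
    h.2.2 N hN hKN fun g hg hgc =>
      mem_centralizer_of_commutator (isPGroup_of_elem h.2.1) hWV hgc (hc g (hN hg) hgc) (hco g hg hgc)
  refine ⟨⟨hKW, elem_mono h.2.1 hWV, fun N hN hKN hco => (key N hN hKN hco).trans (Subgroup.centralizer_le hWV)⟩,
    key _ inf_le_left ((le_inf Subgroup.le_normalizer
      (hKW.trans (LELarge.normalizer_le_normalizer_centralizer W))).trans (LELarge.inf_normalizer_le _ _))
      fun g hg _ => (Subgroup.mem_inf.1 hg).2⟩

theorem pResidual_map_le {K : Subgroup G} {C : Subgroup G} (h : ∀ x ∈ K, (orderOf x).Coprime p → x ∈ C) :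
    (Cfsg.pResidual p ↥K).map K.subtype ≤ C := by
  rw [Cfsg.pResidual, MonoidHom.map_closure, Subgroup.closure_le]
  rintro _ ⟨g, hg, rfl⟩
  exact h g g.2 (by simpa using hg)

theorem mem_pResidual_map {K : Subgroup G} {x : G} (hx : x ∈ K) (hxc : (orderOf x).Coprime p) :
    x ∈ (Cfsg.pResidual p ↥K).map K.subtype :=
  ⟨⟨x, hx⟩, Subgroup.subset_closure (by simpa using hxc), rfl⟩

/-- `[V, O^p(K)]` lies in `K` for subnormal `K`, and in fact in `[[V, O^p(K)], O^p(K)]`. -/
theorem commutator_pResidual_le {V : Subgroup G} [V.Normal] (hV : IsPGroup p ↥V) {K : Subgroup G}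
    (hK : K.IsSubnormal) : ⁅V, (Cfsg.pResidual p ↥K).map K.subtype⁆ ≤ K := by
  induction hK with
  | top => exact le_top
  | step A B hAB _ hn ih =>
    set R := (Cfsg.pResidual p ↥A).map A.subtype with hR
    have hRB : R ≤ (Cfsg.pResidual p ↥B).map B.subtype :=
      pResidual_map_le fun x hx hxc => mem_pResidual_map (hAB hx) hxc
    have hWB : ⁅V, R⁆ ≤ B := (Subgroup.commutator_mono le_rfl hRB).trans ih
    set X := ⁅⁅V, R⁆, R⁆ with hX
    have hXA : X ≤ A := by
      refine (Subgroup.commutator_mono hWB (Subgroup.map_subtype_le _)).trans ?_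
      exact Subgroup.le_normalizer_iff_commutator_le_right.1
        ((Subgroup.normal_subgroupOf_iff_le_normalizer hAB).1 hn)
    have hVn : ∀ g : G, g ∈ Subgroup.normalizer (V : Set G) := fun g => by
      rw [Subgroup.normalizer_eq_top_iff.2 inferInstance]; trivial
    have hRX : R ≤ Subgroup.normalizer (X : Set G) := fun r hr => by
      rw [← map_conj_eq_iff_mem_normalizer, hX, Subgroup.map_commutator, Subgroup.map_commutator,
        map_conj_eq_iff_mem_normalizer.2 (hVn r), map_conj_eq_iff_mem_normalizer.2 (Subgroup.le_normalizer hr)]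
    refine le_trans ?_ hXA
    rw [Subgroup.commutator_le]
    intro v hv r hr
    rw [hR, Cfsg.pResidual, MonoidHom.map_closure] at hr
    have hsub : Subgroup.closure (A.subtype '' {g : ↥A | (orderOf g).Coprime p}) = R := by
      rw [hR, Cfsg.pResidual, MonoidHom.map_closure]
    induction hr using Subgroup.closure_induction with
    | mem x hx =>
      obtain ⟨x, hxc, rfl⟩ := hx
      have hB : ¬ p ∣ Nat.card ↥(Subgroup.zpowers (x : G)) := by
        rw [Nat.card_zpowers, Subgroup.orderOf_coe]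
        exact (Fact.out : p.Prime).coprime_iff_not_dvd.1 hxc.symm
      have h1 := LECoprime.commutator_commutator_eq hV hB (fun g _ => hVn g)
      have hxR : Subgroup.zpowers (x : G) ≤ R :=
        Subgroup.zpowers_le.2 (hsub.le (Subgroup.subset_closure ⟨x, hxc, rfl⟩))
      refine (h1.ge.trans ?_) (Subgroup.commutator_mem_commutator hv (Subgroup.mem_zpowers _))
      exact Subgroup.commutator_mono (Subgroup.commutator_mono le_rfl hxR) hxR
    | one => simp
    | mul a b ha _ iha ihb =>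
      rw [commutatorElement_mul_right_eq_mul_conj, mul_assoc, mul_assoc]
      refine mul_mem iha ?_
      rw [← mul_assoc]
      exact (Subgroup.mem_normalizer_iff.1 (hRX (hsub.le ha)) _).1 ihb
    | inv a ha iha =>
      rw [commutatorElement_inv_right, ← commutatorElement_inv v a]
      exact (Subgroup.mem_normalizer_iff''.1 (hRX (hsub.le ha)) _).1 (inv_mem iha)

/-- The normal closure of a `p`-reduced normal subgroup of an overgroup of a Sylow subgroup. -/
theorem red_normalClosure {L : Type*} [Group L] [Finite L]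
    (hchar : Subgroup.centralizer (Cfsg.pCore p L : Set L) ≤ Cfsg.pCore p L) (T : Sylow p L) {R X : Subgroup L}
    (hTR : (T : Subgroup L) ≤ R) (hXR : X ≤ R) (h : Red p X R) :
    Cfsg.IsPReducedNormal p (Subgroup.normalClosure (X : Set L)) := by
  haveI := Cfsg.pCore_normal p L
  set Q := Cfsg.pCore p L with hQ
  have hQX : Q ≤ Subgroup.centralizer (X : Set L) :=
    h.pGroup_le_centralizer Cfsg.Agent.LEBasic.pCore_isPGroup ((pCore_le_sylow T).trans hTR)
      (le_top.trans (Subgroup.normalizer_eq_top_iff.2 inferInstance).ge)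
  have hXC : X ≤ Subgroup.centralizer (Q : Set L) := Subgroup.le_centralizer_iff.1 hQX
  set Z := Subgroup.normalClosure (X : Set L) with hZ
  have hZQ : Z ≤ Q ⊓ Subgroup.centralizer (Q : Set L) :=
    Subgroup.normalClosure_le_normal (le_inf (hXC.trans hchar) hXC)
  refine red_top_iff.2 ⟨(Subgroup.normalizer_eq_top_iff.2 Subgroup.normalClosure_normal).ge, ?_, fun N _ hN hco => ?_⟩
  · rw [hZ, Subgroup.normalClosure]
    refine elem_closure (fun x hx y hy => ?_) fun x hx => ?_
    · have h1 := hZQ (Subgroup.subset_closure hx : x ∈ Z)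
      have h2 := hZQ (Subgroup.subset_closure hy : y ∈ Z)
      exact Subgroup.mem_centralizer_iff.1 (Subgroup.mem_inf.1 h2).2 x (Subgroup.mem_inf.1 h1).1
    · obtain ⟨a, ha, hax⟩ := Group.mem_conjugatesOfSet_iff.1 hx
      obtain ⟨c, rfl⟩ := isConj_iff.1 hax
      rw [conj_pow, h.2.1.2 a ha, mul_one, mul_inv_cancel]
  · haveI hNn : N.Normal := Subgroup.normalizer_eq_top_iff.1 (top_le_iff.1 hN)
    have hXZ : X ≤ Z := Subgroup.le_normalClosure
    have hcoX : ∀ g ∈ N, (orderOf g).Coprime p → g ∈ Subgroup.centralizer (X : Set L) := fun g hg hgc =>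
      Subgroup.centralizer_le hXZ (hco g hg hgc)
    have hRN : R ⊓ N ≤ Subgroup.centralizer (X : Set L) := by
      refine h.2.2 _ inf_le_left ((le_inf Subgroup.le_normalizer ?_).trans (LELarge.inf_normalizer_le _ _))
        fun g hg hgc => hcoX g (Subgroup.mem_inf.1 hg).2 hgc
      rw [Subgroup.normalizer_eq_top_iff.2 hNn]; exact le_top
    have hN' : N ≤ Subgroup.centralizer (X : Set L) :=
      le_of_coprime_sylow (K := ⊤) le_top hN le_top T.isPGroup'
        (fun R hR _ hTR => T.is_maximal' hR hTR) hcoX ((inf_le_inf_right N hTR).trans hRN)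
    intro n hn
    rw [hZ, Subgroup.normalClosure, Subgroup.centralizer_closure, Subgroup.mem_centralizer_iff]
    intro x hx
    obtain ⟨a, ha, hax⟩ := Group.mem_conjugatesOfSet_iff.1 hx
    obtain ⟨c, rfl⟩ := isConj_iff.1 hax
    have h3 : c⁻¹ * n * c ∈ N := by simpa using hNn.conj_mem n hn c⁻¹
    have h4 := congrArg (fun z => c * z * c⁻¹) (Subgroup.mem_centralizer_iff.1 (hN' h3) a ha)
    simpa [mul_assoc] using h4

end Cfsg.Agent.LEPReduced
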