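/-
Structure of the largest p-reduced normal subgroup and its centralizer.
-/
import Cfsg.Agent.Lib.LocalEven.PReduced

set_option autoImplicit false
set_option linter.unusedSectionVars false

namespace Cfsg.Agent.LEPReduced

open Cfsg.Agent.LEBasic
open scoped commutatorElement

variable {L : Type*} [Group L] [Finite L] {p : ℕ} [Fact p.Prime]

/-- `L = N(C_T(Y))C(Y)`, `O_p(N(C_T(Y))) = C_T(Y)`, and `Y = Ω₁(Z(C_T(Y)))`. -/
theorem structure_largest (hchar : Subgroup.centralizer (Cfsg.pCore p L : Set L) ≤ Cfsg.pCore p L) (T : Sylow p L)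
    {Y : Subgroup L} (hY : Cfsg.IsPReducedNormal p Y) (hmax : ∀ V : Subgroup L, Cfsg.IsPReducedNormal p V → V ≤ Y)
    {TL : Subgroup L} (hTL : TL = (T : Subgroup L) ⊓ Subgroup.centralizer (Y : Set L)) :
    Subgroup.normalizer (TL : Set L) ⊔ Subgroup.centralizer (Y : Set L) = ⊤ ∧
      CharP.opIn p (Subgroup.normalizer (TL : Set L)) = TL ∧
      Y = Cfsg.omegaOne p (TL ⊓ Subgroup.centralizer (TL : Set L)) := by
  have hYr := red_top_iff.1 hY
  haveI := hY.1
  set C := Subgroup.centralizer (Y : Set L) with hC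
  haveI hCn : C.Normal := Subgroup.normal_centralizer
  set R := Subgroup.normalizer (TL : Set L) with hR
  have hTLT : TL ≤ (T : Subgroup L) := hTL.le.trans inf_le_left
  have hTLC : TL ≤ C := hTL.le.trans inf_le_right
  have hTLR : TL ≤ R := Subgroup.le_normalizer
  have hTR : (T : Subgroup L) ≤ R := by
    rw [hR, hTL]
    refine (le_inf Subgroup.le_normalizer ?_).trans (LELarge.inf_normalizer_le _ _)
    rw [Subgroup.normalizer_eq_top_iff.2 hCn]; exact le_top
  obtain ⟨Q, hQ⟩ := Cfsg.Agent.PBasic.exists_sylow_subgroupOf T C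
  have hF := Sylow.normalizer_sup_eq_top Q
  rw [hQ, Subgroup.subgroupOf_map_subtype, ← hTL] at hF
  have hnc : ∀ N : Subgroup L, R ≤ Subgroup.normalizer (N : Set L) →
      (⊤ : Subgroup L) ≤ Subgroup.normalizer ((N ⊔ C : Subgroup L) : Set L) := by
    intro N hN
    rw [← hF]
    refine sup_le ?_ (le_sup_right.trans Subgroup.le_normalizer)
    intro r hr
    rw [← map_conj_eq_iff_mem_normalizer, Subgroup.map_sup, map_conj_eq_iff_mem_normalizer.2 (hN hr),
      map_conj_eq_iff_mem_normalizer.2 (show r ∈ Subgroup.normalizer (C : Set L) by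
        rw [Subgroup.normalizer_eq_top_iff.2 hCn]; trivial)]
  have hkey : ∀ N : Subgroup L, R ≤ Subgroup.normalizer (N : Set L) → N ≤ C ⊔ (T : Subgroup L) → N ≤ C := by
    intro N hN hNCT
    refine le_sup_left.trans (hYr.2.2 (N ⊔ C) le_top (hnc N hN) fun g hg hgc => ?_)
    refine LEWeakClosed.mem_of_sup_pGroup (Y := (T : Subgroup L)) ?_ T.isPGroup'
      ((sup_le hNCT le_sup_left : N ⊔ C ≤ _) hg) hgc
    rw [Subgroup.normalizer_eq_top_iff.2 hCn]; exact le_top
  refine ⟨hF, ?_, ?_⟩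
  · refine le_antisymm ?_ (CharP.le_opIn hTLR le_rfl (T.isPGroup'.to_le hTLT))
    have hPT : CharP.opIn p R ≤ (T : Subgroup L) := by
      rintro _ ⟨x, hx, rfl⟩
      exact pCore_le_sylow (T.subtype hTR) hx
    rw [hTL]
    exact le_inf hPT (hkey _ (CharP.le_normalizer_opIn R) (hPT.trans le_sup_right))
  · set X := Cfsg.omegaOne p (TL ⊓ Subgroup.centralizer (TL : Set L)) with hX
    have hXle : X ≤ TL ⊓ Subgroup.centralizer (TL : Set L) :=
      (Subgroup.closure_le _).2 fun x hx => hx.1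
    have hYX : Y ≤ X := fun y hy => by
      refine Subgroup.subset_closure ⟨Subgroup.mem_inf.2 ⟨?_, ?_⟩, hY.2.1.2 y hy⟩
      · rw [hTL]
        exact Subgroup.mem_inf.2 ⟨normal_le_sylow (isPGroup_of_elem hY.2.1) T hy, le_centralizer_self hY.2.1 hy⟩
      · exact Subgroup.le_centralizer_iff.1 hTLC hy
    refine le_antisymm hYX ?_
    have hXR : X ≤ R := hXle.trans (inf_le_left.trans hTLR)
    have hRX : R ≤ Subgroup.normalizer (X : Set L) := by
      intro r hr
      rw [← map_conj_eq_iff_mem_normalizer]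
      refine Subgroup.eq_of_le_of_card_ge ?_ (card_map_conj X r).ge
      have h1 : (TL ⊓ Subgroup.centralizer (TL : Set L)).map (MulAut.conj r).toMonoidHom =
          TL ⊓ Subgroup.centralizer (TL : Set L) := map_conj_eq_iff_mem_normalizer.2
        ((le_inf le_rfl (LELarge.normalizer_le_normalizer_centralizer TL)).trans (LELarge.inf_normalizer_le _ _) hr)
      rw [hX, Cfsg.omegaOne, MonoidHom.map_closure, Subgroup.closure_le]
      rintro _ ⟨x, ⟨hx, hxp⟩, rfl⟩
      exact Subgroup.subset_closure ⟨h1.le ⟨x, hx, rfl⟩, by rw [← map_pow, hxp, map_one]⟩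
    have hXe : Cfsg.IsElementaryAbelian p X := elem_closure (fun x hx y hy =>
      (Subgroup.mem_centralizer_iff.1 (Subgroup.mem_inf.1 hx.1).2 y (Subgroup.mem_inf.1 hy.1).1).symm)
      fun x hx => hx.2
    have hXred : Red p X R := by
      refine ⟨hRX, hXe, fun N hNR hRN hco => ?_⟩
      have hT : ∀ S : Subgroup L, IsPGroup p ↥S → S ≤ R → (T : Subgroup L) ≤ S → S = T :=
        fun S hS _ hTS => T.is_maximal' hS hTS
      have h1 : N ≤ C ⊔ (T : Subgroup L) := le_of_coprime_sylow hNR hRN hTR T.isPGroup' hT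
        (fun g hg hgc => Subgroup.mem_sup_left (Subgroup.centralizer_le hYX (hco g hg hgc)))
        (inf_le_left.trans le_sup_right)
      refine le_of_coprime_sylow hNR hRN hTR T.isPGroup' hT hco ?_
      refine (le_trans (le_inf inf_le_left (inf_le_right.trans (hkey N hRN h1))) hTL.ge).trans ?_
      exact Subgroup.le_centralizer_iff.1 (hXle.trans inf_le_right)
    exact Subgroup.le_normalClosure.trans (hmax _ (red_normalClosure hchar T hTR hXR hXred))

section Ambient

variable {H : Type*} [Group H] [Finite H]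

theorem opIn_le_of_sylow (T : Sylow p H) {K : Subgroup H} (hT : (T : Subgroup H) ≤ K) :
    CharP.opIn p K ≤ (T : Subgroup H) := by
  rintro _ ⟨x, hx, rfl⟩
  exact pCore_le_sylow (T.subtype hT) hx

/-- `C_T(Y)` is a Sylow subgroup of `C(Y)` when `T` normalizes `Y`. -/
theorem exists_sylow_centralizer (T : Sylow p H) {Y : Subgroup H}
    (hY : (T : Subgroup H) ≤ Subgroup.normalizer (Y : Set H)) :
    ∃ P : Sylow p ↥(Subgroup.centralizer (Y : Set H)), (P : Subgroup ↥(Subgroup.centralizer (Y : Set H))) =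
      ((T : Subgroup H) ⊓ Subgroup.centralizer (Y : Set H)).subgroupOf (Subgroup.centralizer (Y : Set H)) := by
  set C := Subgroup.centralizer (Y : Set H) with hC
  refine ⟨⟨((T : Subgroup H) ⊓ C).subgroupOf C,
    (T.isPGroup'.to_le inf_le_left).comap_of_injective C.subtype C.subtype_injective, ?_⟩, rfl⟩
  intro R hR hle
  have hRC : R.map C.subtype ≤ C := Subgroup.map_subtype_le R
  have hCN : C ≤ Subgroup.normalizer (Y : Set H) := fun c hc => Subgroup.centralizer_le_normalizer _ hc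
  obtain ⟨g, hg, hgle⟩ := LESylow.exists_conj_le_of_le (hRC.trans hCN) (hR.map _) (T.subtype hY)
  rw [Sylow.coe_subtype, Subgroup.map_subgroupOf_eq_of_le hY] at hgle
  have h1 : (R.map C.subtype).map (MulAut.conj g).toMonoidHom ≤ (T : Subgroup H) ⊓ C :=
    le_inf hgle ((map_conj_mono g hRC).trans
      (map_conj_eq_iff_mem_normalizer.2 (LELarge.normalizer_le_normalizer_centralizer Y hg)).le)
  refine (Subgroup.eq_of_le_of_card_ge hle ?_).symm
  calc Nat.card ↥R = Nat.card ↥(R.map C.subtype) :=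
        Nat.card_congr (R.equivMapOfInjective C.subtype C.subtype_injective).toEquiv
    _ = Nat.card ↥((R.map C.subtype).map (MulAut.conj g).toMonoidHom) := (card_map_conj _ g).symm
    _ ≤ Nat.card ↥((T : Subgroup H) ⊓ C) := Subgroup.card_le_of_le h1
    _ = _ := Nat.card_congr (Subgroup.subgroupOfEquivOfLe inf_le_right).symm.toEquiv

theorem sylowCenterClosure_le_largestOf {K : Subgroup H}
    (hK : Subgroup.centralizer (Cfsg.pCore p ↥K : Set ↥K) ≤ Cfsg.pCore p ↥K) :
    Cfsg.sylowCenterClosure p K ≤ Cfsg.largestPReducedOf p K := by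
  refine iSup_le fun S => ?_
  set X := Cfsg.omegaOne p ((S : Subgroup ↥K) ⊓ Subgroup.centralizer ((S : Subgroup ↥K) : Set ↥K)) with hX
  have hXle : X ≤ (S : Subgroup ↥K) ⊓ Subgroup.centralizer ((S : Subgroup ↥K) : Set ↥K) :=
    (Subgroup.closure_le _).2 fun x hx => hx.1
  have hSC : (S : Subgroup ↥K) ≤ Subgroup.centralizer (X : Set ↥K) :=
    Subgroup.le_centralizer_iff.1 (hXle.trans inf_le_right)
  have hred : Red p X (S : Subgroup ↥K) := by
    refine ⟨fun s hs => Subgroup.centralizer_le_normalizer _ (hSC hs), ?_, fun N hN _ _ => hN.trans hSC⟩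
    exact elem_closure (fun x hx y hy => Subgroup.mem_centralizer_iff.1 (Subgroup.mem_inf.1 hy.1).2 x
      (Subgroup.mem_inf.1 hx.1).1) fun x hx => hx.2
  have h1 : X ≤ Cfsg.largestPReduced p ↥K :=
    Subgroup.le_normalClosure.trans (le_largest (red_normalClosure hK S le_rfl (hXle.trans inf_le_left) hred))
  rw [Cfsg.omegaOne, Subgroup.closure_le]
  rintro x ⟨hx, hxp⟩
  obtain ⟨⟨y, hy, rfl⟩, hxc⟩ := Subgroup.mem_inf.1 hx
  refine ⟨y, h1 (Subgroup.subset_closure ⟨Subgroup.mem_inf.2 ⟨hy, ?_⟩, ?_⟩), rfl⟩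
  · exact Subgroup.mem_centralizer_iff.2 fun s hs =>
      Subtype.ext (Subgroup.mem_centralizer_iff.1 hxc _ ⟨s, hs, rfl⟩)
  · exact Subtype.ext (by simpa using hxp)

theorem sylowCenter_le_closure (T : Sylow p H) {K : Subgroup H} (hT : (T : Subgroup H) ≤ K) :
    Cfsg.omegaOne p ((T : Subgroup H) ⊓ Subgroup.centralizer ((T : Subgroup H) : Set H)) ≤
      Cfsg.sylowCenterClosure p K := by
  refine le_trans ?_ (le_iSup (fun S : Sylow p ↥K => Cfsg.omegaOne p (((S : Subgroup ↥K).map K.subtype) ⊓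
    Subgroup.centralizer (((S : Subgroup ↥K).map K.subtype : Subgroup H) : Set H))) (T.subtype hT))
  simp only [Sylow.coe_subtype, Subgroup.map_subgroupOf_eq_of_le hT]
  exact le_rfl

theorem largestOf_le_omega (K : Subgroup H) :
    Cfsg.largestPReducedOf p K ≤
      Cfsg.omegaOne p (CharP.opIn p K ⊓ Subgroup.centralizer (CharP.opIn p K : Set H)) := by
  intro y hy
  have hr := largestOf_red (p := p) K
  refine Subgroup.subset_closure ⟨Subgroup.mem_inf.2 ⟨hr.le_opIn (largestOf_le K) hy, ?_⟩, hr.2.1.2 y hy⟩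
  exact Subgroup.le_centralizer_iff.1
    (hr.pGroup_le_centralizer (CharP.opIn_isPGroup K) (CharP.opIn_le K) (CharP.le_normalizer_opIn K)) hy

end Ambient

section Ambient2

variable {H : Type*} [Group H] [Finite H]

/-- `Red` passes along a factorization `MC = KC`. -/
theorem red_of_factorization (T : Sylow p H) {Y M K : Subgroup H} (hY : Red p Y M) (hTK : (T : Subgroup H) ≤ K)
    (hfac : K ⊔ Subgroup.centralizer (Y : Set H) = M ⊔ Subgroup.centralizer (Y : Set H)) : Red p Y K := by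
  set C := Subgroup.centralizer (Y : Set H) with hC
  have hKY : K ≤ Subgroup.normalizer (Y : Set H) :=
    (le_sup_left.trans hfac.le).trans (sup_le hY.1 fun c hc => Subgroup.centralizer_le_normalizer _ hc)
  have hKC : K ≤ Subgroup.normalizer (C : Set H) := hKY.trans (LELarge.normalizer_le_normalizer_centralizer Y)
  refine ⟨hKY, hY.2.1, fun N hNK hKN hco => ?_⟩
  have hN1 : N ≤ C ⊔ (T : Subgroup H) := le_of_coprime_sylow hNK hKN hTK T.isPGroup'
    (fun S hS _ hTS => T.is_maximal' hS hTS) (fun g hg hgc => Subgroup.mem_sup_left (hco g hg hgc))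
    (inf_le_left.trans le_sup_right)
  have hco' : ∀ g ∈ N ⊔ C, (orderOf g).Coprime p → g ∈ C := fun g hg hgc =>
    LEWeakClosed.mem_of_sup_pGroup (hTK.trans hKC) T.isPGroup' ((sup_le hN1 le_sup_left : N ⊔ C ≤ _) hg) hgc
  have hnorm : M ≤ Subgroup.normalizer ((N ⊔ C : Subgroup H) : Set H) := by
    refine (le_sup_left.trans hfac.ge).trans (sup_le ?_ (le_sup_right.trans Subgroup.le_normalizer))
    intro k hk
    rw [← map_conj_eq_iff_mem_normalizer, Subgroup.map_sup, map_conj_eq_iff_mem_normalizer.2 (hKN hk),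
      map_conj_eq_iff_mem_normalizer.2 (hKC hk)]
  have h1 := hY.2.2 ((N ⊔ C) ⊓ M) inf_le_right
    ((le_inf hnorm Subgroup.le_normalizer).trans (LELarge.inf_normalizer_le _ _))
    fun g hg hgc => hco' g (Subgroup.mem_inf.1 hg).1 hgc
  intro n hn
  have hMC : M ≤ Subgroup.normalizer (C : Set H) := hY.1.trans (LELarge.normalizer_le_normalizer_centralizer Y)
  obtain ⟨c, hc, m, hm, rfl⟩ := (SolvBasic.mem_sup_iff_of_le_normalizer hMC).1
    (show n ∈ C ⊔ M from (sup_comm M C).le (hfac.le (Subgroup.mem_sup_left (hNK hn))))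
  refine mul_mem hc (h1 (Subgroup.mem_inf.2 ⟨?_, hm⟩))
  have := mul_mem (Subgroup.mem_sup_right (S := N) (inv_mem hc)) (Subgroup.mem_sup_left (T := C) hn)
  simpa using this

theorem largestOf_le_sylow (T : Sylow p H) {K : Subgroup H} (hT : (T : Subgroup H) ≤ K) :
    Cfsg.largestPReducedOf p K ≤ (T : Subgroup H) :=
  ((largestOf_red K).le_opIn (largestOf_le K)).trans (opIn_le_of_sylow T hT)

/-- `Ω₁(Z(C_T(Y_K))) ≤ Y_K`. -/
theorem omega_centralizer_le (T : Sylow p H) {K : Subgroup H} (hT : (T : Subgroup H) ≤ K)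
    (hK : Subgroup.centralizer (Cfsg.pCore p ↥K : Set ↥K) ≤ Cfsg.pCore p ↥K) {T₀ : Subgroup H}
    (hT₀ : T₀ = (T : Subgroup H) ⊓ Subgroup.centralizer ((Cfsg.largestPReducedOf p K : Subgroup H) : Set H))
    {x : H} (hx : x ∈ T₀ ⊓ Subgroup.centralizer (T₀ : Set H)) (hxp : x ^ p = 1) :
    x ∈ Cfsg.largestPReducedOf p K := by
  obtain ⟨hx1, hx2⟩ := Subgroup.mem_inf.1 hx
  have hT0K : T₀ ≤ K := hT₀.le.trans (inf_le_left.trans hT)
  have e : T₀.subgroupOf K = ((T.subtype hT : Sylow p ↥K) : Subgroup ↥K) ⊓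
      Subgroup.centralizer (Cfsg.largestPReduced p ↥K : Set ↥K) := by
    ext g
    rw [hT₀, Subgroup.mem_subgroupOf, Subgroup.mem_inf, Subgroup.mem_inf, Sylow.coe_subtype,
      Subgroup.mem_subgroupOf, Cfsg.largestPReducedOf, subtype_mem_centralizer]
  have h3 := (structure_largest hK (T.subtype hT) largest_isPReducedNormal (fun V hV => le_largest hV) e).2.2
  refine ⟨⟨x, hT0K hx1⟩, h3.ge (Subgroup.subset_closure ⟨Subgroup.mem_inf.2 ⟨hx1, ?_⟩, ?_⟩), rfl⟩
  · exact Subgroup.mem_centralizer_iff.2 fun s hs =>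
      Subtype.ext (Subgroup.mem_centralizer_iff.1 hx2 _ hs)
  · exact Subtype.ext (by simpa using hxp)

/-- Frattini argument inside `M`. -/
theorem frattini_inf (T : Sylow p H) {M C : Subgroup H} (hTM : (T : Subgroup H) ≤ M)
    (hMC : M ≤ Subgroup.normalizer (C : Set H)) :
    M ≤ (M ⊓ Subgroup.normalizer (((T : Subgroup H) ⊓ C : Subgroup H) : Set H)) ⊔ C := by
  haveI : (C.subgroupOf M).Normal := by
    have h1 := (Subgroup.normal_subgroupOf_iff_le_normalizer (H := C ⊓ M) inf_le_right).2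
      ((le_inf hMC Subgroup.le_normalizer).trans (LELarge.inf_normalizer_le _ _))
    rwa [Subgroup.inf_subgroupOf_right] at h1
  obtain ⟨Q, hQ⟩ := Cfsg.Agent.PBasic.exists_sylow_subgroupOf (T.subtype hTM) (C.subgroupOf M)
  have hF := Sylow.normalizer_sup_eq_top Q
  rw [hQ, Subgroup.subgroupOf_map_subtype] at hF
  intro m hm
  have hm' := hF.ge (Subgroup.mem_top (⟨m, hm⟩ : ↥M))
  obtain ⟨a, ha, c, hc, hac⟩ := Subgroup.mem_sup_of_normal_right.1 hm'
  have : m = (a : H) * c := (congrArg Subtype.val hac).symm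
  rw [this]
  refine mul_mem (Subgroup.mem_sup_left (Subgroup.mem_inf.2 ⟨a.2, ?_⟩)) (Subgroup.mem_sup_right hc)
  rw [Subgroup.mem_normalizer_iff]
  intro x
  constructor
  · intro hx
    have h2 := (Subgroup.mem_normalizer_iff.1 ha ⟨x, hTM (Subgroup.mem_inf.1 hx).1⟩).1
      (by simpa [Subgroup.mem_inf, Subgroup.mem_subgroupOf] using hx)
    simpa [Subgroup.mem_inf, Subgroup.mem_subgroupOf] using h2
  · intro hx
    have hxM : x ∈ M := by
      have := mul_mem (mul_mem (inv_mem a.2) (hTM (Subgroup.mem_inf.1 hx).1)) a.2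
      simpa [mul_assoc] using this
    have h2 := (Subgroup.mem_normalizer_iff.1 ha ⟨x, hxM⟩).2
      (by simpa [Subgroup.mem_inf, Subgroup.mem_subgroupOf] using hx)
    simpa [Subgroup.mem_inf, Subgroup.mem_subgroupOf] using h2

end Ambient2

end Cfsg.Agent.LEPReduced
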