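/-
The norm map of an abelian normalized subgroup over a subgroup fixing an element.
-/
import Cfsg.Agent.Lib.LocalEven.PReducedB

set_option autoImplicit false
set_option linter.unusedSectionVars false

namespace Cfsg.Agent.LENorm

open Cfsg.Agent.LEBasic

variable {G : Type*} [Group G] [Finite G]

/-- For `T ≤ L` fixing `z ∈ A`: an `L`-fixed `n ∈ A` with `n ≡ z ^ [L : T]` modulo every subgroup containing
the `[z, L]`, equivariant for elements normalizing `L` and `T` which move `z` by `L`-fixed elements. -/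
theorem exists_norm {A L T : Subgroup G} (hA : ∀ a ∈ A, ∀ b ∈ A, a * b = b * a)
    (hLA : L ≤ Subgroup.normalizer (A : Set G)) {z : G} (hz : z ∈ A) (hTz : ∀ t ∈ T, t * z * t⁻¹ = z) :
    ∃ n ∈ A, (∀ l ∈ L, l * n * l⁻¹ = n) ∧
      (∀ W : Subgroup G, (∀ l ∈ L, z⁻¹ * (l * z * l⁻¹) ∈ W) → (z ^ T.relIndex L)⁻¹ * n ∈ W) ∧
      (∀ a c : G, a ∈ Subgroup.normalizer (A : Set G) → a ∈ Subgroup.normalizer (L : Set G) →
        a ∈ Subgroup.normalizer (T : Set G) → c ∈ A → (∀ l ∈ L, l * c * l⁻¹ = c) → a * z * a⁻¹ = z * c →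
        a * n * a⁻¹ = n * c ^ T.relIndex L) := by
  letI : CommGroup ↥A :=
    { (inferInstance : Group ↥A) with mul_comm := fun x y => Subtype.ext (hA x x.2 y y.2) }
  classical
  let T' : Subgroup ↥L := T.subgroupOf L
  haveI : Fintype (↥L ⧸ T') := Fintype.ofFinite _
  let f₀ : ↥L → ↥A := fun l => ⟨(l : G) * z * (l : G)⁻¹, (Subgroup.mem_normalizer_iff.1 (hLA l.2) z).1 hz⟩
  have hf₀ : ∀ a b : ↥L, a⁻¹ * b ∈ T' → f₀ a = f₀ b := by
    intro a b hab
    refine Subtype.ext ?_
    have := hTz _ (Subgroup.mem_subgroupOf.1 hab)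
    show (a : G) * z * (a : G)⁻¹ = (b : G) * z * (b : G)⁻¹
    conv_lhs => rw [← this]
    simp [mul_assoc]
  let f : ↥L ⧸ T' → ↥A := Quotient.lift f₀ fun a b h => hf₀ a b (QuotientGroup.leftRel_apply.1 h)
  have hfmk : ∀ a : ↥L, f (a : ↥L ⧸ T') = f₀ a := fun a => rfl
  have hcard : T.relIndex L = Fintype.card (↥L ⧸ T') := by
    rw [← Nat.card_eq_fintype_card]; rfl
  refine ⟨((∏ q, f q : ↥A) : G), SetLike.coe_mem _, ?_, ?_, ?_⟩
  · intro l hl
    let φ : ↥A →* ↥A :=
      { toFun := fun x => ⟨l * x * l⁻¹, (Subgroup.mem_normalizer_iff.1 (hLA hl) x).1 x.2⟩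
        map_one' := by ext; simp
        map_mul' := fun x y => by ext; simp [mul_assoc] }
    have h1 : φ (∏ q, f q) = ∏ q, f q := by
      rw [map_prod]
      refine Fintype.prod_equiv (MulAction.toPerm (⟨l, hl⟩ : ↥L)) _ _ fun q => ?_
      induction q using QuotientGroup.induction_on with
      | _ a =>
        simp only [MulAction.toPerm_apply, MulAction.Quotient.smul_coe, smul_eq_mul, hfmk]
        ext
        simp [φ, f₀, mul_assoc]
    exact congrArg Subtype.val h1
  · intro W hW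
    have h1 : (⟨z, hz⟩ : ↥A) ^ T.relIndex L = ∏ _q : ↥L ⧸ T', (⟨z, hz⟩ : ↥A) := by
      rw [Finset.prod_const, Finset.card_univ, hcard]
    have h2 : ((⟨z, hz⟩ : ↥A) ^ T.relIndex L)⁻¹ * ∏ q, f q ∈ W.subgroupOf A := by
      rw [h1, ← Finset.prod_inv_distrib, ← Finset.prod_mul_distrib]
      refine Subgroup.prod_mem _ fun q _ => ?_
      induction q using QuotientGroup.induction_on with
      | _ a =>
        rw [hfmk, Subgroup.mem_subgroupOf]
        exact hW a a.2
    simpa [Subgroup.mem_subgroupOf] using h2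
  · intro a c haA haL haT hc hcfix hazc
    let φ : ↥A →* ↥A :=
      { toFun := fun x => ⟨a * x * a⁻¹, (Subgroup.mem_normalizer_iff.1 haA x).1 x.2⟩
        map_one' := by ext; simp
        map_mul' := fun x y => by ext; simp [mul_assoc] }
    let ψ : ↥L ≃ ↥L :=
      { toFun := fun x => ⟨a * x * a⁻¹, (Subgroup.mem_normalizer_iff.1 haL x).1 x.2⟩
        invFun := fun x => ⟨a⁻¹ * x * a, (Subgroup.mem_normalizer_iff''.1 haL x).1 x.2⟩
        left_inv := fun x => by ext; simp [mul_assoc]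
        right_inv := fun x => by ext; simp [mul_assoc] }
    let e : ↥L ⧸ T' ≃ ↥L ⧸ T' := Quotient.congr ψ fun x y => by
      rw [QuotientGroup.leftRel_apply, QuotientGroup.leftRel_apply, Subgroup.mem_subgroupOf, Subgroup.mem_subgroupOf]
      simp only [ψ, Equiv.coe_fn_mk, Subgroup.coe_mul, Subgroup.coe_inv]
      rw [Subgroup.mem_normalizer_iff.1 haT]
      simp [mul_assoc]
    have h1 : φ (∏ q, f q) = (∏ q, f q) * (⟨c, hc⟩ : ↥A) ^ T.relIndex L := by
      rw [map_prod, hcard, ← Finset.card_univ, ← Finset.prod_const, ← Finset.prod_mul_distrib]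
      refine Fintype.prod_equiv e _ _ fun q => ?_
      induction q using QuotientGroup.induction_on with
      | _ x =>
        have he : e (x : ↥L ⧸ T') = ((ψ x : ↥L) : ↥L ⧸ T') := rfl
        rw [he, hfmk, hfmk]
        ext
        simp only [φ, ψ, f₀, MonoidHom.coe_mk, OneHom.coe_mk, Equiv.coe_fn_mk, Subgroup.coe_mul]
        have h3 : (a * x * a⁻¹) * c * (a * x * a⁻¹)⁻¹ = c :=
          hcfix _ ((Subgroup.mem_normalizer_iff.1 haL x).1 x.2)
        calc a * ((x : G) * z * (x : G)⁻¹) * a⁻¹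
            = (a * x * a⁻¹) * (a * z * a⁻¹) * (a * x * a⁻¹)⁻¹ := by group
          _ = (a * x * a⁻¹) * z * (a * x * a⁻¹)⁻¹ * ((a * x * a⁻¹) * c * (a * x * a⁻¹)⁻¹) := by
            rw [hazc]; group
          _ = _ := by rw [h3]
    have h4 := congrArg Subtype.val h1
    rwa [Subgroup.coe_mul, SubmonoidClass.coe_pow] at h4

/-- Powers prime to the exponent generate. -/
theorem mem_of_pow_mem {p m : ℕ} (hp : p.Prime) {W : Subgroup G} {z : G} (hzp : z ^ p = 1) (hm : ¬ p ∣ m)
    (h : z ^ m ∈ W) : z ∈ W := by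
  obtain ⟨k, hk⟩ := exists_pow_eq_self_of_coprime (x := z) (n := m)
    ((Nat.Coprime.coprime_dvd_left (orderOf_dvd_of_pow_eq_one hzp) ((hp.coprime_iff_not_dvd).2 hm)).symm)
  exact hk ▸ pow_mem h k

theorem not_dvd_relIndex {p : ℕ} [Fact p.Prime] {L T : Subgroup G} (hTL : T ≤ L) (hTp : IsPGroup p ↥T)
    (hT : ∀ R : Subgroup G, IsPGroup p ↥R → R ≤ L → T ≤ R → R = T) : ¬ p ∣ T.relIndex L := by
  obtain ⟨P, hP⟩ := (hTp.comap_of_injective L.subtype L.subtype_injective).exists_le_sylow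
  have hPT : (P : Subgroup ↥L).map L.subtype = T := hT _ (P.isPGroup'.map _) (Subgroup.map_subtype_le _)
    fun t ht => ⟨⟨t, hTL ht⟩, hP ht, rfl⟩
  have : T.subgroupOf L = (P : Subgroup ↥L) := by
    rw [← hPT, Subgroup.subgroupOf, Subgroup.comap_map_eq_self_of_injective L.subtype_injective]
  rw [Subgroup.relIndex, this]
  exact P.not_dvd_index

/-- The Sylow `T ∩ L` of a subnormal subgroup. -/
theorem maximal_inf_subnormal {p : ℕ} [Fact p.Prime] (T : Sylow p G) {L : Subgroup G} (hL : L.IsSubnormal) :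
    ∀ R : Subgroup G, IsPGroup p ↥R → R ≤ L → (T : Subgroup G) ⊓ L ≤ R → R = (T : Subgroup G) ⊓ L := by
  induction hL with
  | top => intro R hR _ hTR; rw [inf_top_eq] at hTR ⊢; exact T.is_maximal' hR hTR
  | step A B hAB _ hn ih =>
    intro R hR hRA hTR
    let P : Sylow p ↥B := ⟨((T : Subgroup G) ⊓ B).subgroupOf B,
      (T.isPGroup'.to_le inf_le_left).comap_of_injective B.subtype B.subtype_injective, fun {S} hS hle => by
        have h1 := ih (S.map B.subtype) (hS.map _) (Subgroup.map_subtype_le _)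
          (fun x hx => ⟨⟨x, (Subgroup.mem_inf.1 hx).2⟩, hle hx, rfl⟩)
        rw [← h1, Subgroup.subgroupOf, Subgroup.comap_map_eq_self_of_injective B.subtype_injective]⟩
    haveI := hn
    obtain ⟨Q, hQ⟩ := Cfsg.Agent.PBasic.exists_sylow_subgroupOf P (A.subgroupOf B)
    refine le_antisymm ?_ hTR
    have h2 : Nat.card ↥R ≤ Nat.card ↥((T : Subgroup G) ⊓ A) := by
      have hRB : R ≤ B := hRA.trans hAB
      have hRp : IsPGroup p ↥((R.subgroupOf B).subgroupOf (A.subgroupOf B)) :=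
        (hR.comap_of_injective B.subtype B.subtype_injective).comap_of_injective _ (Subgroup.subtype_injective _)
      have h3 : (Q : Subgroup ↥(A.subgroupOf B)) ≤ (R.subgroupOf B).subgroupOf (A.subgroupOf B) := by
        rw [hQ]
        intro x hx
        rw [Subgroup.mem_subgroupOf, Subgroup.mem_subgroupOf]
        refine hTR (Subgroup.mem_inf.2 ⟨(Subgroup.mem_subgroupOf.1 hx).1, x.2⟩)
      have h4 := Q.is_maximal' hRp h3
      have h5 : ∀ x ∈ R, x ∈ (T : Subgroup G) ⊓ A := fun x hx => by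
        have h6 : (⟨⟨x, hRB hx⟩, hRA hx⟩ : ↥(A.subgroupOf B)) ∈ (Q : Subgroup ↥(A.subgroupOf B)) := h4 ▸ hx
        rw [hQ] at h6
        exact Subgroup.mem_inf.2 ⟨(Subgroup.mem_subgroupOf.1 h6).1, hRA hx⟩
      exact Subgroup.card_le_of_le h5
    exact (Subgroup.eq_of_le_of_card_ge hTR h2).ge

end Cfsg.Agent.LENorm
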