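/-
The Frattini subgroup lies in any subgroup containing all commutators and all p-th powers.
-/
import Mathlib.GroupTheory.Frattini
import Mathlib.GroupTheory.Commutator.Basic
import Mathlib.GroupTheory.SpecificGroups.Cyclic
import Mathlib.RingTheory.Int.Basic

set_option autoImplicit false

namespace Cfsg.Agent.LEFrattini

open scoped commutatorElement

variable {P : Type*} [Group P] [Finite P] {p : ℕ} [Fact p.Prime]

theorem frattini_le {N : Subgroup P} (hc : ∀ x y : P, ⁅x, y⁆ ∈ N) (hp : ∀ x : P, x ^ p ∈ N) :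
    frattini P ≤ N := by
  intro g hg
  by_contra hgN
  obtain ⟨M, hM⟩ := (Set.toFinite {M : Subgroup P | N ≤ M ∧ g ∉ M}).exists_maximal ⟨N, le_rfl, hgN⟩
  obtain ⟨hNM, hgM⟩ := hM.prop
  haveI : M.Normal := ⟨fun m hm x => by
    have : x * m * x⁻¹ = ⁅x, m⁆ * m := by simp [commutatorElement_def, mul_assoc]
    rw [this]
    exact mul_mem (hNM (hc x m)) hm⟩
  have key : ∀ y : P, y ∈ M ⊔ Subgroup.zpowers g := by
    intro y
    by_cases hy : y ∈ M
    · exact Subgroup.mem_sup_left hy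
    have hgy : g ∈ M ⊔ Subgroup.zpowers y := by
      by_contra hgy
      exact hy (hM.le_of_ge ⟨hNM.trans le_sup_left, hgy⟩ le_sup_left
        (Subgroup.mem_sup_right (Subgroup.mem_zpowers y)))
    obtain ⟨m, hm, z, hz, hmz⟩ := Subgroup.mem_sup_of_normal_left.1 hgy
    obtain ⟨j, rfl⟩ := Subgroup.mem_zpowers_iff.1 hz
    have hj : ¬ (p : ℤ) ∣ j := by
      rintro ⟨c, rfl⟩
      apply hgM
      rw [← hmz, zpow_mul, zpow_natCast]
      exact mul_mem hm (zpow_mem (hNM (hp y)) c)
    obtain ⟨a, b, hab⟩ := ((Nat.prime_iff_prime_int.1 (Fact.out : p.Prime)).coprime_iff_not_dvd.2 hj)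
    have hyj : y ^ j ∈ M ⊔ Subgroup.zpowers g := by
      have : y ^ j = m⁻¹ * g := by rw [← hmz, inv_mul_cancel_left]
      rw [this]
      exact mul_mem (Subgroup.mem_sup_left (inv_mem hm)) (Subgroup.mem_sup_right (Subgroup.mem_zpowers g))
    have hy' : y = (y ^ p) ^ a * (y ^ j) ^ b := by
      rw [← zpow_natCast, ← zpow_mul, ← zpow_mul, ← zpow_add, mul_comm (p : ℤ) a, mul_comm j b, hab,
        zpow_one]
    rw [hy']
    exact mul_mem (Subgroup.mem_sup_left (zpow_mem (hNM (hp y)) a)) (zpow_mem hyj b)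
  have hco : IsCoatom M := by
    refine ⟨fun h => hgM (by rw [h]; trivial), fun K hK => ?_⟩
    have hgK : g ∈ K := by
      by_contra hgK
      exact hK.not_ge (hM.le_of_ge ⟨hNM.trans hK.le, hgK⟩ hK.le)
    rw [eq_top_iff]
    exact fun y _ => sup_le hK.le (Subgroup.zpowers_le.2 hgK) (key y)
  exact hgM (frattini_le_coatom hco hg)

end Cfsg.Agent.LEFrattini
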