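/-
Centralizers of the centre of a Sylow subgroup.
-/
import Cfsg.Agent.Lib.LocalEven.Norm

set_option autoImplicit false
set_option linter.unusedSectionVars false

namespace Cfsg.Agent.LEKieler

open Cfsg.Agent.LEBasic
open scoped commutatorElement

variable {G : Type*} [Group G] [Finite G] {p : ℕ} [Fact p.Prime]

/-- `Ω₁(Z(X))`. -/
abbrev oz (p : ℕ) (X : Subgroup G) : Subgroup G := Cfsg.omegaOne p (X ⊓ Subgroup.centralizer (X : Set G))

theorem oz_le (X : Subgroup G) : oz p X ≤ X ⊓ Subgroup.centralizer (X : Set G) :=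
  (Subgroup.closure_le _).2 fun _ hx => hx.1

theorem oz_elem (X : Subgroup G) : Cfsg.IsElementaryAbelian p (oz p X) :=
  LEPReduced.elem_closure (fun x hx _ hy => Subgroup.mem_centralizer_iff.1 (Subgroup.mem_inf.1 hy.1).2 x
    (Subgroup.mem_inf.1 hx.1).1) fun _ hx => hx.2

theorem mem_oz {X : Subgroup G} {x : G} (hx : x ∈ X) (hc : ∀ t ∈ X, t * x * t⁻¹ = x) (hp : x ^ p = 1) :
    x ∈ oz p X :=
  Subgroup.subset_closure ⟨Subgroup.mem_inf.2 ⟨hx, Subgroup.mem_centralizer_iff.2 fun t ht =>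
    mul_inv_eq_iff_eq_mul.1 (hc t ht)⟩, hp⟩

theorem oz_fix {X : Subgroup G} {x t : G} (hx : x ∈ oz p X) (ht : t ∈ X) : t * x * t⁻¹ = x :=
  mul_inv_eq_iff_eq_mul.2 (Subgroup.mem_centralizer_iff.1 (Subgroup.mem_inf.1 (oz_le X hx)).2 t ht)

theorem le_normalizer_oz {X : Subgroup G} :
    Subgroup.normalizer (X : Set G) ≤ Subgroup.normalizer ((oz p X : Subgroup G) : Set G) := by
  intro r hr
  rw [← map_conj_eq_iff_mem_normalizer]
  refine Subgroup.eq_of_le_of_card_ge ?_ (card_map_conj _ r).ge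
  have h1 := map_conj_eq_iff_mem_normalizer.2
    ((le_inf le_rfl (LELarge.normalizer_le_normalizer_centralizer X)).trans (LELarge.inf_normalizer_le _ _) hr)
  rw [oz, Cfsg.omegaOne, MonoidHom.map_closure, Subgroup.closure_le]
  rintro _ ⟨x, ⟨hx, hxp⟩, rfl⟩
  exact Subgroup.subset_closure ⟨h1.le ⟨x, hx, rfl⟩, by rw [← map_pow, hxp, map_one]⟩

theorem inv_mul_conj {v x : G} : v⁻¹ * (x * v * x⁻¹) = ⁅v⁻¹, x⁆ := by
  rw [commutatorElement_def, inv_inv]; simp only [mul_assoc]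

/-- A `p`-group acting fixed point freely modulo a proper invariant subgroup is impossible. -/
theorem exists_fixed_mod {B B₀ T : Subgroup G} (hT : IsPGroup p ↥T) (hBT : B ≤ T)
    (hB : T ≤ Subgroup.normalizer (B : Set G)) (hne : ¬ B ≤ B₀) :
    ∃ b ∈ B, b ∉ B₀ ∧ ∀ t ∈ T, b⁻¹ * (t * b * t⁻¹) ∈ B₀ := by
  obtain ⟨X, hX⟩ := (Set.toFinite {X : Subgroup G | X ≤ B ∧ T ≤ Subgroup.normalizer (X : Set G) ∧ ¬ X ≤ B₀}).exists_minimal
    ⟨B, le_rfl, hB, hne⟩
  obtain ⟨hXB, hXT, hXne⟩ := hX.prop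
  have hle : ⁅X, T⁆ ≤ X := Subgroup.le_normalizer_iff_commutator_le_left.1 hXT
  have hcl : ⁅X, T⁆ ≤ B₀ := by
    by_contra h
    have h1 := hX.le_of_le ⟨hle.trans hXB, Subgroup.normalizer_commutator_ge_right X T, h⟩ hle
    exact hXne (eq_bot_of_le_commutator hT (hXB.trans hBT) h1 ▸ bot_le)
  obtain ⟨b, hb, hb₀⟩ := SetLike.not_le_iff_exists.1 hXne
  exact ⟨b, hXB hb, hb₀, fun t ht => inv_mul_conj (v := b) (x := t) ▸
    hcl (Subgroup.commutator_mem_commutator (inv_mem hb) ht)⟩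

/-- Kieler's lemma for a normal subgroup. -/
theorem step {K L T : Subgroup G} (hK : CharP.IsCharP p ↥K) (hLK : L ≤ K)
    (hKL : K ≤ Subgroup.normalizer (L : Set G)) (hTK : T ≤ K) (hTp : IsPGroup p ↥T)
    (hT : ∀ R : Subgroup G, IsPGroup p ↥R → R ≤ K → T ≤ R → R = T)
    (hT' : ∀ R : Subgroup G, IsPGroup p ↥R → R ≤ L → T ⊓ L ≤ R → R = T ⊓ L) :
    L ⊓ Subgroup.centralizer (oz p T : Set G) = L ⊓ Subgroup.centralizer (oz p (T ⊓ L) : Set G) := by
  have hp : p.Prime := Fact.out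
  have hopT : ∀ K' T' : Subgroup G, T' ≤ K' → IsPGroup p ↥T' →
      (∀ R : Subgroup G, IsPGroup p ↥R → R ≤ K' → T' ≤ R → R = T') → CharP.opIn p K' ≤ T' := by
    intro K' T' h1 h2 h3
    have h4 := h3 (CharP.opIn p K' ⊔ T')
      (IsPGroup.to_sup_of_normal_left' (CharP.opIn_isPGroup K') h2 (h1.trans (CharP.le_normalizer_opIn K')))
      (sup_le (CharP.opIn_le K') h1) le_sup_right
    exact le_sup_left.trans h4.le
  have hL : CharP.IsCharP p ↥L := CharP.isCharP_of_normalized hK hLK hKL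
  -- `A ≤ V`, the socle of the core of `K`
  set Q := CharP.opIn p K with hQ
  set V := oz p Q with hV
  have hQT : Q ≤ T := hopT K T hTK hTp hT
  have hVK : K ≤ Subgroup.normalizer (V : Set G) := (CharP.le_normalizer_opIn K).trans le_normalizer_oz
  have hCQ : ∀ (K' : Subgroup G), CharP.IsCharP p ↥K' → ∀ x ∈ K', x ∈ Subgroup.centralizer (CharP.opIn p K' : Set G) →
      x ∈ CharP.opIn p K' := fun K' hK' x hx hxc => ⟨⟨x, hx⟩, hK' (Subgroup.mem_centralizer_iff.2 fun y hy =>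
      Subtype.ext (Subgroup.mem_centralizer_iff.1 hxc _ ⟨y, hy, rfl⟩)), rfl⟩
  have hAV : oz p T ≤ V := (Subgroup.closure_le _).2 fun x hx => by
    obtain ⟨hxT, hxc⟩ := Subgroup.mem_inf.1 hx.1
    have hxQ : x ∈ Subgroup.centralizer (Q : Set G) := Subgroup.centralizer_le hQT hxc
    exact Subgroup.subset_closure ⟨Subgroup.mem_inf.2 ⟨hCQ K hK x (hTK hxT) hxQ, hxQ⟩, hx.2⟩
  have hm : ¬ p ∣ (T ⊓ L).relIndex L := LENorm.not_dvd_relIndex inf_le_right (hTp.to_le inf_le_left) hT'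
  refine le_antisymm ?_ ?_
  · -- `C_L(A) ≤ C_L(B)`
    set J := L ⊓ Subgroup.centralizer (oz p T : Set G) with hJ
    set B := oz p (T ⊓ L) with hB
    set V' := oz p (CharP.opIn p L) with hV'
    have hTL : T ≤ Subgroup.normalizer (L : Set G) := hTK.trans hKL
    have hTTL : T ≤ Subgroup.normalizer ((T ⊓ L : Subgroup G) : Set G) :=
      (le_inf Subgroup.le_normalizer hTL).trans (LELarge.inf_normalizer_le _ _)
    have hTB : T ≤ Subgroup.normalizer (B : Set G) := hTTL.trans le_normalizer_oz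
    have hTJ : T ≤ Subgroup.normalizer (J : Set G) :=
      (le_inf hTL ((Subgroup.le_normalizer.trans le_normalizer_oz).trans
        (LELarge.normalizer_le_normalizer_centralizer _))).trans (LELarge.inf_normalizer_le _ _)
    have hTV' : T ≤ Subgroup.normalizer (V' : Set G) :=
      (hTL.trans (CharP.normalizer_le_normalizer_opIn L)).trans le_normalizer_oz
    have hJV' : J ≤ Subgroup.normalizer (V' : Set G) :=
      inf_le_left.trans ((CharP.le_normalizer_opIn L).trans le_normalizer_oz)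
    have hL' := hopT L (T ⊓ L) inf_le_right (hTp.to_le inf_le_left) hT'
    have hBV' : B ≤ V' := (Subgroup.closure_le _).2 fun x hx => by
      obtain ⟨hxT, hxc⟩ := Subgroup.mem_inf.1 hx.1
      have hxQ : x ∈ Subgroup.centralizer (CharP.opIn p L : Set G) := Subgroup.centralizer_le hL' hxc
      exact Subgroup.subset_closure
        ⟨Subgroup.mem_inf.2 ⟨hCQ L hL x (Subgroup.mem_inf.1 hxT).2 hxQ, hxQ⟩, hx.2⟩
    refine le_inf inf_le_left ?_
    rw [Subgroup.le_centralizer_iff]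
    by_contra hne
    obtain ⟨b, hb, hb₀, hbt⟩ := exists_fixed_mod (B₀ := B ⊓ Subgroup.centralizer (J : Set G)) hTp
      ((oz_le (T ⊓ L)).trans (inf_le_left.trans inf_le_left)) hTB (fun h => hne (h.trans inf_le_right))
    have hV'e := oz_elem (p := p) (CharP.opIn p L)
    obtain ⟨n, hnV, hnJ, -, heq⟩ := LENorm.exists_norm (A := V') (L := J) (T := T ⊓ J)
      (fun a ha c hc => LEPReduced.commute_of_elem hV'e ha hc) hJV' (hBV' hb)
      (fun t ht => oz_fix hb (Subgroup.mem_inf.2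
        ⟨(Subgroup.mem_inf.1 ht).1, (Subgroup.mem_inf.1 (Subgroup.mem_inf.1 ht).2).1⟩))
    set m := (T ⊓ J).relIndex J with hm'
    have hmJ : ¬ p ∣ m := by
      refine LENorm.not_dvd_relIndex inf_le_right (hTp.to_le inf_le_left) fun R hR hRJ hTR => ?_
      -- a larger `p`-subgroup of `J` would enlarge `T`
      let P : Sylow p ↥(J ⊔ T) := ⟨T.subgroupOf (J ⊔ T),
        hTp.comap_of_injective _ (Subgroup.subtype_injective _), fun {S} hS hle => by
          have h1 := hT (S.map (J ⊔ T).subtype) (hS.map _)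
            ((Subgroup.map_subtype_le _).trans (sup_le (inf_le_left.trans hLK) hTK))
            (fun x hx => ⟨⟨x, Subgroup.mem_sup_right hx⟩, hle hx, rfl⟩)
          exact (Subgroup.comap_map_eq_self_of_injective (Subgroup.subtype_injective _) S).symm.trans
            (congrArg (Subgroup.comap (J ⊔ T).subtype) h1)⟩
      haveI : (J.subgroupOf (J ⊔ T)).Normal :=
        (Subgroup.normal_subgroupOf_iff_le_normalizer le_sup_left).2 (sup_le Subgroup.le_normalizer hTJ)
      obtain ⟨S, hS⟩ := Cfsg.Agent.PBasic.exists_sylow_subgroupOf P (J.subgroupOf (J ⊔ T))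
      have h4 := S.is_maximal' (Q := (R.subgroupOf (J ⊔ T)).subgroupOf (J.subgroupOf (J ⊔ T)))
        ((hR.comap_of_injective _ (Subgroup.subtype_injective _)).comap_of_injective _ (Subgroup.subtype_injective _))
        (by
          rw [hS]
          intro x hx
          exact hTR (Subgroup.mem_inf.2 ⟨Subgroup.mem_subgroupOf.1 hx, x.2⟩))
      refine le_antisymm (le_inf (fun x hx => ?_) hRJ) hTR
      have h6 : (⟨⟨x, Subgroup.mem_sup_left (hRJ hx)⟩, hRJ hx⟩ : ↥(J.subgroupOf (J ⊔ T))) ∈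
          (S : Subgroup ↥(J.subgroupOf (J ⊔ T))) := h4 ▸ hx
      rw [hS] at h6
      exact Subgroup.mem_subgroupOf.1 h6
    have hw : ∀ t ∈ T, t * ((b ^ m)⁻¹ * n) * t⁻¹ = (b ^ m)⁻¹ * n := by
      intro t ht
      set c := b⁻¹ * (t * b * t⁻¹) with hc
      obtain ⟨hcB, hcJ⟩ := Subgroup.mem_inf.1 (hbt t ht)
      have h1 := heq t c (hTV' ht) (hTJ ht)
        ((le_inf Subgroup.le_normalizer hTJ).trans (LELarge.inf_normalizer_le _ _) ht) (hBV' hcB)
        (fun l hl => mul_inv_eq_iff_eq_mul.2 (Subgroup.mem_centralizer_iff.1 hcJ l hl)) (by rw [hc]; group)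
      have hbc : t * b * t⁻¹ = b * c := by rw [hc]; group
      have hcomm : ∀ x ∈ V', Commute x c := fun x hx => LEPReduced.commute_of_elem hV'e hx (hBV' hcB)
      calc t * ((b ^ m)⁻¹ * n) * t⁻¹ = ((t * b * t⁻¹) ^ m)⁻¹ * (t * n * t⁻¹) := by rw [conj_pow]; group
        _ = (c ^ m)⁻¹ * (b ^ m)⁻¹ * (n * c ^ m) := by
          rw [hbc, h1, (hcomm b (hBV' hb)).mul_pow, mul_inv_rev]
        _ = _ := by
          have h2 : Commute ((b ^ m)⁻¹ * n) ((c ^ m)⁻¹) :=
            ((hcomm _ (mul_mem (inv_mem (pow_mem (hBV' hb) m)) hnV)).pow_right m).inv_right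
          calc (c ^ m)⁻¹ * (b ^ m)⁻¹ * (n * c ^ m) = (c ^ m)⁻¹ * ((b ^ m)⁻¹ * n) * c ^ m := by group
            _ = _ := by rw [← h2.eq]; group
    have hwV : (b ^ m)⁻¹ * n ∈ V' := mul_mem (inv_mem (pow_mem (hBV' hb) m)) hnV
    have hwA : (b ^ m)⁻¹ * n ∈ oz p T :=
      mem_oz ((hL'.trans inf_le_left) (Subgroup.mem_inf.1 (oz_le _ hwV)).1) hw (hV'e.2 _ hwV)
    have hwJ : (b ^ m)⁻¹ * n ∈ Subgroup.centralizer (J : Set G) :=
      Subgroup.le_centralizer_iff.1 (inf_le_right : J ≤ _) hwA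
    have hnJ' : n ∈ Subgroup.centralizer (J : Set G) :=
      Subgroup.mem_centralizer_iff.2 fun l hl => mul_inv_eq_iff_eq_mul.1 (hnJ l hl)
    have hbm : b ^ m ∈ Subgroup.centralizer (J : Set G) := by
      have := mul_mem hnJ' (inv_mem hwJ)
      simpa using this
    exact hb₀ (Subgroup.mem_inf.2 ⟨hb, LENorm.mem_of_pow_mem hp ((oz_elem _).2 b hb) hmJ hbm⟩)
  · -- `C_L(B) ≤ C_L(A)`
    have hVe := oz_elem (p := p) Q
    refine le_inf inf_le_left ?_
    rw [Subgroup.le_centralizer_iff]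
    intro z hz
    obtain ⟨n, hnV, hnL, hnW, -⟩ := LENorm.exists_norm (A := V) (L := L) (T := T ⊓ L)
      (fun a ha c hc => LEPReduced.commute_of_elem hVe ha hc) (hLK.trans hVK) (hAV hz)
      (fun t ht => oz_fix hz (Subgroup.mem_inf.1 ht).1)
    set m := (T ⊓ L).relIndex L with hm'
    have hVKle : V ≤ K := (oz_le Q).trans (inf_le_left.trans (CharP.opIn_le K))
    have hw := hnW (V ⊓ L) fun l hl => Subgroup.mem_inf.2
      ⟨mul_mem (inv_mem (hAV hz)) ((Subgroup.mem_normalizer_iff.1 (hVK (hLK hl)) z).1 (hAV hz)), by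
        rw [inv_mul_conj]
        exact Subgroup.le_normalizer_iff_commutator_le_right.1 hKL
          (Subgroup.commutator_mem_commutator (inv_mem (hVKle (hAV hz))) hl)⟩
    obtain ⟨hwV, hwL⟩ := Subgroup.mem_inf.1 hw
    have hwB : (z ^ m)⁻¹ * n ∈ oz p (T ⊓ L) := by
      refine mem_oz (Subgroup.mem_inf.2 ⟨hQT (Subgroup.mem_inf.1 (oz_le _ hwV)).1, hwL⟩) (fun t ht => ?_) (hVe.2 _ hwV)
      calc t * ((z ^ m)⁻¹ * n) * t⁻¹ = ((t * z * t⁻¹) ^ m)⁻¹ * (t * n * t⁻¹) := by rw [conj_pow]; group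
        _ = _ := by rw [oz_fix hz (Subgroup.mem_inf.1 ht).1, hnL t (Subgroup.mem_inf.1 ht).2]
    have hwC : (z ^ m)⁻¹ * n ∈ Subgroup.centralizer
        ((L ⊓ Subgroup.centralizer (oz p (T ⊓ L) : Set G) : Subgroup G) : Set G) :=
      Subgroup.le_centralizer_iff.1 inf_le_right hwB
    have hnC : n ∈ Subgroup.centralizer
        ((L ⊓ Subgroup.centralizer (oz p (T ⊓ L) : Set G) : Subgroup G) : Set G) :=
      Subgroup.mem_centralizer_iff.2 fun l hl => mul_inv_eq_iff_eq_mul.1 (hnL l (Subgroup.mem_inf.1 hl).1)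
    refine LENorm.mem_of_pow_mem hp ((oz_elem _).2 z hz) hm ?_
    have := mul_mem hnC (inv_mem hwC)
    simpa using this

/-- Kieler's lemma. -/
theorem kieler (hG : CharP.IsCharP p G) (T : Sylow p G) {L : Subgroup G} (hL : L.IsSubnormal) :
    L ⊓ Subgroup.centralizer (oz p (T : Subgroup G) : Set G) =
      L ⊓ Subgroup.centralizer (oz p ((T : Subgroup G) ⊓ L) : Set G) := by
  induction hL with
  | top => rw [inf_top_eq]
  | step A B hAB hB hn ih =>
    have hAsn : A.IsSubnormal := Subgroup.IsSubnormal.step A B hAB hB hn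
    have e : (T : Subgroup G) ⊓ A = ((T : Subgroup G) ⊓ B) ⊓ A := by rw [inf_assoc, inf_eq_right.2 hAB]
    have hs := step (K := B) (L := A) (T := (T : Subgroup G) ⊓ B) (CharP.isCharP_of_isSubnormal hG hB) hAB
      ((Subgroup.normal_subgroupOf_iff_le_normalizer hAB).1 hn) inf_le_right (T.isPGroup'.to_le inf_le_left)
      (LENorm.maximal_inf_subnormal T hB) (by rw [← e]; exact LENorm.maximal_inf_subnormal T hAsn)
    rw [← e] at hs
    rw [← hs]
    calc A ⊓ Subgroup.centralizer (oz p (T : Subgroup G) : Set G)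
        = A ⊓ (B ⊓ Subgroup.centralizer (oz p (T : Subgroup G) : Set G)) := by
          rw [← inf_assoc, inf_eq_left.2 hAB]
      _ = _ := by rw [ih, ← inf_assoc, inf_eq_left.2 hAB]

end Cfsg.Agent.LEKieler
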