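/-
p-reduced subgroups and subnormal subgroups.
-/
import Cfsg.Agent.Lib.LocalEven.Kieler

set_option autoImplicit false
set_option linter.unusedSectionVars false

namespace Cfsg.Agent.LEPReduced

open Cfsg.Agent.LEBasic
open scoped commutatorElement

variable {G : Type*} [Group G] [Finite G] {p : ℕ} [Fact p.Prime]

theorem le_normalizer_largestOf {K L : Subgroup G} (hKL : K ≤ Subgroup.normalizer (L : Set G)) :
    K ≤ Subgroup.normalizer ((Cfsg.largestPReducedOf p L : Subgroup G) : Set G) := by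
  intro k hk
  rw [← map_conj_eq_iff_mem_normalizer]
  refine Subgroup.eq_of_le_of_card_ge (le_largestOf ?_ ?_) (card_map_conj _ k).ge
  · exact (map_conj_mono k (largestOf_le L)).trans (map_conj_eq_iff_mem_normalizer.2 (hKL hk)).le
  · have h := (largestOf_red (p := p) L).conj k
    rwa [map_conj_eq_iff_mem_normalizer.2 (hKL hk)] at h

/-- A `p`-group of operators which commutes with the `p'`-element `x` on `W`. -/
theorem commute_of_fixed {W U : Subgroup G} {x : G} (hW : Cfsg.IsElementaryAbelian p W) (hU : IsPGroup p ↥U)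
    (hUW : U ≤ Subgroup.normalizer (W : Set G)) (hx : (orderOf x).Coprime p)
    (hxW : x ∈ Subgroup.normalizer (W : Set G))
    (hc : ∀ u ∈ U, ∀ w ∈ W, x * (u * w * u⁻¹) * x⁻¹ = u * (x * w * x⁻¹) * u⁻¹)
    (hfix : ∀ w ∈ W, (∀ u ∈ U, u * w * u⁻¹ = w) → x * w * x⁻¹ = w) :
    x ∈ Subgroup.centralizer (W : Set G) := by
  have hWp := isPGroup_of_elem hW
  have hmem : ∀ w, w ∈ W → x * w * x⁻¹ ∈ W := fun w hw => (Subgroup.mem_normalizer_iff.1 hxW w).1 hw
  set S := W ⊓ Subgroup.centralizer ({x} : Set G) with hS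
  by_contra hne
  have hWS : ¬ W ≤ S := fun h => hne (Subgroup.mem_centralizer_iff.2 fun w hw =>
    Subgroup.mem_centralizer_singleton_iff.1 (Subgroup.mem_inf.1 (h hw)).2)
  obtain ⟨b, hb, hbS, hbu⟩ := LEKieler.exists_fixed_mod (T := W ⊔ U) (B₀ := S)
    (hWp.to_sup_of_normal_left' hU hUW) le_sup_left (sup_le Subgroup.le_normalizer hUW) hWS
  set z := b⁻¹ * (x * b * x⁻¹) with hz
  have hzW : z ∈ W := mul_mem (inv_mem hb) (hmem b hb)
  have hzfix : ∀ u ∈ U, u * z * u⁻¹ = z := by
    intro u hu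
    obtain ⟨hsW, hsx⟩ := Subgroup.mem_inf.1 (hbu u (Subgroup.mem_sup_right hu))
    set s := b⁻¹ * (u * b * u⁻¹) with hsdef
    have hs : x * s * x⁻¹ = s := mul_inv_eq_iff_eq_mul.2 (Subgroup.mem_centralizer_singleton_iff.1 hsx).symm
    calc u * z * u⁻¹ = (u * b * u⁻¹)⁻¹ * (u * (x * b * x⁻¹) * u⁻¹) := by rw [hz]; group
      _ = (b * s)⁻¹ * (x * (b * s) * x⁻¹) := by
        rw [← hc u hu b hb, show u * b * u⁻¹ = b * s by rw [hsdef]; group]
      _ = s⁻¹ * z * (x * s * x⁻¹) := by rw [hz]; group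
      _ = z := by rw [hs, mul_assoc, commute_of_elem hW hzW hsW, inv_mul_cancel_left]
  have h1 := hfix z hzW hzfix
  have h2 := CharP.commute_of_conj_eq_mul hWp hzW hx (show x * b * x⁻¹ = b * z by rw [hz]; group)
    (mul_inv_eq_iff_eq_mul.1 h1)
  exact hbS (Subgroup.mem_inf.2 ⟨hb, Subgroup.mem_centralizer_singleton_iff.2 h2.symm⟩)

/-- For `L ◁ K`, the centralizer of `Y_K` in `L` centralizes `Y_L`. -/
theorem centralizer_largestOf_step {K L : Subgroup G} (hLK : L ≤ K)
    (hKL : K ≤ Subgroup.normalizer (L : Set G)) :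
    L ⊓ Subgroup.centralizer ((Cfsg.largestPReducedOf p K : Subgroup G) : Set G) ≤
      Subgroup.centralizer ((Cfsg.largestPReducedOf p L : Subgroup G) : Set G) := by
  set V := Cfsg.largestPReducedOf p L with hVdef
  have hV := largestOf_red (p := p) L
  obtain ⟨W, hW⟩ := (Set.toFinite {W : Subgroup G | W ≤ V ∧ K ≤ Subgroup.normalizer (W : Set G) ∧
      L ⊓ Subgroup.centralizer (W : Set G) ≤ Subgroup.centralizer (V : Set G)}).exists_minimal
    ⟨V, le_rfl, le_normalizer_largestOf hKL, inf_le_right⟩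
  obtain ⟨hWV, hKW, hWC⟩ := hW.prop
  have hWe := elem_mono hV.2.1 hWV
  suffices hred : Red p W K by
    refine le_trans (le_inf inf_le_left (inf_le_right.trans (Subgroup.centralizer_le ?_))) hWC
    exact SetLike.coe_subset_coe.2 (le_largestOf ((hWV.trans (largestOf_le L)).trans hLK) hred)
  refine ⟨hKW, hWe, fun N hN hKN hco => ?_⟩
  obtain ⟨M, hMK, hKM, hMc, hMmax⟩ := exists_largest_pActing (p := p) hKW
  refine (hMmax N hN hKN hco).trans ?_
  -- `M ∩ L` acts trivially
  have hML : M ⊓ L ≤ Subgroup.centralizer (V : Set G) := by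
    refine hV.2.2 _ inf_le_right ((le_inf (hLK.trans hKM) Subgroup.le_normalizer).trans
      (LELarge.inf_normalizer_le _ _)) fun g hg hgc => hWC ?_
    exact Subgroup.mem_inf.2 ⟨(Subgroup.mem_inf.1 hg).2, hMc g (Subgroup.mem_inf.1 hg).1 hgc⟩
  set W₁ := W ⊓ Subgroup.centralizer (M : Set G) with hW₁
  have hKW₁ : K ≤ Subgroup.normalizer (W₁ : Set G) :=
    (le_inf hKW (hKM.trans (LELarge.normalizer_le_normalizer_centralizer M))).trans (LELarge.inf_normalizer_le _ _)
  have hD : L ⊓ Subgroup.centralizer (W₁ : Set G) ≤ Subgroup.centralizer (V : Set G) := by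
    refine hV.2.2 _ inf_le_left ((le_inf Subgroup.le_normalizer ((hLK.trans hKW₁).trans
      (LELarge.normalizer_le_normalizer_centralizer W₁))).trans (LELarge.inf_normalizer_le _ _)) ?_
    intro g hg hgc
    obtain ⟨hgL, hgW₁⟩ := Subgroup.mem_inf.1 hg
    refine hWC (Subgroup.mem_inf.2 ⟨hgL, ?_⟩)
    obtain ⟨T⟩ : Nonempty (Sylow p ↥K) := inferInstance
    set T' := (T : Subgroup ↥K).map K.subtype with hT'
    have hTmax : ∀ R : Subgroup G, IsPGroup p ↥R → R ≤ K → T' ≤ R → R = T' := fun R hR hRK hTR => by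
      have h2 := T.is_maximal' (hR.comap_of_injective K.subtype K.subtype_injective)
        (Q := R.subgroupOf K) (fun x hx => hTR ⟨x, hx, rfl⟩)
      rw [hT', ← h2, Subgroup.map_subgroupOf_eq_of_le hRK]
    refine commute_of_fixed hWe ((T.isPGroup'.map K.subtype).to_le (inf_le_left : T' ⊓ M ≤ T'))
      ((inf_le_right.trans hMK).trans hKW) hgc (hKW (hLK hgL)) (fun u hu w hw => ?_) fun w hw hwu => ?_
    · have huM := (Subgroup.mem_inf.1 hu).2
      have h3 : g⁻¹ * (u⁻¹ * g * u) ∈ Subgroup.centralizer (W : Set G) := by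
        refine Subgroup.centralizer_le hWV (hML (Subgroup.mem_inf.2 ⟨?_, ?_⟩))
        · rw [show g⁻¹ * (u⁻¹ * g * u) = g⁻¹ * u⁻¹ * g * u by group]
          refine mul_mem ?_ huM
          exact (Subgroup.mem_normalizer_iff''.1 (hKM (hLK hgL)) _).1 (inv_mem huM)
        · exact mul_mem (inv_mem hgL) ((Subgroup.mem_normalizer_iff''.1 (hKL (hMK huM)) g).1 hgL)
      have h4 := (Subgroup.mem_centralizer_iff.1 h3 w hw)
      -- `g u` and `u g` act in the same way
      calc g * (u * w * u⁻¹) * g⁻¹ = u * ((u⁻¹ * g * u) * w * (u⁻¹ * g * u)⁻¹) * u⁻¹ := by group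
        _ = u * (g * ((g⁻¹ * (u⁻¹ * g * u)) * w * (g⁻¹ * (u⁻¹ * g * u))⁻¹) * g⁻¹) * u⁻¹ := by group
        _ = u * (g * w * g⁻¹) * u⁻¹ := by rw [← h4]; group
    · refine mul_inv_eq_iff_eq_mul.2 (Subgroup.mem_centralizer_iff.1 hgW₁ w ?_).symm
      refine Subgroup.mem_inf.2 ⟨hw, ?_⟩
      have hle : M ≤ Subgroup.centralizer ({w} : Set G) := by
        refine le_of_coprime_sylow hMK hKM (Subgroup.map_subtype_le _) (T.isPGroup'.map _) hTmax
          (fun m hm hmc => Subgroup.centralizer_le (Set.singleton_subset_iff.2 hw) (hMc m hm hmc)) ?_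
        intro m hm
        exact Subgroup.mem_centralizer_singleton_iff.2 (mul_inv_eq_iff_eq_mul.1 (hwu m hm))
      exact Subgroup.mem_centralizer_iff.2 fun m hm => Subgroup.mem_centralizer_singleton_iff.1 (hle hm)
  have hEq : W ≤ W₁ := hW.le_of_le ⟨inf_le_left.trans hWV, hKW₁, hD⟩ inf_le_left
  exact Subgroup.le_centralizer_iff.1 (hEq.trans inf_le_right)

theorem centralizer_largest_le {L : Subgroup G} (hL : L.IsSubnormal) :
    L ⊓ Subgroup.centralizer (Cfsg.largestPReduced p G : Set G) ≤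
      Subgroup.centralizer ((Cfsg.largestPReducedOf p L : Subgroup G) : Set G) := by
  induction hL with
  | top =>
    exact inf_le_right.trans (Subgroup.centralizer_le (SetLike.coe_subset_coe.2
      (le_largest (red_top_iff.2 (largestOf_red (p := p) (⊤ : Subgroup G))))))
  | step A B hAB _ hn ih =>
    refine le_trans ?_ (centralizer_largestOf_step hAB ((Subgroup.normal_subgroupOf_iff_le_normalizer hAB).1 hn))
    exact le_inf inf_le_left ((inf_le_inf_right _ hAB).trans ih)

theorem meet_subnormal {L : Subgroup G} (hL : L.IsSubnormal) :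
    Cfsg.largestPReduced p G ⊓ L = Cfsg.largestPReduced p G ⊓ Cfsg.largestPReducedOf p L ∧
      Red p (Cfsg.largestPReduced p G ⊓ L) L ∧
      L ⊓ Subgroup.centralizer ((Cfsg.largestPReduced p G ⊓ L : Subgroup G) : Set G) ≤
        Subgroup.centralizer (Cfsg.largestPReduced p G : Set G) := by
  set Y := Cfsg.largestPReduced p G with hY
  have hYr : Red p Y ⊤ := red_top_iff.1 largest_isPReducedNormal
  haveI : Y.Normal := largest_normal
  obtain ⟨h1, h2⟩ := (hYr.of_isSubnormal hL).of_commutator (W := Y ⊓ L) inf_le_left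
    ((le_inf (le_top.trans hYr.1) Subgroup.le_normalizer).trans (LELarge.inf_normalizer_le _ _))
    (fun x hx hxc v hv => Subgroup.mem_inf.2 ⟨mul_mem (inv_mem hv) ((Subgroup.mem_normalizer_iff.1 (hYr.1 (Subgroup.mem_top x)) v).1 hv),
      by
        rw [LEKieler.inv_mul_conj]
        exact commutator_pResidual_le (isPGroup_of_elem hYr.2.1) hL
          (Subgroup.commutator_mem_commutator (inv_mem hv) (mem_pResidual_map hx hxc))⟩)
  exact ⟨le_antisymm (le_inf inf_le_left (le_largestOf inf_le_right h1)) (inf_le_inf_left _ (largestOf_le L)), h1, h2⟩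

end Cfsg.Agent.LEPReduced
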