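/-
Subgroups with the basic property.
-/
import Cfsg.Agent.Lib.LocalEven.PReducedC
import Cfsg.Agent.Lib.LocalEven.CharPAux

set_option autoImplicit false
set_option linter.unusedSectionVars false

namespace Cfsg.Agent.LEFrakM

open Cfsg.Agent.LEBasic Cfsg.Agent.LEPReduced

variable {G : Type*} [Group G] [Finite G] {p : ℕ} [Fact p.Prime]

/-- The hat construction `K C(Y_K)`. -/
abbrev dag (p : ℕ) (K : Subgroup G) : Subgroup G :=
  K ⊔ Subgroup.centralizer (Cfsg.largestPReducedOf p K : Set G)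

theorem opIn_ne_bot {K : Subgroup G} (hK : K ∈ Cfsg.charPSubgroups p G) : CharP.opIn p K ≠ ⊥ := fun h =>
  hK.1 ((Subgroup.map_eq_bot_iff_of_injective _ K.subtype_injective).1 h)

theorem charP_of_mem {K : Subgroup G} (hK : K ∈ Cfsg.charPSubgroups p G) :
    Subgroup.centralizer (Cfsg.pCore p ↥K : Set ↥K) ≤ Cfsg.pCore p ↥K := by
  intro x hx
  obtain ⟨y, hy, hyx⟩ := hK.2 (Subgroup.mem_centralizer_iff.2 (by
    rintro _ ⟨q, hq, rfl⟩
    exact congrArg Subtype.val (Subgroup.mem_centralizer_iff.1 hx q hq)) :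
      (x : G) ∈ Subgroup.centralizer (((Cfsg.pCore p ↥K).map K.subtype : Subgroup G) : Set G))
  rwa [← K.subtype_injective hyx]

/-- In parabolic characteristic `p` the overgroups of a Sylow subgroup inside a `p`-local. -/
theorem mem_charP (hG : Cfsg.IsOfParabolicCharacteristic p G) (T : Sylow p G) {K R : Subgroup G}
    (hTK : (T : Subgroup G) ≤ K) (hR : IsPGroup p ↥R) (hR1 : R ≠ ⊥)
    (hKR : K ≤ Subgroup.normalizer (R : Set G)) : K ∈ Cfsg.charPSubgroups p G := by
  set N := Subgroup.normalizer (R : Set G) with hN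
  have hchar := hG R hR hR1 ⟨T, hTK.trans hKR⟩
  have hRN : R ≤ CharP.opIn p N := CharP.le_opIn Subgroup.le_normalizer le_rfl hR
  have hNK : CharP.opIn p N ≤ CharP.opIn p K :=
    CharP.le_opIn ((opIn_le_of_sylow T (hTK.trans hKR)).trans hTK) (hKR.trans (CharP.le_normalizer_opIn N))
      (CharP.opIn_isPGroup N)
  refine ⟨fun h => hR1 (le_bot_iff.1 (hRN.trans (hNK.trans (by rw [CharP.opIn, h, Subgroup.map_bot])))), ?_⟩
  intro x hx
  have hx' : x ∈ Subgroup.centralizer (CharP.opIn p N : Set G) := Subgroup.centralizer_le hNK hx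
  have hxN : x ∈ N := Subgroup.centralizer_le_normalizer _ (Subgroup.centralizer_le hRN hx')
  refine hNK ⟨⟨x, hxN⟩, hchar (Subgroup.mem_centralizer_iff.2 fun y hy =>
    Subtype.ext (Subgroup.mem_centralizer_iff.1 hx' _ ⟨y, hy, rfl⟩)), rfl⟩

/-- A large subgroup forces parabolic characteristic `p`. -/
theorem parabolic_of_isLarge {Q : Subgroup G} (hQp : IsPGroup p ↥Q) (hQ1 : Q ≠ ⊥) (hL : Cfsg.IsLarge Q) :
    Cfsg.IsOfParabolicCharacteristic p G := by
  intro R hR hR1 hpar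
  obtain ⟨T, hT⟩ := hpar
  obtain ⟨g, hg⟩ := LESylow.exists_conj_le hQp T
  set N := Subgroup.normalizer (R : Set G) with hN
  have h1 : Q ≤ N.map (MulAut.conj g⁻¹).toMonoidHom := by
    rw [← LEWeakClosed.map_conj_cancel Q g]; exact map_conj_mono _ (hg.trans hT)
  rw [← LECharP.normalizer_map_conj] at h1
  have hne : CharP.opIn p (Subgroup.normalizer ((R.map (MulAut.conj g⁻¹).toMonoidHom : Subgroup G) : Set G)) ≠ ⊥ :=
    fun h => hR1 (Subgroup.map_eq_bot_iff_of_injective _ (MulAut.conj g⁻¹).injective |>.1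
      (le_bot_iff.1 ((CharP.le_opIn Subgroup.le_normalizer le_rfl (isPGroup_map_conj hR _)).trans h.le)))
  have h2 := (LELarge.main_of_isLarge hQp hQ1 hL h1 hne).2.2
  rw [LECharP.normalizer_map_conj] at h2
  have h3 := LECharP.isCharP_map_conj g h2
  rw [LEWeakClosed.map_conj_cancel'] at h3
  exact h3

theorem exists_central_omega (T : Sylow p G) (h1 : (T : Subgroup G) ≠ ⊥) :
    ∃ z ∈ LEKieler.oz p (T : Subgroup G), orderOf z = p := by
  obtain ⟨z, hz, hzp, hzc⟩ := LECharP.exists_central_in_normal T.isPGroup' _ (T : Subgroup G) le_rfl le_rfl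
    Subgroup.le_normalizer h1
  exact ⟨z, LEKieler.mem_oz hz (fun t ht => mul_inv_eq_iff_eq_mul.2 (hzc t ht)) (hzp ▸ pow_orderOf_eq_one z), hzp⟩

theorem sylow_ne_bot (T : Sylow p G) {K : Subgroup G} (hTK : (T : Subgroup G) ≤ K)
    (hK : K ∈ Cfsg.charPSubgroups p G) : (T : Subgroup G) ≠ ⊥ := fun h =>
  opIn_ne_bot hK (le_bot_iff.1 ((opIn_le_of_sylow T hTK).trans h.le))

theorem oz_le_largest (T : Sylow p G) {K : Subgroup G} (hTK : (T : Subgroup G) ≤ K)
    (hK : K ∈ Cfsg.charPSubgroups p G) : LEKieler.oz p (T : Subgroup G) ≤ Cfsg.largestPReducedOf p K :=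
  (sylowCenter_le_closure T hTK).trans (sylowCenterClosure_le_largestOf (charP_of_mem hK))

theorem largest_ne_bot (T : Sylow p G) {K : Subgroup G} (hTK : (T : Subgroup G) ≤ K)
    (hK : K ∈ Cfsg.charPSubgroups p G) : Cfsg.largestPReducedOf p K ≠ ⊥ := by
  intro h
  obtain ⟨z, hz, hzp⟩ := exists_central_omega T (sylow_ne_bot T hTK hK)
  have : z = 1 := Subgroup.mem_bot.1 (h ▸ oz_le_largest T hTK hK hz)
  rw [this, orderOf_one] at hzp
  exact (Fact.out : p.Prime).one_lt.ne hzp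

theorem dag_le_normalizer (K : Subgroup G) :
    dag p K ≤ Subgroup.normalizer (Cfsg.largestPReducedOf p K : Set G) :=
  sup_le (largestOf_red K).1 fun _ hc => Subgroup.centralizer_le_normalizer _ hc

theorem dag_mem (hG : Cfsg.IsOfParabolicCharacteristic p G) (T : Sylow p G) {K : Subgroup G}
    (hTK : (T : Subgroup G) ≤ K) (hK : K ∈ Cfsg.charPSubgroups p G) : dag p K ∈ Cfsg.charPSubgroups p G :=
  mem_charP hG T (hTK.trans le_sup_left) (isPGroup_of_elem (largestOf_red K).2.1) (largest_ne_bot T hTK hK)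
    (dag_le_normalizer K)

theorem red_subgroupOf {V K X : Subgroup G} (h : Red p V K) (hVX : V ≤ X) (hKX : K ≤ X) :
    Red p (V.subgroupOf X) (K.subgroupOf X) := by
  obtain ⟨h1, h2, h3⟩ := h
  refine ⟨fun k hk => ?_, ?_, fun N hNK hKN hco => ?_⟩
  · rw [Subgroup.mem_normalizer_iff]
    intro x
    exact Subgroup.mem_normalizer_iff.1 (h1 hk) x
  · exact ⟨⟨⟨fun a b => Subtype.ext (Subtype.ext (commute_of_elem h2 a.2 b.2))⟩⟩,
      fun a ha => Subtype.ext (by simpa using h2.2 _ ha)⟩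
  · have hN' : N.map X.subtype ≤ K := by rintro _ ⟨x, hx, rfl⟩; exact hNK hx
    have hnorm : K ≤ Subgroup.normalizer ((N.map X.subtype : Subgroup G) : Set G) := by
      intro k hk
      rw [← map_conj_eq_iff_mem_normalizer]
      refine Subgroup.eq_of_le_of_card_ge ?_ (card_map_conj _ k).ge
      rintro _ ⟨_, ⟨x, hx, rfl⟩, rfl⟩
      exact ⟨⟨k, hKX hk⟩ * x * ⟨k, hKX hk⟩⁻¹,
        (Subgroup.mem_normalizer_iff.1 (hKN (show (⟨k, hKX hk⟩ : ↥X) ∈ K.subgroupOf X from hk)) x).1 hx, rfl⟩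
    have h4 := h3 _ hN' hnorm (by
      rintro _ ⟨x, hx, rfl⟩ hxc
      exact Subgroup.mem_centralizer_iff.2 fun v hv =>
        congrArg Subtype.val (Subgroup.mem_centralizer_iff.1 (hco x hx (by simpa using hxc)) ⟨v, hVX hv⟩ hv))
    exact fun x hx => Subgroup.mem_centralizer_iff.2 fun v hv =>
      Subtype.ext (Subgroup.mem_centralizer_iff.1 (h4 ⟨x, hx, rfl⟩) _ hv)

/-- `Y` is monotone on overgroups of a Sylow subgroup. -/
theorem largestOf_mono (T : Sylow p G) {K X : Subgroup G} (hTK : (T : Subgroup G) ≤ K) (hKX : K ≤ X)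
    (hX : X ∈ Cfsg.charPSubgroups p G) : Cfsg.largestPReducedOf p K ≤ Cfsg.largestPReducedOf p X := by
  have hYK := largestOf_le (p := p) K
  have hYX := hYK.trans hKX
  have hTX := hTK.trans hKX
  have h := red_normalClosure (charP_of_mem hX) (T.subtype hTX) (R := K.subgroupOf X)
    (X := (Cfsg.largestPReducedOf p K).subgroupOf X) (fun x hx => hTK hx) (fun x hx => hYK hx)
    (red_subgroupOf (largestOf_red K) hYX hKX)
  intro y hy
  exact ⟨⟨y, hYX hy⟩, le_largest h (Subgroup.le_normalClosure (show (⟨y, hYX hy⟩ : ↥X) ∈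
    (Cfsg.largestPReducedOf p K).subgroupOf X from hy)), rfl⟩

/-- Frattini inside a minimal supplement. -/
theorem frattini_minimal (T : Sylow p G) {M C : Subgroup G} (hTM : (T : Subgroup G) ≤ M)
    (hMC : M ≤ Subgroup.normalizer (C : Set G)) (hTC : (T : Subgroup G) ⊓ C ≤ CharP.opIn p M)
    (hmin : ∀ X : Subgroup G, (T : Subgroup G) ≤ X → X ≤ M → M ≤ X ⊔ C → X = M) :
    ((M ⊓ C).subgroupOf M).map (QuotientGroup.mk' (Cfsg.pCore p ↥M)) ≤ frattini (↥M ⧸ Cfsg.pCore p ↥M) := by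
  haveI hC' : ((M ⊓ C).subgroupOf M).Normal :=
    (Subgroup.normal_subgroupOf_iff_le_normalizer inf_le_left).2
      ((le_inf Subgroup.le_normalizer hMC).trans (LELarge.inf_normalizer_le _ _))
  set π := QuotientGroup.mk' (Cfsg.pCore p ↥M)
  set C' := (M ⊓ C).subgroupOf M with hC'def
  refine le_iInf fun W => le_iInf fun hW => ?_
  by_contra hne
  set X := W.comap π with hX
  have hXC : X ⊔ C' = ⊤ := by
    have h1 : W ⊔ C'.map π = ⊤ :=
      hW.2 _ (lt_of_le_of_ne le_sup_left fun h => hne (h ▸ le_sup_right))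
    rw [eq_top_iff]
    intro x _
    have h2 : π x ∈ W ⊔ C'.map π := h1 ▸ Subgroup.mem_top _
    haveI := hC'.map π (QuotientGroup.mk'_surjective _)
    obtain ⟨w, hw, _, ⟨c, hc, rfl⟩, hwc⟩ := Subgroup.mem_sup_of_normal_right.1 h2
    have h3 : x * c⁻¹ ∈ X := by
      show π (x * c⁻¹) ∈ W
      rw [map_mul, map_inv, ← hwc, mul_inv_cancel_right]; exact hw
    simpa using mul_mem (Subgroup.mem_sup_left (T := C') h3) (Subgroup.mem_sup_right hc)
  have hXne : X ≠ ⊤ := fun h => hW.1 (by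
    rw [← Subgroup.map_comap_eq_self_of_surjective (QuotientGroup.mk'_surjective _) W, ← hX, h,
      Subgroup.map_top_of_surjective _ (QuotientGroup.mk'_surjective _)])
  have hop : Cfsg.pCore p ↥M ≤ X := fun x hx => by
    show π x ∈ W
    rw [show π x = 1 from (QuotientGroup.eq_one_iff x).2 hx]; exact one_mem _
  obtain ⟨Q, hQ⟩ := Cfsg.Agent.PBasic.exists_sylow_subgroupOf (T.subtype hTM) C'
  have hidx : ¬ p ∣ X.index := by
    have h1 : X.index = X.relIndex C' := by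
      rw [← Cfsg.Agent.PBasic.relIndex_eq_relIndex_sup_left X C', hXC, Subgroup.relIndex_top_right]
    rw [h1]
    intro hd
    have hQX : (Q : Subgroup ↥C') ≤ X.subgroupOf C' := by
      rw [hQ]
      intro x hx
      exact hop (by
        obtain ⟨y, hy, hyx⟩ := hTC (Subgroup.mem_inf.2
          ⟨Subgroup.mem_subgroupOf.1 (Subgroup.mem_subgroupOf.1 hx), (Subgroup.mem_inf.1 x.2).2⟩)
        have e : y = (x : ↥M) := M.subtype_injective hyx
        exact (e ▸ hy : (x : ↥M) ∈ Cfsg.pCore p ↥M))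
    exact Q.not_dvd_index (hd.trans (Subgroup.index_dvd_of_le hQX))
  obtain ⟨P⟩ : Nonempty (Sylow p ↥X) := inferInstance
  have hPidx : ¬ p ∣ ((P : Subgroup ↥X).map X.subtype).index := by
    rw [Subgroup.index_map_subtype]
    intro hd
    rcases (Fact.out : p.Prime).dvd_mul.1 hd with h | h
    · exact P.not_dvd_index h
    · exact hidx h
  obtain ⟨m, hm⟩ := LESylow.exists_conj_eq ((P.isPGroup'.map X.subtype).toSylow hPidx) (T.subtype hTM)
  have hPX : (P : Subgroup ↥X).map X.subtype ≤ X := Subgroup.map_subtype_le _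
  -- move `X` to a subgroup containing `T`
  set X' := (X.map (MulAut.conj m).toMonoidHom).map M.subtype with hX'
  have hTX : (T : Subgroup G) ≤ X' := by
    intro t ht
    refine ⟨⟨t, hTM ht⟩, ?_, rfl⟩
    have h4 : (⟨t, hTM ht⟩ : ↥M) ∈ ((T.subtype hTM : Sylow p ↥M) : Subgroup ↥M) := ht
    rw [← hm] at h4
    exact map_conj_mono m hPX h4
  have h5 := hmin X' hTX (Subgroup.map_subtype_le _) ?_
  · refine hXne ?_
    have h6 : X.map (MulAut.conj m).toMonoidHom = ⊤ := Subgroup.map_injective M.subtype_injective (by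
      rw [← hX', h5, ← MonoidHom.range_eq_map, Subgroup.range_subtype])
    rw [← LEWeakClosed.map_conj_cancel X m, h6, Subgroup.map_top_of_surjective _ (MulAut.conj m⁻¹).surjective]
  · intro x hx
    have h6 : (⟨x, hx⟩ : ↥M) ∈ X.map (MulAut.conj m).toMonoidHom ⊔ C' := by
      rw [← map_conj_eq_iff_mem_normalizer.2 (show m ∈ Subgroup.normalizer (C' : Set ↥M) by
        rw [Subgroup.normalizer_eq_top_iff.2 hC']; trivial), ← Subgroup.map_sup, hXC,
        Subgroup.map_top_of_surjective _ (MulAut.conj m).surjective]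
      trivial
    obtain ⟨a, ha, c, hc, hac⟩ := Subgroup.mem_sup_of_normal_right.1 h6
    rw [show x = (a : G) * c from (congrArg Subtype.val hac).symm]
    exact mul_mem (Subgroup.mem_sup_left ⟨a, ha, rfl⟩) (Subgroup.mem_sup_right (Subgroup.mem_inf.1 hc).2)

/-- Main existence theorem. -/
theorem exists_frakM (hG : Cfsg.IsOfParabolicCharacteristic p G) (T : Sylow p G) {L : Subgroup G}
    (hTL : (T : Subgroup G) ≤ L) (hL : L ∈ Cfsg.charPSubgroups p G) :
    ∃ M Ls : Subgroup G, (T : Subgroup G) ≤ M ∧ Cfsg.IsInFrakM p M ∧ (T : Subgroup G) ≤ Ls ∧ Ls ≤ M ∧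
      Ls ∈ Cfsg.charPSubgroups p G ∧ Cfsg.largestPReducedOf p L = Cfsg.largestPReducedOf p Ls ∧
      Cfsg.largestPReducedOf p L ≤ Cfsg.largestPReducedOf p M ∧ dag p L =
        Ls ⊔ Subgroup.centralizer (Cfsg.largestPReducedOf p L : Set G) := by
  set YL := Cfsg.largestPReducedOf p L with hYL
  set CL := Subgroup.centralizer (YL : Set G) with hCL
  have hLd : dag p L ≤ Subgroup.normalizer (YL : Set G) := dag_le_normalizer L
  set 𝒦 : Set (Subgroup G) :=
    {K | K ∈ Cfsg.charPSubgroups p G ∧ (T : Subgroup G) ≤ K ∧ L ≤ (K ⊓ dag p L) ⊔ CL} with h𝒦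
  have hup : ∀ K X : Subgroup G, K ∈ 𝒦 → K ≤ X → X ∈ Cfsg.charPSubgroups p G → X ∈ 𝒦 := fun K X hK hKX hX =>
    ⟨hX, hK.2.1.trans hKX, hK.2.2.trans (sup_le_sup_right (inf_le_inf_right _ hKX) _)⟩
  have hinter : ∀ K : Subgroup G, (T : Subgroup G) ≤ K → L ≤ (K ⊓ dag p L) ⊔ CL →
      (T : Subgroup G) ≤ K ⊓ dag p L ∧ K ⊓ dag p L ∈ Cfsg.charPSubgroups p G ∧
        (K ⊓ dag p L) ⊔ CL = L ⊔ CL := by
    intro K hTK hLK
    have h1 : (T : Subgroup G) ≤ K ⊓ dag p L := le_inf hTK (hTL.trans le_sup_left)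
    exact ⟨h1, mem_charP hG T h1 (isPGroup_of_elem (largestOf_red L).2.1) (largest_ne_bot T hTL hL)
      (inf_le_right.trans hLd), le_antisymm (sup_le inf_le_right le_sup_right) (sup_le hLK le_sup_right)⟩
  have hYle : ∀ K ∈ 𝒦, YL ≤ Cfsg.largestPReducedOf p K := by
    intro K hK
    obtain ⟨h1, h2, h3⟩ := hinter K hK.2.1 hK.2.2
    refine le_trans ?_ (largestOf_mono T h1 inf_le_left hK.1)
    exact le_largestOf ((largestOf_le_sylow T hTL).trans h1) (red_of_factorization T (largestOf_red L) h1 h3)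
  -- choose `K`
  obtain ⟨K₁, hK₁, hK₁max⟩ := Set.exists_max_image 𝒦 (fun K => Nat.card ↥(Cfsg.largestPReducedOf p K))
    (Set.toFinite _) ⟨L, hL, hTL, (le_inf le_rfl le_sup_left).trans le_sup_left⟩
  obtain ⟨K, ⟨hK, hKY⟩, hKmax⟩ := Set.exists_max_image
    {K | K ∈ 𝒦 ∧ Nat.card ↥(Cfsg.largestPReducedOf p K) = Nat.card ↥(Cfsg.largestPReducedOf p K₁)}
    (fun K => Nat.card ↥K) (Set.toFinite _) ⟨K₁, hK₁, rfl⟩
  obtain ⟨hKc, hTK, hLK⟩ := hK
  set Y := Cfsg.largestPReducedOf p K with hY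
  set C := Subgroup.centralizer (Y : Set G) with hC
  have hgrow : ∀ X ∈ 𝒦, Y ≤ Cfsg.largestPReducedOf p X → Cfsg.largestPReducedOf p X = Y ∧ Nat.card ↥X ≤ Nat.card ↥K := by
    intro X hX hle
    have h1 := Subgroup.eq_of_le_of_card_ge hle (by rw [hKY]; exact hK₁max X hX)
    exact ⟨h1.symm, hKmax X ⟨hX, by rw [← h1]; exact hKY⟩⟩
  have hKdag : dag p K = K := by
    have h1 := hup K _ ⟨hKc, hTK, hLK⟩ le_sup_left (dag_mem hG T hTK hKc)
    exact (Subgroup.eq_of_le_of_card_ge le_sup_left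
      (hgrow _ h1 (largestOf_mono T hTK le_sup_left h1.1)).2).symm
  have hCK : C ≤ K := le_sup_right.trans hKdag.le
  have hKY' : K ≤ Subgroup.normalizer (Y : Set G) := (largestOf_red K).1
  have hKC : K ≤ Subgroup.normalizer (C : Set G) := hKY'.trans (LELarge.normalizer_le_normalizer_centralizer Y)
  -- choose `M`
  obtain ⟨M, hM⟩ := (Set.toFinite {M : Subgroup G | (T : Subgroup G) ≤ M ∧ M ≤ K ∧ K ≤ M ⊔ C}).exists_minimal
    ⟨K, hTK, le_rfl, le_sup_left⟩
  obtain ⟨hTM, hMK, hKM⟩ := hM.prop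
  have hfac : M ⊔ C = K ⊔ C := le_antisymm (sup_le_sup_right hMK _) (sup_le hKM le_sup_right)
  have hMc : M ∈ Cfsg.charPSubgroups p G :=
    mem_charP hG T hTM (isPGroup_of_elem (largestOf_red K).2.1) (largest_ne_bot T hTK hKc) (hMK.trans hKY')
  have hYM : Cfsg.largestPReducedOf p M = Y :=
    le_antisymm (largestOf_mono T hTM hMK hKc)
      (le_largestOf ((largestOf_le_sylow T hTK).trans hTM) (red_of_factorization T (largestOf_red K) hTM hfac))
  have hMdag : dag p M = K := by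
    show M ⊔ Subgroup.centralizer (Cfsg.largestPReducedOf p M : Set G) = K
    rw [hYM, ← hC, hfac, sup_eq_left]; exact hCK
  have hYLY : YL ≤ Y := hYle K ⟨hKc, hTK, hLK⟩
  have hLM : L ≤ (M ⊓ dag p L) ⊔ CL := by
    refine hLK.trans (sup_le (fun x hx => ?_) le_sup_right)
    obtain ⟨hxK, hxd⟩ := Subgroup.mem_inf.1 hx
    obtain ⟨c, hc, m, hm, rfl⟩ := (SolvBasic.mem_sup_iff_of_le_normalizer (hMK.trans hKC)).1
      ((sup_comm M C).le (hKM hxK))
    have hcL : c ∈ CL := Subgroup.centralizer_le hYLY hc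
    refine mul_mem (Subgroup.mem_sup_right hcL) (Subgroup.mem_sup_left (Subgroup.mem_inf.2 ⟨hm, ?_⟩))
    have := mul_mem (inv_mem ((le_sup_right : CL ≤ dag p L) hcL)) hxd
    simpa using this
  have hover : ∀ X ∈ Cfsg.charPSubgroups p G, M ≤ X → X ≤ K := by
    intro X hX hMX
    have hXK : X ∈ 𝒦 := hup M X ⟨hMc, hTM, hLM⟩ hMX hX
    obtain ⟨hYX, -⟩ := hgrow X hXK ((hYM.ge).trans (largestOf_mono T hTM hMX hX))
    have hd := hup X _ hXK le_sup_left (dag_mem hG T (hTM.trans hMX) hX)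
    have h2 := (hgrow _ hd (hYX.ge.trans (largestOf_mono T (hTM.trans hMX) le_sup_left hd.1))).2
    have h3 : K ≤ dag p X := hKM.trans (by rw [hC, ← hYX]; exact sup_le_sup_right hMX _)
    exact le_sup_left.trans (Subgroup.eq_of_le_of_card_ge h3 h2).ge
  have hKmaxl : ∀ X ∈ Cfsg.charPSubgroups p G, K ≤ X → X = K := fun X hX hKX =>
    le_antisymm (hover X hX (hMK.trans hKX)) hKX
  -- the Sylow subgroup of `C_M(Y)` is normal
  set T₀ := (T : Subgroup G) ⊓ C with hT₀
  have hMC : M ≤ Subgroup.normalizer (C : Set G) := hMK.trans hKC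
  have hmin : ∀ X : Subgroup G, (T : Subgroup G) ≤ X → X ≤ M → M ≤ X ⊔ C → X = M := fun X h1 h2 h3 =>
    le_antisymm h2 (hM.le_of_le ⟨h1, h2.trans hMK, hKM.trans (sup_le h3 le_sup_right)⟩ h2)
  have hN : M ≤ Subgroup.normalizer (T₀ : Set G) := by
    have h1 : (T : Subgroup G) ≤ M ⊓ Subgroup.normalizer (T₀ : Set G) :=
      le_inf hTM ((le_inf Subgroup.le_normalizer (hTM.trans hMC)).trans (LELarge.inf_normalizer_le _ _))
    exact ((hmin _ h1 inf_le_left (frattini_inf T hTM hMC)).ge).trans inf_le_right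
  have hT₀M : T₀ ≤ CharP.opIn p M :=
    CharP.le_opIn (inf_le_left.trans hTM) hN (T.isPGroup'.to_le inf_le_left)
  have hclosed : Cfsg.IsPClosed p ↥(M ⊓ C) := by
    intro P
    have hT₀le : T₀ ≤ M ⊓ C := inf_le_inf_right _ hTM
    haveI hnT : (T₀.subgroupOf (M ⊓ C)).Normal :=
      (Subgroup.normal_subgroupOf_iff_le_normalizer hT₀le).2 (inf_le_left.trans hN)
    have hle := normal_le_sylow ((T.isPGroup'.to_le (inf_le_left : T₀ ≤ _)).comap_of_injective
      (M ⊓ C).subtype (Subgroup.subtype_injective _) : IsPGroup p ↥(T₀.subgroupOf (M ⊓ C)))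
      (N := T₀.subgroupOf (M ⊓ C)) P
    have hPT : (P : Subgroup ↥(M ⊓ C)) = T₀.subgroupOf (M ⊓ C) := by
      refine le_antisymm (fun x hx => ?_) hle
      obtain ⟨S, hS⟩ := exists_sylow_centralizer T (hTK.trans hKY')
      have hPC : ((P : Subgroup ↥(M ⊓ C)).map (M ⊓ C).subtype) ≤ C :=
        (Subgroup.map_subtype_le _).trans inf_le_right
      have h1 := S.is_maximal' (Q := ((P : Subgroup ↥(M ⊓ C)).map (M ⊓ C).subtype).subgroupOf C)
        ((P.isPGroup'.map _).comap_of_injective C.subtype C.subtype_injective) (by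
          rw [hS]
          intro y hy
          exact ⟨⟨y, hT₀le hy⟩, hle hy, rfl⟩)
      have h2 : (⟨(x : G), (Subgroup.mem_inf.1 x.2).2⟩ : ↥C) ∈ (S : Subgroup ↥C) :=
        h1 ▸ (⟨x, hx, rfl⟩ : (x : G) ∈ (P : Subgroup ↥(M ⊓ C)).map (M ⊓ C).subtype)
      rw [hS] at h2
      exact h2
    rw [hPT]; exact hnT
  -- the part inside `M`
  obtain ⟨hTM', hM'c, hM'fac⟩ := hinter M hTM hLM
  set M' := M ⊓ dag p L with hM'
  set Ls := M' ⊓ Subgroup.normalizer (((T : Subgroup G) ⊓ CL : Subgroup G) : Set G) with hLs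
  have hM'CL : M' ≤ Subgroup.normalizer (CL : Set G) :=
    (inf_le_right.trans hLd).trans (LELarge.normalizer_le_normalizer_centralizer YL)
  have hTLs : (T : Subgroup G) ≤ Ls :=
    le_inf hTM' ((le_inf Subgroup.le_normalizer (hTM'.trans hM'CL)).trans (LELarge.inf_normalizer_le _ _))
  have hLsfac : Ls ⊔ CL = L ⊔ CL := by
    rw [← hM'fac]
    exact le_antisymm (sup_le_sup_right inf_le_left _) (sup_le (frattini_inf T hTM' hM'CL) le_sup_right)
  have hLsc : Ls ∈ Cfsg.charPSubgroups p G := mem_charP hG T hTLs (isPGroup_of_elem (largestOf_red L).2.1)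
    (largest_ne_bot T hTL hL) ((inf_le_left.trans inf_le_right).trans hLd)
  have hYLs : Cfsg.largestPReducedOf p Ls = YL := by
    refine le_antisymm ?_ (le_largestOf ((largestOf_le_sylow T hTL).trans hTLs)
      (red_of_factorization T (largestOf_red L) hTLs hLsfac))
    have hs := largestOf_red (p := p) Ls
    have hYLT₀ : YL ≤ (T : Subgroup G) ⊓ CL :=
      le_inf (largestOf_le_sylow T hTL) (le_centralizer_self (largestOf_red L).2.1)
    have hsC : (T : Subgroup G) ⊓ CL ≤ Subgroup.centralizer (Cfsg.largestPReducedOf p Ls : Set G) :=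
      hs.pGroup_le_centralizer (T.isPGroup'.to_le inf_le_left) (inf_le_left.trans hTLs) inf_le_right
    intro y hy
    refine omega_centralizer_le T hTL (charP_of_mem hL) rfl (Subgroup.mem_inf.2 ⟨Subgroup.mem_inf.2
      ⟨largestOf_le_sylow T hTLs hy, ?_⟩, ?_⟩) (hs.2.1.2 y hy)
    · exact Subgroup.centralizer_le hYLT₀ (Subgroup.le_centralizer_iff.1 hsC hy)
    · exact Subgroup.le_centralizer_iff.1 hsC hy
  refine ⟨M, Ls, hTM, ⟨hMc, ?_, ?_, ?_, ?_, ?_⟩, hTLs, inf_le_left.trans inf_le_left, hLsc, hYLs.symm,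
    hYLY.trans hYM.ge, hLsfac.symm⟩
  · show dag p M ∈ _
    rw [hMdag]; exact ⟨hKc, hKmaxl⟩
  · intro X hX hMX
    show X = dag p M
    rw [hMdag]
    exact (hX.2 K hKc (hover X hX.1 hMX)).symm
  · show _ = Cfsg.largestPReducedOf p (dag p M)
    rw [hMdag, hYM]
  · show Cfsg.IsPClosed p ↥(M ⊓ Subgroup.centralizer (Cfsg.largestPReducedOf p M : Set G))
    rw [hYM]; exact hclosed
  · rw [hYM]; exact frattini_minimal T hTM hMC hT₀M hmin

/-! ### properties of members -/

/-- `C_T(Y_M) ≤ O_p(M)`. -/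
theorem inf_le_opIn (T : Sylow p G) {M : Subgroup G} (hTM : (T : Subgroup G) ≤ M) (hM : Cfsg.IsInFrakM p M) :
    (T : Subgroup G) ⊓ Subgroup.centralizer (Cfsg.largestPReducedOf p M : Set G) ≤ CharP.opIn p M := by
  set C := Subgroup.centralizer (Cfsg.largestPReducedOf p M : Set G) with hC
  have hMC : M ≤ Subgroup.normalizer (C : Set G) :=
    (largestOf_red M).1.trans (LELarge.normalizer_le_normalizer_centralizer _)
  obtain ⟨P⟩ : Nonempty (Sylow p ↥(M ⊓ C)) := inferInstance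
  haveI := hM.2.2.2.2.1 P
  have hPM : (P : Subgroup ↥(M ⊓ C)).map (M ⊓ C).subtype ≤ CharP.opIn p M :=
    CharP.le_opIn ((Subgroup.map_subtype_le _).trans inf_le_left)
      (((le_inf Subgroup.le_normalizer hMC).trans (LELarge.inf_normalizer_le _ _)).trans
        (le_normalizer_map_of_characteristic (P.characteristic_of_normal inferInstance)))
      (P.isPGroup'.map _)
  intro x hx
  have hxM : x ∈ M ⊓ C := Subgroup.mem_inf.2 ⟨hTM (Subgroup.mem_inf.1 hx).1, (Subgroup.mem_inf.1 hx).2⟩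
  obtain ⟨Q, hQ⟩ := ((T.isPGroup'.to_le inf_le_left : IsPGroup p ↥((T : Subgroup G) ⊓ C)).comap_of_injective
    (M ⊓ C).subtype (Subgroup.subtype_injective _)).exists_le_sylow
  haveI := Sylow.unique_of_normal P inferInstance
  have : (⟨x, hxM⟩ : ↥(M ⊓ C)) ∈ (P : Subgroup ↥(M ⊓ C)) := Subsingleton.elim Q P ▸ hQ hx
  exact hPM ⟨_, this, rfl⟩

theorem opIn_centralizes (M : Subgroup G) :
    CharP.opIn p M ≤ Subgroup.centralizer (Cfsg.largestPReducedOf p M : Set G) :=
  (largestOf_red M).pGroup_le_centralizer (CharP.opIn_isPGroup M) (CharP.opIn_le M) (CharP.le_normalizer_opIn M)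

/-- Every `p`-local above `M` lies in `M C(Y_M)`. -/
theorem le_dag (hG : Cfsg.IsOfParabolicCharacteristic p G) (T : Sylow p G) {M : Subgroup G}
    (hTM : (T : Subgroup G) ≤ M) (hM : Cfsg.IsInFrakM p M) {R : Subgroup G} (hR : IsPGroup p ↥R) (hR1 : R ≠ ⊥)
    (hMR : M ≤ Subgroup.normalizer (R : Set G)) : Subgroup.normalizer (R : Set G) ≤ dag p M := by
  obtain ⟨X, hX⟩ := (Set.toFinite {X : Subgroup G | X ∈ Cfsg.charPSubgroups p G ∧
      Subgroup.normalizer (R : Set G) ≤ X}).exists_maximal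
    ⟨_, mem_charP hG T (hTM.trans hMR) hR hR1 le_rfl, le_rfl⟩
  obtain ⟨hXc, hNX⟩ := hX.prop
  have hXmax : X ∈ Cfsg.maxCharPSubgroups p G := ⟨hXc, fun L hL hXL =>
    le_antisymm (hX.le_of_ge ⟨hL, hNX.trans hXL⟩ hXL) hXL⟩
  exact hNX.trans (hM.2.2.1 X hXmax (hMR.trans hNX)).le

theorem normalizer_largest (hG : Cfsg.IsOfParabolicCharacteristic p G) (T : Sylow p G) {M : Subgroup G}
    (hTM : (T : Subgroup G) ≤ M) (hM : Cfsg.IsInFrakM p M) :
    Subgroup.normalizer (Cfsg.largestPReducedOf p M : Set G) = dag p M :=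
  le_antisymm (le_dag hG T hTM hM (isPGroup_of_elem (largestOf_red M).2.1) (largest_ne_bot T hTM hM.1)
    (largestOf_red M).1) (dag_le_normalizer M)

/-- `O_p(M)` is weakly closed in `M C(Y_M)`. -/
theorem opIn_conj_eq (T : Sylow p G) {M : Subgroup G} (hTM : (T : Subgroup G) ≤ M) (hM : Cfsg.IsInFrakM p M)
    {g : G} (hg : g ∈ dag p M) (hle : (CharP.opIn p M).map (MulAut.conj g).toMonoidHom ≤ (T : Subgroup G)) :
    (CharP.opIn p M).map (MulAut.conj g).toMonoidHom = CharP.opIn p M := by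
  set C := Subgroup.centralizer (Cfsg.largestPReducedOf p M : Set G) with hC
  have hMC : M ≤ Subgroup.normalizer (C : Set G) :=
    (largestOf_red M).1.trans (LELarge.normalizer_le_normalizer_centralizer _)
  obtain ⟨c, hc, m, hm, rfl⟩ := (SolvBasic.mem_sup_iff_of_le_normalizer hMC).1 ((sup_comm M C).le hg)
  refine Subgroup.eq_of_le_of_card_ge ?_ (card_map_conj _ _).ge
  intro x hx
  refine inf_le_opIn T hTM hM (Subgroup.mem_inf.2 ⟨hle hx, ?_⟩)
  rw [← map_conj_map_conj, map_conj_eq_iff_mem_normalizer.2 (CharP.le_normalizer_opIn M hm)] at hx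
  exact (LEWeakClosed.map_conj_le_of_le (opIn_centralizes M) hc) hx

end Cfsg.Agent.LEFrakM
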