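/-
Sections isomorphic to `S₃` and `S₄`.
-/
import Cfsg.Prelude.Def_LocalEven
import Cfsg.Agent.Lib.LocalEven.Kieler
import Cfsg.Agent.Lib.LocalEven.Coprime
import Cfsg.Agent.Lib.Transfer.PGroup
import Cfsg.Agent.Lib.Solvable.NilpotentFrattini

set_option autoImplicit false
set_option linter.unusedSectionVars false
set_option linter.style.haveILetI false

namespace Cfsg.Agent.LEInvolve

open Cfsg.Agent.LEBasic
open scoped commutatorElement

universe u v w

theorem involves_of_hom {X : Type u} {Q : Type v} {S : Type w} [Group X] [Group Q] [Group S] (φ : X →* Q) (ψ : X →* S)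
    (hψ : Function.Surjective ψ) (h : φ.ker ≤ ψ.ker) : Cfsg.Involves S Q := by
  let f : ↥φ.range →* S := φ.rangeRestrict.liftOfSurjective φ.rangeRestrict_surjective
    ⟨ψ, by rwa [MonoidHom.ker_rangeRestrict]⟩
  have hf : Function.Surjective f := fun s => by
    obtain ⟨x, rfl⟩ := hψ s
    exact ⟨φ.rangeRestrict x, MonoidHom.liftOfRightInverse_comp_apply _ _ _ _ x⟩
  have he : (f.ker.map φ.range.subtype).subgroupOf φ.range = f.ker :=
    Subgroup.comap_map_eq_self_of_injective φ.range.subtype_injective _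
  have hn : ((f.ker.map φ.range.subtype).subgroupOf φ.range).Normal := by rw [he]; infer_instance
  haveI := hn
  exact ⟨φ.range, f.ker.map φ.range.subtype, hn,
    ⟨(QuotientGroup.quotientMulEquivOfEq he).trans (QuotientGroup.quotientKerEquivOfSurjective f hf)⟩⟩

theorem exists_hom_of_involves {Q : Type v} {S : Type w} [Group Q] [Group S] (h : Cfsg.Involves S Q) :
    ∃ (K : Subgroup Q) (ψ : ↥K →* S), Function.Surjective ψ := by
  obtain ⟨K, R, hR, ⟨e⟩⟩ := h
  haveI := hR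
  exact ⟨K, e.toMonoidHom.comp (QuotientGroup.mk' (R.subgroupOf K)), e.surjective.comp (QuotientGroup.mk'_surjective _)⟩

variable {G : Type u} [Group G] [Finite G]

/-- Through a Sylow subgroup of the preimage of a normal subgroup. -/
theorem exists_normalizer_lift {S : Type w} [Group S] (ψ : G →* S) (hψ : Function.Surjective ψ) (q : ℕ) [Fact q.Prime]
    {A : Subgroup S} [A.Normal] :
    ∃ P : Subgroup G, IsPGroup q ↥P ∧ P ≤ A.comap ψ ∧ ¬ q ∣ P.relIndex (A.comap ψ) ∧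
      ∀ s : S, ∃ g ∈ Subgroup.normalizer (P : Set G), ∃ a ∈ A, ψ g = s * a := by
  set N := A.comap ψ with hN
  let P : Sylow q ↥N := Classical.arbitrary _
  refine ⟨(P : Subgroup ↥N).map N.subtype, P.2.map _, Subgroup.map_subtype_le _, ?_, fun s => ?_⟩
  · rw [Subgroup.relIndex, Subgroup.subgroupOf, Subgroup.comap_map_eq_self_of_injective N.subtype_injective]
    exact P.not_dvd_index
  · obtain ⟨g₀, rfl⟩ := hψ s
    obtain ⟨g, hg, n, hn, hgn⟩ := Subgroup.mem_sup_of_normal_right.1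
      ((Sylow.normalizer_sup_eq_top P).ge (Subgroup.mem_top g₀))
    exact ⟨g, hg, (ψ n)⁻¹, inv_mem hn, by rw [← hgn, map_mul, mul_inv_cancel_right]⟩

/-- A 2-element inverting a 3-element acting nontrivially on a 2-group gives a section isomorphic to `S₄`. -/
theorem involves_S4 {T : Subgroup G} (hT : IsPGroup 2 ↥T) {a c : G} (ha : ∃ k, orderOf a = 2 ^ k)
    (hc : ∃ k, orderOf c = 3 ^ k) (haT : a ∈ Subgroup.normalizer (T : Set G)) (hcT : c ∈ Subgroup.normalizer (T : Set G))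
    (hac : a * c * a⁻¹ = c⁻¹) (hc3 : c ^ 3 ∈ Subgroup.centralizer (T : Set G))
    (hcne : c ∉ Subgroup.centralizer (T : Set G)) : Cfsg.Involves (Equiv.Perm (Fin 4)) G := by
  classical
  haveI : Fact (Nat.Prime 2) := ⟨Nat.prime_two⟩
  set E := Subgroup.closure ({a, c} : Set G) with hE
  have haE : a ∈ E := Subgroup.subset_closure (by simp)
  have hcE : c ∈ E := Subgroup.subset_closure (by simp)
  have hEN : ∀ X : Subgroup G, a ∈ Subgroup.normalizer (X : Set G) → c ∈ Subgroup.normalizer (X : Set G) →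
      E ≤ Subgroup.normalizer (X : Set G) := fun X h1 h2 => by
    rw [hE, Subgroup.closure_le]; rintro g (rfl | rfl) <;> assumption
  -- a minimal invariant subgroup moved by `c`
  obtain ⟨W, hW⟩ := (Set.toFinite {X : Subgroup G | X ≤ T ∧ E ≤ Subgroup.normalizer (X : Set G) ∧
    c ∉ Subgroup.centralizer (X : Set G)}).exists_minimal ⟨T, le_rfl, hEN T haT hcT, hcne⟩
  obtain ⟨hWT, hEW, hcW⟩ := hW.prop
  have hWp : IsPGroup 2 ↥W := hT.to_le hWT
  haveI := hWp.isNilpotent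
  set Φ := (frattini ↥W).map W.subtype with hΦ
  have hΦn : Subgroup.normalizer (W : Set G) ≤ Subgroup.normalizer (Φ : Set G) := fun g hg =>
    le_normalizer_map_of_characteristic (H := W) (C := frattini ↥W) inferInstance hg
  have hW1 : W ≠ ⊥ := fun h => hcW (by
    rw [Subgroup.mem_centralizer_iff]
    intro x hx
    rw [h, SetLike.mem_coe, Subgroup.mem_bot] at hx
    rw [hx, one_mul, mul_one])
  have hΦlt : Φ ≠ W := fun h => by
    have h1 : frattini ↥W = ⊤ := by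
      apply Subgroup.map_injective W.subtype_injective
      rw [← hΦ, h, ← MonoidHom.range_eq_map, Subgroup.range_subtype]
    haveI : Nontrivial ↥W := (Subgroup.nontrivial_iff_ne_bot W).2 hW1
    obtain ⟨M, hM, -⟩ := (eq_top_or_exists_le_coatom (⊥ : Subgroup ↥W)).resolve_left bot_ne_top
    exact hM.1 (top_le_iff.1 (h1 ▸ frattini_le_coatom hM))
  obtain ⟨M, hM⟩ := (Set.toFinite {X : Subgroup G | Φ ≤ X ∧ X < W ∧ E ≤ Subgroup.normalizer (X : Set G)}).exists_maximal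
    ⟨Φ, le_rfl, lt_of_le_of_ne (Subgroup.map_subtype_le _) hΦlt, hEW.trans hΦn⟩
  obtain ⟨hΦM, hMW, hEM⟩ := hM.prop
  have hirr : ∀ X : Subgroup G, M ≤ X → X ≤ W → E ≤ Subgroup.normalizer (X : Set G) → X = M ∨ X = W := by
    intro X h1 h2 h3
    rcases h2.lt_or_eq with h | h
    · exact Or.inl (le_antisymm (hM.le_of_ge ⟨hΦM.trans h1, h, h3⟩ h1) h1)
    · exact Or.inr h
  have hcomm : ∀ x ∈ W, ∀ y ∈ W, x * y * x⁻¹ * y⁻¹ ∈ M := fun x hx y hy =>
    hΦM ⟨⁅(⟨x, hx⟩ : ↥W), ⟨y, hy⟩⁆, Cfsg.Agent.SolvStruct.commutator_le_frattini ↥W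
      (Subgroup.commutator_mem_commutator (Subgroup.mem_top _) (Subgroup.mem_top _)), by simp [commutatorElement_def]⟩
  have hsq : ∀ x ∈ W, x * x ∈ M := fun x hx => hΦM ⟨⟨x, hx⟩ ^ 2, PGroupBasics.pow_mem_frattini hWp ⟨x, hx⟩, by simp [pow_two]⟩
  have hWM : W ≤ Subgroup.normalizer (M : Set G) := Subgroup.le_normalizer_iff.2 fun x hx y hy => by
    have := mul_mem (hcomm x hx y (hMW.le hy)) hy
    simpa [mul_assoc] using this
  have hcWc : ∀ x ∈ W, c * x * c⁻¹ ∈ W := fun x hx => (Subgroup.mem_normalizer_iff.1 (hEW hcE) x).1 hx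
  have hcMc : ∀ x ∈ M, c * x * c⁻¹ ∈ M := fun x hx => (Subgroup.mem_normalizer_iff.1 (hEM hcE) x).1 hx
  have hMc : c ∈ Subgroup.centralizer (M : Set G) := by
    by_contra h
    exact hMW.not_ge (hW.le_of_le ⟨hMW.le.trans hWT, hEM, h⟩ hMW.le)
  obtain ⟨k, hk⟩ := hc
  have hc2 : (orderOf c).Coprime 2 := hk ▸ Nat.Coprime.pow_left k (by norm_num)
  -- `c` has no fixed point on `W/M`
  have hfpf : ∀ x ∈ W, c * x * c⁻¹ * x⁻¹ ∈ M → x ∈ M := by
    let X : Subgroup G :=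
      { carrier := {x | x ∈ W ∧ c * x * c⁻¹ * x⁻¹ ∈ M}
        one_mem' := ⟨one_mem _, by simp⟩
        mul_mem' := fun {x y} hx hy => ⟨mul_mem hx.1 hy.1, by
          rw [show c * (x * y) * c⁻¹ * (x * y)⁻¹ = (c * x * c⁻¹ * x⁻¹) * (x * (c * y * c⁻¹ * y⁻¹) * x⁻¹) by simp [mul_assoc]]
          exact mul_mem hx.2 ((Subgroup.mem_normalizer_iff.1 (hWM hx.1) _).1 hy.2)⟩
        inv_mem' := fun {x} hx => ⟨inv_mem hx.1, by
          rw [show c * x⁻¹ * c⁻¹ * x⁻¹⁻¹ = x⁻¹ * (c * x * c⁻¹ * x⁻¹)⁻¹ * x by simp [mul_assoc]]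
          exact (Subgroup.mem_normalizer_iff''.1 (hWM hx.1) _).1 (inv_mem hx.2)⟩ }
    have hcX : ∀ x ∈ X, c * x * c⁻¹ ∈ X := fun x hx => ⟨hcWc x hx.1, by
      have := hcMc _ hx.2; simpa [mul_assoc] using this⟩
    have haX : ∀ x ∈ X, a * x * a⁻¹ ∈ X := fun x hx => by
      have haM := hEM haE
      refine ⟨(Subgroup.mem_normalizer_iff.1 (hEW haE) x).1 hx.1, ?_⟩
      have h1 := hEM (inv_mem hcE)
      have h2 : c⁻¹ * x * c⁻¹⁻¹ * x⁻¹ ∈ M := by
        have h3 := (Subgroup.mem_normalizer_iff.1 h1 _).1 (inv_mem hx.2)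
        simpa [mul_assoc] using h3
      have h4 := (Subgroup.mem_normalizer_iff.1 haM _).1 h2
      rw [show a * (c⁻¹ * x * c⁻¹⁻¹ * x⁻¹) * a⁻¹ =
        (a * c⁻¹ * a⁻¹) * (a * x * a⁻¹) * (a * c⁻¹ * a⁻¹)⁻¹ * (a * x * a⁻¹)⁻¹ by simp [mul_assoc]] at h4
      rwa [show a * c⁻¹ * a⁻¹ = c by rw [← conj_inv, hac, inv_inv]] at h4
    have hXn : E ≤ Subgroup.normalizer (X : Set G) := hEN X
      (map_conj_eq_iff_mem_normalizer.1 (Subgroup.eq_of_le_of_card_ge (by rintro _ ⟨x, hx, rfl⟩; exact haX x hx) (card_map_conj X a).ge))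
      (map_conj_eq_iff_mem_normalizer.1 (Subgroup.eq_of_le_of_card_ge (by rintro _ ⟨x, hx, rfl⟩; exact hcX x hx) (card_map_conj X c).ge))
    have hMX : M ≤ X := fun x hx => ⟨hMW.le hx, mul_mem (hcMc x hx) (inv_mem hx)⟩
    intro x hx hxc
    rcases hirr X hMX (fun y hy => hy.1) hXn with h | h
    · exact h.le ⟨hx, hxc⟩
    · exfalso
      refine hcW (LECoprime.mem_centralizer_of_iterCommutator hWp
        (L := Subgroup.zpowers c) (Subgroup.zpowers_le.2 (hEW hcE)) (n := 2) ?_ (Subgroup.mem_zpowers c) hc2)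
      show ⁅⁅W, Subgroup.zpowers c⁆, Subgroup.zpowers c⁆ = ⊥
      rw [Subgroup.commutator_eq_bot_iff_le_centralizer, Subgroup.le_centralizer_iff, Subgroup.zpowers_le]
      refine Subgroup.centralizer_le ?_ hMc
      show ⁅W, Subgroup.zpowers c⁆ ≤ M
      rw [Subgroup.commutator_le]
      intro y hy z hz
      -- elements of `⟨c⟩` act trivially on `W/M`
      have hmain : ∀ i : ℕ, c ^ i * y * (c ^ i)⁻¹ * y⁻¹ ∈ M := by
        intro i
        induction i with
        | zero => simp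
        | succ i ih =>
          have h1 := hcMc _ ih
          have h2 : c * y * c⁻¹ * y⁻¹ ∈ M := (h.ge hy).2
          have h3 := mul_mem h1 h2
          rw [pow_succ']
          simpa [mul_assoc] using h3
      obtain ⟨i, rfl⟩ := Submonoid.mem_powers_iff _ _ |>.1 (mem_powers_iff_mem_zpowers.2 hz)
      have h4 := inv_mem (hmain i)
      simpa [commutatorElement_def, mul_assoc] using h4
  -- a vector fixed by `a`
  obtain ⟨l, hl⟩ := ha
  have hAp : IsPGroup 2 ↥(W ⊔ Subgroup.zpowers a) := IsPGroup.to_sup_of_normal_left' hWp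
    (LESylow.isPGroup_zpowers hl) (Subgroup.zpowers_le.2 (hEW haE))
  obtain ⟨v, hv, hvM, hvt⟩ := LEKieler.exists_fixed_mod (B := W) (B₀ := M) hAp le_sup_left
    (sup_le Subgroup.le_normalizer (Subgroup.zpowers_le.2 (hEW haE))) (fun h => hMW.not_ge h)
  have hav : v⁻¹ * (a * v * a⁻¹) ∈ M := hvt a (Subgroup.mem_sup_right (Subgroup.mem_zpowers a))
  set u := c * v * c⁻¹ with hu
  have huW : u ∈ W := hcWc v hv
  haveI : (M.subgroupOf W).Normal := (Subgroup.normal_subgroupOf_iff_le_normalizer hMW.le).2 hWM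
  let π := QuotientGroup.mk' (M.subgroupOf W)
  have hπ : ∀ (x y : G) (hx : x ∈ W) (hy : y ∈ W), x⁻¹ * y ∈ M → π ⟨x, hx⟩ = π ⟨y, hy⟩ :=
    fun x y hx hy h => (QuotientGroup.eq).2 h
  set vv := π ⟨v, hv⟩ with hvv
  set uu := π ⟨u, huW⟩ with huu
  have hQsq : ∀ z : ↥W ⧸ M.subgroupOf W, z * z = 1 := fun z => by
    obtain ⟨⟨x, hx⟩, rfl⟩ := QuotientGroup.mk'_surjective _ z
    exact (QuotientGroup.eq_one_iff _).2 (hsq x hx)
  have hQc : ∀ z w : ↥W ⧸ M.subgroupOf W, z * w = w * z := fun z w => by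
    calc z * w = (w * w) * (z * w) * (z * z) := by rw [hQsq, hQsq, one_mul, mul_one]
      _ = w * ((w * z) * (w * z)) * z := by simp only [mul_assoc]
      _ = w * z := by rw [hQsq, mul_one]
  have hsqa : ∀ z w : ↥W ⧸ M.subgroupOf W, z * (z * w) = w := fun z w => by rw [← mul_assoc, hQsq, one_mul]
  have hlc : ∀ z w : ↥W ⧸ M.subgroupOf W, z * (w * z) = w := fun z w => by rw [hQc w z, hsqa]
  -- the subgroup spanned by `v` and `u` is invariant
  let Sp : Subgroup (↥W ⧸ M.subgroupOf W) :=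
    { carrier := {1, vv, uu, vv * uu}
      one_mem' := by simp
      mul_mem' := by
        intro x y hx hy
        rcases hx with rfl | rfl | rfl | rfl <;> rcases hy with rfl | rfl | rfl | rfl <;>
          simp [hQsq, hQc uu vv, hsqa, hlc, mul_assoc]
      inv_mem' := by
        intro x hx
        rwa [inv_eq_of_mul_eq_one_left (hQsq x)] }
  set U := (Sp.comap π).map W.subtype with hU
  have hmemU : ∀ {x : G} (hx : x ∈ W), x ∈ U ↔ π ⟨x, hx⟩ ∈ Sp := fun {x} hx =>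
    ⟨fun ⟨y, hy, hyx⟩ => (Subtype.ext hyx : y = ⟨x, hx⟩) ▸ hy, fun h => ⟨⟨x, hx⟩, h, rfl⟩⟩
  have hconj : ∀ (g : G) (hg : g ∈ E), ∃ f : (↥W ⧸ M.subgroupOf W) →* (↥W ⧸ M.subgroupOf W),
      ∀ (x : G) (hx : x ∈ W), f (π ⟨x, hx⟩) = π ⟨g * x * g⁻¹, (Subgroup.mem_normalizer_iff.1 (hEW hg) x).1 hx⟩ := by
    intro g hg
    let cj : ↥W →* ↥W := MonoidHom.mk' (fun x => ⟨g * x * g⁻¹, (Subgroup.mem_normalizer_iff.1 (hEW hg) x).1 x.2⟩)
      (fun x y => Subtype.ext (by simp [mul_assoc]))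
    exact ⟨QuotientGroup.map _ (M.subgroupOf W) cj (fun x hx => (Subgroup.mem_normalizer_iff.1 (hEM hg) _).1 hx),
      fun x hx => rfl⟩
  have hinv : ∀ g ∈ E, (∀ z ∈ ({vv, uu} : Set _), ∀ f : (↥W ⧸ M.subgroupOf W) →* (↥W ⧸ M.subgroupOf W),
      (∀ (x : G) (hx : x ∈ W) (hgx : g * x * g⁻¹ ∈ W), f (π ⟨x, hx⟩) = π ⟨g * x * g⁻¹, hgx⟩) → f z ∈ Sp) →
      g ∈ Subgroup.normalizer (U : Set G) := by
    intro g hg h
    obtain ⟨f, hf⟩ := hconj g hg
    have h1 := h vv (Or.inl rfl) f (fun x hx _ => hf x hx)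
    have h2 := h uu (Or.inr rfl) f (fun x hx _ => hf x hx)
    rw [← map_conj_eq_iff_mem_normalizer]
    refine Subgroup.eq_of_le_of_card_ge ?_ (card_map_conj U g).ge
    rintro _ ⟨x, hx, rfl⟩
    have hxW : x ∈ W := Subgroup.map_subtype_le _ hx
    show g * x * g⁻¹ ∈ U
    rw [hmemU ((Subgroup.mem_normalizer_iff.1 (hEW hg) x).1 hxW), ← hf x hxW]
    rcases (hmemU hxW).1 hx with h' | h' | h' | h'
    · rw [h', map_one]; exact one_mem _
    · rw [h']; exact h1
    · rw [h']; exact h2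
    · rw [h', map_mul]; exact mul_mem h1 h2
  have hu2 : c * u * c⁻¹ ∈ W := hcWc u huW
  have hccc : π ⟨c * u * c⁻¹, hu2⟩ = vv * uu := by
    -- the product of an orbit of `c` is fixed
    have hprod : c * (v * u * (c * u * c⁻¹)) * c⁻¹ * (v * u * (c * u * c⁻¹))⁻¹ ∈ M := by
      obtain ⟨f, hf⟩ := hconj c hcE
      have hmem3 : v * u * (c * u * c⁻¹) ∈ W := mul_mem (mul_mem hv huW) hu2
      have e : π ⟨c * (v * u * (c * u * c⁻¹)) * c⁻¹, hcWc _ hmem3⟩ = π ⟨v * u * (c * u * c⁻¹), hmem3⟩ := by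
        rw [← hf _ hmem3]
        show f (π (⟨v, hv⟩ * ⟨u, huW⟩ * ⟨c * u * c⁻¹, hu2⟩)) = π (⟨v, hv⟩ * ⟨u, huW⟩ * ⟨c * u * c⁻¹, hu2⟩)
        simp only [map_mul]
        rw [hf v hv, hf u huW, hf _ hu2]
        have h3 : π ⟨c * (c * u * c⁻¹) * c⁻¹, hcWc _ hu2⟩ = π ⟨v, hv⟩ := by
          congr 1
          refine Subtype.ext ?_
          show c * (c * u * c⁻¹) * c⁻¹ = v
          have h4 := Subgroup.mem_centralizer_iff.1 hc3 v (hWT hv)
          calc c * (c * u * c⁻¹) * c⁻¹ = c ^ 3 * v * (c ^ 3)⁻¹ := by simp [hu, pow_succ, mul_assoc]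
            _ = v := by rw [← h4, mul_inv_cancel_right]
        rw [h3]
        change uu * _ * vv = vv * uu * _
        rw [hQc _ vv, mul_assoc vv]
      have := QuotientGroup.eq.1 e.symm
      have h5 := (Subgroup.mem_normalizer_iff.1 (hWM hmem3) _).1 this
      simpa [mul_assoc] using h5
    have h6 : π ⟨v * u * (c * u * c⁻¹), mul_mem (mul_mem hv huW) hu2⟩ = 1 :=
      (QuotientGroup.eq_one_iff _).2 (hfpf _ (mul_mem (mul_mem hv huW) hu2) hprod)
    change π (⟨v, hv⟩ * ⟨u, huW⟩ * ⟨c * u * c⁻¹, hu2⟩) = 1 at h6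
    rw [map_mul, map_mul] at h6
    calc π ⟨c * u * c⁻¹, hu2⟩ = (vv * uu)⁻¹ := eq_inv_of_mul_eq_one_right h6
      _ = vv * uu := inv_eq_of_mul_eq_one_left (hQsq _)
  have hava : π ⟨a * v * a⁻¹, (Subgroup.mem_normalizer_iff.1 (hEW haE) v).1 hv⟩ = vv := (hπ _ _ _ _ hav).symm
  have hauu : π ⟨a * u * a⁻¹, (Subgroup.mem_normalizer_iff.1 (hEW haE) u).1 huW⟩ = vv * uu := by
    obtain ⟨f, hf⟩ := hconj c hcE
    have h1 : f (f (π ⟨a * v * a⁻¹, (Subgroup.mem_normalizer_iff.1 (hEW haE) v).1 hv⟩)) = f (f vv) := by rw [hava]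
    rw [hvv, hf, hf, hf v hv, hf u huW] at h1
    rw [← hccc, ← h1]
    congr 1
    refine Subtype.ext ?_
    have h4 := Subgroup.mem_centralizer_iff.1 hc3 _ ((Subgroup.mem_normalizer_iff.1 haT v).1 (hWT hv))
    show a * u * a⁻¹ = c * (c * (a * v * a⁻¹) * c⁻¹) * c⁻¹
    calc a * u * a⁻¹ = (a * c * a⁻¹) * (a * v * a⁻¹) * (a * c * a⁻¹)⁻¹ := by simp [hu, mul_assoc]
      _ = c⁻¹ * (c ^ 3 * (a * v * a⁻¹) * (c ^ 3)⁻¹) * c := by rw [hac, ← h4, mul_inv_cancel_right, inv_inv]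
      _ = c * (c * (a * v * a⁻¹) * c⁻¹) * c⁻¹ := by simp [pow_succ, mul_assoc]
  have hUn : E ≤ Subgroup.normalizer (U : Set G) := by
    refine hEN U (hinv a haE ?_) (hinv c hcE ?_)
    · rintro z (rfl | rfl) f hf
      · rw [hvv, hf v hv ((Subgroup.mem_normalizer_iff.1 (hEW haE) v).1 hv), hava]
        exact Or.inr (Or.inl rfl)
      · rw [huu, hf u huW ((Subgroup.mem_normalizer_iff.1 (hEW haE) u).1 huW), hauu]
        exact Or.inr (Or.inr (Or.inr rfl))
    · rintro z (rfl | rfl) f hf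
      · rw [hvv, hf v hv huW]
        exact Or.inr (Or.inr (Or.inl rfl))
      · rw [huu, hf u huW hu2, hccc]
        exact Or.inr (Or.inr (Or.inr rfl))
  have hv1 : vv ≠ 1 := fun h => hvM ((QuotientGroup.eq_one_iff (N := M.subgroupOf W) ⟨v, hv⟩).1 h)
  have hu1 : uu ≠ 1 := fun h => by
    have h1 : u ∈ M := (QuotientGroup.eq_one_iff (N := M.subgroupOf W) ⟨u, huW⟩).1 h
    exact hvM ((Subgroup.mem_normalizer_iff.1 (hEM hcE) v).2 h1)
  have huv : uu ≠ vv := fun h => by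
    have h1 : v⁻¹ * u ∈ M := (QuotientGroup.eq (s := M.subgroupOf W) (a := ⟨v, hv⟩) (b := ⟨u, huW⟩)).1 h.symm
    refine hvM (hfpf v hv ?_)
    have h2 := (Subgroup.mem_normalizer_iff.1 (hWM hv) _).1 h1
    simpa [hu, mul_assoc] using h2
  have hUW : U = W := by
    refine (hirr U (fun x hx => (hmemU (hMW.le hx)).2 ?_) (Subgroup.map_subtype_le _) hUn).resolve_left fun h => hvM ?_
    · exact Or.inl ((QuotientGroup.eq_one_iff _).2 hx)
    · exact h.le ((hmemU hv).2 (Or.inr (Or.inl rfl)))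
  have hcard4 : M.relIndex W = 4 := by
    have htop : (Sp : Set (↥W ⧸ M.subgroupOf W)) = Set.univ := Set.eq_univ_of_forall fun z => by
      obtain ⟨⟨x, hx⟩, rfl⟩ := QuotientGroup.mk'_surjective _ z
      exact (hmemU hx).1 (hUW.ge hx)
    have h4 : ({1, vv, uu, vv * uu} : Set (↥W ⧸ M.subgroupOf W)).ncard = 4 := by
      have h5 : vv * uu ≠ 1 := fun h => huv ((eq_inv_of_mul_eq_one_right h).trans (inv_eq_of_mul_eq_one_left (hQsq vv)))
      have h6 : vv ≠ vv * uu := fun h => hu1 (mul_eq_left.1 h.symm)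
      have h7 : uu ≠ vv * uu := fun h => hv1 (mul_eq_right.1 h.symm)
      rw [Set.ncard_insert_of_notMem (by simp [hv1.symm, hu1.symm, h5.symm]),
        Set.ncard_insert_of_notMem (by simp [huv.symm, h6]),
        Set.ncard_insert_of_notMem (by simp [h7]), Set.ncard_singleton]
    rw [Subgroup.relIndex, Subgroup.index_eq_card, ← Set.ncard_univ, ← htop]
    exact h4
  -- the permutation representation
  set K := W ⊔ E with hK
  set H₀ := M ⊔ E with hH₀
  have hWE : W ⊓ E ≤ M := by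
    intro e he
    obtain ⟨heW, heE⟩ := Subgroup.mem_inf.1 he
    have hcn : E ≤ Subgroup.normalizer (Subgroup.zpowers c : Set G) := hEN _ (by
        rw [← map_conj_eq_iff_mem_normalizer, MonoidHom.map_zpowers]
        show Subgroup.zpowers (a * c * a⁻¹) = _
        rw [hac, Subgroup.zpowers_inv]) (Subgroup.le_normalizer (Subgroup.mem_zpowers c))
    have h1 : e * c * e⁻¹ * c⁻¹ ∈ W := by
      have h2 := (Subgroup.mem_normalizer_iff.1 (hEW hcE) e⁻¹).1 (inv_mem heW)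
      have h3 := mul_mem heW h2
      simpa [mul_assoc] using h3
    have h2 : e * c * e⁻¹ * c⁻¹ ∈ Subgroup.zpowers c :=
      mul_mem ((Subgroup.mem_normalizer_iff.1 (hcn heE) c).1 (Subgroup.mem_zpowers c)) (inv_mem (Subgroup.mem_zpowers c))
    have h3 : e * c * e⁻¹ * c⁻¹ = 1 := PBasic.eq_one_of_isPGroup_of_coprime hWp h1
      (Nat.Coprime.coprime_dvd_left (orderOf_dvd_of_mem_zpowers h2) hc2)
    refine hfpf e heW ?_
    have : c * e = e * c := (mul_inv_eq_iff_eq_mul.1 (mul_inv_eq_one.1 h3)).symm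
    rw [this, mul_inv_cancel_right, mul_inv_cancel]
    exact one_mem _
  have hWK : W ≤ K := le_sup_left
  have hH₀K : H₀ ≤ K := sup_le_sup_right hMW.le _
  have hWH₀ : W ⊓ H₀ = M := by
    refine le_antisymm (fun x hx => ?_) (le_inf hMW.le le_sup_left)
    obtain ⟨hxW, hxH⟩ := Subgroup.mem_inf.1 hx
    obtain ⟨m, hm, e, he, rfl⟩ := (SolvBasic.mem_sup_iff_of_le_normalizer hEM).1 hxH
    refine mul_mem hm (hWE (Subgroup.mem_inf.2 ⟨?_, he⟩))
    simpa using mul_mem (inv_mem (hMW.le hm)) hxW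
  have hidx : (H₀.subgroupOf K).index = 4 := by
    rw [← hcard4, ← Subgroup.relIndex, show M.relIndex W = H₀.relIndex W by
      rw [← Subgroup.inf_relIndex_right H₀ W, inf_comm, hWH₀]]
    have h1 : H₀.relIndex K * Nat.card ↥H₀ = Nat.card ↥K := by
      rw [mul_comm, PBasic.card_mul_relIndex hH₀K]
    have h2 : H₀.relIndex W * Nat.card ↥M = Nat.card ↥W := by
      rw [← hWH₀, ← Subgroup.inf_relIndex_right H₀ W, inf_comm H₀ W, mul_comm, PBasic.card_mul_relIndex inf_le_left]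
    have h3 := SolvBasic.card_sup_mul_card_inf hEW
    rw [← hK] at h3
    have h4 := SolvBasic.card_sup_mul_card_inf hEM
    rw [← hH₀, show M ⊓ E = W ⊓ E from le_antisymm (inf_le_inf_right E hMW.le) (le_inf hWE inf_le_right)] at h4
    have h5 : 0 < Nat.card ↥H₀ * Nat.card ↥(W ⊓ E) := Nat.mul_pos Nat.card_pos Nat.card_pos
    refine Nat.eq_of_mul_eq_mul_right h5 ?_
    calc H₀.relIndex K * (Nat.card ↥H₀ * Nat.card ↥(W ⊓ E)) = Nat.card ↥W * Nat.card ↥E := by
          rw [← mul_assoc, h1, h3]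
      _ = H₀.relIndex W * (Nat.card ↥H₀ * Nat.card ↥(W ⊓ E)) := by rw [h4, ← mul_assoc, h2]
  let φ : ↥K →* Equiv.Perm (↥K ⧸ H₀.subgroupOf K) := MulAction.toPermHom _ _
  have hcard : Nat.card (↥K ⧸ H₀.subgroupOf K) = 4 := by rw [← Subgroup.index_eq_card, hidx]
  have hker : φ.ker ≤ H₀.subgroupOf K := by
    intro g hg
    have h := congrArg (fun σ : Equiv.Perm _ => σ ((1 : ↥K) : ↥K ⧸ H₀.subgroupOf K)) (MonoidHom.mem_ker.1 hg)
    change g • ((1 : ↥K) : ↥K ⧸ H₀.subgroupOf K) = ((1 : ↥K) : ↥K ⧸ H₀.subgroupOf K) at h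
    rw [MulAction.Quotient.smul_coe, smul_eq_mul, mul_one, QuotientGroup.eq, mul_one] at h
    exact (inv_mem_iff (H := H₀.subgroupOf K)).1 h
  have hne : ∀ g ∈ E, ∀ (hg : g ∈ K) (x : G), x ∈ W → g * x * g⁻¹ * x⁻¹ ∉ M → φ ⟨g, hg⟩ ≠ 1 := by
    intro g hgE hg x hx hxn h
    have h1 := congrArg (fun σ : Equiv.Perm _ => σ ((⟨x, hWK hx⟩ : ↥K) : ↥K ⧸ H₀.subgroupOf K)) h
    change (⟨g, hg⟩ : ↥K) • ((⟨x, hWK hx⟩ : ↥K) : ↥K ⧸ H₀.subgroupOf K) = _ at h1
    rw [MulAction.Quotient.smul_coe, smul_eq_mul, Equiv.Perm.one_apply, QuotientGroup.eq, Subgroup.mem_subgroupOf] at h1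
    apply hxn
    have h2 : (g * x)⁻¹ * x * g ∈ H₀ := mul_mem h1 (Subgroup.mem_sup_right hgE)
    have h3 : (g * x)⁻¹ * x * g ∈ W := by
      have h5 := (Subgroup.mem_normalizer_iff''.1 (hEW hgE) x).1 hx
      have := mul_mem (inv_mem hx) h5
      simpa [mul_assoc] using this
    have h4 : (g * x)⁻¹ * x * g ∈ M := hWH₀ ▸ Subgroup.mem_inf.2 ⟨h3, h2⟩
    have h6 := (Subgroup.mem_normalizer_iff.1 (hEM hgE) _).1 h4
    have h7 := (Subgroup.mem_normalizer_iff.1 (hWM ((Subgroup.mem_normalizer_iff.1 (hEW hgE) x).1 hx)) _).1 h6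
    have h8 := inv_mem h7
    simpa [mul_assoc] using h8
  have hsurj : Function.Surjective φ := by
    rw [← MonoidHom.range_eq_top]
    refine Subgroup.eq_top_of_le_card _ ?_
    haveI := Fintype.ofFinite (↥K ⧸ H₀.subgroupOf K)
    rw [Nat.card_perm, hcard]
    set I := (H₀.subgroupOf K).map φ with hI
    have h6 : 6 ∣ Nat.card ↥I := by
      have mk : ∀ (g : G) (hg : g ∈ E) (q m : ℕ), q.Prime → orderOf g = q ^ m →
          (∃ x ∈ W, g * x * g⁻¹ * x⁻¹ ∉ M) → q ∣ Nat.card ↥I := by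
        intro g hg q m hq hgm ⟨x, hx, hxn⟩
        have hgH : (⟨g, le_sup_right (a := W) hg⟩ : ↥K) ∈ H₀.subgroupOf K := le_sup_right (a := M) hg
        have h1 := hne g hg (le_sup_right (a := W) hg) x hx hxn
        obtain ⟨i, -, hi⟩ := (Nat.dvd_prime_pow hq).1
          ((orderOf_map_dvd φ ⟨g, le_sup_right (a := W) hg⟩).trans (by rw [Subgroup.orderOf_mk, hgm]))
        have h2 : orderOf (φ ⟨g, le_sup_right (a := W) hg⟩) ∣ Nat.card ↥I := by
          rw [← Subgroup.orderOf_mk _ (Subgroup.mem_map_of_mem φ hgH)]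
          exact orderOf_dvd_natCard _
        rcases i with _ | i
        · rw [pow_zero, orderOf_eq_one_iff] at hi; exact absurd hi h1
        · exact (dvd_pow_self q i.succ_ne_zero).trans (hi ▸ h2)
      refine Nat.Coprime.mul_dvd_of_dvd_of_dvd (by norm_num : Nat.Coprime 2 3)
        (mk a haE 2 l Nat.prime_two hl ⟨u, huW, fun h => ?_⟩) (mk c hcE 3 k Nat.prime_three hk ⟨v, hv, fun h => ?_⟩)
      · have h1 : π ⟨a * u * a⁻¹, (Subgroup.mem_normalizer_iff.1 (hEW haE) u).1 huW⟩ = uu := by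
          refine (hπ _ _ _ _ ?_).symm
          have := (Subgroup.mem_normalizer_iff''.1 (hWM huW) _).1 h
          simpa [mul_assoc] using this
        rw [hauu] at h1
        exact hv1 (mul_eq_right.1 h1)
      · exact hvM (hfpf v hv h)
    have h4 : I.relIndex φ.range = 4 := by
      show (I.comap φ.range.subtype).index = 4
      have := Subgroup.index_comap_of_surjective (I.comap φ.range.subtype) φ.rangeRestrict_surjective
      rw [← this, Subgroup.comap_comap, MonoidHom.subtype_comp_rangeRestrict, hI,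
        Subgroup.comap_map_eq_self hker, hidx]
    have h7 := PBasic.card_mul_relIndex (show I ≤ φ.range from Subgroup.map_le_range φ _)
    rw [h4] at h7
    obtain ⟨m, hm⟩ := h6
    have h8 : 0 < m := by
      rcases m with _ | m
      · simp at hm
      · omega
    show Nat.factorial 4 ≤ _
    rw [← h7, hm]
    simp [Nat.factorial]
    omega
  haveI := Fintype.ofFinite (↥K ⧸ H₀.subgroupOf K)
  let e : Equiv.Perm (↥K ⧸ H₀.subgroupOf K) ≃* Equiv.Perm (Fin 4) :=
    (Finite.equivFinOfCardEq hcard).permCongrHom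
  exact involves_of_hom K.subtype (e.toMonoidHom.comp φ) (e.surjective.comp hsurj)
    (by rw [Subgroup.ker_subtype]; exact bot_le)

/-- The three double transpositions. -/
def dd : Fin 3 → Equiv.Perm (Fin 4) :=
  ![Equiv.swap 0 1 * Equiv.swap 2 3, Equiv.swap 0 2 * Equiv.swap 1 3, Equiv.swap 0 3 * Equiv.swap 1 2]

/-- The action of `S₄` on the double transpositions. -/
def act (σ : Equiv.Perm (Fin 4)) (i : Fin 3) : Fin 3 := ![0, 0, 1, 2] ((σ * dd i * σ⁻¹) 0)

theorem act_spec : ∀ (σ : Equiv.Perm (Fin 4)) (i : Fin 3), dd (act σ i) = σ * dd i * σ⁻¹ := by decide +kernel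

theorem dd_inj : Function.Injective dd := by decide +kernel

/-- The map `S₄ → S₃`. -/
def chi : Equiv.Perm (Fin 4) →* Equiv.Perm (Fin 3) :=
  MonoidHom.mk' (fun σ => ⟨act σ, act σ⁻¹, fun i => dd_inj (by rw [act_spec, act_spec]; group),
      fun i => dd_inj (by rw [act_spec, act_spec]; group)⟩)
    (fun σ τ => Equiv.ext fun i => dd_inj (by
      show dd (act (σ * τ) i) = dd (act σ (act τ i)); rw [act_spec, act_spec, act_spec]; group))

theorem chi_surjective : Function.Surjective chi := by decide +kernel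

theorem chi_ker_card : (Finset.univ.filter fun σ => chi σ = 1).card = 4 := by decide +kernel

theorem chi_cent : ∀ g : Equiv.Perm (Fin 4), (∀ a, chi a = 1 → g * a = a * g) → chi g = 1 := by decide +kernel

theorem swap_mul_even_sq : ∀ a : Equiv.Perm (Fin 3), Equiv.Perm.sign a = 1 →
    (Equiv.swap 0 1 * a) * (Equiv.swap 0 1 * a) = 1 := by
  decide +kernel

theorem swap_mul_even_comm : ∀ a b : Equiv.Perm (Fin 3), Equiv.Perm.sign a = 1 → Equiv.Perm.sign b = 1 →
    b * ((Equiv.swap 0 1 * a) * b⁻¹ * (Equiv.swap 0 1 * a)⁻¹) = 1 → b = 1 := by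
  decide +kernel

end Cfsg.Agent.LEInvolve
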