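/-
A p'-element acting on a p-group and fixing its elements of order p, and of order four when p = 2,
acts trivially.
-/
import Cfsg.Agent.Lib.LocalEven.OmegaOne

set_option autoImplicit false

namespace Cfsg.Agent.LEOmega

open scoped commutatorElement

variable {G : Type*} [Group G] [Finite G] {p : ℕ} [Fact p.Prime]

/-- A `p'`-element normalizing the `p`-group `Q` and fixing its elements of order `p`, and of order
four if `p = 2`, centralizes `Q`. -/
theorem commute_of_small {x : G} (hxc : (orderOf x).Coprime p) :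
    ∀ (m : ℕ) (Q : Subgroup G), Nat.card ↥Q ≤ m → IsPGroup p ↥Q →
      x ∈ Subgroup.normalizer (Q : Set G) → (∀ a ∈ Q, (a ^ p = 1 ∨ p = 2 ∧ a ^ 4 = 1) → x * a = a * x) →
      ∀ a ∈ Q, x * a = a * x := by
  intro m
  induction m with
  | zero => intro Q hm; exact absurd hm (Nat.not_le.2 Nat.card_pos)
  | succ m ih =>
    intro Q hm hQ hxQ hΩ a ha
    -- proper subgroups are centralized
    have small : ∀ K : Subgroup G, K ≤ Q → K ≠ Q → x ∈ Subgroup.normalizer (K : Set G) →
        ∀ k ∈ K, x * k = k * x := by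
      intro K hK hne hxK
      refine ih K ?_ (hQ.to_le hK) hxK fun k hk => hΩ k (hK hk)
      have : Nat.card ↥K < Nat.card ↥Q :=
        lt_of_le_of_ne (Subgroup.card_le_of_le hK) fun h => hne (Subgroup.eq_of_le_of_card_ge hK h.ge)
      omega
    rcases eq_or_ne Q ⊥ with hQ1 | hQ1
    · rw [hQ1, Subgroup.mem_bot] at ha
      simp [ha]
    haveI := (Subgroup.nontrivial_iff_ne_bot Q).2 hQ1
    haveI := hQ.isNilpotent
    haveI : Group.IsSolvable ↥Q := inferInstance
    let F : Subgroup ↥Q :=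
      (powMonoidHom p : Abelianization ↥Q →* Abelianization ↥Q).range.comap Abelianization.of
    have hFc : ∀ u v : ↥Q, ⁅u, v⁆ ∈ F := fun u v => ⟨1, by
      rw [powMonoidHom_apply, one_pow, map_commutatorElement, commutatorElement_eq_one_iff_mul_comm.2 (mul_comm _ _)]⟩
    have hFp : ∀ u : ↥Q, u ^ p ∈ F := fun u => ⟨Abelianization.of u, by rw [powMonoidHom_apply, map_pow]⟩
    have hF : F ≠ ⊤ := by
      intro htop
      have hsurj : Function.Surjective (powMonoidHom p : Abelianization ↥Q →* Abelianization ↥Q) := by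
        intro y
        obtain ⟨u, rfl⟩ := QuotientGroup.mk_surjective y
        exact (htop ▸ Subgroup.mem_top u : u ∈ F)
      have hinj := Finite.injective_iff_surjective.2 hsurj
      have hA : IsPGroup p (Abelianization ↥Q) := hQ.of_surjective Abelianization.of QuotientGroup.mk_surjective
      obtain ⟨k, hk⟩ := hA.exists_card_eq
      rcases k with _ | k
      · have hlt := Group.IsSolvable.commutator_lt_top_of_nontrivial ↥Q
        apply hlt.ne
        rw [← QuotientGroup.ker_mk' (commutator ↥Q)]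
        rw [eq_top_iff]
        intro u _
        rw [pow_zero, Nat.card_eq_one_iff_unique] at hk
        exact (hk.1).elim _ _
      · obtain ⟨y, hy⟩ := exists_prime_orderOf_dvd_card' p (hk ▸ dvd_pow_self p k.succ_ne_zero)
        have : y = 1 := hinj (by rw [powMonoidHom_apply, powMonoidHom_apply, one_pow, ← hy, pow_orderOf_eq_one])
        rw [this, orderOf_one] at hy
        exact (Fact.out : p.Prime).ne_one hy.symm
    set F' := F.map Q.subtype with hF'
    have hFne : F' ≠ Q := fun h => hF (by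
      apply Subgroup.map_injective Q.subtype_injective
      rw [← hF', h, ← MonoidHom.range_eq_map, Subgroup.range_subtype])
    have hxF : x ∈ Subgroup.normalizer (F' : Set G) := by
      have key : ∀ y : G, y ∈ Subgroup.normalizer (Q : Set G) → ∀ f ∈ F', y * f * y⁻¹ ∈ F' := by
        rintro y hy _ ⟨f, ⟨b, hb⟩, rfl⟩
        let e : ↥Q →* ↥Q :=
          { toFun := fun k => ⟨y * k * y⁻¹, (Subgroup.mem_normalizer_iff.1 hy _).1 k.2⟩
            map_one' := Subtype.ext (by simp)
            map_mul' := fun u v => Subtype.ext (by simp [mul_assoc]) }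
        refine ⟨e f, ⟨Abelianization.map e b, ?_⟩, rfl⟩
        rw [powMonoidHom_apply, ← map_pow, ← powMonoidHom_apply, hb, Abelianization.map_of]
      rw [Subgroup.mem_normalizer_iff]
      refine fun f => ⟨key x hxQ f, fun h => ?_⟩
      have := key x⁻¹ (inv_mem hxQ) _ h
      simpa [mul_assoc] using this
    have hfix : ∀ f ∈ F', x * f = f * x := small F' (Subgroup.map_subtype_le F) hFne hxF
    set C := Q ⊓ Subgroup.centralizer (F' : Set G) with hC
    have hxC : x ∈ Subgroup.normalizer (C : Set G) :=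
      Subgroup.le_normalizer_iff.2 (fun g hg h hh => by
        obtain ⟨h1, h2⟩ := Subgroup.mem_inf.1 hh
        refine Subgroup.mem_inf.2 ⟨(Subgroup.mem_normalizer_iff.1 (Subgroup.mem_inf.1 hg).1 _).1 h1, ?_⟩
        rw [Subgroup.mem_centralizer_iff] at h2 ⊢
        intro f hf
        have hf' := h2 _ ((Subgroup.mem_normalizer_iff''.1 (Subgroup.mem_inf.1 hg).2 f).1 hf)
        calc f * (g * h * g⁻¹) = g * (g⁻¹ * f * g * h) * g⁻¹ := by group
          _ = g * (h * (g⁻¹ * f * g)) * g⁻¹ := by rw [hf']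
          _ = g * h * g⁻¹ * f := by group)
        (show x ∈ Subgroup.normalizer (Q : Set G) ⊓ Subgroup.normalizer (F' : Set G) from ⟨hxQ, hxF⟩)
    -- the displacement c
    set c := a⁻¹ * (x * a * x⁻¹) with hc
    have hxa : x * a * x⁻¹ ∈ Q := (Subgroup.mem_normalizer_iff.1 hxQ a).1 ha
    have hcQ : c ∈ Q := mul_mem (inv_mem ha) hxa
    have hcC : c ∈ C := by
      refine Subgroup.mem_inf.2 ⟨hcQ, Subgroup.mem_centralizer_iff.2 fun f hf => ?_⟩
      have haf : a * f * a⁻¹ ∈ F' := by
        obtain ⟨f₀, hf₀, rfl⟩ := hf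
        refine ⟨⁅⟨a, ha⟩, f₀⁆ * f₀, mul_mem (hFc _ _) hf₀, ?_⟩
        simp [commutatorElement_def, mul_assoc]
      have h1 := hfix _ haf
      have h2 : Commute x⁻¹ f := (show Commute x f from hfix f hf).inv_left
      calc f * c = a⁻¹ * (a * f * a⁻¹) * (x * a * x⁻¹) := by rw [hc]; group
        _ = a⁻¹ * ((a * f * a⁻¹) * x) * a * x⁻¹ := by group
        _ = a⁻¹ * (x * (a * f * a⁻¹)) * a * x⁻¹ := by rw [h1]
        _ = a⁻¹ * x * a * (f * x⁻¹) := by group
        _ = a⁻¹ * x * a * (x⁻¹ * f) := by rw [h2.eq]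
        _ = c * f := by rw [hc]; group
    have hconj : x * a * x⁻¹ = a * c := by rw [hc]; group
    suffices h : x * c = c * x from CharP.commute_of_conj_eq_mul hQ hcQ hxc hconj h
    by_cases hCQ : C = Q
    swap
    · exact small C inf_le_left hCQ hxC c hcC
    -- now F' is central in Q
    have hcentral : ∀ f ∈ F', ∀ q ∈ Q, f * q = q * f := fun f hf q hq =>
      Subgroup.mem_centralizer_iff.1 (Subgroup.mem_inf.1 (hCQ.symm ▸ hq : q ∈ C)).2 f hf
    set z' := c⁻¹ * a⁻¹ * c * a with hz'
    have hz'F : z' ∈ F' := ⟨⁅(⟨c, hcQ⟩ : ↥Q)⁻¹, (⟨a, ha⟩ : ↥Q)⁻¹⁆, hFc _ _, by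
      simp [hz', commutatorElement_def, mul_assoc]⟩
    have hba : c * a = a * c * z' := by rw [hz']; group
    have hzc : Commute z' c := hcentral z' hz'F c hcQ
    have hza : Commute z' a := hcentral z' hz'F a ha
    have hcp : c ^ p ∈ F' := ⟨(⟨c, hcQ⟩ : ↥Q) ^ p, hFp _, by simp⟩
    have hzp : z' ^ p = 1 := by
      have h1 := pow_mul_swap hba hzc p
      rw [hcentral _ hcp a ha] at h1
      exact left_eq_mul.1 h1
    have hpow := mul_pow_class_two hba hza hzc p
    rw [← hconj, conj_pow, hfix (a ^ p) ⟨(⟨a, ha⟩ : ↥Q) ^ p, hFp _, by simp⟩, mul_inv_cancel_right,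
      mul_assoc, left_eq_mul] at hpow
    by_cases hp : p = 2
    · subst hp
      refine hΩ c hcQ (Or.inr ⟨rfl, ?_⟩)
      rw [Nat.choose_self, pow_one, mul_eq_one_iff_eq_inv] at hpow
      rw [show (4 : ℕ) = 2 * 2 by norm_num, pow_mul, hpow, inv_pow, hzp, inv_one]
    · obtain ⟨d, hd⟩ := (Fact.out : p.Prime).dvd_choose_self (k := 2) two_ne_zero
        (lt_of_le_of_ne (Fact.out : p.Prime).two_le (Ne.symm hp))
      rw [hd, pow_mul, hzp, one_pow, mul_one] at hpow
      exact hΩ c hcQ (Or.inl hpow)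

end Cfsg.Agent.LEOmega
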