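import Cfsg.Agent.Lib.TwoGroups.FusionData
import Cfsg.Agent.Lib.NearField.SL23
import Cfsg.Agent.Lib.Solvable.Fitting
import Cfsg.Agent.Lib.LocalEven.SylowAux
import Cfsg.Agent.Lib.LocalEven.WeakClosed
import Cfsg.Prelude.Def_CaseTheorems

set_option autoImplicit false
set_option linter.style.haveILetI false

namespace Cfsg.Agent.LESolvDih

open Cfsg.Agent.LEBasic
open Cfsg.Agent.TwoFus

variable {G : Type*} [Group G] [Finite G]

theorem q8_pair : ∀ u v w : QuaternionGroup 2, u ^ 2 ≠ 1 → v ^ 2 ≠ 1 → w ^ 2 ≠ 1 → v ≠ u → v ≠ u⁻¹ →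
    w ≠ u → w ≠ u⁻¹ → w ≠ v → w ≠ v⁻¹ → u * v * u = v ∧ (w = u * v ∨ w⁻¹ = u⁻¹ * v⁻¹) := by
  decide +kernel

theorem q8_gen : ∀ u v t : QuaternionGroup 2, u ^ 2 ≠ 1 → v ^ 2 ≠ 1 → v ≠ u → v ≠ u⁻¹ →
    t = 1 ∨ t = u ∨ t = u * u ∨ t = u * u * u ∨ t = v ∨ t = u * v ∨ t = u * u * v ∨ t = u * u * u * v := by
  decide +kernel

theorem q8_sq : ∀ u : QuaternionGroup 2, u ^ 2 = 1 → u = 1 ∨ u = QuaternionGroup.a 2 := by decide +kernel

theorem q8_four : ∀ u : QuaternionGroup 2, u ^ 4 = 1 := by decide +kernel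

/-- An element of order three acting nontrivially on a normal quaternion group gives a normal `SL(2,3)`. -/
theorem exists_sl23 {R : Subgroup G} [R.Normal] (e : ↥R ≃* QuaternionGroup 2)
    (hC : Subgroup.centralizer (R : Set G) ≤ R) {c : G} (hc : orderOf c = 3) :
    ∃ U : Subgroup G, U.Normal ∧ Nonempty (↥U ≃* Matrix.SpecialLinearGroup (Fin 2) (ZMod 3)) := by
  let f : QuaternionGroup 2 →* G := R.subtype.comp e.symm.toMonoidHom
  have inj : Function.Injective f := Subtype.val_injective.comp e.symm.injective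
  have hfR : ∀ v, f v ∈ R := fun v => (e.symm v).2
  have hrange : ∀ x ∈ R, ∃ u, f u = x := fun x hx => ⟨e ⟨x, hx⟩, by simp [f]⟩
  have hexφ : ∀ u, ∃ u', f u' = c * f u * c⁻¹ := fun u =>
    hrange _ ((inferInstance : R.Normal).conj_mem _ (hfR u) c)
  choose φ hφ using hexφ
  have hmul : ∀ a b, φ (a * b) = φ a * φ b := fun a b => inj (by simp only [map_mul, hφ]; group)
  have hinv : ∀ a, φ a⁻¹ = (φ a)⁻¹ := fun a => inj (by simp only [map_inv, hφ]; group)
  have hc3 : c ^ 3 = 1 := hc ▸ pow_orderOf_eq_one c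
  have h3 : ∀ u, φ (φ (φ u)) = u := fun u => inj (by
    simp only [hφ]
    calc c * (c * (c * f u * c⁻¹) * c⁻¹) * c⁻¹ = (c * c * c) * f u * (c * c * c)⁻¹ := by group
      _ = f u := by rw [← pow_three', hc3]; simp)
  have φinj : Function.Injective φ := fun a b h => by rw [← h3 a, h, h3 b]
  have hsq : ∀ u, u ^ 2 ≠ 1 → φ u ^ 2 ≠ 1 := fun u hu h => hu (φinj (by
    rw [pow_two, hmul, ← pow_two, h]
    exact inj (by rw [map_one, hφ, map_one]; group)))
  have h1 : φ 1 = 1 := inj (by rw [map_one, hφ, map_one]; group)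
  -- some element is moved
  obtain ⟨u, hu, hmove⟩ : ∃ u, u ^ 2 ≠ 1 ∧ φ u ≠ u := by
    by_contra h
    push Not at h
    have hcR : c ∈ R := by
      refine hC (Subgroup.mem_centralizer_iff.2 fun x hx => ?_)
      obtain ⟨u, rfl⟩ := hrange x hx
      suffices φ u = u by
        have h4 := hφ u
        rw [this] at h4
        exact eq_mul_inv_iff_mul_eq.1 h4
      by_cases hu : u ^ 2 = 1
      · rcases q8_sq u hu with rfl | rfl
        · exact h1
        · rw [show (QuaternionGroup.a 2 : QuaternionGroup 2) = .a 1 * .a 1 from rfl, hmul, h _ (by decide +kernel)]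
      · exact h u hu
    obtain ⟨u, rfl⟩ := hrange c hcR
    rw [orderOf_injective f inj] at hc
    have := orderOf_dvd_of_pow_eq_one (q8_four u)
    rw [hc] at this
    norm_num at this
  set v := φ u with hv
  have hvu' : v ≠ u⁻¹ := fun h => by
    have h4 : φ v = u := by rw [h, hinv, ← hv, h, inv_inv]
    have h5 := h3 u
    rw [← hv, h4, ← hv, h] at h5
    exact hu (by rw [pow_two]; exact mul_eq_one_iff_eq_inv.2 h5.symm)
  set w := φ v with hw
  have hwu : w ≠ u := fun h => hmove (by have h5 := h3 u; rwa [← hv, ← hw, h, ← hv] at h5)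
  have hwu' : w ≠ u⁻¹ := fun h => hvu' (by
    have h5 := h3 u
    rw [← hv, ← hw, h, hinv, ← hv] at h5
    rw [← h5, inv_inv])
  have hwv : w ≠ v := fun h => hmove (φinj h)
  have hwv' : w ≠ v⁻¹ := fun h => hvu' (φinj (by rw [hinv]; exact h))
  obtain ⟨hrel, hcase⟩ := q8_pair u v w hu (hsq u hu) (hsq v (hsq u hu)) hmove hvu' hwu hwu' hwv hwv'
  -- the generator
  obtain ⟨a, b, hab, hab', ha4, hb4, hne, hne'⟩ : ∃ a b, φ a = b ∧ φ b = a * b ∧ a ^ 2 ≠ 1 ∧ b ^ 2 ≠ 1 ∧ b ≠ a ∧ b ≠ a⁻¹ := by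
    rcases hcase with h | h
    · exact ⟨u, v, rfl, h, hu, hsq u hu, hmove, hvu'⟩
    · refine ⟨u⁻¹, v⁻¹, hinv u, by rw [hinv]; exact h, ?_, ?_, fun e => hmove (inv_inj.1 e), fun e => hvu' (inv_inj.1 e)⟩
      · rwa [inv_pow, ne_eq, inv_eq_one]
      · rw [inv_pow, ne_eq, inv_eq_one]; exact hsq u hu
  have hrel' : a * b * a = b := by
    have : ∀ a b : QuaternionGroup 2, a ^ 2 ≠ 1 → b ^ 2 ≠ 1 → b ≠ a → b ≠ a⁻¹ → a * b * a = b := by decide +kernel
    exact this a b ha4 hb4 hne hne'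
  set x := f a with hx
  have hy : c * x * c⁻¹ = f b := by rw [hx, ← hφ, hab]
  set S := Subgroup.closure ({x, c} : Set G) with hS
  have hxS : x ∈ S := Subgroup.subset_closure (by simp)
  have hcS : c ∈ S := Subgroup.subset_closure (by simp)
  have hRS : R ≤ S := by
    intro t ht
    obtain ⟨t', rfl⟩ := hrange t ht
    have hbS : f b ∈ S := hy ▸ mul_mem (mul_mem hcS hxS) (inv_mem hcS)
    rcases q8_gen a b t' ha4 hb4 hne hne' with rfl | rfl | rfl | rfl | rfl | rfl | rfl | rfl <;>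
      (try simp only [map_one, map_mul]) <;>
      first
        | exact one_mem S
        | exact hxS
        | exact hbS
        | exact mul_mem hxS hxS
        | exact mul_mem (mul_mem hxS hxS) hxS
        | exact mul_mem hxS hbS
        | exact mul_mem (mul_mem hxS hxS) hbS
        | exact mul_mem (mul_mem (mul_mem hxS hxS) hxS) hbS
  have hR8 : Nat.card ↥R = 8 := by
    rw [Nat.card_congr e.toEquiv, Nat.card_eq_fintype_card, QuaternionGroup.card]
  have h24 : 24 ≤ Nat.card S := Nat.le_of_dvd Nat.card_pos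
    (show Nat.lcm 8 3 ∣ Nat.card S from Nat.lcm_dvd (hR8 ▸ Subgroup.card_dvd_of_le hRS)
      (hc ▸ Subgroup.orderOf_dvd_natCard S hcS))
  obtain ⟨ψ, hψ, hr, hcard⟩ := NearField.exists_embed x c (by rw [hx, ← map_pow, q8_four, map_one]) hc3
    (by rw [hy, hx, ← map_mul, ← map_mul, hrel'])
    (by rw [hy, ← hφ, hab', map_mul]) h24
  obtain ⟨e'⟩ := NearField.equiv_sl23
  let eS : ↥S ≃* PresentedGroup NearField.Rels23 :=
    ((MonoidHom.ofInjective hψ).trans (MulEquiv.subgroupCongr hr)).symm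
  have hS24 : Nat.card ↥S = 24 := by rw [Nat.card_congr eS.toEquiv, hcard]
  refine ⟨S, ?_, ⟨eS.trans e'⟩⟩
  have h6 := quat_relIndex_dvd e
  rw [sup_eq_left.2 hC, Subgroup.normalizer_eq_top_iff.2 (inferInstance : R.Normal), Subgroup.relIndex_top_right] at h6
  have h7 := Subgroup.card_mul_index R
  have h8 := Subgroup.card_mul_index S
  rw [hR8] at h7
  rw [hS24] at h8
  have hk := Nat.le_of_dvd (by norm_num) h6
  have hpos : S.index ≠ 0 := Subgroup.index_ne_zero_of_finite
  have hle : S.index ≤ 2 := by omega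
  interval_cases hi : S.index
  · exact absurd rfl hpos
  · rw [Subgroup.index_eq_one.1 hi]; infer_instance
  · exact Subgroup.normal_of_index_eq_two hi

theorem main (hsol : Group.IsSolvable G) (hO : Cfsg.pPrimeCore 2 G = ⊥) (T : Sylow 2 G)
    (hT : (∃ n : ℕ, 4 ≤ n ∧ Nonempty (↥(T : Subgroup G) ≃* DihedralGroup n)) ∨ Cfsg.IsQuasiDihedral ↥(T : Subgroup G))
    (hne : (T : Subgroup G) ≠ ⊤)
    (hZ : ((T : Subgroup G) ⊓ Subgroup.centralizer ((T : Subgroup G) : Set G)).Normal) :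
    ∃ U : Subgroup G, U.Normal ∧ Nonempty (↥U ≃* Matrix.SpecialLinearGroup (Fin 2) (ZMod 3)) := by
  haveI : Fact (Nat.Prime 2) := ⟨Nat.prime_two⟩
  haveI := hsol
  haveI := hZ
  haveI := Cfsg.pCore_normal 2 G
  have hC := FittingCores.centralizer_pCore_le (G := G) (p := 2) Nat.prime_two hO
  set R := Cfsg.pCore 2 G with hR
  have hRT : R ≤ (T : Subgroup G) := pCore_le_sylow T
  obtain ⟨c, hcm, h8⟩ : ∃ c, CycMax (T : Subgroup G) c ∧ 8 ≤ Nat.card (T : Subgroup G) := by
    rcases hT with ⟨n, hn, ⟨eT⟩⟩ | hQ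
    · obtain ⟨d, hd⟩ := exists_dih T (by omega : 2 ≤ n) eT
      refine ⟨d.x, d.cycMax T.2, ?_⟩
      rw [d.card, hd]; omega
    · obtain ⟨d, -⟩ := QD.exists_pres hQ
      refine ⟨_, qd_cycMax d T.2, ?_⟩
      rw [d.hcard]
      exact (show 8 = 2 ^ 3 from rfl).trans_le (Nat.pow_le_pow_right two_pos (by omega))
  -- an element of odd prime order
  obtain ⟨q, hq, hq2, hqd⟩ : ∃ q, q.Prime ∧ q ≠ 2 ∧ q ∣ Nat.card G := by
    by_contra h
    push Not at h
    refine hne ?_
    have hp : IsPGroup 2 G := IsPGroup.of_card (Nat.eq_prime_pow_of_unique_prime_dvd Nat.card_pos.ne' fun {d} hd hdd => by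
      by_contra hd2
      exact h d hd hd2 hdd)
    exact (T.is_maximal' (hp.to_subgroup ⊤) le_top).symm
  haveI : Fact q.Prime := ⟨hq⟩
  have hnotC : ∀ w : G, orderOf w = q → w ∉ Subgroup.centralizer (R : Set G) := fun w hw hwC => by
    have h1 := PBasic.eq_one_of_isPGroup_of_coprime (pCore_isPGroup (p := 2)) (hC hwC)
      (by rw [hw]; exact (Nat.coprime_primes hq Nat.prime_two).2 hq2)
    rw [h1, orderOf_one] at hw
    exact hq.ne_one hw.symm
  obtain ⟨w, hw⟩ := exists_prime_orderOf_dvd_card' q hqd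
  have hwN : w ∈ Subgroup.normalizer (R : Set G) := Subgroup.le_normalizer_of_normal (H := R) (K := ⊤) (Subgroup.mem_top w)
  have hwodd : Odd (orderOf w) := hw ▸ hq.odd_of_ne_two hq2
  rcases hcm.oddTrivial hRT with h | hK | ⟨⟨e⟩⟩
  · exact absurd (h w hwN hwodd) (hnotC w hw)
  · exfalso
    set Z := (T : Subgroup G) ⊓ Subgroup.centralizer ((T : Subgroup G) : Set G) with hZdef
    have hZR : Z ≤ R := le_pCore hZ (T.2.to_le inf_le_left)
    have hZ1 : Z ≠ ⊥ := LEWeakClosed.exists_center_ne_bot T.2 (fun h => by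
      rw [h, Subgroup.card_bot] at h8; omega)
    have hZne : Z ≠ R := fun h => by
      have hle : (T : Subgroup G) ≤ R := fun a ha => hcm.self R hRT hK a ha fun u hu =>
        Subgroup.mem_centralizer_iff.1 (Subgroup.mem_inf.1 (h.ge hu)).2 a ha
      have := Subgroup.card_le_of_le hle
      have h4 := hK.card_four
      omega
    obtain ⟨y, hy, hy1⟩ := (Z.ne_bot_iff_exists_ne_one).1 hZ1 |> fun ⟨⟨y, hy⟩, h⟩ => (⟨y, hy, fun e => h (Subtype.ext e)⟩ : ∃ y ∈ Z, y ≠ 1)
    have hZy : Subgroup.zpowers y = Z := by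
      refine Subgroup.eq_of_le_of_card_ge (Subgroup.zpowers_le.2 hy) ?_
      have h4 := hK.card_four
      have h2 : Nat.card Z ∣ 4 := h4 ▸ Subgroup.card_dvd_of_le hZR
      have h3 : Nat.card Z ≠ 4 := fun h => hZne (Subgroup.eq_of_le_of_card_ge hZR (by omega))
      have h5 : 1 < Nat.card (Subgroup.zpowers y) := (Subgroup.one_lt_card_iff_ne_bot _).2 (by simpa using hy1)
      have h6 := Nat.le_of_dvd (by norm_num) h2
      obtain h7 | h7 | h7 | h7 | h7 : Nat.card Z = 0 ∨ Nat.card Z = 1 ∨ Nat.card Z = 2 ∨ Nat.card Z = 3 ∨ Nat.card Z = 4 := by omega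
      all_goals first | omega | (rw [h7] at h2; norm_num at h2)
    refine hnotC w hw (mem_centralizer_of_invariant (pCore_isPGroup (p := 2)) (hZR hy) ?_ hwN hwodd ?_)
    · intro a ha b hb h1 h2
      set Zy := (Subgroup.zpowers y).subgroupOf R with hZy'
      have hidx : Zy.index = 2 := by
        have h3 := Subgroup.card_mul_index Zy
        have h4 := hK.card_four
        rw [Nat.card_congr (Subgroup.subgroupOfEquivOfLe (hZy.le.trans hZR)).toEquiv, Nat.card_zpowers] at h3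
        have h5 : orderOf y ∣ 2 := orderOf_dvd_of_pow_eq_one (by
          have h6 : (⟨y, hZR hy⟩ : ↥R) ^ Monoid.exponent ↥R = 1 := Monoid.pow_exponent_eq_one _
          rw [hK.exponent_two] at h6
          exact congrArg Subtype.val h6)
        have h6 : orderOf y ≠ 1 := fun h => hy1 (orderOf_eq_one_iff.1 h)
        have h7 : orderOf y = 2 := ((Nat.dvd_prime Nat.prime_two).1 h5).resolve_left h6
        rw [h7] at h3
        omega
      exact (Subgroup.mul_mem_iff_of_index_two hidx (a := ⟨a, ha⟩⁻¹) (b := ⟨b, hb⟩)).2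
        (iff_of_false (fun h => h1 (inv_mem_iff.1 h)) h2)
    · rw [hZy]; exact hZ.conj_mem y hy w
  · have hcard : Nat.card G ∣ Nat.card R * 6 := by
      have h6 := quat_relIndex_dvd e
      rw [sup_eq_left.2 hC, Subgroup.normalizer_eq_top_iff.2 (inferInstance : R.Normal), Subgroup.relIndex_top_right] at h6
      rw [← Subgroup.card_mul_index R]
      exact Nat.mul_dvd_mul_left _ h6
    rw [Nat.card_congr e.toEquiv, Nat.card_eq_fintype_card (α := QuaternionGroup 2), QuaternionGroup.card] at hcard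
    have h3 : q = 3 := by
      have h48 := hqd.trans hcard
      have h1 : q ∣ 2 ^ 4 * 3 := h48.trans (by norm_num)
      rcases hq.dvd_mul.1 h1 with h | h
      · exact absurd ((Nat.prime_dvd_prime_iff_eq hq Nat.prime_two).1 (hq.dvd_of_dvd_pow h)) hq2
      · exact (Nat.prime_dvd_prime_iff_eq hq Nat.prime_three).1 h
    exact exists_sl23 e hC (hw.trans h3)

end Cfsg.Agent.LESolvDih
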