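/-
`SL₂` over a field of characteristic `p`, and natural modules in coordinates.
-/
import Cfsg.Prelude.Def_LocalEven
import Cfsg.Prelude.Def_TwoFusion
import Cfsg.Agent.Lib.LocalEven.Basic
import Mathlib.FieldTheory.Finite.Basic
import Mathlib.Tactic.LinearCombination
import Mathlib.Tactic.FieldSimp

set_option autoImplicit false
set_option linter.unusedSectionVars false
set_option linter.style.haveILetI false

namespace Cfsg.Agent.LENat

open Matrix

variable {F : Type*} [Field F]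

local notation "SL2" => Matrix.SpecialLinearGroup (Fin 2) F
local notation "M2" => Matrix (Fin 2) (Fin 2) F

theorem mulVec_two (A : M2) (v : Fin 2 → F) :
    A *ᵥ v = ![A 0 0 * v 0 + A 0 1 * v 1, A 1 0 * v 0 + A 1 1 * v 1] := by
  funext i
  fin_cases i <;> simp [Matrix.mulVec, dotProduct, Fin.sum_univ_two]

theorem mul_mulVec (g h : SL2) (v : Fin 2 → F) : ((g * h : SL2) : M2) *ᵥ v = (g : M2) *ᵥ ((h : M2) *ᵥ v) := by
  rw [Matrix.SpecialLinearGroup.coe_mul, Matrix.mulVec_mulVec]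

theorem mulVec_injective (g : SL2) : Function.Injective fun v : Fin 2 → F => (g : M2) *ᵥ v := by
  intro v w h
  have h1 := congrArg (fun u => ((g⁻¹ : SL2) : M2) *ᵥ u) h
  simp only [← mul_mulVec, inv_mul_cancel, Matrix.SpecialLinearGroup.coe_one, Matrix.one_mulVec] at h1
  exact h1

/-- Upper unitriangular elements. -/
def upp (b : F) : SL2 := ⟨!![1, b; 0, 1], by simp [Matrix.det_fin_two]⟩

/-- Lower unitriangular elements. -/
def low (b : F) : SL2 := ⟨!![1, 0; b, 1], by simp [Matrix.det_fin_two]⟩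

/-- Diagonal elements. -/
def dia (a : F) (ha : a ≠ 0) : SL2 := ⟨!![a, 0; 0, a⁻¹], by simp [Matrix.det_fin_two, ha]⟩

theorem upp_val (b : F) : ((upp b : SL2) : M2) = !![1, b; 0, 1] := rfl
theorem low_val (b : F) : ((low b : SL2) : M2) = !![1, 0; b, 1] := rfl
theorem dia_val (a : F) (ha : a ≠ 0) : ((dia a ha : SL2) : M2) = !![a, 0; 0, a⁻¹] := rfl

theorem upp_mul (a b : F) : (upp a : SL2) * upp b = upp (a + b) := by
  apply Subtype.ext
  simp [upp_val, add_comm]

theorem upp_zero : (upp 0 : SL2) = 1 := by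
  apply Subtype.ext
  simp [upp_val, Matrix.one_fin_two]

theorem upp_mulVec (b : F) (v : Fin 2 → F) : ((upp b : SL2) : M2) *ᵥ v = ![v 0 + b * v 1, v 1] := by
  rw [upp_val, mulVec_two]; simp

theorem low_mulVec (b : F) (v : Fin 2 → F) : ((low b : SL2) : M2) *ᵥ v = ![v 0, b * v 0 + v 1] := by
  rw [low_val, mulVec_two]; simp

theorem dia_mulVec (a : F) (ha : a ≠ 0) (v : Fin 2 → F) :
    ((dia a ha : SL2) : M2) *ᵥ v = ![a * v 0, a⁻¹ * v 1] := by
  rw [dia_val, mulVec_two]; simp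

/-- The upper unitriangular subgroup. -/
def U : Subgroup SL2 where
  carrier := Set.range upp
  one_mem' := ⟨0, upp_zero⟩
  mul_mem' := by rintro _ _ ⟨a, rfl⟩ ⟨b, rfl⟩; exact ⟨a + b, (upp_mul a b).symm⟩
  inv_mem' := by
    rintro _ ⟨a, rfl⟩
    exact ⟨-a, (inv_eq_of_mul_eq_one_right (by rw [upp_mul, add_neg_cancel, upp_zero])).symm⟩

theorem upp_mem (b : F) : (upp b : SL2) ∈ U := ⟨b, rfl⟩

theorem mem_U {g : SL2} : g ∈ U ↔ ∃ b, upp b = g := Iff.rfl

theorem mem_U_iff_fix {g : SL2} : g ∈ U ↔ (g : M2) *ᵥ ![1, 0] = ![1, 0] := by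
  constructor
  · rintro ⟨b, rfl⟩
    rw [upp_mulVec]; simp
  · intro h
    rw [mulVec_two] at h
    have h0 : (g : M2) 0 0 = 1 := by simpa using congrFun h 0
    have h1 : (g : M2) 1 0 = 0 := by simpa using congrFun h 1
    have hd := g.prop
    rw [Matrix.det_fin_two, h0, h1, one_mul, mul_zero, sub_zero] at hd
    refine ⟨(g : M2) 0 1, Subtype.ext ?_⟩
    ext i j
    fin_cases i <;> fin_cases j <;> simp [upp_val, h0, h1, hd]

section CharP

variable [Finite F] {p : ℕ} [Fact p.Prime] [CharP F p]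

theorem isPGroup_vec : IsPGroup p (Multiplicative (Fin 2 → F)) := fun v => ⟨1, by
  refine Multiplicative.toAdd.injective ?_
  rw [pow_one, toAdd_pow, toAdd_one]
  funext i
  simp [nsmul_eq_mul, CharP.cast_eq_zero]⟩

theorem isPGroup_U : IsPGroup p ↥(U : Subgroup SL2) := by
  rintro ⟨_, b, rfl⟩
  refine ⟨1, Subtype.ext ?_⟩
  rw [SubmonoidClass.coe_pow, pow_one]
  have h : ∀ n : ℕ, (upp b : SL2) ^ n = upp (n * b) := by
    intro n
    induction n with
    | zero => simp [upp_zero]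
    | succ n ih => rw [pow_succ, ih, upp_mul]; push_cast; ring_nf
  rw [h, CharP.cast_eq_zero, zero_mul, upp_zero]
  rfl

/-- A `p`-group fixes a nonzero vector. -/
theorem exists_fixed_vec {P : Subgroup SL2} (hP : IsPGroup p ↥P) :
    ∃ v : Fin 2 → F, v ≠ 0 ∧ ∀ g ∈ P, (g : M2) *ᵥ v = v := by
  classical
  letI : MulAction ↥P (Fin 2 → F) :=
    { smul := fun g v => ((g : SL2) : M2) *ᵥ v
      one_smul := fun v => by show ((1 : SL2) : M2) *ᵥ v = v; simp
      mul_smul := fun g h v => mul_mulVec (g : SL2) (h : SL2) v }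
  have hdvd : p ∣ Nat.card (Fin 2 → F) := by
    haveI := Fintype.ofFinite F
    obtain ⟨n, hp, hn⟩ := FiniteField.card F p
    rw [Nat.card_fun, Nat.card_eq_fintype_card (α := F), hn, Nat.card_fin, ← pow_mul]
    exact dvd_pow_self p (Nat.mul_ne_zero n.ne_zero two_ne_zero)
  obtain ⟨v, hv, hv0⟩ := hP.exists_fixed_point_of_prime_dvd_card_of_fixed_point (Fin 2 → F) hdvd
    (a := 0) (fun g => Matrix.mulVec_zero _)
  exact ⟨v, hv0.symm, fun g hg => hv ⟨g, hg⟩⟩

/-- The upper unitriangular subgroup is a maximal `p`-subgroup. -/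
theorem eq_U_of_le {P : Subgroup SL2} (hP : IsPGroup p ↥P) (h : U ≤ P) : P = U := by
  obtain ⟨v, hv0, hv⟩ := exists_fixed_vec hP
  refine le_antisymm (fun g hg => ?_) h
  have h1 : v 1 = 0 := by
    have := congrFun (hv _ (h (upp_mem 1))) 0
    rw [upp_mulVec] at this
    simpa using this
  have h0 : v 0 ≠ 0 := fun h0 => hv0 (funext fun i => by fin_cases i <;> simp [h0, h1])
  have h2 := hv g hg
  rw [mulVec_two, h1, mul_zero, mul_zero, add_zero, add_zero] at h2
  rw [mem_U_iff_fix, mulVec_two]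
  have a0 : (g : M2) 0 0 = 1 := mul_right_cancel₀ h0 (by simpa using congrFun h2 0)
  have a1 : (g : M2) 1 0 = 0 := by simpa [h0, h1] using congrFun h2 1
  simp [a0, a1]

/-- `SL₂(F)` has no nontrivial normal `p`-subgroup. -/
theorem eq_bot_of_normal {P : Subgroup SL2} [P.Normal] (hP : IsPGroup p ↥P) : P = ⊥ := by
  obtain ⟨v, hv0, hv⟩ := exists_fixed_vec hP
  let W : AddSubgroup (Fin 2 → F) :=
    { carrier := {w | ∀ g ∈ P, (g : M2) *ᵥ w = w}
      zero_mem' := fun g _ => Matrix.mulVec_zero _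
      add_mem' := fun {a b} ha hb g hg => by rw [Matrix.mulVec_add, ha g hg, hb g hg]
      neg_mem' := fun {a} ha g hg => by rw [Matrix.mulVec_neg, ha g hg] }
  have hsm : ∀ (c : F), ∀ w ∈ W, c • w ∈ W := fun c w hw g hg => by rw [Matrix.mulVec_smul, hw g hg]
  have hinv : ∀ (x : SL2), ∀ w ∈ W, (x : M2) *ᵥ w ∈ W := fun x w hw g hg => by
    have h1 := hw (x⁻¹ * g * x) (Subgroup.Normal.conj_mem' inferInstance g hg x)
    calc (g : M2) *ᵥ ((x : M2) *ᵥ w) = (x : M2) *ᵥ (((x⁻¹ * g * x : SL2) : M2) *ᵥ w) := by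
          rw [← mul_mulVec, ← mul_mulVec, show x * (x⁻¹ * g * x) = g * x by group]
      _ = _ := by rw [h1]
  have hv' : v ∈ W := hv
  have key : ![1, 0] ∈ W ∧ ![0, 1] ∈ W := by
    have h10 : ![v 1, 0] ∈ W := by
      convert W.sub_mem (hinv (upp 1) v hv') hv' using 1
      rw [upp_mulVec]; funext i; fin_cases i <;> simp
    have h01 : ![0, v 0] ∈ W := by
      convert W.sub_mem (hinv (low 1) v hv') hv' using 1
      rw [low_mulVec]; funext i; fin_cases i <;> simp
    by_cases h0 : v 0 = 0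
    · have h1 : v 1 ≠ 0 := fun h1 => hv0 (funext fun i => by fin_cases i <;> simp [h0, h1])
      have e0 : ![1, 0] ∈ W := by
        convert hsm (v 1)⁻¹ _ h10 using 1
        funext i; fin_cases i <;> simp [h1]
      refine ⟨e0, ?_⟩
      convert W.sub_mem (hinv (low 1) _ e0) e0 using 1
      rw [low_mulVec]; funext i; fin_cases i <;> simp
    · have e1 : ![0, 1] ∈ W := by
        convert hsm (v 0)⁻¹ _ h01 using 1
        funext i; fin_cases i <;> simp [h0]
      refine ⟨?_, e1⟩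
      convert W.sub_mem (hinv (upp 1) _ e1) e1 using 1
      rw [upp_mulVec]; funext i; fin_cases i <;> simp
  rw [eq_bot_iff]
  intro g hg
  rw [Subgroup.mem_bot]
  have e0 := key.1 g hg
  have e1 := key.2 g hg
  rw [mulVec_two] at e0 e1
  have a00 : (g : M2) 0 0 = 1 := by simpa using congrFun e0 0
  have a10 : (g : M2) 1 0 = 0 := by simpa using congrFun e0 1
  have a01 : (g : M2) 0 1 = 0 := by simpa using congrFun e1 0
  have a11 : (g : M2) 1 1 = 1 := by simpa using congrFun e1 1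
  apply Subtype.ext
  ext i j
  fin_cases i <;> fin_cases j <;> simp [a00, a10, a01, a11]

/-- An element fixing a nonzero vector has order dividing `p`. -/
theorem pow_eq_one_of_fix {g : SL2} {v : Fin 2 → F} (hv : v ≠ 0) (h : (g : M2) *ᵥ v = v) : g ^ p = 1 := by
  have g1 := congrFun h 0
  have g2 := congrFun h 1
  rw [mulVec_two] at g1 g2
  simp only [Matrix.cons_val_zero, Matrix.cons_val_one] at g1 g2
  have gd := g.prop
  rw [Matrix.det_fin_two] at gd
  have e1 : ((g : M2) 0 0 + (g : M2) 1 1 - 2) * v 0 = 0 := by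
    linear_combination -((g : M2) 1 1) * g1 + (g : M2) 0 1 * g2 + v 0 * gd + g1
  have e2 : ((g : M2) 0 0 + (g : M2) 1 1 - 2) * v 1 = 0 := by
    linear_combination -((g : M2) 0 0) * g2 + (g : M2) 1 0 * g1 + v 1 * gd + g2
  have ht : (g : M2) 0 0 + (g : M2) 1 1 = 2 := by
    by_contra hne
    have hne' : (g : M2) 0 0 + (g : M2) 1 1 - 2 ≠ 0 := sub_ne_zero.2 hne
    exact hv (funext fun i => by
      fin_cases i
      · exact (mul_eq_zero.1 e1).resolve_left hne'
      · exact (mul_eq_zero.1 e2).resolve_left hne')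
  set N : M2 := (g : M2) - 1 with hN
  have hNN : N * N = 0 := by
    ext i j
    fin_cases i <;> fin_cases j <;> simp [hN, Matrix.mul_apply, Fin.sum_univ_two]
    · linear_combination ((g : M2) 0 0) * ht - gd
    · linear_combination ((g : M2) 0 1) * ht
    · linear_combination ((g : M2) 1 0) * ht
    · linear_combination ((g : M2) 1 1) * ht - gd
  have hp : ∀ n : ℕ, ((g ^ n : SL2) : M2) = 1 + (n : F) • N := by
    intro n
    induction n with
    | zero => simp
    | succ n ih =>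
      rw [pow_succ, Matrix.SpecialLinearGroup.coe_mul, ih, show (g : M2) = 1 + N by rw [hN]; abel,
        add_mul, one_mul, Matrix.smul_mul, mul_add, mul_one, hNN, add_zero, Nat.cast_succ, add_smul, one_smul]
      abel
  apply Subtype.ext
  rw [hp, CharP.cast_eq_zero, zero_smul, add_zero, Matrix.SpecialLinearGroup.coe_one]

end CharP

/-! ### Natural modules -/

variable {G : Type*} [Group G] [Finite G] [Fintype F] {p : ℕ} [Fact p.Prime]

theorem charP_of_card {n : ℕ} (hF : Fintype.card F = p ^ n) : CharP F p := by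
  obtain ⟨q, hq⟩ := CharP.exists F
  obtain ⟨m, hqp, hm⟩ := FiniteField.card F q
  have h1 : q ∣ p ^ n := hF ▸ hm ▸ dvd_pow_self q m.ne_zero
  exact (Nat.prime_dvd_prime_iff_eq hqp Fact.out).1 (hqp.dvd_of_dvd_pow h1) ▸ hq

/-- Coordinates of a faithful natural module in which the given Sylow subgroup is upper unitriangular. -/
structure Coords (V L T : Subgroup G) (F : Type*) [Field F] where
  le_norm : L ≤ Subgroup.normalizer (V : Set G)
  e : ↥L ≃* Matrix.SpecialLinearGroup (Fin 2) F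
  c : Additive ↥V ≃+ (Fin 2 → F)
  act : ∀ (l : L) (v : V) (hv : (l : G) * (v : G) * (l : G)⁻¹ ∈ V),
    c (Additive.ofMul ⟨_, hv⟩) = ((e l : Matrix.SpecialLinearGroup (Fin 2) F) : Matrix (Fin 2) (Fin 2) F) *ᵥ
      c (Additive.ofMul v)
  hT : ∀ x : G, x ∈ T ↔ ∃ hx : x ∈ L, e ⟨x, hx⟩ ∈ (U : Subgroup (Matrix.SpecialLinearGroup (Fin 2) F))

theorem exists_coords {n : ℕ} (hF : Fintype.card F = p ^ n) {V L : Subgroup G}
    (hnat : Cfsg.IsNaturalSL2Module F V L) (hf : L ⊓ Subgroup.centralizer (V : Set G) = ⊥)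
    (S : Sylow p ↥L) {T : Subgroup G} (hT : T = (S : Subgroup ↥L).map L.subtype) :
    Nonempty (Coords V L T F) := by
  haveI := charP_of_card (p := p) hF
  obtain ⟨hLN, ρ, ψ, hρ, hker, hact⟩ := hnat
  have hinj : Function.Injective ρ := by
    rw [← MonoidHom.ker_eq_bot_iff, hker, eq_bot_iff]
    intro x hx
    rw [Subgroup.mem_bot]
    exact Subtype.ext (Subgroup.mem_bot.1 (hf ▸ Subgroup.mem_inf.2 ⟨x.2, hx⟩))
  let S₂ : Sylow p SL2 := S.mapSurjective hρ
  obtain ⟨P, hP⟩ := (isPGroup_U (F := F) (p := p)).exists_le_sylow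
  have hPU : (P : Subgroup SL2) = U := eq_U_of_le P.2 hP
  obtain ⟨g, hg⟩ := MulAction.exists_smul_eq SL2 S₂ P
  have hgS : (U : Subgroup SL2) = ((S : Subgroup ↥L).map ρ).map (MulAut.conj g).toMonoidHom := by
    rw [← hPU, ← hg]; rfl
  let lin : (Fin 2 → F) ≃+ (Fin 2 → F) :=
    { toFun := fun v => (g : M2) *ᵥ v
      invFun := fun v => ((g⁻¹ : SL2) : M2) *ᵥ v
      left_inv := fun v => by
        show ((g⁻¹ : SL2) : M2) *ᵥ ((g : M2) *ᵥ v) = v
        rw [← mul_mulVec, inv_mul_cancel, Matrix.SpecialLinearGroup.coe_one, Matrix.one_mulVec]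
      right_inv := fun v => by
        show (g : M2) *ᵥ (((g⁻¹ : SL2) : M2) *ᵥ v) = v
        rw [← mul_mulVec, mul_inv_cancel, Matrix.SpecialLinearGroup.coe_one, Matrix.one_mulVec]
      map_add' := fun a b => Matrix.mulVec_add _ a b }
  refine ⟨⟨hLN, (MulEquiv.ofBijective ρ ⟨hinj, hρ⟩).trans (MulAut.conj g), ψ.trans lin, ?_, ?_⟩⟩
  · intro l v hv
    obtain ⟨w, hw, hw'⟩ := hact l v
    have : (⟨_, hv⟩ : V) = w := Subtype.ext hw.symm
    rw [this]
    show (g : M2) *ᵥ ψ (Additive.ofMul w) = ((g * ρ l * g⁻¹ : SL2) : M2) *ᵥ ((g : M2) *ᵥ ψ (Additive.ofMul v))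
    rw [hw', ← mul_mulVec, ← mul_mulVec, inv_mul_cancel_right]
  · intro x
    rw [hT, hgS]
    constructor
    · rintro ⟨y, hy, rfl⟩
      exact ⟨y.2, ρ y, ⟨y, hy, rfl⟩, rfl⟩
    · rintro ⟨hx, z, ⟨y, hy, rfl⟩, hz⟩
      refine ⟨y, hy, congrArg Subtype.val (?_ : y = ⟨x, hx⟩)⟩
      exact hinj ((MulAut.conj g).injective hz)

namespace Coords

variable {V L T : Subgroup G} (D : Coords V L T F)

/-- Coordinates of an element of `V`. -/
def crd {x : G} (hx : x ∈ V) : Fin 2 → F := D.c (Additive.ofMul ⟨x, hx⟩)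

omit [Finite G] [Fintype F] in
theorem crd_inj {x y : G} {hx : x ∈ V} {hy : y ∈ V} (h : D.crd hx = D.crd hy) : x = y :=
  congrArg Subtype.val (Additive.ofMul.injective (D.c.injective h))

theorem crd_surj (v : Fin 2 → F) : ∃ (x : G) (hx : x ∈ V), D.crd hx = v :=
  ⟨_, (D.c.symm v).toMul.2, by show D.c (D.c.symm v) = v; exact D.c.apply_symm_apply v⟩

theorem crd_one : D.crd (one_mem V) = 0 := by
  show D.c (Additive.ofMul (1 : V)) = 0; exact map_zero D.c

theorem crd_mul {x y : G} (hx : x ∈ V) (hy : y ∈ V) : D.crd (mul_mem hx hy) = D.crd hx + D.crd hy := by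
  show D.c (Additive.ofMul ((⟨x, hx⟩ : V) * ⟨y, hy⟩)) = _; exact map_add D.c _ _

theorem crd_inv {x : G} (hx : x ∈ V) : D.crd (inv_mem hx) = - D.crd hx := by
  show D.c (Additive.ofMul ((⟨x, hx⟩ : V)⁻¹)) = _; exact map_neg D.c _

include D in
theorem conj_mem {l x : G} (hl : l ∈ L) (hx : x ∈ V) : l * x * l⁻¹ ∈ V :=
  (Subgroup.mem_normalizer_iff.1 (D.le_norm hl) x).1 hx

theorem crd_conj {l x : G} (hl : l ∈ L) (hx : x ∈ V) :
    D.crd (D.conj_mem hl hx) = ((D.e ⟨l, hl⟩ : SL2) : M2) *ᵥ D.crd hx :=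
  D.act ⟨l, hl⟩ ⟨x, hx⟩ _

theorem commute_iff {l x : G} (hl : l ∈ L) (hx : x ∈ V) :
    l * x = x * l ↔ ((D.e ⟨l, hl⟩ : SL2) : M2) *ᵥ D.crd hx = D.crd hx := by
  rw [← D.crd_conj hl hx]
  constructor
  · intro h
    congr 1
    rw [h, mul_inv_cancel_right]
  · intro h
    exact mul_inv_eq_iff_eq_mul.1 (D.crd_inj h)

include D in
theorem T_le : T ≤ L := fun x hx => ((D.hT x).1 hx).1

theorem exists_upp {b : F} : ∃ (t : G) (ht : t ∈ L), t ∈ T ∧ D.e ⟨t, ht⟩ = upp b :=
  ⟨_, (D.e.symm (upp b)).2, (D.hT _).2 ⟨(D.e.symm (upp b)).2, by simp [upp_mem]⟩, by simp⟩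

theorem mem_centralizer_T_iff {x : G} (hx : x ∈ V) :
    x ∈ Subgroup.centralizer (T : Set G) ↔ D.crd hx 1 = 0 := by
  rw [Subgroup.mem_centralizer_iff]
  constructor
  · intro h
    obtain ⟨t, ht, htT, he⟩ := D.exists_upp (b := 1)
    have := congrFun ((D.commute_iff ht hx).1 (h t htT)) 0
    rw [he, upp_mulVec] at this
    simpa using this
  · intro h t htT
    obtain ⟨ht, b, hb⟩ := (D.hT t).1 htT
    rw [D.commute_iff ht hx, ← hb, upp_mulVec]
    funext i; fin_cases i <;> simp [h]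

/-- Commutators with elements of `T`. -/
theorem crd_commutator {v t : G} (hv : v ∈ V) (ht : t ∈ L) {b : F} (hb : D.e ⟨t, ht⟩ = upp b)
    (h : v * t * v⁻¹ * t⁻¹ ∈ V) : D.crd h = ![-(b * D.crd hv 1), 0] := by
  have h1 : D.crd h = D.crd (mul_mem hv (D.conj_mem ht (inv_mem hv))) := by
    congr 1; group
  rw [h1, D.crd_mul hv (D.conj_mem ht (inv_mem hv)), D.crd_conj ht (inv_mem hv), D.crd_inv hv, hb, upp_mulVec]
  funext i; fin_cases i <;> simp

include D in
theorem commutator_mem {v t : G} (hv : v ∈ V) (ht : t ∈ L) : v * t * v⁻¹ * t⁻¹ ∈ V := by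
  have := mul_mem hv (D.conj_mem ht (inv_mem hv))
  simpa [mul_assoc] using this

include D in
theorem card_V : Nat.card ↥V = Fintype.card F * Fintype.card F := by
  rw [← Nat.card_eq_fintype_card, ← Nat.card_prod]
  exact Nat.card_congr ((Additive.ofMul.trans D.c.toEquiv).trans (finTwoArrowEquiv F))

include D in
theorem card_cent : Nat.card ↥(V ⊓ Subgroup.centralizer (T : Set G)) = Fintype.card F := by
  rw [← Nat.card_eq_fintype_card]
  refine Nat.card_congr (Equiv.ofBijective (fun x => D.crd (Subgroup.mem_inf.1 x.2).1 0) ⟨?_, fun a => ?_⟩)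
  · rintro ⟨x, hx⟩ ⟨y, hy⟩ h
    obtain ⟨hxV, hxC⟩ := Subgroup.mem_inf.1 hx
    obtain ⟨hyV, hyC⟩ := Subgroup.mem_inf.1 hy
    refine Subtype.ext (D.crd_inj (hx := hxV) (hy := hyV) ?_)
    funext i
    fin_cases i
    · exact h
    · exact ((D.mem_centralizer_T_iff hxV).1 hxC).trans ((D.mem_centralizer_T_iff hyV).1 hyC).symm
  · obtain ⟨x, hx, he⟩ := D.crd_surj ![a, 0]
    exact ⟨⟨x, Subgroup.mem_inf.2 ⟨hx, (D.mem_centralizer_T_iff hx).2 (by rw [he]; rfl)⟩⟩, by
      show D.crd hx 0 = a; rw [he]; rfl⟩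

end Coords

end Cfsg.Agent.LENat
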