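/-
An irreducible module of `SL₂(q)` in which the upper unitriangular subgroup acts quadratically, or fixes a
subgroup of order at least the square root of the order, is a natural module.
-/
import Cfsg.Agent.Lib.LocalEven.SL2Nat

set_option autoImplicit false
set_option linter.unusedSectionVars false

namespace Cfsg.Agent.SL2Quad

open Matrix Cfsg.Agent.LENat

variable {F : Type*} [Field F] {A : Type*} [AddCommGroup A]

local notation "SL2" => Matrix.SpecialLinearGroup (Fin 2) F
local notation "M2" => Matrix (Fin 2) (Fin 2) F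

/-- The monomial element `(0 b; -b⁻¹ 0)`. -/
def mono (b : F) : SL2 := upp b * low (-b⁻¹) * upp b

theorem mono_val {b : F} (hb : b ≠ 0) : ((mono b : SL2) : M2) = !![0, b; -b⁻¹, 0] := by
  simp only [mono, Matrix.SpecialLinearGroup.coe_mul, upp_val, low_val]
  ext i j
  fin_cases i <;> fin_cases j <;> simp [Matrix.mul_apply, Fin.sum_univ_two, hb]

theorem mono_eq {b : F} (hb : b ≠ 0) : (mono b : SL2) = dia b hb * mono 1 := by
  apply Subtype.ext
  rw [Matrix.SpecialLinearGroup.coe_mul, mono_val hb, mono_val one_ne_zero, dia_val]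
  ext i j
  fin_cases i <;> fin_cases j <;> simp [Matrix.mul_apply, Fin.sum_univ_two]

theorem dia_mul {a b : F} (ha : a ≠ 0) (hb : b ≠ 0) :
    (dia a ha : SL2) * dia b hb = dia (a * b) (mul_ne_zero ha hb) := by
  apply Subtype.ext
  simp [dia_val, mul_comm]

theorem dia_one : (dia 1 one_ne_zero : SL2) = 1 := by
  apply Subtype.ext
  simp [dia_val, Matrix.one_fin_two]

theorem dia_upp {a : F} (ha : a ≠ 0) (b : F) : (upp b : SL2) * dia a ha = dia a ha * upp (b * a⁻¹ * a⁻¹) := by
  apply Subtype.ext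
  simp only [Matrix.SpecialLinearGroup.coe_mul, upp_val, dia_val]
  ext i j
  fin_cases i <;> fin_cases j <;> simp [Matrix.mul_apply, Fin.sum_univ_two]
  field_simp

theorem low_mono (b : F) : (low b : SL2) * mono 1 = mono 1 * upp (-b) := by
  apply Subtype.ext
  simp only [Matrix.SpecialLinearGroup.coe_mul, upp_val, low_val, mono_val one_ne_zero]
  ext i j
  fin_cases i <;> fin_cases j <;> simp [Matrix.mul_apply, Fin.sum_univ_two]

theorem upp_mono (b : F) : (upp b : SL2) * mono 1 = mono 1 * low (-b) := by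
  apply Subtype.ext
  simp only [Matrix.SpecialLinearGroup.coe_mul, upp_val, low_val, mono_val one_ne_zero]
  ext i j
  fin_cases i <;> fin_cases j <;> simp [Matrix.mul_apply, Fin.sum_univ_two]

theorem mono_sq : (mono 1 : SL2) * mono 1 = dia (-1) (neg_ne_zero.2 one_ne_zero) := by
  apply Subtype.ext
  simp only [Matrix.SpecialLinearGroup.coe_mul, dia_val, mono_val one_ne_zero]
  ext i j
  fin_cases i <;> fin_cases j <;> simp [Matrix.mul_apply, Fin.sum_univ_two]

theorem upp_eq {b : F} (hb : b ≠ 0) : (upp b : SL2) = mono b * upp (-b) * low b⁻¹ := by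
  apply Subtype.ext
  simp only [Matrix.SpecialLinearGroup.coe_mul, upp_val, low_val, mono_val hb]
  ext i j
  fin_cases i <;> fin_cases j <;> simp [Matrix.mul_apply, Fin.sum_univ_two, hb]

theorem gen (S : Submonoid SL2) (hu : ∀ b, upp b ∈ S) (hl : ∀ b, low b ∈ S) (g : SL2) : g ∈ S := by
  have h1 : ∀ g : SL2, (g : M2) 1 0 ≠ 0 → g ∈ S := by
    intro g hc
    have hd : (g : M2) 0 0 * (g : M2) 1 1 - (g : M2) 0 1 * (g : M2) 1 0 = 1 := by
      rw [← Matrix.det_fin_two]; exact g.2
    have hg : g = upp (((g : M2) 0 0 - 1) / (g : M2) 1 0) * low ((g : M2) 1 0) *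
        upp (((g : M2) 1 1 - 1) / (g : M2) 1 0) := by
      apply Subtype.ext
      simp only [Matrix.SpecialLinearGroup.coe_mul, upp_val, low_val]
      ext i j
      fin_cases i <;> fin_cases j <;> simp [Matrix.mul_apply, Fin.sum_univ_two, hc]
      all_goals field_simp
      all_goals first | linear_combination (-1) * hd | ring
    rw [hg]
    exact S.mul_mem (S.mul_mem (hu _) (hl _)) (hu _)
  by_cases hc : (g : M2) 1 0 = 0
  · have hd : (g : M2) 1 1 ≠ 0 := by
      intro h
      have := g.2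
      rw [Matrix.det_fin_two, hc, h] at this
      simp at this
    have h2 : g * low 1 ∈ S := h1 _ (by
      simp [Matrix.SpecialLinearGroup.coe_mul, low_val, Matrix.mul_apply, Fin.sum_univ_two, hc, hd])
    have h3 : g = g * low 1 * low (-1) := by
      rw [mul_assoc]
      have : (low 1 : SL2) * low (-1) = 1 := by
        apply Subtype.ext; simp [low_val, Matrix.one_fin_two]
      rw [this, mul_one]
    rw [h3]
    exact S.mul_mem h2 (hl _)
  · exact h1 g hc

variable (σ : Matrix.SpecialLinearGroup (Fin 2) F →* AddMonoid.End A)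

theorem act_mul (g h : SL2) (a : A) : σ (g * h) a = σ g (σ h a) := by rw [map_mul]; rfl

theorem act_one (a : A) : σ 1 a = a := by rw [map_one]; rfl

theorem invariant_of_gen (W : AddSubgroup A) (hu : ∀ b, ∀ a ∈ W, σ (upp b) a ∈ W)
    (hl : ∀ b, ∀ a ∈ W, σ (low b) a ∈ W) (g : SL2) : ∀ a ∈ W, σ g a ∈ W := by
  let S : Submonoid SL2 :=
    { carrier := {g | ∀ a ∈ W, σ g a ∈ W}
      one_mem' := fun a ha => by rw [act_one]; exact ha
      mul_mem' := fun {x y} hx hy a ha => by rw [act_mul]; exact hx _ (hy a ha) }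
  exact gen S hu hl g

/-- The fixed points of the upper unitriangular subgroup. -/
def fixU : AddSubgroup A where
  carrier := {a | ∀ b, σ (upp b) a = a}
  zero_mem' := fun b => map_zero _
  add_mem' := fun {x y} hx hy b => by rw [map_add, hx b, hy b]
  neg_mem' := fun {x} hx b => by rw [map_neg, hx b]

theorem mem_fixU {a : A} : a ∈ fixU σ ↔ ∀ b, σ (upp b) a = a := Iff.rfl

theorem mono_inj (a a' : A) (h : σ (mono 1) a = σ (mono 1) a') : a = a' := by
  have h1 := congrArg (σ (mono 1)⁻¹) h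
  rwa [← act_mul, ← act_mul, inv_mul_cancel, act_one, act_one] at h1

theorem dia_fix {a : F} (ha : a ≠ 0) {w : A} (hw : w ∈ fixU σ) : σ (dia a ha) w ∈ fixU σ := fun b => by
  rw [← act_mul, dia_upp ha, act_mul, hw]

theorem low_fix_iff {a : A} : (∀ c, σ (low c) a = a) ↔ σ (mono 1) a ∈ fixU σ := by
  constructor
  · intro h b
    rw [← act_mul, upp_mono, act_mul, h]
  · intro h c
    apply mono_inj σ
    have := h (-c)
    rwa [← act_mul, upp_mono, act_mul, neg_neg] at this

theorem mono_low_fix {w : A} (hw : w ∈ fixU σ) (c : F) : σ (low c) (σ (mono 1) w) = σ (mono 1) w := by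
  rw [← act_mul, low_mono, act_mul, hw]

/-- The module is natural. -/
theorem main [Fintype F] [Finite A] {p : ℕ} [Fact p.Prime] [CharP F p] (hexp : ∀ a : A, p • a = 0)
    (hirr : ∀ W : AddSubgroup A, (∀ g, ∀ a ∈ W, σ g a ∈ W) → W = ⊥ ∨ W = ⊤)
    (hnt : ∃ g a, σ g a ≠ a)
    (hyp : (∀ b c a, σ (upp c) (σ (upp b) a - a) = σ (upp b) a - a) ∨ Nat.card A ≤ Nat.card (fixU σ) ^ 2) :
    ∃ ψ : A ≃+ (Fin 2 → F), ∀ g a, ψ (σ g a) = (g : M2) *ᵥ ψ a := by
  classical
  obtain ⟨g₀, a₀, hga⟩ := hnt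
  -- nothing is fixed by both unipotent subgroups
  have hcap : ∀ a ∈ fixU σ, (∀ c, σ (low c) a = a) → a = 0 := by
    let W0 : AddSubgroup A :=
      { carrier := {a | ∀ g, σ g a = a}
        zero_mem' := fun g => map_zero _
        add_mem' := fun {x y} hx hy g => by rw [map_add, hx g, hy g]
        neg_mem' := fun {x} hx g => by rw [map_neg, hx g] }
    rcases hirr W0 (fun g a ha => by rw [ha g]; exact ha) with h | h
    · intro a ha hl
      let S : Submonoid SL2 :=
        { carrier := {g | σ g a = a}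
          one_mem' := act_one σ a
          mul_mem' := fun {x y} hx hy => by show σ (x * y) a = a; rw [act_mul, hy, hx] }
      have : a ∈ W0 := fun g => gen S ha hl g
      rw [h] at this
      exact (AddSubgroup.mem_bot).1 this
    · exact absurd ((h.symm ▸ AddSubgroup.mem_top a₀ : a₀ ∈ W0) g₀) hga
  -- the decomposition
  have hdir : ∀ {w w' v v' : A}, w ∈ fixU σ → (∀ c, σ (low c) w' = w') → v ∈ fixU σ →
      (∀ c, σ (low c) v' = v') → w + w' = v + v' → w = v ∧ w' = v' := by
    intro w w' v v' hw hw' hv hv' h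
    have h1 : w - v = v' - w' := by
      rw [sub_eq_sub_iff_add_eq_add, h]; abel
    have h2 : w - v = 0 := hcap _ ((fixU σ).sub_mem hw hv) (fun c => by rw [h1, map_sub, hv' c, hw' c])
    refine ⟨sub_eq_zero.1 h2, ?_⟩
    rw [h2] at h1
    exact (sub_eq_zero.1 h1.symm).symm
  have hdec : ∀ a : A, ∃ w ∈ fixU σ, ∃ w' : A, (∀ c, σ (low c) w' = w') ∧ w + w' = a := by
    rcases hyp with hq | hc
    · have hqu : ∀ b a, σ (upp b) a - a ∈ fixU σ := fun b a c => hq b c a
      have hql : ∀ b a c, σ (low c) (σ (low b) a - a) = σ (low b) a - a := by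
        intro b a c
        obtain ⟨x, rfl⟩ : ∃ x, σ (mono 1) x = a :=
          ⟨σ (mono 1)⁻¹ a, by rw [← act_mul, mul_inv_cancel, act_one]⟩
        rw [← act_mul, low_mono, act_mul, ← map_sub, mono_low_fix σ (hqu _ _)]
      let W1 : AddSubgroup A :=
        { carrier := {a | ∃ w ∈ fixU σ, ∃ w' : A, (∀ c, σ (low c) w' = w') ∧ w + w' = a}
          zero_mem' := ⟨0, (fixU σ).zero_mem, 0, fun c => map_zero _, add_zero _⟩
          add_mem' := by
            rintro _ _ ⟨w, hw, w', hw', rfl⟩ ⟨v, hv, v', hv', rfl⟩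
            exact ⟨w + v, (fixU σ).add_mem hw hv, w' + v', fun c => by rw [map_add, hw', hv'], by abel⟩
          neg_mem' := by
            rintro _ ⟨w, hw, w', hw', rfl⟩
            exact ⟨-w, (fixU σ).neg_mem hw, -w', fun c => by rw [map_neg, hw'], by abel⟩ }
      rcases hirr W1 (invariant_of_gen σ W1
        (by
          rintro b _ ⟨w, hw, w', hw', rfl⟩
          refine ⟨w + (σ (upp b) w' - w'), (fixU σ).add_mem hw (hqu b w'), w', hw', ?_⟩
          rw [map_add, hw b]; abel)
        (by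
          rintro b _ ⟨w, hw, w', hw', rfl⟩
          refine ⟨w, hw, (σ (low b) w - w) + w', fun c => by rw [map_add, hql b w c, hw'], ?_⟩
          rw [map_add, hw' b]; abel)) with h | h
      · exfalso
        have hbot : ∀ w ∈ fixU σ, w = 0 := fun w hw => by
          have : w ∈ W1 := ⟨w, hw, 0, fun c => map_zero _, add_zero _⟩
          rw [h] at this
          exact AddSubgroup.mem_bot.1 this
        have hfix : ∀ a, a ∈ fixU σ := fun a b => sub_eq_zero.1 (hbot _ (hqu b a))
        exact hga (by rw [hbot a₀ (hfix a₀), map_zero])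
      · exact fun a => show a ∈ W1 from h.symm ▸ AddSubgroup.mem_top a
    · let f : fixU σ × fixU σ → A := fun x => (x.1 : A) + σ (mono 1) x.2
      have hinj : Function.Injective f := by
        intro x y h
        obtain ⟨h1, h2⟩ := hdir x.1.2 (mono_low_fix σ x.2.2) y.1.2 (mono_low_fix σ y.2.2) h
        exact Prod.ext (Subtype.ext h1) (Subtype.ext (mono_inj σ _ _ h2))
      have hbij : Function.Bijective f := (Nat.bijective_iff_injective_and_card f).2 ⟨hinj,
        le_antisymm (Nat.card_le_card_of_injective f hinj) (by rwa [Nat.card_prod, ← sq])⟩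
      intro a
      obtain ⟨x, rfl⟩ := hbij.2 a
      exact ⟨x.1, x.1.2, σ (mono 1) x.2, mono_low_fix σ x.2.2, rfl⟩
  -- the set of vectors on which the upper subgroup acts quadratically
  let Y : AddSubgroup A :=
    { carrier := {y | (∀ c, σ (low c) y = y) ∧ ∀ b, σ (upp b) y - y ∈ fixU σ}
      zero_mem' := ⟨fun c => map_zero _, fun b => by rw [map_zero, sub_zero]; exact (fixU σ).zero_mem⟩
      add_mem' := fun {x y} hx hy => ⟨fun c => by rw [map_add, hx.1, hy.1], fun b => by
        rw [map_add, add_sub_add_comm]; exact (fixU σ).add_mem (hx.2 b) (hy.2 b)⟩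
      neg_mem' := fun {x} hx => ⟨fun c => by rw [map_neg, hx.1], fun b => by
        rw [map_neg, ← neg_sub']; exact (fixU σ).neg_mem (hx.2 b)⟩ }
  have hT : ∀ y ∈ Y, ∀ b, b ≠ 0 → σ (upp b) y = y + σ (mono b) y := by
    intro y hy b hb
    have h1 : σ (mono b) y ∈ fixU σ := by
      rw [mono_eq hb, act_mul]
      exact dia_fix σ hb ((low_fix_iff σ).1 hy.1)
    have h2 : ∀ c, σ (low c) (σ (mono b) (σ (upp (-b)) y - y)) = σ (mono b) (σ (upp (-b)) y - y) := by
      intro c
      rw [mono_eq hb, act_mul]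
      obtain ⟨v, hv, hveq⟩ : ∃ v, v ∈ fixU σ ∧ v = σ (upp (-b)) y - y := ⟨_, hy.2 _, rfl⟩
      rw [← hveq]
      have hsw : (dia b hb : SL2) * mono 1 = mono 1 * dia b⁻¹ (inv_ne_zero hb) := by
        apply Subtype.ext
        simp only [Matrix.SpecialLinearGroup.coe_mul, dia_val, mono_val one_ne_zero]
        ext i j
        fin_cases i <;> fin_cases j <;> simp [Matrix.mul_apply, Fin.sum_univ_two]
      rw [← act_mul σ (dia b hb), hsw, act_mul, mono_low_fix σ (dia_fix σ _ hv)]
    have h3 : σ (upp b) y - y + y = σ (mono b) y + σ (mono b) (σ (upp (-b)) y - y) := by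
      conv_lhs => rw [sub_add_cancel, upp_eq hb, act_mul, act_mul, hy.1]
      rw [map_sub]; abel
    obtain ⟨h4, -⟩ := hdir (hy.2 b) hy.1 h1 h2 h3
    rw [← h4]; abel
  have hYd : ∀ {a : F} (ha : a ≠ 0), ∀ y ∈ Y, σ (dia a ha) y ∈ Y := by
    intro a ha y hy
    refine ⟨fun c => ?_, fun b => ?_⟩
    · have hsw : (low c : SL2) * dia a ha = dia a ha * low (c * a * a) := by
        apply Subtype.ext
        simp only [Matrix.SpecialLinearGroup.coe_mul, dia_val, low_val]
        ext i j
        fin_cases i <;> fin_cases j <;> simp [Matrix.mul_apply, Fin.sum_univ_two]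
        field_simp
      rw [← act_mul, hsw, act_mul, hy.1]
    · rw [← act_mul, dia_upp ha, act_mul, ← map_sub]
      exact dia_fix σ ha (hy.2 _)
  -- the sum of `Y` and its image is invariant
  have hY0 : ∃ y ∈ Y, y ≠ 0 := by
    by_contra hne
    push Not at hne
    have hall : ∀ a, (∀ b, σ (upp b) a - a ∈ fixU σ) → a ∈ fixU σ := by
      intro a ha
      obtain ⟨w, hw, w', hw', rfl⟩ := hdec a
      have : w' ∈ Y := ⟨hw', fun b => by
        have := ha b
        rwa [map_add, hw b, add_sub_add_left_eq_sub] at this⟩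
      rw [hne w' this, add_zero]; exact hw
    letI : MulAction (Multiplicative F) (A ⧸ fixU σ) :=
      { smul := fun b => QuotientAddGroup.map _ _ (σ (upp b.toAdd) : A →+ A) (fun w hw => by
          show σ (upp b.toAdd) w ∈ fixU σ
          rw [hw]; exact hw)
        one_smul := fun x => QuotientAddGroup.induction_on x fun a => by
          show ((σ (upp 0) a : A) : A ⧸ fixU σ) = (a : A ⧸ fixU σ)
          rw [upp_zero, act_one]
        mul_smul := fun b c x => QuotientAddGroup.induction_on x fun a => by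
          show ((σ (upp (b.toAdd + c.toAdd)) a : A) : A ⧸ fixU σ) =
            ((σ (upp b.toAdd) (σ (upp c.toAdd) a) : A) : A ⧸ fixU σ)
          rw [← upp_mul, act_mul] }
    have hne' : ∃ a : A, a ∉ fixU σ := by
      by_contra hf
      push Not at hf
      have hz : ∀ a : A, a = 0 := fun a => mono_inj σ a 0 (by
        rw [map_zero]; exact hcap _ (hf _) (mono_low_fix σ (hf a)))
      exact hga (by rw [hz a₀, map_zero])
    obtain ⟨a₁, ha₁⟩ := hne'
    have hpU : IsPGroup p (Multiplicative F) := fun b => ⟨1, by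
      apply Multiplicative.toAdd.injective
      rw [pow_one, toAdd_pow, toAdd_one, nsmul_eq_mul, CharP.cast_eq_zero, zero_mul]⟩
    have hne0 : ((a₁ : A) : A ⧸ fixU σ) ≠ 0 := fun h => ha₁ ((QuotientAddGroup.eq_zero_iff _).1 h)
    have hdvd : p ∣ Nat.card (A ⧸ fixU σ) := by
      have h1 : addOrderOf ((a₁ : A) : A ⧸ fixU σ) = p := addOrderOf_eq_prime
        (by rw [← QuotientAddGroup.mk_nsmul, hexp, QuotientAddGroup.mk_zero]) hne0
      rw [← h1]
      exact addOrderOf_dvd_natCard _
    obtain ⟨x, hx, hx0⟩ := hpU.exists_fixed_point_of_prime_dvd_card_of_fixed_point (A ⧸ fixU σ) hdvd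
      (a := 0) (fun b => by
        show QuotientAddGroup.map _ _ (σ (upp b.toAdd) : A →+ A) _ 0 = 0
        exact map_zero _)
    obtain ⟨a, rfl⟩ := QuotientAddGroup.mk_surjective x
    refine hx0 ((QuotientAddGroup.eq_zero_iff _).2 (hall a fun b => ?_)).symm
    exact (QuotientAddGroup.eq_iff_sub_mem).1 (hx (Multiplicative.ofAdd b))
  have hquad : ∀ b a, σ (upp b) a - a ∈ fixU σ := by
    let W2 : AddSubgroup A :=
      { carrier := {a | ∃ y ∈ Y, ∃ y' ∈ Y, σ (mono 1) y + y' = a}
        zero_mem' := ⟨0, Y.zero_mem, 0, Y.zero_mem, by rw [map_zero, add_zero]⟩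
        add_mem' := by
          rintro _ _ ⟨y, hy, y', hy', rfl⟩ ⟨z, hz, z', hz', rfl⟩
          exact ⟨y + z, Y.add_mem hy hz, y' + z', Y.add_mem hy' hz', by rw [map_add]; abel⟩
        neg_mem' := by
          rintro _ ⟨y, hy, y', hy', rfl⟩
          exact ⟨-y, Y.neg_mem hy, -y', Y.neg_mem hy', by rw [map_neg]; abel⟩ }
    have hW2u : ∀ b, ∀ a ∈ W2, σ (upp b) a ∈ W2 := by
      rintro b _ ⟨y, hy, y', hy', rfl⟩
      rcases eq_or_ne b 0 with rfl | hb
      · exact ⟨y, hy, y', hy', by rw [upp_zero, act_one]⟩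
      have hsw : (dia b hb : SL2) * mono 1 = mono 1 * dia b⁻¹ (inv_ne_zero hb) := by
        apply Subtype.ext
        simp only [Matrix.SpecialLinearGroup.coe_mul, dia_val, mono_val one_ne_zero]
        ext i j
        fin_cases i <;> fin_cases j <;> simp [Matrix.mul_apply, Fin.sum_univ_two]
      refine ⟨y + σ (dia b⁻¹ (inv_ne_zero hb)) y', Y.add_mem hy (hYd _ _ hy'), y', hy', ?_⟩
      rw [map_add (σ (upp b)), (low_fix_iff σ).1 hy.1 b, hT y' hy' b hb, mono_eq hb, hsw, act_mul, map_add]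
      abel
    rcases hirr W2 (invariant_of_gen σ W2 hW2u (by
      rintro c _ ⟨y, hy, y', hy', rfl⟩
      rcases eq_or_ne c 0 with rfl | hc
      · refine ⟨y, hy, y', hy', ?_⟩
        have : (low 0 : SL2) = 1 := by apply Subtype.ext; simp [low_val, Matrix.one_fin_two]
        rw [this, act_one]
      have hc' : (-c) ≠ 0 := neg_ne_zero.2 hc
      have e1 : σ (low c) (σ (mono 1) y) = σ (mono 1) y + σ (mono 1 * dia (-c) hc' * mono 1) y := by
        rw [← act_mul, low_mono, act_mul, hT y hy _ hc', map_add, mul_assoc, ← mono_eq hc', act_mul σ (mono 1)]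
      have e2 : σ (mono 1 * dia (-c) hc' * mono 1) y ∈ Y := by
        have hsw : (mono 1 : SL2) * dia (-c) hc' * mono 1 =
            dia (-(-c)⁻¹) (neg_ne_zero.2 (inv_ne_zero hc')) := by
          apply Subtype.ext
          simp only [Matrix.SpecialLinearGroup.coe_mul, dia_val, mono_val one_ne_zero]
          ext i j
          fin_cases i <;> fin_cases j <;> simp [Matrix.mul_apply, Fin.sum_univ_two]
        rw [hsw]; exact hYd _ _ hy
      exact ⟨y, hy, _, Y.add_mem e2 hy', by rw [map_add (σ (low c)), e1, hy'.1 c]; abel⟩)) with h | h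
    · exfalso
      obtain ⟨y, hy, hy0⟩ := hY0
      have : y ∈ W2 := ⟨0, Y.zero_mem, y, hy, by rw [map_zero, zero_add]⟩
      rw [h] at this
      exact hy0 (AddSubgroup.mem_bot.1 this)
    · intro b a
      obtain ⟨y, hy, y', hy', rfl⟩ : a ∈ W2 := h.symm ▸ AddSubgroup.mem_top a
      rw [map_add, (low_fix_iff σ).1 hy.1 b, add_sub_add_left_eq_sub]
      exact hy'.2 b
  -- the field structure on the fixed points
  let φ : F → A → A := fun b w => σ (upp b) (σ (mono 1)⁻¹ w) - σ (mono 1)⁻¹ w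
  have hminv : ∀ w, σ (mono 1) (σ (mono 1)⁻¹ w) = w := fun w => by rw [← act_mul, mul_inv_cancel, act_one]
  have hpre : ∀ w ∈ fixU σ, σ (mono 1)⁻¹ w ∈ Y := fun w hw =>
    ⟨(low_fix_iff σ).2 (by rw [hminv]; exact hw), fun b => hquad _ _⟩
  have hφadd : ∀ b c, ∀ w, φ (b + c) w = φ b w + φ c w := by
    intro b c w
    simp only [φ]
    have h1 := hquad c (σ (mono 1)⁻¹ w) b
    rw [← upp_mul, act_mul]
    conv_lhs => rw [← sub_add_cancel (σ (upp c) (σ (mono 1)⁻¹ w)) (σ (mono 1)⁻¹ w), map_add, h1]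
    abel
  have hφd : ∀ b (hb : b ≠ 0), ∀ w ∈ fixU σ, φ b w = σ (dia b hb) w := by
    intro b hb w hw
    simp only [φ]
    rw [hT _ (hpre w hw) b hb, mono_eq hb, act_mul, hminv]; abel
  obtain ⟨y₀, hy₀, hy₀0⟩ := hY0
  obtain ⟨w₀, hw₀, hw₀0⟩ : ∃ w ∈ fixU σ, w ≠ 0 :=
    ⟨σ (mono 1) y₀, (low_fix_iff σ).1 hy₀.1, fun h => hy₀0 (mono_inj σ _ _ (by rw [h, map_zero]))⟩
  have hf0 : φ 0 w₀ = 0 := by simp only [φ]; rw [upp_zero, act_one, sub_self]
  let f : F →+ A :=
    { toFun := fun x => φ x w₀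
      map_zero' := hf0
      map_add' := fun b c => hφadd b c w₀ }
  have hfW : ∀ x, f x ∈ fixU σ := fun x => hquad _ _
  have hfm : ∀ b x, φ b (f x) = f (b * x) := by
    intro b x
    show φ b (φ x w₀) = φ (b * x) w₀
    rcases eq_or_ne b 0 with rfl | hb
    · rw [zero_mul, hf0]; simp only [φ]; rw [upp_zero, act_one, sub_self]
    rcases eq_or_ne x 0 with rfl | hx
    · rw [mul_zero, hf0]; simp only [φ]; rw [map_zero, map_zero, sub_self]
    rw [hφd x hx w₀ hw₀, hφd b hb _ (dia_fix σ hx hw₀), hφd _ (mul_ne_zero hb hx) w₀ hw₀, ← act_mul, dia_mul]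
  have hfinj : ∀ x, f x = 0 → x = 0 := by
    intro x hx
    by_contra hx0
    have h1 : σ (dia x hx0) w₀ = 0 := by rw [← hφd x hx0 w₀ hw₀]; exact hx
    have h2 := congrArg (σ (dia x⁻¹ (inv_ne_zero hx0))) h1
    rw [← act_mul, dia_mul, map_zero] at h2
    simp only [inv_mul_cancel₀ hx0, dia_one, act_one] at h2
    exact hw₀0 h2
  let Ψ : (Fin 2 → F) →+ A :=
    { toFun := fun v => f (v 0) + σ (mono 1)⁻¹ (f (v 1))
      map_zero' := by simp
      map_add' := fun u v => by simp only [Pi.add_apply, map_add]; abel }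
  have hu : ∀ b v, σ (upp b) (Ψ v) = Ψ (((upp b : SL2) : M2) *ᵥ v) := by
    intro b v
    rw [upp_mulVec]
    show σ (upp b) (f (v 0) + σ (mono 1)⁻¹ (f (v 1))) = f (v 0 + b * v 1) + σ (mono 1)⁻¹ (f (v 1))
    rw [map_add (σ (upp b)), hfW (v 0) b, map_add f, ← hfm b (v 1)]
    simp only [φ]; abel
  have hneg : ∀ x, σ (mono 1) (f x) = σ (mono 1)⁻¹ (f (-x)) := by
    intro x
    apply mono_inj σ
    rw [hminv, ← act_mul, mono_sq]
    show σ (dia (-1) _) (f x) = f (-x)
    rw [← hφd _ _ _ (hfW x)]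
    have := hfm (-1) x
    rw [neg_one_mul] at this
    exact this
  have hl : ∀ c v, σ (low c) (Ψ v) = Ψ (((low c : SL2) : M2) *ᵥ v) := by
    intro c v
    rw [low_mulVec]
    show σ (low c) (f (v 0) + σ (mono 1)⁻¹ (f (v 1))) = f (v 0) + σ (mono 1)⁻¹ (f (c * v 0 + v 1))
    have hl' : (low c : SL2) = (mono 1)⁻¹ * upp (-c) * mono 1 := by
      rw [mul_assoc, upp_mono, ← mul_assoc, inv_mul_cancel, one_mul, neg_neg]
    rw [map_add (σ (low c)), (low_fix_iff σ).2 (show σ (mono 1) (σ (mono 1)⁻¹ (f (v 1))) ∈ fixU σ by rw [hminv]; exact hfW _) c, hl', act_mul, act_mul, hneg]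
    have hu' : σ (upp (-c)) (σ (mono 1)⁻¹ (f (-(v 0)))) = f (c * v 0) + σ (mono 1)⁻¹ (f (-(v 0))) := by
      have := hfm (-c) (-(v 0))
      rw [neg_mul_neg] at this
      rw [← this]; simp only [φ]; abel
    rw [hu', map_add, map_add f, map_add]
    have hback : σ (mono 1)⁻¹ (σ (mono 1)⁻¹ (f (-(v 0)))) = f (v 0) := by
      rw [← hneg (v 0), ← act_mul, inv_mul_cancel, act_one]
    rw [hback]; abel
  have hequiv : ∀ g v, σ g (Ψ v) = Ψ ((g : M2) *ᵥ v) := by
    let S : Submonoid SL2 :=
      { carrier := {g | ∀ v, σ g (Ψ v) = Ψ ((g : M2) *ᵥ v)}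
        one_mem' := fun v => by rw [act_one]; simp
        mul_mem' := fun {x y} hx hy v => by rw [act_mul, hy, hx, ← mul_mulVec] }
    exact gen S hu hl
  have hinj : Function.Injective Ψ := by
    rw [injective_iff_map_eq_zero]
    intro v hv
    obtain ⟨h1, h2⟩ := hdir (hfW (v 0)) (hpre _ (hfW (v 1))).1 (fixU σ).zero_mem (fun c => map_zero _)
      (by rw [add_zero]; exact hv)
    have h2' : f (v 1) = 0 := by rw [← hminv (f (v 1)), h2, map_zero]
    funext i
    fin_cases i
    · exact hfinj _ h1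
    · exact hfinj _ h2'
  have hsurj : Function.Surjective Ψ := by
    rcases hirr Ψ.range (by rintro g _ ⟨v, rfl⟩; exact ⟨_, (hequiv g v).symm⟩) with h | h
    · exfalso
      have h1 : Ψ ![1, 0] ∈ Ψ.range := ⟨_, rfl⟩
      rw [h] at h1
      have := hinj ((AddSubgroup.mem_bot.1 h1).trans (map_zero Ψ).symm)
      simpa using congrFun this 0
    · exact AddMonoidHom.range_eq_top.1 h
  let e := AddEquiv.ofBijective Ψ ⟨hinj, hsurj⟩
  have he : ∀ v, e.symm (Ψ v) = v := fun v => e.symm_apply_apply v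
  refine ⟨e.symm, fun g a => ?_⟩
  obtain ⟨v, rfl⟩ := hsurj a
  rw [hequiv, he, he]

end Cfsg.Agent.SL2Quad
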