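/-
Basic facts on the coset graph of a pair of subgroups: adjacency, invariance, connectivity, stabilizers.
-/
import Cfsg.Prelude.Def_Amalgam

set_option autoImplicit false

namespace Cfsg.Agent.LECosetGraph

variable {X : Type*} [Group X] {M₁ M₂ : Subgroup X}

theorem adj_iff (a b : Cfsg.CosetVertex M₁ M₂) :
    (Cfsg.cosetGraph M₁ M₂).Adj a b ↔ ∃ x : X,
      (a = Sum.inl (x : X ⧸ M₁) ∧ b = Sum.inr (x : X ⧸ M₂)) ∨
      (a = Sum.inr (x : X ⧸ M₂) ∧ b = Sum.inl (x : X ⧸ M₁)) := by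
  unfold Cfsg.cosetGraph
  rw [SimpleGraph.fromRel_adj]
  constructor
  · rintro ⟨-, h | h⟩
    · obtain ⟨x, hx⟩ := h
      exact ⟨x, Or.inl hx⟩
    · obtain ⟨x, hx⟩ := h
      exact ⟨x, Or.inr ⟨hx.2, hx.1⟩⟩
  · rintro ⟨x, ⟨rfl, rfl⟩ | ⟨rfl, rfl⟩⟩
    · exact ⟨by simp, Or.inl ⟨x, rfl, rfl⟩⟩
    · exact ⟨by simp, Or.inr ⟨x, rfl, rfl⟩⟩

theorem adj_inl_inr (x : X) :
    (Cfsg.cosetGraph M₁ M₂).Adj (Sum.inl (x : X ⧸ M₁)) (Sum.inr (x : X ⧸ M₂)) :=
  (adj_iff _ _).2 ⟨x, Or.inl ⟨rfl, rfl⟩⟩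

theorem smul_inl (g x : X) :
    g • (Sum.inl (x : X ⧸ M₁) : Cfsg.CosetVertex M₁ M₂) = Sum.inl (((g * x : X)) : X ⧸ M₁) := rfl

theorem smul_inr (g x : X) :
    g • (Sum.inr (x : X ⧸ M₂) : Cfsg.CosetVertex M₁ M₂) = Sum.inr (((g * x : X)) : X ⧸ M₂) := rfl

theorem smul_adj (g : X) {a b : Cfsg.CosetVertex M₁ M₂} (h : (Cfsg.cosetGraph M₁ M₂).Adj a b) :
    (Cfsg.cosetGraph M₁ M₂).Adj (g • a) (g • b) := by
  obtain ⟨x, ⟨rfl, rfl⟩ | ⟨rfl, rfl⟩⟩ := (adj_iff _ _).1 h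
  · exact adj_inl_inr (g * x)
  · exact (adj_inl_inr (g * x)).symm

theorem smul_adj_iff (g : X) (a b : Cfsg.CosetVertex M₁ M₂) :
    (Cfsg.cosetGraph M₁ M₂).Adj (g • a) (g • b) ↔ (Cfsg.cosetGraph M₁ M₂).Adj a b := by
  refine ⟨fun h => ?_, smul_adj g⟩
  simpa using smul_adj g⁻¹ h

/-- Left translation as a graph isomorphism. -/
def smulIso (g : X) : Cfsg.cosetGraph M₁ M₂ ≃g Cfsg.cosetGraph M₁ M₂ where
  toEquiv := MulAction.toPerm g
  map_rel_iff' := smul_adj_iff g _ _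

theorem reachable_smul (g : X) {a b : Cfsg.CosetVertex M₁ M₂}
    (h : (Cfsg.cosetGraph M₁ M₂).Reachable a b) :
    (Cfsg.cosetGraph M₁ M₂).Reachable (g • a) (g • b) :=
  h.map (smulIso g).toHom

theorem stabilizer_inl (x : X) :
    MulAction.stabilizer X (Sum.inl (x : X ⧸ M₁) : Cfsg.CosetVertex M₁ M₂) =
      M₁.map (MulAut.conj x).toMonoidHom := by
  ext g
  rw [MulAction.mem_stabilizer_iff, smul_inl, Sum.inl.injEq, QuotientGroup.eq,
    Subgroup.mem_map_equiv, MulAut.conj_symm_apply]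
  have : (g * x)⁻¹ * x = (x⁻¹ * g * x)⁻¹ := by simp [mul_assoc]
  rw [this, inv_mem_iff]

theorem stabilizer_inr (x : X) :
    MulAction.stabilizer X (Sum.inr (x : X ⧸ M₂) : Cfsg.CosetVertex M₁ M₂) =
      M₂.map (MulAut.conj x).toMonoidHom := by
  ext g
  rw [MulAction.mem_stabilizer_iff, smul_inr, Sum.inr.injEq, QuotientGroup.eq,
    Subgroup.mem_map_equiv, MulAut.conj_symm_apply]
  have : (g * x)⁻¹ * x = (x⁻¹ * g * x)⁻¹ := by simp [mul_assoc]
  rw [this, inv_mem_iff]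

theorem stabilizer_inl_one :
    MulAction.stabilizer X (Sum.inl ((1 : X) : X ⧸ M₁) : Cfsg.CosetVertex M₁ M₂) = M₁ := by
  rw [stabilizer_inl]; ext g; simp [Subgroup.mem_map]

theorem stabilizer_inr_one :
    MulAction.stabilizer X (Sum.inr ((1 : X) : X ⧸ M₂) : Cfsg.CosetVertex M₁ M₂) = M₂ := by
  rw [stabilizer_inr]; ext g; simp [Subgroup.mem_map]

theorem connected (hgen : M₁ ⊔ M₂ = ⊤) : (Cfsg.cosetGraph M₁ M₂).Connected := by
  set v₀ : Cfsg.CosetVertex M₁ M₂ := Sum.inl ((1 : X) : X ⧸ M₁) with hv₀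
  have key : ∀ g : X, (Cfsg.cosetGraph M₁ M₂).Reachable v₀ (g • v₀) := by
    have hg : ∀ g : X, g ∈ M₁ ⊔ M₂ → (Cfsg.cosetGraph M₁ M₂).Reachable v₀ (g • v₀) := by
      intro g hg
      rw [Subgroup.sup_eq_closure] at hg
      induction hg using Subgroup.closure_induction with
      | mem y hy =>
        rcases hy with hy | hy
        · have hfix : y • v₀ = v₀ := MulAction.mem_stabilizer_iff.1 (by rw [stabilizer_inl_one]; exact hy)
          rw [hfix]
        · have hfix : y • (Sum.inr ((1 : X) : X ⧸ M₂) : Cfsg.CosetVertex M₁ M₂) =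
              Sum.inr ((1 : X) : X ⧸ M₂) :=
            MulAction.mem_stabilizer_iff.1 (by rw [stabilizer_inr_one]; exact hy)
          have h1 := (adj_inl_inr (M₁ := M₁) (M₂ := M₂) (1 : X)).reachable
          have h2 := reachable_smul y h1
          rw [hfix] at h2
          exact h1.trans h2.symm
      | one => rw [one_smul]
      | mul a b _ _ ha hb =>
        rw [mul_smul]
        exact ha.trans (reachable_smul a hb)
      | inv a _ ha =>
        have := reachable_smul a⁻¹ ha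
        rw [inv_smul_smul] at this
        exact this.symm
    intro g
    exact hg g (hgen ▸ Subgroup.mem_top g)
  have all : ∀ v : Cfsg.CosetVertex M₁ M₂, (Cfsg.cosetGraph M₁ M₂).Reachable v₀ v := by
    intro v
    rcases v with c | c
    · induction c using QuotientGroup.induction_on with
      | H x => simpa [hv₀, smul_inl] using key x
    · induction c using QuotientGroup.induction_on with
      | H x =>
        have h1 : (Cfsg.cosetGraph M₁ M₂).Reachable v₀ (Sum.inl (x : X ⧸ M₁)) := by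
          simpa [hv₀, smul_inl] using key x
        exact h1.trans (adj_inl_inr x).reachable
  exact ⟨fun a b => (all a).symm.trans (all b)⟩

/-- A vertex stabilizer is transitive on the neighbours of its vertex. -/
theorem transitive_neighbours {δ μ μ' : Cfsg.CosetVertex M₁ M₂}
    (hμ : (Cfsg.cosetGraph M₁ M₂).Adj δ μ) (hμ' : (Cfsg.cosetGraph M₁ M₂).Adj δ μ') :
    ∃ g ∈ MulAction.stabilizer X δ, g • μ = μ' := by
  obtain ⟨x, ⟨rfl, rfl⟩ | ⟨rfl, rfl⟩⟩ := (adj_iff _ _).1 hμ <;>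
    obtain ⟨y, ⟨hy, rfl⟩ | ⟨hy, rfl⟩⟩ := (adj_iff _ _).1 hμ'
  · refine ⟨y * x⁻¹, ?_, ?_⟩
    · rw [MulAction.mem_stabilizer_iff, smul_inl, hy]
      simp
    · rw [smul_inr]; simp
  · simp at hy
  · simp at hy
  · refine ⟨y * x⁻¹, ?_, ?_⟩
    · rw [MulAction.mem_stabilizer_iff, smul_inr, hy]
      simp
    · rw [smul_inl]; simp

/-- An edge stabilizer is a conjugate of `M₁ ⊓ M₂`. -/
theorem edgeStabilizer_inl_inr (x : X) :
    Cfsg.edgeStabilizer (Sum.inl (x : X ⧸ M₁) : Cfsg.CosetVertex M₁ M₂) (Sum.inr (x : X ⧸ M₂)) =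
      (M₁ ⊓ M₂).map (MulAut.conj x).toMonoidHom := by
  show MulAction.stabilizer X _ ⊓ MulAction.stabilizer X _ = _
  rw [stabilizer_inl, stabilizer_inr, Subgroup.map_inf _ _ _ (MulAut.conj x).injective]

/-- A subgroup fixing every vertex is trivial, under faithfulness. -/
theorem eq_bot_of_fixes_all (h : ∀ N : Subgroup X, N ≤ M₁ ⊓ M₂ → N.Normal → N = ⊥) (T : Subgroup X)
    (hT : ∀ v : Cfsg.CosetVertex M₁ M₂, T ≤ MulAction.stabilizer X v) : T = ⊥ := by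
  have hk : (MulAction.toPermHom X (Cfsg.CosetVertex M₁ M₂)).ker = ⊥ := by
    refine h _ ?_ inferInstance
    intro g hg
    have h0 : ∀ v : Cfsg.CosetVertex M₁ M₂, g • v = v := fun v =>
      Equiv.Perm.congr_fun (MonoidHom.mem_ker.1 hg) v
    refine Subgroup.mem_inf.2 ⟨?_, ?_⟩
    · rw [← stabilizer_inl_one (M₁ := M₁) (M₂ := M₂)]; exact h0 _
    · rw [← stabilizer_inr_one (M₁ := M₁) (M₂ := M₂)]; exact h0 _
  rw [eq_bot_iff, ← hk]
  intro g hg
  rw [MonoidHom.mem_ker]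
  exact Equiv.ext fun v => MulAction.mem_stabilizer_iff.1 (hT v hg)

end Cfsg.Agent.LECosetGraph
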