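/-
Vertex groups of an amalgam pair of characteristic `p`: Sylow subgroups of edges, the groups `Z`, `Q` and `V^{(n)}`.
-/
import Cfsg.Prelude.Def_LocalStructure
import Cfsg.Agent.Lib.LocalEven.CosetGraph
import Cfsg.Agent.Lib.LocalEven.SylowAux
import Cfsg.Agent.Lib.Techniques.CharP

set_option autoImplicit false
set_option linter.unusedSectionVars false
set_option linter.style.haveILetI false

namespace Cfsg.Agent.LEAmalgam

open Cfsg.Agent.LEBasic Cfsg.Agent.LECosetGraph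
open scoped commutatorElement Pointwise

variable {X : Type*} [Group X] {p : ℕ} [Fact p.Prime]

/-- conjugate -/
local notation:90 H "^ᶜ" g:91 => Subgroup.map (MulEquiv.toMonoidHom (MulAut.conj g)) H

/-- `T` is a Sylow `p`-subgroup of the finite subgroup `H`. -/
def IsSyl (p : ℕ) (T H : Subgroup X) : Prop :=
  T ≤ H ∧ IsPGroup p ↥T ∧ Nat.card ↥T = p ^ (Nat.card ↥H).factorization p

theorem isSyl_conj {T H : Subgroup X} (h : IsSyl p T H) (g : X) : IsSyl p (T ^ᶜ g) (H ^ᶜ g) := by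
  refine ⟨map_conj_mono g h.1, isPGroup_map_conj h.2.1 g, ?_⟩
  rw [card_map_conj, card_map_conj]
  exact h.2.2

theorem isSyl_map {H : Subgroup X} [Finite ↥H] (P : Sylow p ↥H) : IsSyl p ((P : Subgroup ↥H).map H.subtype) H := by
  refine ⟨Subgroup.map_subtype_le _, P.2.map _, ?_⟩
  rw [← Nat.card_congr (Subgroup.equivMapOfInjective _ _ H.subtype_injective).toEquiv]
  exact P.card_eq_multiplicity

theorem exists_sylow {T H : Subgroup X} [Finite ↥H] (h : IsSyl p T H) :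
    ∃ P : Sylow p ↥H, (P : Subgroup ↥H).map H.subtype = T := by
  have hc : Nat.card ↥(T.subgroupOf H) = p ^ (Nat.card ↥H).factorization p := by
    rw [Nat.card_congr (Subgroup.subgroupOfEquivOfLe h.1).toEquiv]; exact h.2.2
  exact ⟨Sylow.ofCard _ hc, by
    rw [Sylow.coe_ofCard, Subgroup.map_subgroupOf_eq_of_le h.1]⟩

theorem exists_isSyl (H : Subgroup X) [Finite ↥H] : ∃ T, IsSyl p T H :=
  ⟨_, isSyl_map (Classical.arbitrary (Sylow p ↥H))⟩

theorem exists_conj {T T' H : Subgroup X} [Finite ↥H] (h : IsSyl p T H) (h' : IsSyl p T' H) :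
    ∃ g ∈ H, T ^ᶜ g = T' := by
  obtain ⟨P, rfl⟩ := exists_sylow h
  obtain ⟨P', rfl⟩ := exists_sylow h'
  obtain ⟨g, hg⟩ := LESylow.exists_conj_eq P P'
  refine ⟨g, g.2, ?_⟩
  rw [← hg, Subgroup.map_map, Subgroup.map_map]
  rfl

theorem le_of_normalized {A T H : Subgroup X} [Finite ↥H] (h : IsSyl p T H) (hA : IsPGroup p ↥A)
    (hAH : A ≤ H) (hn : H ≤ Subgroup.normalizer (A : Set X)) : A ≤ T := by
  obtain ⟨P, rfl⟩ := exists_sylow h
  haveI : (A.subgroupOf H).Normal := (Subgroup.normal_subgroupOf_iff_le_normalizer hAH).2 hn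
  rw [← Subgroup.map_subgroupOf_eq_of_le hAH]
  exact Subgroup.map_mono (normal_le_sylow (N := A.subgroupOf H) (hA.comap_of_injective H.subtype H.subtype_injective) P)

theorem isSyl_of_le {T L H : Subgroup X} [Finite ↥H] (h : IsSyl p T H) (hTL : T ≤ L) (hLH : L ≤ H) :
    IsSyl p T L := by
  haveI : Finite ↥L := Finite.of_injective _ (Subgroup.inclusion_injective hLH)
  refine ⟨hTL, h.2.1, ?_⟩
  have h1 := (Nat.factorization_le_iff_dvd Nat.card_pos.ne' Nat.card_pos.ne').2 (Subgroup.card_dvd_of_le hLH)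
  have h2 : p ^ (Nat.card ↥H).factorization p ∣ Nat.card ↥L := h.2.2 ▸ Subgroup.card_dvd_of_le hTL
  have h3 := ((Fact.out : p.Prime).pow_dvd_iff_le_factorization Nat.card_pos.ne').1 h2
  rw [h.2.2, le_antisymm (h1 p) h3]

theorem le_pElementClosure {A H : Subgroup X} (hA : IsPGroup p ↥A) (hAH : A ≤ H) :
    A ≤ Cfsg.pElementClosure p H := fun x hx => by
  refine Subgroup.subset_closure ⟨hAH hx, ?_⟩
  obtain ⟨k, hk⟩ := IsPGroup.iff_orderOf.1 hA ⟨x, hx⟩
  exact ⟨k, by rwa [← Subgroup.orderOf_coe] at hk⟩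

theorem pElementClosure_le (H : Subgroup X) : Cfsg.pElementClosure p H ≤ H :=
  (Subgroup.closure_le _).2 fun _ hx => hx.1

theorem pElementClosure_conj_le (H : Subgroup X) (g : X) :
    (Cfsg.pElementClosure p H) ^ᶜ g ≤ Cfsg.pElementClosure p (H ^ᶜ g) := by
  rw [Subgroup.map_le_iff_le_comap, Cfsg.pElementClosure, Subgroup.closure_le]
  rintro x ⟨hx, k, hk⟩
  refine Subgroup.subset_closure ⟨Subgroup.mem_map_of_mem _ hx, k, ?_⟩
  rw [← hk]
  exact orderOf_injective (MulAut.conj g).toMonoidHom (MulAut.conj g).injective x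

theorem le_normalizer_of_conj {K H : Subgroup X} (h : ∀ g ∈ H, K ^ᶜ g ≤ K) :
    H ≤ Subgroup.normalizer (K : Set X) :=
  Subgroup.le_normalizer_iff.2 fun g hg y hy => h g hg ⟨y, hy, rfl⟩

theorem conj_eq_self {H : Subgroup X} {g : X} (hg : g ∈ H) : H ^ᶜ g = H :=
  map_conj_eq_iff_mem_normalizer.2 (Subgroup.le_normalizer hg)

theorem le_normalizer_pElementClosure (H : Subgroup X) :
    H ≤ Subgroup.normalizer (Cfsg.pElementClosure p H : Set X) :=
  le_normalizer_of_conj fun g hg => (pElementClosure_conj_le H g).trans (by rw [conj_eq_self hg])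

/-- The Frattini argument for the closure of the `p`-elements. -/
theorem exists_mul_normalizer {T H : Subgroup X} [Finite ↥H] (h : IsSyl p T H) {g : X} (hg : g ∈ H) :
    ∃ l ∈ Cfsg.pElementClosure p H, ∃ n ∈ H, n ∈ Subgroup.normalizer (T : Set X) ∧ g = l * n := by
  haveI : Finite ↥(Cfsg.pElementClosure p H) :=
    Finite.of_injective _ (Subgroup.inclusion_injective (pElementClosure_le H))
  have h' : IsSyl p (T ^ᶜ g) H := by
    have := isSyl_conj h g
    rwa [conj_eq_self hg] at this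
  obtain ⟨l, hl, hlT⟩ := exists_conj (isSyl_of_le h (le_pElementClosure h.2.1 h.1) (pElementClosure_le H))
    (isSyl_of_le h' (le_pElementClosure h'.2.1 h'.1) (pElementClosure_le H))
  refine ⟨l, hl, l⁻¹ * g, mul_mem (inv_mem (pElementClosure_le H hl)) hg, ?_, (mul_inv_cancel_left l g).symm⟩
  rw [← map_conj_eq_iff_mem_normalizer, ← map_conj_map_conj, ← hlT, map_conj_map_conj, inv_mul_cancel, map_conj_one]

theorem exists_pResidual_mul {T H : Subgroup X} [Finite ↥H] (h : IsSyl p T H) {g : X}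
    (hg : g ∈ Cfsg.pElementClosure p H) :
    ∃ r ∈ (Cfsg.pResidual p ↥(Cfsg.pElementClosure p H)).map (Cfsg.pElementClosure p H).subtype,
      ∃ t ∈ T, g = r * t := by
  haveI : Finite ↥(Cfsg.pElementClosure p H) :=
    Finite.of_injective _ (Subgroup.inclusion_injective (pElementClosure_le H))
  obtain ⟨P, hP⟩ := exists_sylow (isSyl_of_le h (le_pElementClosure h.2.1 h.1) (pElementClosure_le H))
  haveI := pResidual_normal (p := p) (G := ↥(Cfsg.pElementClosure p H))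
  obtain ⟨r, hr, t, ht, hrt⟩ := Subgroup.mem_sup_of_normal_left.1
    (show (⟨g, hg⟩ : ↥(Cfsg.pElementClosure p H)) ∈ _ ⊔ _ from pResidual_sup_sylow P ▸ Subgroup.mem_top _)
  exact ⟨r, ⟨r, hr, rfl⟩, t, hP ▸ ⟨t, ht, rfl⟩, (congrArg Subtype.val hrt).symm⟩

/-- If `A ≤ V ≤ Q` with `Q` a finite `p`-group normalizing `A` and `V = A [V, Q]`, then `V = A`. -/
theorem le_of_le_sup_commutator {A V Q : Subgroup X} [Finite ↥Q] (hQ : IsPGroup p ↥Q) (hAV : A ≤ V)
    (hVQ : V ≤ Q) (hn : Q ≤ Subgroup.normalizer (A : Set X)) (h : V ≤ A ⊔ ⁅V, Q⁆) : V ≤ A := by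
  haveI := hQ.isNilpotent
  obtain ⟨n, hn'⟩ := (Subgroup.isNilpotent_iff_lowerCentralSeries Q).1 inferInstance
  have hle : ∀ k, Q.lowerCentralSeries k ≤ Q := by
    intro k
    induction k with
    | zero => exact le_rfl
    | succ k ih =>
      refine Subgroup.commutator_le.2 fun a ha b hb => ?_
      rw [commutatorElement_def]
      exact mul_mem (mul_mem (mul_mem (ih ha) hb) (inv_mem (ih ha))) (inv_mem hb)
  have key : ∀ k, V ≤ A ⊔ Q.lowerCentralSeries k := by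
    intro k
    induction k with
    | zero => exact hVQ.trans le_sup_right
    | succ k ih =>
      refine h.trans (sup_le le_sup_left (Subgroup.commutator_le.2 fun v hv q hq => ?_))
      have hv' : v ∈ (A : Set X) * (Q.lowerCentralSeries k : Set X) := by
        rw [← Subgroup.coe_mul_of_right_le_normalizer_left _ _ ((hle k).trans hn)]
        exact ih hv
      obtain ⟨a, ha, c, hc, rfl⟩ := hv'
      rw [show ⁅a * c, q⁆ = a * ⁅c, q⁆ * a⁻¹ * (a * (q * a⁻¹ * q⁻¹)) by simp [commutatorElement_def, mul_assoc]]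
      refine mul_mem (mul_mem (mul_mem (Subgroup.mem_sup_left ha) (Subgroup.mem_sup_right ?_))
        (inv_mem (Subgroup.mem_sup_left ha))) (Subgroup.mem_sup_left
          (mul_mem ha ((Subgroup.mem_normalizer_iff.1 (hn hq) a⁻¹).1 (inv_mem ha))))
      exact Subgroup.commutator_mem_commutator hc hq
  have := key n
  rwa [hn', sup_bot_eq] at this

/-! ### `Ω₁(Z(T))` and the group `Z` -/

/-- `Ω₁(Z(T))`. -/
abbrev omZ (p : ℕ) (T : Subgroup X) : Subgroup X :=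
  Cfsg.omegaOne p (T ⊓ Subgroup.centralizer (T : Set X))

theorem omZ_le (T : Subgroup X) : omZ p T ≤ T ⊓ Subgroup.centralizer (T : Set X) :=
  (Subgroup.closure_le _).2 fun _ hx => hx.1

theorem omZ_conj_le (T : Subgroup X) (g : X) : (omZ p T) ^ᶜ g ≤ omZ p (T ^ᶜ g) := by
  rw [Subgroup.map_le_iff_le_comap]
  refine (Subgroup.closure_le _).2 ?_
  rintro x ⟨hx, hxp⟩
  refine Subgroup.subset_closure ⟨Subgroup.mem_inf.2 ⟨Subgroup.mem_map_of_mem _ (Subgroup.mem_inf.1 hx).1, ?_⟩, ?_⟩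
  · refine Subgroup.mem_centralizer_iff.2 ?_
    rintro _ ⟨t, ht, rfl⟩
    rw [← map_mul, ← map_mul, Subgroup.mem_centralizer_iff.1 (Subgroup.mem_inf.1 hx).2 t ht]
  · rw [← map_pow, hxp, map_one]

theorem le_vertexZ {T H : Subgroup X} [Finite ↥H] (h : IsSyl p T H) :
    omZ p T ≤ Cfsg.sylowCenterClosure p H := by
  obtain ⟨P, rfl⟩ := exists_sylow h
  exact le_iSup (fun S : Sylow p ↥H => omZ p ((S : Subgroup ↥H).map H.subtype)) P

theorem vertexZ_le {K H : Subgroup X} [Finite ↥H] (h : ∀ T, IsSyl p T H → omZ p T ≤ K) :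
    Cfsg.sylowCenterClosure p H ≤ K :=
  iSup_le fun P => h _ (isSyl_map P)

theorem finite_conj (H : Subgroup X) [Finite ↥H] (g : X) : Finite ↥(H ^ᶜ g) :=
  Finite.of_equiv _ (Subgroup.equivMapOfInjective H _ (MulAut.conj g).injective).toEquiv

theorem sylowCenterClosure_conj_le (H : Subgroup X) [Finite ↥H] (g : X) :
    (Cfsg.sylowCenterClosure p H) ^ᶜ g ≤ Cfsg.sylowCenterClosure p (H ^ᶜ g) := by
  haveI := finite_conj H g
  rw [Subgroup.map_le_iff_le_comap]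
  refine vertexZ_le fun T hT => ?_
  rw [← Subgroup.map_le_iff_le_comap]
  exact (omZ_conj_le T g).trans (le_vertexZ (isSyl_conj hT g))

/-! ### The graph -/

variable {M₁ M₂ : Subgroup X}

theorem dist_smul (hc : (Cfsg.cosetGraph M₁ M₂).Connected) (g : X) (a b : Cfsg.CosetVertex M₁ M₂) :
    (Cfsg.cosetGraph M₁ M₂).dist (g • a) (g • b) = (Cfsg.cosetGraph M₁ M₂).dist a b := by
  have key : ∀ (g : X) (a b : Cfsg.CosetVertex M₁ M₂),
      (Cfsg.cosetGraph M₁ M₂).dist (g • a) (g • b) ≤ (Cfsg.cosetGraph M₁ M₂).dist a b := by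
    intro g a b
    obtain ⟨w, hw⟩ := hc.exists_walk_length_eq_dist a b
    have h1 := SimpleGraph.dist_le (w.map (smulIso g).toHom)
    rwa [SimpleGraph.Walk.length_map, hw] at h1
  refine le_antisymm (key g a b) ?_
  have := key g⁻¹ (g • a) (g • b)
  rwa [inv_smul_smul, inv_smul_smul] at this

theorem exists_adj (δ : Cfsg.CosetVertex M₁ M₂) : ∃ μ, (Cfsg.cosetGraph M₁ M₂).Adj δ μ := by
  rcases δ with c | c <;> induction c using QuotientGroup.induction_on with | H x => ?_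
  · exact ⟨_, adj_inl_inr x⟩
  · exact ⟨_, (adj_inl_inr x).symm⟩

theorem stab_smul (g : X) (δ : Cfsg.CosetVertex M₁ M₂) :
    MulAction.stabilizer X (g • δ) = (MulAction.stabilizer X δ) ^ᶜ g :=
  MulAction.stabilizer_smul_eq_stabilizer_map_conj g δ

/-- Every vertex is a translate of one of the two ends of a given edge. -/
theorem exists_translate {δ μ : Cfsg.CosetVertex M₁ M₂} (ha : (Cfsg.cosetGraph M₁ M₂).Adj δ μ)
    (v : Cfsg.CosetVertex M₁ M₂) : ∃ g : X, v = g • δ ∨ v = g • μ := by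
  obtain ⟨x, ⟨rfl, rfl⟩ | ⟨rfl, rfl⟩⟩ := (adj_iff _ _).1 ha <;>
    rcases v with c | c <;> induction c using QuotientGroup.induction_on with | H y => ?_
  · exact ⟨y * x⁻¹, Or.inl (by rw [smul_inl, inv_mul_cancel_right])⟩
  · exact ⟨y * x⁻¹, Or.inr (by rw [smul_inr, inv_mul_cancel_right])⟩
  · exact ⟨y * x⁻¹, Or.inr (by rw [smul_inl, inv_mul_cancel_right])⟩
  · exact ⟨y * x⁻¹, Or.inl (by rw [smul_inr, inv_mul_cancel_right])⟩

variable (h : Cfsg.IsCharPAmalgamPair p M₁ M₂)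
include h

theorem connected' : (Cfsg.cosetGraph M₁ M₂).Connected := connected h.1.1

theorem finite_stab (δ : Cfsg.CosetVertex M₁ M₂) : Finite ↥(MulAction.stabilizer X δ) := by
  haveI := h.2.1
  haveI := h.2.2.1
  rcases δ with c | c <;> induction c using QuotientGroup.induction_on with | H x => ?_
  · rw [stabilizer_inl]; exact finite_conj M₁ x
  · rw [stabilizer_inr]; exact finite_conj M₂ x

theorem charP_stab (δ : Cfsg.CosetVertex M₁ M₂) : CharP.IsCharP p ↥(MulAction.stabilizer X δ) := by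
  rcases δ with c | c <;> induction c using QuotientGroup.induction_on with | H x => ?_
  · rw [stabilizer_inl]
    exact CharP.isCharP_congr (Subgroup.equivMapOfInjective M₁ _ (MulAut.conj x).injective) h.2.2.2.2.2.2.1
  · rw [stabilizer_inr]
    exact CharP.isCharP_congr (Subgroup.equivMapOfInjective M₂ _ (MulAut.conj x).injective) h.2.2.2.2.2.2.2

theorem dvd_card_stab (δ : Cfsg.CosetVertex M₁ M₂) : p ∣ Nat.card ↥(MulAction.stabilizer X δ) := by
  rcases δ with c | c <;> induction c using QuotientGroup.induction_on with | H x => ?_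
  · rw [stabilizer_inl, card_map_conj]; exact h.2.2.2.1
  · rw [stabilizer_inr, card_map_conj]; exact h.2.2.2.2.1

theorem factorization_eq :
    (Nat.card ↥(M₁ ⊓ M₂)).factorization p = (Nat.card ↥M₁).factorization p ∧
    (Nat.card ↥(M₁ ⊓ M₂)).factorization p = (Nat.card ↥M₂).factorization p := by
  haveI := h.2.1
  haveI := h.2.2.1
  haveI : Finite ↥(M₁ ⊓ M₂) := Finite.of_injective _ (Subgroup.inclusion_injective inf_le_left)
  let S : Sylow p ↥(M₁ ⊓ M₂) := Classical.arbitrary _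
  let P₁ : Sylow p ↥M₁ := Classical.arbitrary _
  let P₂ : Sylow p ↥M₂ := Classical.arbitrary _
  obtain ⟨h1, h2⟩ := h.2.2.2.2.2.1 S P₁ P₂
  have hp := (Fact.out : p.Prime).two_le
  rw [S.card_eq_multiplicity, P₁.card_eq_multiplicity] at h1
  rw [S.card_eq_multiplicity, P₂.card_eq_multiplicity] at h2
  exact ⟨Nat.pow_right_injective hp h1, Nat.pow_right_injective hp h2⟩

/-- A Sylow subgroup of an edge is one of both ends. -/
theorem edge_syl {δ μ : Cfsg.CosetVertex M₁ M₂} (ha : (Cfsg.cosetGraph M₁ M₂).Adj δ μ) {T : Subgroup X}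
    (hT : IsSyl p T (Cfsg.edgeStabilizer δ μ)) :
    IsSyl p T (MulAction.stabilizer X δ) ∧ IsSyl p T (MulAction.stabilizer X μ) := by
  obtain ⟨f1, f2⟩ := factorization_eq h
  obtain ⟨hle, hTp, hcard⟩ := hT
  have hle1 : T ≤ MulAction.stabilizer X δ := hle.trans inf_le_left
  have hle2 : T ≤ MulAction.stabilizer X μ := hle.trans inf_le_right
  obtain ⟨x, ⟨rfl, rfl⟩ | ⟨rfl, rfl⟩⟩ := (adj_iff _ _).1 ha
  · rw [edgeStabilizer_inl_inr, card_map_conj] at hcard
    refine ⟨⟨hle1, hTp, ?_⟩, ⟨hle2, hTp, ?_⟩⟩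
    · rw [stabilizer_inl, card_map_conj, ← f1]; exact hcard
    · rw [stabilizer_inr, card_map_conj, ← f2]; exact hcard
  · rw [show Cfsg.edgeStabilizer (Sum.inr (x : X ⧸ M₂) : Cfsg.CosetVertex M₁ M₂) (Sum.inl (x : X ⧸ M₁)) =
      Cfsg.edgeStabilizer (Sum.inl (x : X ⧸ M₁) : Cfsg.CosetVertex M₁ M₂) (Sum.inr (x : X ⧸ M₂)) from inf_comm _ _,
      edgeStabilizer_inl_inr, card_map_conj] at hcard
    refine ⟨⟨hle1, hTp, ?_⟩, ⟨hle2, hTp, ?_⟩⟩
    · rw [stabilizer_inr, card_map_conj, ← f2]; exact hcard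
    · rw [stabilizer_inl, card_map_conj, ← f1]; exact hcard

theorem exists_edge_syl {δ μ : Cfsg.CosetVertex M₁ M₂} (ha : (Cfsg.cosetGraph M₁ M₂).Adj δ μ) :
    ∃ T, IsSyl p T (MulAction.stabilizer X δ) ∧ IsSyl p T (MulAction.stabilizer X μ) := by
  haveI := finite_stab h δ
  haveI : Finite ↥(Cfsg.edgeStabilizer δ μ) :=
    Finite.of_injective _ (Subgroup.inclusion_injective (inf_le_left : _ ≤ MulAction.stabilizer X δ))
  obtain ⟨T, hT⟩ := exists_isSyl (p := p) (Cfsg.edgeStabilizer δ μ)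
  exact ⟨T, edge_syl h ha hT⟩

/-- Every Sylow subgroup of a vertex is one of a neighbour. -/
theorem exists_nbr_of_syl {δ : Cfsg.CosetVertex M₁ M₂} {T : Subgroup X}
    (hT : IsSyl p T (MulAction.stabilizer X δ)) :
    ∃ μ, (Cfsg.cosetGraph M₁ M₂).Adj δ μ ∧ IsSyl p T (MulAction.stabilizer X μ) := by
  haveI := finite_stab h δ
  obtain ⟨μ, hμ⟩ := exists_adj δ
  obtain ⟨T₀, h1, h2⟩ := exists_edge_syl h hμ
  obtain ⟨g, hg, rfl⟩ := exists_conj h1 hT
  refine ⟨g • μ, ?_, stab_smul g μ ▸ isSyl_conj h2 g⟩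
  have := smul_adj g hμ
  rwa [MulAction.mem_stabilizer_iff.1 hg] at this

/-- `Q_δ` lies in every Sylow subgroup of the vertex group. -/
theorem vertexQ_le {δ : Cfsg.CosetVertex M₁ M₂} {T : Subgroup X}
    (hT : IsSyl p T (MulAction.stabilizer X δ)) : Cfsg.vertexQ p δ ≤ T := by
  haveI := finite_stab h δ
  exact le_of_normalized hT (CharP.opIn_isPGroup _) (CharP.opIn_le _) (CharP.le_normalizer_opIn _)

theorem vertexQ_le_stab {δ μ : Cfsg.CosetVertex M₁ M₂} (ha : (Cfsg.cosetGraph M₁ M₂).Adj δ μ) :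
    Cfsg.vertexQ p δ ≤ MulAction.stabilizer X μ := by
  obtain ⟨T, h1, h2⟩ := exists_edge_syl h ha
  exact (vertexQ_le h h1).trans h2.1

theorem vertexQ_le_kernel (δ : Cfsg.CosetVertex M₁ M₂) : Cfsg.vertexQ p δ ≤ Cfsg.neighbourKernel δ :=
  le_inf (CharP.opIn_le _) (le_iInf₂ fun _ hμ => vertexQ_le_stab h hμ)

/-- `C_{G_δ}(Q_δ) ≤ Q_δ`. -/
theorem centralizer_le (δ : Cfsg.CosetVertex M₁ M₂) :
    MulAction.stabilizer X δ ⊓ Subgroup.centralizer (Cfsg.vertexQ p δ : Set X) ≤ Cfsg.vertexQ p δ := by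
  intro x hx
  obtain ⟨hx1, hx2⟩ := Subgroup.mem_inf.1 hx
  refine ⟨⟨x, hx1⟩, charP_stab h δ (Subgroup.mem_centralizer_iff.2 fun y hy => Subtype.ext ?_), rfl⟩
  exact Subgroup.mem_centralizer_iff.1 hx2 y ⟨y, hy, rfl⟩

theorem vertexZ_le_Q (δ : Cfsg.CosetVertex M₁ M₂) : Cfsg.vertexZ p δ ≤ Cfsg.vertexQ p δ := by
  haveI := finite_stab h δ
  exact vertexZ_le fun T hT => ((omZ_le T).trans (inf_le_inf hT.1
    (Subgroup.centralizer_le (vertexQ_le h hT)))).trans (centralizer_le h δ)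

theorem omZ_ne_bot {δ : Cfsg.CosetVertex M₁ M₂} {T : Subgroup X}
    (hT : IsSyl p T (MulAction.stabilizer X δ)) : omZ p T ≠ ⊥ := by
  haveI := finite_stab h δ
  obtain ⟨P, rfl⟩ := exists_sylow hT
  have hne : (P : Subgroup ↥(MulAction.stabilizer X δ)) ≠ ⊥ := P.ne_bot_of_dvd_card (dvd_card_stab h δ)
  obtain ⟨z, hz, hzp, hzc⟩ := LESylow.exists_central_orderOf P.2 hne
  intro hbot
  have h1 : (z : X) ∈ omZ p ((P : Subgroup ↥(MulAction.stabilizer X δ)).map (MulAction.stabilizer X δ).subtype) := by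
    refine Subgroup.subset_closure ⟨Subgroup.mem_inf.2 ⟨⟨z, hz, rfl⟩, Subgroup.mem_centralizer_iff.2 ?_⟩, ?_⟩
    · rintro _ ⟨y, hy, rfl⟩
      exact congrArg Subtype.val (hzc y hy)
    · rw [← hzp, ← Subgroup.orderOf_coe, pow_orderOf_eq_one]
  rw [hbot, Subgroup.mem_bot] at h1
  rw [← Subgroup.orderOf_coe, h1, orderOf_one] at hzp
  exact (Fact.out : p.Prime).one_lt.ne hzp

theorem vertexZ_smul_le (g : X) (δ : Cfsg.CosetVertex M₁ M₂) :
    (Cfsg.vertexZ p δ) ^ᶜ g ≤ Cfsg.vertexZ p (g • δ) := by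
  haveI := finite_stab h δ
  unfold Cfsg.vertexZ
  rw [stab_smul]
  exact sylowCenterClosure_conj_le _ g

theorem stab_le_normalizer_Z (δ : Cfsg.CosetVertex M₁ M₂) :
    MulAction.stabilizer X δ ≤ Subgroup.normalizer (Cfsg.vertexZ p δ : Set X) :=
  le_normalizer_of_conj fun g hg =>
    (vertexZ_smul_le h g δ).trans (by rw [MulAction.mem_stabilizer_iff.1 hg])

/-- A subgroup of an edge normal in both vertex groups is trivial. -/
theorem eq_bot_of_normalized {δ μ : Cfsg.CosetVertex M₁ M₂} (ha : (Cfsg.cosetGraph M₁ M₂).Adj δ μ)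
    {U : Subgroup X} (h1 : U ≤ MulAction.stabilizer X δ) (h2 : U ≤ MulAction.stabilizer X μ)
    (hn1 : MulAction.stabilizer X δ ≤ Subgroup.normalizer (U : Set X))
    (hn2 : MulAction.stabilizer X μ ≤ Subgroup.normalizer (U : Set X)) : U = ⊥ := by
  have hgen : MulAction.stabilizer X δ ⊔ MulAction.stabilizer X μ = ⊤ := by
    obtain ⟨x, ⟨rfl, rfl⟩ | ⟨rfl, rfl⟩⟩ := (adj_iff _ _).1 ha
    · rw [stabilizer_inl, stabilizer_inr, ← Subgroup.map_sup, h.1.1,
        Subgroup.map_top_of_surjective _ (MulAut.conj x).surjective]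
    · rw [stabilizer_inl, stabilizer_inr, sup_comm, ← Subgroup.map_sup, h.1.1,
        Subgroup.map_top_of_surjective _ (MulAut.conj x).surjective]
  have hN : ∀ g : X, U ^ᶜ g = U := fun g =>
    map_conj_eq_iff_mem_normalizer.2 ((hgen ▸ sup_le hn1 hn2 : (⊤ : Subgroup X) ≤ _) (Subgroup.mem_top g))
  refine eq_bot_of_fixes_all h.1.2.2.2 U fun v => ?_
  obtain ⟨g, rfl | rfl⟩ := exists_translate ha v
  · rw [stab_smul, ← hN g]; exact map_conj_mono g h1
  · rw [stab_smul, ← hN g]; exact map_conj_mono g h2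

/-! ### `V^{(n)}` -/

theorem le_vIter {n : ℕ} {δ μ : Cfsg.CosetVertex M₁ M₂} (hd : (Cfsg.cosetGraph M₁ M₂).dist δ μ ≤ n) :
    Cfsg.vertexZ p μ ≤ Cfsg.vertexVIter p M₁ M₂ n δ :=
  le_iSup (fun ν : {ν // (Cfsg.cosetGraph M₁ M₂).dist δ ν ≤ n} => Cfsg.vertexZ p (ν : Cfsg.CosetVertex M₁ M₂)) ⟨μ, hd⟩

theorem vIter_smul_le (n : ℕ) (g : X) (δ : Cfsg.CosetVertex M₁ M₂) :
    (Cfsg.vertexVIter p M₁ M₂ n δ) ^ᶜ g ≤ Cfsg.vertexVIter p M₁ M₂ n (g • δ) := by
  rw [Cfsg.vertexVIter, Subgroup.map_iSup]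
  refine iSup_le fun ν => (vertexZ_smul_le h g _).trans (le_vIter h ?_)
  rw [dist_smul (connected' h)]
  exact ν.2

theorem stab_le_normalizer_vIter (n : ℕ) (δ : Cfsg.CosetVertex M₁ M₂) :
    MulAction.stabilizer X δ ≤ Subgroup.normalizer (Cfsg.vertexVIter p M₁ M₂ n δ : Set X) :=
  le_normalizer_of_conj fun g hg =>
    (vIter_smul_le h n g δ).trans (by rw [MulAction.mem_stabilizer_iff.1 hg])

theorem vIter_le_vIter {δ μ : Cfsg.CosetVertex M₁ M₂} {m n : ℕ}
    (hd : m + (Cfsg.cosetGraph M₁ M₂).dist δ μ ≤ n) :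
    Cfsg.vertexVIter p M₁ M₂ m μ ≤ Cfsg.vertexVIter p M₁ M₂ n δ :=
  iSup_le fun ν => le_vIter h (((connected' h).dist_triangle (v := μ)).trans (by have := ν.2; omega))

/-- For `n ≥ 1` the closure `V^{(n)}` is generated by the closures of depth `n - 1` at the neighbours. -/
theorem vIter_succ_le {n : ℕ} (hn : 1 ≤ n) (δ : Cfsg.CosetVertex M₁ M₂) {K : Subgroup X}
    (hK : ∀ μ, (Cfsg.cosetGraph M₁ M₂).Adj δ μ → Cfsg.vertexVIter p M₁ M₂ (n - 1) μ ≤ K) :
    Cfsg.vertexVIter p M₁ M₂ n δ ≤ K := by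
  refine iSup_le fun x => ?_
  obtain ⟨ν, hν⟩ := x
  show Cfsg.vertexZ p ν ≤ K
  by_cases hδ : ν = δ
  · subst hδ
    haveI := finite_stab h ν
    refine vertexZ_le fun T hT => ?_
    obtain ⟨μ, hμ, hT'⟩ := exists_nbr_of_syl h hT
    haveI := finite_stab h μ
    exact (le_vertexZ hT').trans ((le_vIter h (by simp)).trans (hK μ hμ))
  · obtain ⟨w, hw⟩ := (connected' h).exists_walk_length_eq_dist δ ν
    have hnil : ¬ w.Nil := fun hh => hδ hh.eq.symm
    have h1 := SimpleGraph.dist_le w.tail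
    have h2 := w.length_tail_add_one hnil
    exact (le_vIter h (by omega)).trans (hK _ (w.adj_snd hnil))

end Cfsg.Agent.LEAmalgam

namespace Cfsg.Agent.LEAmalgam

open Cfsg.Agent.LEBasic Cfsg.Agent.LECosetGraph
open scoped commutatorElement Pointwise

variable {X : Type*} [Group X] {p : ℕ} [Fact p.Prime] {M₁ M₂ : Subgroup X}

local notation:90 H "^ᶜ" g:91 => Subgroup.map (MulEquiv.toMonoidHom (MulAut.conj g)) H

/-! ### critical pairs -/

theorem le_kernel_of_dist_lt {δ μ : Cfsg.CosetVertex M₁ M₂}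
    (hd : (Cfsg.cosetGraph M₁ M₂).dist δ μ < Cfsg.criticalDistance p M₁ M₂) :
    Cfsg.vertexZ p δ ≤ Cfsg.neighbourKernel μ := by
  by_contra hn
  have hmem : (Cfsg.cosetGraph M₁ M₂).dist δ μ ∈ {n : ℕ | ∃ a b : Cfsg.CosetVertex M₁ M₂,
      (Cfsg.cosetGraph M₁ M₂).dist a b = n ∧ ¬ Cfsg.vertexZ p a ≤ Cfsg.neighbourKernel b} := ⟨δ, μ, rfl, hn⟩
  exact (not_lt.2 (Nat.sInf_le hmem)) hd

theorem kernel_le_stab {δ μ : Cfsg.CosetVertex M₁ M₂} (ha : (Cfsg.cosetGraph M₁ M₂).Adj δ μ) :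
    Cfsg.neighbourKernel δ ≤ MulAction.stabilizer X μ :=
  inf_le_right.trans (iInf₂_le μ ha)

theorem critical_pos (h : Cfsg.IsCharPAmalgamPair p M₁ M₂) {α α' : Cfsg.CosetVertex M₁ M₂}
    (hc : Cfsg.IsCriticalPair p α α') : α ≠ α' := fun e =>
  hc.1 (e ▸ (vertexZ_le_Q h α).trans (vertexQ_le_kernel h α))

theorem critical_le_stab (h : Cfsg.IsCharPAmalgamPair p M₁ M₂) {α α' : Cfsg.CosetVertex M₁ M₂}
    (hc : Cfsg.IsCriticalPair p α α') :
    Cfsg.vertexZ p α' ≤ MulAction.stabilizer X α ∧ Cfsg.vertexZ p α ≤ MulAction.stabilizer X α' := by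
  have hne := critical_pos h hc
  obtain ⟨w, hw⟩ := (connected' h).exists_walk_length_eq_dist α α'
  have hnil : ¬ w.Nil := fun hh => hne hh.eq
  have h2 := w.length_tail_add_one hnil
  have h3 := w.length_dropLast_add_one hnil
  constructor
  · refine (le_kernel_of_dist_lt (μ := w.snd) ?_).trans (kernel_le_stab (w.adj_snd hnil).symm)
    rw [SimpleGraph.dist_comm, ← hc.2]
    have := SimpleGraph.dist_le w.tail
    omega
  · refine (le_kernel_of_dist_lt (μ := w.penultimate) ?_).trans (kernel_le_stab (w.adj_penultimate hnil))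
    rw [← hc.2]
    have := SimpleGraph.dist_le w.dropLast
    omega

/-! ### the standing hypothesis with strongly embedded residues -/

/-- `N_{G_δ}(T)` fixes the neighbour `μ`. -/
theorem normalizer_le_stab (h : Cfsg.IsSpeAmalgamPair p M₁ M₂) {δ μ : Cfsg.CosetVertex M₁ M₂}
    (ha : (Cfsg.cosetGraph M₁ M₂).Adj δ μ) {T : Subgroup X} (hT : IsSyl p T (Cfsg.edgeStabilizer δ μ)) :
    MulAction.stabilizer X δ ⊓ Subgroup.normalizer (T : Set X) ≤ MulAction.stabilizer X μ := by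
  haveI := h.1.2.1
  haveI : Finite ↥(M₁ ⊓ M₂) := Finite.of_injective _ (Subgroup.inclusion_injective (inf_le_left : M₁ ⊓ M₂ ≤ M₁))
  intro n hn
  obtain ⟨hn1, hn2⟩ := Subgroup.mem_inf.1 hn
  obtain ⟨x, ⟨rfl, rfl⟩ | ⟨rfl, rfl⟩⟩ := (adj_iff _ _).1 ha
  all_goals
    rw [stabilizer_inl, stabilizer_inr] at *
  · rw [edgeStabilizer_inl_inr] at hT
    have hT' := isSyl_conj hT x⁻¹
    rw [map_conj_map_conj, inv_mul_cancel, map_conj_one] at hT'
    obtain ⟨S, hS⟩ := exists_sylow hT'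
    obtain ⟨h1, h2⟩ := h.2.1 S
    rw [hS] at h1 h2
    have hm : x⁻¹ * n * x ∈ M₁ ⊓ Subgroup.normalizer ((T ^ᶜ x⁻¹ : Subgroup X) : Set X) := by
      refine Subgroup.mem_inf.2 ⟨?_, ?_⟩
      · obtain ⟨m, hm, rfl⟩ := hn1
        simpa [mul_assoc] using hm
      · refine Subgroup.le_normalizer_map _ ⟨n, hn2, ?_⟩
        simp
    refine ⟨x⁻¹ * n * x, (Subgroup.mem_inf.1 (h2 hm)).2, ?_⟩
    simp [mul_assoc]
  · rw [show Cfsg.edgeStabilizer (Sum.inr (x : X ⧸ M₂) : Cfsg.CosetVertex M₁ M₂) (Sum.inl (x : X ⧸ M₁)) =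
      Cfsg.edgeStabilizer (Sum.inl (x : X ⧸ M₁) : Cfsg.CosetVertex M₁ M₂) (Sum.inr (x : X ⧸ M₂)) from inf_comm _ _,
      edgeStabilizer_inl_inr] at hT
    have hT' := isSyl_conj hT x⁻¹
    rw [map_conj_map_conj, inv_mul_cancel, map_conj_one] at hT'
    obtain ⟨S, hS⟩ := exists_sylow hT'
    obtain ⟨h1, h2⟩ := h.2.1 S
    rw [hS] at h1 h2
    rw [h1] at h2
    have hm : x⁻¹ * n * x ∈ M₂ ⊓ Subgroup.normalizer ((T ^ᶜ x⁻¹ : Subgroup X) : Set X) := by
      refine Subgroup.mem_inf.2 ⟨?_, ?_⟩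
      · obtain ⟨m, hm, rfl⟩ := hn1
        simpa [mul_assoc] using hm
      · refine Subgroup.le_normalizer_map _ ⟨n, hn2, ?_⟩
        simp
    refine ⟨x⁻¹ * n * x, (Subgroup.mem_inf.1 (h2 hm)).1, ?_⟩
    simp [mul_assoc]

/-- `O^p(L_δ)` is transitive on the neighbours of `δ`. -/
theorem exists_residual_smul (h : Cfsg.IsSpeAmalgamPair p M₁ M₂) {δ μ μ' : Cfsg.CosetVertex M₁ M₂}
    (ha : (Cfsg.cosetGraph M₁ M₂).Adj δ μ) (ha' : (Cfsg.cosetGraph M₁ M₂).Adj δ μ') :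
    ∃ r ∈ (Cfsg.pResidual p ↥(Cfsg.pElementClosure p (MulAction.stabilizer X δ))).map
      (Cfsg.pElementClosure p (MulAction.stabilizer X δ)).subtype, r • μ = μ' := by
  haveI := finite_stab h.1 δ
  haveI : Finite ↥(Cfsg.edgeStabilizer δ μ) :=
    Finite.of_injective _ (Subgroup.inclusion_injective (inf_le_left : _ ≤ MulAction.stabilizer X δ))
  obtain ⟨T, hT⟩ := exists_isSyl (p := p) (Cfsg.edgeStabilizer δ μ)
  obtain ⟨hTδ, hTμ⟩ := edge_syl h.1 ha hT
  obtain ⟨g, hg, rfl⟩ := transitive_neighbours ha ha'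
  obtain ⟨l, hl, n, hn, hnT, rfl⟩ := exists_mul_normalizer hTδ hg
  obtain ⟨r, hr, t, ht, rfl⟩ := exists_pResidual_mul hTδ hl
  refine ⟨r, hr, ?_⟩
  have h1 : n • μ = μ := MulAction.mem_stabilizer_iff.1 (normalizer_le_stab h ha hT (Subgroup.mem_inf.2 ⟨hn, hnT⟩))
  have h2 : t • μ = μ := MulAction.mem_stabilizer_iff.1 (hTμ.1 ht)
  rw [mul_smul, mul_smul, h1, h2]

/-- If `V = V^{(n)}` lies in `Q` then `[V, O^p(L)]` is not inside `[V, Q] V'` for `V'` a closure at a neighbour. -/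
theorem not_commutator_le (h : Cfsg.IsSpeAmalgamPair p M₁ M₂) {δ : Cfsg.CosetVertex M₁ M₂} {n : ℕ} (hn : 1 ≤ n)
    (hVQ : Cfsg.vertexVIter p M₁ M₂ n δ ≤ Cfsg.vertexQ p δ) :
    ¬ ∀ μ, (Cfsg.cosetGraph M₁ M₂).Adj δ μ →
      ⁅Cfsg.vertexVIter p M₁ M₂ n δ, (Cfsg.pResidual p ↥(Cfsg.pElementClosure p (MulAction.stabilizer X δ))).map
        (Cfsg.pElementClosure p (MulAction.stabilizer X δ)).subtype⁆ ≤
      Cfsg.vertexVIter p M₁ M₂ (n - 1) μ ⊔ ⁅Cfsg.vertexVIter p M₁ M₂ n δ, Cfsg.vertexQ p δ⁆ := by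
  intro hall
  haveI := finite_stab h.1 δ
  obtain ⟨μ, ha⟩ := exists_adj δ
  set V := Cfsg.vertexVIter p M₁ M₂ n δ with hV
  set A := Cfsg.vertexVIter p M₁ M₂ (n - 1) μ with hA
  have hAV : A ≤ V := vIter_le_vIter h.1 (by rw [SimpleGraph.dist_eq_one_iff_adj.2 ha]; omega)
  haveI : Finite ↥(Cfsg.vertexQ p δ) :=
    Finite.of_injective _ (Subgroup.inclusion_injective (CharP.opIn_le _ : Cfsg.vertexQ p δ ≤ MulAction.stabilizer X δ))
  have hQA : Cfsg.vertexQ p δ ≤ Subgroup.normalizer (A : Set X) :=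
    (vertexQ_le_stab h.1 ha).trans (stab_le_normalizer_vIter h.1 _ μ)
  have hVK : V ≤ A ⊔ ⁅V, Cfsg.vertexQ p δ⁆ := by
    refine vIter_succ_le h.1 hn δ fun μ' ha' => ?_
    obtain ⟨r, hr, rfl⟩ := exists_residual_smul h ha ha'
    intro z hz
    have h1 : r⁻¹ * z * r ∈ A := by
      have := (vIter_smul_le h.1 (n - 1) r⁻¹ (r • μ)) ⟨z, hz, rfl⟩
      rw [inv_smul_smul] at this
      simpa [mul_assoc] using this
    have h2 : ⁅r⁻¹ * z * r, r⁆ ∈ A ⊔ ⁅V, Cfsg.vertexQ p δ⁆ :=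
      hall μ ha (Subgroup.commutator_mem_commutator (hAV h1) hr)
    rw [show z = (⁅r⁻¹ * z * r, r⁆)⁻¹ * (r⁻¹ * z * r) by simp [commutatorElement_def, mul_assoc]]
    exact mul_mem (inv_mem h2) (Subgroup.mem_sup_left h1)
  have hVA : V = A :=
    le_antisymm (le_of_le_sup_commutator (Q := Cfsg.vertexQ p δ) (CharP.opIn_isPGroup _) hAV hVQ hQA hVK) hAV
  have hbot : V = ⊥ := eq_bot_of_normalized h.1 ha (hVQ.trans (CharP.opIn_le _)) (hVQ.trans (vertexQ_le_stab h.1 ha))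
    (stab_le_normalizer_vIter h.1 n δ) (by rw [hVA]; exact stab_le_normalizer_vIter h.1 _ μ)
  obtain ⟨T, hT⟩ := exists_isSyl (p := p) (MulAction.stabilizer X δ)
  exact omZ_ne_bot h.1 hT (eq_bot_iff.2 (hbot ▸ (le_vertexZ hT).trans (le_vIter h.1 (by simp))))

end Cfsg.Agent.LEAmalgam
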