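/-
A weakly closed central subgroup and a coset of involutions in whose centralisers it lies in `O_{2',2}`:
the group is not simple.
-/
import Cfsg.Agent.Lib.BrauerSuzuki.ZStar
import Cfsg.Agent.Lib.LocalEven.SylowAux
import Cfsg.Prelude.Def_Transfer
import Cfsg.Prelude.Def_Local

set_option autoImplicit false
set_option linter.style.haveILetI false
set_option linter.unusedSectionVars false

namespace Cfsg.Agent.LECentralCoset

open Cfsg Cfsg.Agent.Char Cfsg.Agent.Blocks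
open Cfsg.Agent.BrauerSuzuki (orderOf_conj_eq)
open scoped ComplexConjugate MonoidAlgebra

universe u

variable {G : Type u} [Group G]

/-- The product of two class sums, evaluated by a character. -/
theorem irr_mul_sum [Fintype G] (χ : IrrCharacter G) (u v : G) :
    (χ : G → ℂ) u * (χ : G → ℂ) v *
        (((Subgroup.centralizer ({u} : Set G)).index : ℂ) * (Subgroup.centralizer ({v} : Set G)).index) =
      (χ : G → ℂ) 1 * ∑ x ∈ classFinset u, ∑ y ∈ classFinset v, (χ : G → ℂ) (x * y) := by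
  classical
  have h := omega_mul χ (isClassElt_classSum (R := ℂ) u) (isClassElt_classSum (R := ℂ) v)
  rw [omega_classSum, omega_classSum, omega] at h
  have hsum : ∑ z : G, (classSum ℂ u * classSum ℂ v).coeff z * (χ : G → ℂ) z =
      ∑ x ∈ classFinset u, ∑ y ∈ classFinset v, (χ : G → ℂ) (x * y) := by
    simp only [coeff_mul_univ, Finset.sum_mul]
    rw [Finset.sum_comm, ← Finset.sum_subset (classFinset u).subset_univ (fun a _ ha => ?_)]
    · refine Finset.sum_congr rfl fun a ha => ?_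
      rw [← Equiv.sum_comp (Equiv.mulLeft a)]
      simp only [Equiv.coe_mulLeft, inv_mul_cancel_left]
      refine (Finset.sum_subset (classFinset v).subset_univ fun y _ hy => ?_).symm.trans
        (Finset.sum_congr rfl fun y hy => ?_)
      · rw [coeff_classSum (x := y), if_neg (fun e => hy (mem_classFinset.2 e)), mul_zero, zero_mul]
      · simp only [coeff_classSum, if_pos (mem_classFinset.1 ha), if_pos (mem_classFinset.1 hy), one_mul]
    · refine Finset.sum_eq_zero fun z _ => ?_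
      rw [coeff_classSum, if_neg (fun e => ha (mem_classFinset.2 e)), zero_mul, zero_mul]
  rw [hsum, centralChar, centralChar] at h
  have h1 := irr_one_ne_zero χ
  field_simp at h
  linear_combination -h

/-! ### Fusion -/

section Fusion

variable [Finite G] {p : ℕ} [Fact p.Prime] {T : Sylow p G} {W : Subgroup G}
  (hWZ : W ≤ (T : Subgroup G) ⊓ Subgroup.centralizer ((T : Subgroup G) : Set G))
  (hwc : Cfsg.IsWeaklyClosed W (T : Subgroup G))

include hwc in
/-- A conjugate of `W` in `T` is `W`. -/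
theorem conj_mem {k : G} (h : ∀ w ∈ W, k * w * k⁻¹ ∈ (T : Subgroup G)) {w : G} (hw : w ∈ W) : k * w * k⁻¹ ∈ W := by
  have e := hwc.2 k (by
    rintro _ ⟨v, hv, rfl⟩
    exact h v hv)
  exact e ▸ ⟨w, hw, rfl⟩

include hwc in
theorem conj_mem_iff {k : G} (h : ∀ w ∈ W, k * w * k⁻¹ ∈ (T : Subgroup G)) {w : G} :
    k * w * k⁻¹ ∈ W ↔ w ∈ W := by
  refine ⟨fun hk => ?_, conj_mem hwc h⟩
  have e := hwc.2 k (by
    rintro _ ⟨v, hv, rfl⟩
    exact h v hv)
  rw [← e] at hk
  exact (Subgroup.mem_map_iff_mem (MulAut.conj k).injective).1 hk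

include hWZ hwc in
/-- Fusion in `T` is induced by elements normalising `W`. -/
theorem control {x q : G} (hx : x ∈ (T : Subgroup G)) (hy : q * x * q⁻¹ ∈ (T : Subgroup G)) :
    ∃ n : G, n * x * n⁻¹ = q * x * q⁻¹ ∧ ∀ w, n * w * n⁻¹ ∈ W ↔ w ∈ W := by
  have hWy : W ≤ Subgroup.centralizer ({q * x * q⁻¹} : Set G) := fun v hv => by
    rw [Subgroup.mem_centralizer_singleton_iff]
    exact (Subgroup.mem_centralizer_iff.1 (hWZ hv).2 _ hy).symm
  have hA : W.map (MulAut.conj q).toMonoidHom ≤ Subgroup.centralizer ({q * x * q⁻¹} : Set G) := by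
    rintro _ ⟨v, hv, rfl⟩
    rw [Subgroup.mem_centralizer_singleton_iff]
    have e : x * v = v * x := Subgroup.mem_centralizer_iff.1 (hWZ hv).2 x hx
    calc q * v * q⁻¹ * (q * x * q⁻¹) = q * (v * x) * q⁻¹ := by group
      _ = q * x * q⁻¹ * (q * v * q⁻¹) := by rw [← e]; group
  have hWp : IsPGroup p ↥W := T.isPGroup'.to_le (hWZ.trans inf_le_left)
  obtain ⟨S, hS⟩ := (hWp.of_equiv (Subgroup.subgroupOfEquivOfLe hWy).symm :
    IsPGroup p ↥(W.subgroupOf (Subgroup.centralizer ({q * x * q⁻¹} : Set G)))).exists_le_sylow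
  obtain ⟨r, hr⟩ := LESylow.exists_conj_le ((hWp.map (MulAut.conj q).toMonoidHom).of_equiv
    (Subgroup.subgroupOfEquivOfLe hA).symm) S
  obtain ⟨h, hh⟩ := LESylow.exists_conj_le (S.isPGroup'.map (Subgroup.centralizer ({q * x * q⁻¹} : Set G)).subtype) T
  have h1 : ∀ v ∈ W, h * v * h⁻¹ ∈ (T : Subgroup G) := fun v hv =>
    hh ⟨v, ⟨⟨v, hWy hv⟩, hS hv, rfl⟩, rfl⟩
  have h2 : ∀ v ∈ W, (h * (r : G) * q) * v * (h * (r : G) * q)⁻¹ ∈ (T : Subgroup G) := fun v hv => by
    have e := hh ⟨_, ⟨_, hr ⟨⟨q * v * q⁻¹, hA ⟨v, hv, rfl⟩⟩, ⟨v, hv, rfl⟩, rfl⟩, rfl⟩, rfl⟩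
    simpa [mul_assoc] using e
  refine ⟨(r : G) * q, ?_, fun v => ?_⟩
  · have e : (r : G) * (q * x * q⁻¹) = q * x * q⁻¹ * r := Subgroup.mem_centralizer_singleton_iff.1 r.2
    calc (r : G) * q * x * ((r : G) * q)⁻¹ = (r : G) * (q * x * q⁻¹) * (r : G)⁻¹ := by group
      _ = q * x * q⁻¹ := by rw [e, mul_inv_cancel_right]
  · rw [← conj_mem_iff hwc h1, ← conj_mem_iff hwc h2 (w := v)]
    simp only [mul_inv_rev, mul_assoc]

include hWZ hwc in
/-- `W` is strongly closed. -/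
theorem strongly_closed {x q : G} (hx : x ∈ W) (hy : q * x * q⁻¹ ∈ (T : Subgroup G)) : q * x * q⁻¹ ∈ W := by
  obtain ⟨n, hn, hnW⟩ := control hWZ hwc (hWZ hx).1 hy
  exact hn ▸ (hnW x).2 hx

end Fusion

/-! ### The shape of a product -/

theorem pCore_normal' (Q : Type*) [Group Q] [Finite Q] : (Cfsg.pCore 2 Q).Normal := by
  haveI : Fact (Nat.Prime 2) := ⟨Nat.prime_two⟩
  haveI := LEBasic.pCore_characteristic (p := 2) (G := Q)
  infer_instance

section Two

variable [Finite G] {T : Sylow 2 G} {W : Subgroup G}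
  (hWZ : W ≤ (T : Subgroup G) ⊓ Subgroup.centralizer ((T : Subgroup G) : Set G))
  (hwc : Cfsg.IsWeaklyClosed W (T : Subgroup G))

include hWZ hwc in
/-- An element of order two of `W` and a conjugate outside: the product is (a conjugate of a coset involution)
times a commuting element of odd order inverted by the first. -/
theorem product_shape {w x t : G} (hw : w ∈ W) (hw2 : orderOf w = 2) (hx2 : orderOf x = 2)
    (hxT : x ∈ (T : Subgroup G)) (hxW : x ∉ W) {v : G} (hv : v ∈ W) (hvt : x = v * t)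
    {a b : G} (ha : IsConj w a) (hb : IsConj x b) :
    ∃ g v' r : G, v' ∈ W ∧ orderOf (v' * t) = 2 ∧ a * b = g * (v' * t) * g⁻¹ * r ∧ Odd (orderOf r) ∧
      Commute r (g * (v' * t) * g⁻¹) ∧ Commute a (g * (v' * t) * g⁻¹) ∧ a * r * a⁻¹ = r⁻¹ := by
  haveI : Fact (Nat.Prime 2) := ⟨Nat.prime_two⟩
  obtain ⟨p, rfl⟩ := isConj_iff.1 ha
  obtain ⟨f, rfl⟩ := isConj_iff.1 hb
  obtain ⟨a, hadef⟩ : ∃ a, a = p * w * p⁻¹ := ⟨_, rfl⟩
  obtain ⟨b, hbdef⟩ : ∃ b, b = f * x * f⁻¹ := ⟨_, rfl⟩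
  rw [← hadef, ← hbdef]
  have hao : orderOf a = 2 := by rw [hadef, orderOf_conj_eq, hw2]
  have hbo : orderOf b = 2 := by rw [hbdef, orderOf_conj_eq, hx2]
  have ha2 : a * a = 1 := by rw [← pow_two, ← hao]; exact pow_orderOf_eq_one a
  have hb2 : b * b = 1 := by rw [← pow_two, ← hbo]; exact pow_orderOf_eq_one b
  have hainv : a⁻¹ = a := inv_eq_of_mul_eq_one_right ha2
  obtain ⟨X, hX⟩ : ∃ X, X = a * b := ⟨_, rfl⟩
  rw [← hX]
  have hinv : ∀ i : ℕ, a * X ^ i * a⁻¹ = (X ^ i)⁻¹ := by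
    intro i
    rw [← conj_pow, ← inv_pow]
    congr 1
    rw [hX, mul_inv_rev a b, hainv, inv_eq_of_mul_eq_one_right hb2, ← mul_assoc, ha2, one_mul]
  have hswap : ∀ i : ℕ, a * X ^ i = (X ^ i)⁻¹ * a := fun i => by
    rw [← hinv i, inv_mul_cancel_right]
  have hbX : b = a * X := by rw [hX, ← mul_assoc, ha2, one_mul]
  have hzp : ∀ {z : G} {k : ℕ}, orderOf z = 2 ^ k → IsPGroup 2 ↥(Subgroup.zpowers z) :=
    fun h => IsPGroup.of_card (by rw [Nat.card_zpowers, h])
  have heven : 2 ∣ orderOf X := by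
    by_contra hodd
    obtain ⟨j, hj⟩ : Odd (orderOf X) := Nat.not_even_iff_odd.1 fun h => hodd h.two_dvd
    have hs : X ^ (j + 1) * X ^ (j + 1) = X := by
      rw [← pow_add, show j + 1 + (j + 1) = orderOf X + 1 by omega, pow_succ, pow_orderOf_eq_one, one_mul]
    have hconj : b = (X ^ (j + 1))⁻¹ * a * X ^ (j + 1) := by
      rw [hbX]; nth_rw 1 [← hs]; rw [← mul_assoc, hswap]
    have h1 : x = (f⁻¹ * (X ^ (j + 1))⁻¹ * p) * w * (f⁻¹ * (X ^ (j + 1))⁻¹ * p)⁻¹ := by
      have h2 : x = f⁻¹ * b * f := by rw [hbdef]; group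
      rw [h2, hconj, hadef]; group
    exact hxW (h1 ▸ strongly_closed hWZ hwc hw (h1 ▸ hxT))
  obtain ⟨m, hm⟩ := heven
  have hm0 : 0 < m := by have := orderOf_pos X; omega
  set c := X ^ m with hc
  have hco : orderOf c = 2 := by
    rw [hc, orderOf_pow_of_dvd hm0.ne' (Dvd.intro_left 2 hm.symm), hm, Nat.mul_div_cancel _ hm0]
  have hc2 : c * c = 1 := by rw [← pow_two, ← hco]; exact pow_orderOf_eq_one c
  have hac : Commute a c := by
    show a * c = c * a
    rw [hc, hswap, ← hc, inv_eq_of_mul_eq_one_right hc2]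
  have hmodd : Odd m := by
    by_contra hev
    obtain ⟨i, hi⟩ := (Nat.not_odd_iff_even.1 hev).two_dvd
    have hi0 : 0 < i := by omega
    have hXi : orderOf (X ^ i) = 2 ^ 2 := by
      rw [orderOf_pow_of_dvd hi0.ne' ⟨4, by omega⟩, show orderOf X = 4 * i by omega, Nat.mul_div_cancel _ hi0]; rfl
    have hle : Subgroup.zpowers a ≤ Subgroup.normalizer (Subgroup.zpowers (X ^ i) : Set G) := by
      refine Subgroup.zpowers_le.2 (Subgroup.mem_normalizer_iff.2 fun y => ?_)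
      have key : ∀ y ∈ Subgroup.zpowers (X ^ i), a * y * a⁻¹ ∈ Subgroup.zpowers (X ^ i) := by
        rintro _ ⟨n, rfl⟩
        rw [← conj_zpow, hinv]
        exact zpow_mem (inv_mem (Subgroup.mem_zpowers _)) n
      refine ⟨key y, fun h => ?_⟩
      have := key _ h
      simpa [hainv, ← mul_assoc, ha2, mul_assoc y] using this
    obtain ⟨h, hh⟩ := LESylow.exists_conj_le
      ((hzp (hao.trans (pow_one 2).symm)).to_sup_of_normal_right' (hzp hXi) hle) T
    have h1 : h * a * h⁻¹ ∈ (T : Subgroup G) := hh ⟨a, Subgroup.mem_sup_left (Subgroup.mem_zpowers a), rfl⟩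
    have h2 : h * X ^ i * h⁻¹ ∈ (T : Subgroup G) := hh ⟨_, Subgroup.mem_sup_right (Subgroup.mem_zpowers _), rfl⟩
    have h3 : h * a * h⁻¹ ∈ W := by
      have := strongly_closed hWZ hwc hw (q := h * p) (by rw [hadef] at h1; simpa [mul_assoc] using h1)
      rw [hadef]
      simpa [mul_assoc] using this
    have h4 : h * (X ^ i * a) * h⁻¹ = h * (a * X ^ i) * h⁻¹ := by
      have := Subgroup.mem_centralizer_iff.1 (hWZ h3).2 _ h2
      calc h * (X ^ i * a) * h⁻¹ = h * X ^ i * h⁻¹ * (h * a * h⁻¹) := by group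
        _ = h * a * h⁻¹ * (h * X ^ i * h⁻¹) := this
        _ = h * (a * X ^ i) * h⁻¹ := by group
    have h5 : X ^ i = (X ^ i)⁻¹ := by
      have e : X ^ i * a = a * X ^ i := mul_left_cancel (mul_right_cancel h4)
      rw [hswap] at e
      exact mul_right_cancel e
    have h6 : orderOf (X ^ i) ∣ 2 := orderOf_dvd_of_pow_eq_one (by rw [pow_two]; nth_rw 2 [h5]; rw [mul_inv_cancel])
    rw [hXi] at h6
    norm_num at h6
  obtain ⟨j, hj⟩ := hmodd
  set s := X ^ (j + 1) with hs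
  set r := X ^ (m + 1) with hr
  have hss : s * s = r := by rw [hs, hr, ← pow_add]; congr 1; omega
  have hcr : X = c * r := by
    rw [hc, hr, ← pow_add, show m + (m + 1) = orderOf X + 1 by omega, pow_succ, pow_orderOf_eq_one, one_mul]
  have hbs : b = s⁻¹ * (a * c) * s := by
    have hcs : Commute c s⁻¹ := ((Commute.refl X).pow_pow m (j + 1)).inv_right
    calc b = a * (c * r) := by rw [← hcr, hbX]
      _ = c * (a * s) * s := by rw [← hss, ← mul_assoc a c, hac.eq]; simp only [mul_assoc]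
      _ = c * (s⁻¹ * a) * s := by rw [hs, hswap]
      _ = s⁻¹ * (c * a) * s := by rw [← mul_assoc c, hcs.eq, mul_assoc s⁻¹ c a]
      _ = s⁻¹ * (a * c) * s := by rw [hac.eq]
  have hle : Subgroup.zpowers a ≤ Subgroup.normalizer (Subgroup.zpowers (a * c) : Set G) :=
    le_trans (Subgroup.zpowers_le.2 (by
      rw [Subgroup.mem_centralizer_iff]
      rintro _ ⟨n, rfl⟩
      exact ((((Commute.refl a).mul_left hac.symm).zpow_left n)).eq)) (Subgroup.centralizer_le_normalizer _)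
  have hq : a * c = (s * f) * x * (s * f)⁻¹ := by
    have h3 : a * c = s * b * s⁻¹ := by rw [hbs]; group
    rw [h3, hbdef]; group
  obtain ⟨h, hh⟩ := LESylow.exists_conj_le ((hzp (hao.trans (pow_one 2).symm)).to_sup_of_normal_right'
    (hzp (z := a * c) (k := 1) (by rw [hq, orderOf_conj_eq, hx2, pow_one])) hle) T
  have h1 : h * a * h⁻¹ ∈ (T : Subgroup G) := hh ⟨a, Subgroup.mem_sup_left (Subgroup.mem_zpowers a), rfl⟩
  have h2 : h * (a * c) * h⁻¹ ∈ (T : Subgroup G) := hh ⟨_, Subgroup.mem_sup_right (Subgroup.mem_zpowers _), rfl⟩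
  have h3 : h * a * h⁻¹ ∈ W := by
    have := strongly_closed hWZ hwc hw (q := h * p) (by rw [hadef] at h1; simpa [mul_assoc] using h1)
    rw [hadef]
    simpa [mul_assoc] using this
  obtain ⟨n, hn, hnW⟩ := control hWZ hwc hxT (q := h * (s * f))
    (by rw [hq] at h2; simpa [mul_assoc] using h2)
  have hn' : n * x * n⁻¹ = h * (a * c) * h⁻¹ := by rw [hn, hq]; group
  have h7 : n⁻¹ * (h * a * h⁻¹) * n ∈ W := (hnW _).1 (by simpa [mul_assoc] using h3)
  have hcg : c = (h⁻¹ * n) * ((n⁻¹ * (h * a * h⁻¹) * n * v) * t) * (h⁻¹ * n)⁻¹ := by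
    have e : (h⁻¹ * n) * ((n⁻¹ * (h * a * h⁻¹) * n * v) * t) * (h⁻¹ * n)⁻¹ =
        a * h⁻¹ * (n * (v * t) * n⁻¹) * h := by group
    rw [e, ← hvt, hn']
    have e2 : a * h⁻¹ * (h * (a * c) * h⁻¹) * h = a * a * c := by group
    rw [e2, ha2, one_mul]
  refine ⟨h⁻¹ * n, n⁻¹ * (h * a * h⁻¹) * n * v, r, mul_mem h7 hv, ?_, ?_, ?_, ?_, ?_, hinv (m + 1)⟩
  · rw [← hco]; conv_rhs => rw [hcg, orderOf_conj_eq]
  · rw [← hcg, hcr]
  · rw [← Nat.not_even_iff_odd, even_iff_two_dvd]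
    intro h2'
    have h3' : orderOf r ∣ m := by
      refine orderOf_dvd_of_pow_eq_one ?_
      rw [hr, ← pow_mul, show (m + 1) * m = orderOf X * (j + 1) by rw [hm, hj]; ring, pow_mul,
        pow_orderOf_eq_one, one_pow]
    have := h2'.trans h3'
    omega
  · rw [← hcg]; exact (Commute.refl X).pow_pow (m + 1) m
  · rw [← hcg]; exact hac

include hWZ hwc in
/-- The odd part lies in the core. -/
theorem mem_core {w c a r : G} (hw : w ∈ W) (hw2 : orderOf w = 2) (hWc : W ≤ Subgroup.centralizer ({c} : Set G))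
    (hcos : W.subgroupOf (Subgroup.centralizer ({c} : Set G)) ≤ Cfsg.pPrimePCore 2 ↥(Subgroup.centralizer ({c} : Set G)))
    (ha : IsConj w a) (hac : Commute a c) (hrc : Commute r c) (hodd : Odd (orderOf r)) (hinv : a * r * a⁻¹ = r⁻¹) :
    (⟨r, Subgroup.mem_centralizer_singleton_iff.2 hrc.eq⟩ : Subgroup.centralizer ({c} : Set G)) ∈
      Cfsg.pPrimeCore 2 ↥(Subgroup.centralizer ({c} : Set G)) := by
  haveI : Fact (Nat.Prime 2) := ⟨Nat.prime_two⟩
  set C := Subgroup.centralizer ({c} : Set G) with hC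
  obtain ⟨q, hq⟩ := isConj_iff.1 ha
  let aC : ↥C := ⟨a, Subgroup.mem_centralizer_singleton_iff.2 hac.eq⟩
  let rC : ↥C := ⟨r, Subgroup.mem_centralizer_singleton_iff.2 hrc.eq⟩
  haveI hOn : (Cfsg.pPrimeCore 2 ↥C).Normal := Cfsg.Agent.FittingCores.pPrimeCore_normal 2
  have hWp : IsPGroup 2 ↥W := T.isPGroup'.to_le (hWZ.trans inf_le_left)
  obtain ⟨S, hS⟩ := (hWp.of_equiv (Subgroup.subgroupOfEquivOfLe hWc).symm :
    IsPGroup 2 ↥(W.subgroupOf C)).exists_le_sylow
  obtain ⟨h, hh⟩ := LESylow.exists_conj_le (S.isPGroup'.map C.subtype) T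
  have h1 : ∀ v ∈ W, h * v * h⁻¹ ∈ (T : Subgroup G) := fun v hv => hh ⟨v, ⟨⟨v, hWc hv⟩, hS hv, rfl⟩, rfl⟩
  have hao : orderOf aC = 2 := by
    rw [← Subgroup.orderOf_coe]
    show orderOf a = 2
    rw [← hq, orderOf_conj_eq, hw2]
  obtain ⟨k, hk⟩ := LESylow.exists_conj_le
    (IsPGroup.of_card (n := 1) (by rw [Nat.card_zpowers, hao, pow_one]) : IsPGroup 2 ↥(Subgroup.zpowers aC)) S
  have h2 : h * ((k : G) * a * (k : G)⁻¹) * h⁻¹ ∈ (T : Subgroup G) :=
    hh ⟨_, ⟨_, hk ⟨aC, Subgroup.mem_zpowers aC, rfl⟩, rfl⟩, rfl⟩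
  have h3 : (k : G) * a * (k : G)⁻¹ ∈ W := by
    rw [← conj_mem_iff hwc h1]
    rw [← hq] at h2 ⊢
    have := strongly_closed hWZ hwc hw (q := h * (k : G) * q) (by simpa [mul_assoc] using h2)
    simpa [mul_assoc] using this
  have h4 : aC ∈ Cfsg.pPrimePCore 2 ↥C := by
    have h5 : k * aC * k⁻¹ ∈ Cfsg.pPrimePCore 2 ↥C := hcos h3
    haveI : (Cfsg.pPrimePCore 2 ↥C).Normal := (pCore_normal' (↥C ⧸ Cfsg.pPrimeCore 2 ↥C)).comap _
    have := (inferInstance : (Cfsg.pPrimePCore 2 ↥C).Normal).conj_mem _ h5 k⁻¹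
    simpa [mul_assoc] using this
  have h5 : ((rC : ↥C ⧸ Cfsg.pPrimeCore 2 ↥C)) ^ 2 ∈ Cfsg.pCore 2 (↥C ⧸ Cfsg.pPrimeCore 2 ↥C) := by
    have h4' : (aC : ↥C ⧸ Cfsg.pPrimeCore 2 ↥C) ∈ Cfsg.pCore 2 (↥C ⧸ Cfsg.pPrimeCore 2 ↥C) := h4
    have e : rC * aC * rC⁻¹ * aC⁻¹ = rC ^ 2 := by
      apply Subtype.ext
      show r * a * r⁻¹ * a⁻¹ = r ^ 2
      have : a * r⁻¹ * a⁻¹ = r := by rw [← conj_inv, hinv, inv_inv]
      calc r * a * r⁻¹ * a⁻¹ = r * (a * r⁻¹ * a⁻¹) := by group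
        _ = r ^ 2 := by rw [this, pow_two]
    rw [← QuotientGroup.mk_pow, ← e, QuotientGroup.mk_mul, QuotientGroup.mk_mul, QuotientGroup.mk_mul,
      QuotientGroup.mk_inv, QuotientGroup.mk_inv]
    exact mul_mem ((pCore_normal' _).conj_mem _ h4' _) (inv_mem h4')
  obtain ⟨i, hi⟩ : ∃ i, orderOf ((rC : ↥C ⧸ Cfsg.pPrimeCore 2 ↥C) ^ 2) = 2 ^ i := by
    obtain ⟨i, hi⟩ := IsPGroup.iff_orderOf.1 LEBasic.pCore_isPGroup ⟨_, h5⟩
    exact ⟨i, by rw [← hi, ← Subgroup.orderOf_coe]⟩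
  have hdvd : orderOf ((rC : ↥C ⧸ Cfsg.pPrimeCore 2 ↥C) ^ 2) ∣ orderOf r :=
    (orderOf_pow_dvd 2).trans ((orderOf_map_dvd (QuotientGroup.mk' _) rC).trans (Subgroup.orderOf_coe rC).symm.dvd)
  have h6 : (rC : ↥C ⧸ Cfsg.pPrimeCore 2 ↥C) ^ 2 = 1 := by
    rcases Nat.eq_zero_or_pos i with rfl | hi0
    · exact orderOf_eq_one_iff.1 (by rw [hi, pow_zero])
    · exact absurd ((hi ▸ dvd_pow_self 2 hi0.ne').trans hdvd) (fun h => Nat.not_even_iff_odd.2 hodd (even_iff_two_dvd.2 h))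
  rw [← QuotientGroup.eq_one_iff]
  obtain ⟨j, hj⟩ := hodd
  have h7 : (rC : ↥C ⧸ Cfsg.pPrimeCore 2 ↥C) ^ orderOf r = 1 := by
    have e : rC ^ orderOf r = 1 := Subtype.ext (pow_orderOf_eq_one r)
    rw [← QuotientGroup.mk_pow, e, QuotientGroup.mk_one]
  rw [show orderOf r = 2 * j + 1 from hj, pow_succ, pow_mul, h6, one_pow, one_mul] at h7
  exact h7

include hWZ hwc in
/-- The conclusion. -/
theorem not_isSimple [Fintype G] {t : G} (hW : W ≠ ⊥) (ht : orderOf t = 2) (htT : t ∈ (T : Subgroup G)) (htW : t ∉ W)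
    (hcos : ∀ w ∈ W, orderOf (w * t) = 2 →
      W.subgroupOf (Subgroup.centralizer ({w * t} : Set G)) ≤
        Cfsg.pPrimePCore 2 ↥(Subgroup.centralizer ({w * t} : Set G))) : ¬ IsSimpleGroup G := by
  classical
  intro hS
  haveI : Fact (Nat.Prime 2) := ⟨Nat.prime_two⟩
  obtain ⟨w, hw, hw2⟩ := LESylow.exists_orderOf_eq (p := 2) (A := W)
    (LESylow.dvd_card_of_ne_bot (T.isPGroup'.to_le (hWZ.trans inf_le_left)) hW)
  obtain ⟨M, hM⟩ := GlaubermanMod.exists_isPModular 2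
  haveI := hM.2.1
  set F := Finset.univ.filter (fun χ : IrrCharacter G => χ ∈ principalBlock M G) with hF
  -- a value on a product
  have hval : ∀ χ ∈ F, ∀ v ∈ W, orderOf (v * t) = 2 → ∀ a b, IsConj w a → IsConj (v * t) b →
      ∀ g v' r : G, v' ∈ W → orderOf (v' * t) = 2 → Odd (orderOf r) → Commute r (g * (v' * t) * g⁻¹) →
      Commute a (g * (v' * t) * g⁻¹) → a * r * a⁻¹ = r⁻¹ →
      (χ : G → ℂ) (g * (v' * t) * g⁻¹ * r) = (χ : G → ℂ) (v' * t) := by
    intro χ hχ v _ _ a b ha _ g v' r hv' ho hodd hrc hac hinv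
    -- move everything to the centraliser of `v' * t`
    have hcf := IsCharacter.isClassFunction (irr_isCharacter χ)
    have hWc : W ≤ Subgroup.centralizer ({v' * t} : Set G) := fun u hu => by
      rw [Subgroup.mem_centralizer_singleton_iff]
      exact (Subgroup.mem_centralizer_iff.1 (hWZ hu).2 _ (mul_mem (hWZ hv').1 htT)).symm
    have e1 : Commute (g⁻¹ * r * g) (v' * t) := by
      have := hrc.map (MulAut.conj g⁻¹).toMonoidHom
      simpa [mul_assoc] using this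
    have e2 : Commute (g⁻¹ * a * g) (v' * t) := by
      have := hac.map (MulAut.conj g⁻¹).toMonoidHom
      simpa [mul_assoc] using this
    have e3 : Odd (orderOf (g⁻¹ * r * g)) := by
      have := orderOf_conj_eq g⁻¹ r
      rw [inv_inv] at this
      rwa [this]
    have e4 : g⁻¹ * a * g * (g⁻¹ * r * g) * (g⁻¹ * a * g)⁻¹ = (g⁻¹ * r * g)⁻¹ := by
      calc g⁻¹ * a * g * (g⁻¹ * r * g) * (g⁻¹ * a * g)⁻¹ = g⁻¹ * (a * r * a⁻¹) * g := by group
        _ = (g⁻¹ * r * g)⁻¹ := by rw [hinv]; group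
    have e5 : IsConj w (g⁻¹ * a * g) := ha.trans (isConj_iff.2 ⟨g⁻¹, by rw [inv_inv]⟩)
    have hcore := mem_core hWZ hwc hw hw2 hWc (hcos v' hv' ho) e5 e2 e1 e3 e4
    haveI : Fintype ↥(Subgroup.centralizer ({v' * t} : Set G)) := Fintype.ofFinite _
    haveI : (pPrimeCore 2 ↥(Subgroup.centralizer ({v' * t} : Set G))).Normal :=
      Cfsg.Agent.FittingCores.pPrimeCore_normal 2
    have e := irr_section_of_kernel hM (x := v' * t) ⟨1, by rw [ho, pow_one]⟩
      (C := Subgroup.centralizer ({v' * t} : Set G)) rfl (Finset.mem_filter.1 hχ).2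
      (pPrimeCore 2 ↥(Subgroup.centralizer ({v' * t} : Set G)))
      (fun h => Nat.prime_two.coprime_iff_not_dvd.1 (Cfsg.Agent.FittingCores.pPrimeCore_coprime 2).symm h) hcore
    rw [show g * (v' * t) * g⁻¹ * r = g * ((v' * t) * (g⁻¹ * r * g)) * g⁻¹ by group, hcf, e]
  -- the moments vanish
  have hmom : ∀ k : ℕ, ∀ v ∈ W, orderOf (v * t) = 2 →
      ∑ χ ∈ F, (χ : G → ℂ) 1 * ((χ : G → ℂ) w / (χ : G → ℂ) 1) ^ k * (χ : G → ℂ) (v * t) = 0 := by
    intro k
    induction k with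
    | zero =>
      intro v hv ho
      have h0 := blockPair_regular_singular hM (isPBlock_principalBlock M G) (u := 1) (w := v * t)
        (by simp) (by rw [ho])
      unfold blockPair at h0
      rw [← h0]
      refine Finset.sum_congr (by ext χ; simp [hF]) fun χ _ => ?_
      obtain ⟨n, hn, -⟩ := char_involution χ ho
      rw [pow_zero, mul_one, hn, map_intCast]
    | succ k ih =>
      intro v hv ho
      have hxT : v * t ∈ (T : Subgroup G) := mul_mem (hWZ hv).1 htT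
      have hxW : v * t ∉ W := fun h => htW (by simpa using mul_mem (inv_mem hv) h)
      have key : ∀ χ : IrrCharacter G, (χ : G → ℂ) 1 * ((χ : G → ℂ) w / (χ : G → ℂ) 1) ^ (k + 1) * (χ : G → ℂ) (v * t) *
          (((Subgroup.centralizer ({w} : Set G)).index : ℂ) * (Subgroup.centralizer ({v * t} : Set G)).index) =
          ∑ a ∈ classFinset w, ∑ b ∈ classFinset (v * t),
            (χ : G → ℂ) 1 * ((χ : G → ℂ) w / (χ : G → ℂ) 1) ^ k * (χ : G → ℂ) (a * b) := by
        intro χ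
        simp only [← Finset.mul_sum]
        have h1 := irr_one_ne_zero χ
        have h2 := irr_mul_sum χ w (v * t)
        calc _ = ((χ : G → ℂ) w / (χ : G → ℂ) 1) ^ k * ((χ : G → ℂ) w * (χ : G → ℂ) (v * t) *
              (((Subgroup.centralizer ({w} : Set G)).index : ℂ) * (Subgroup.centralizer ({v * t} : Set G)).index)) := by
              rw [pow_succ]; field_simp
          _ = _ := by rw [h2]; ring
      have hne : (((Subgroup.centralizer ({w} : Set G)).index : ℂ) * (Subgroup.centralizer ({v * t} : Set G)).index) ≠ 0 :=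
        mul_ne_zero (Nat.cast_ne_zero.2 Subgroup.index_ne_zero_of_finite)
          (Nat.cast_ne_zero.2 Subgroup.index_ne_zero_of_finite)
      refine (mul_eq_zero.1 ?_).resolve_right hne
      rw [Finset.sum_mul, Finset.sum_congr rfl fun χ _ => key χ, Finset.sum_comm]
      refine Finset.sum_eq_zero fun a ha => ?_
      rw [Finset.sum_comm]
      refine Finset.sum_eq_zero fun b hb => ?_
      obtain ⟨g, v', r, hv', ho', hab, hodd, hrc, hac, hinv⟩ := product_shape hWZ hwc hw hw2 ho hxT hxW hv rfl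
        (mem_classFinset.1 ha) (mem_classFinset.1 hb)
      rw [← ih v' hv' ho']
      refine Finset.sum_congr rfl fun χ hχ => ?_
      rw [hab, hval χ hχ v hv ho a b (mem_classFinset.1 ha) (mem_classFinset.1 hb) g v' r hv' ho' hodd hrc hac hinv]
  -- isolate the eigenvalue one
  let r : IrrCharacter G → ℂ := fun χ => (χ : G → ℂ) w / (χ : G → ℂ) 1
  have hpoly : ∀ R : Finset ℂ, ∀ k : ℕ,
      ∑ χ ∈ F, (χ : G → ℂ) 1 * r χ ^ k * (∏ s ∈ R, (r χ - s)) * (χ : G → ℂ) t = 0 := by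
    intro R
    induction R using Finset.induction with
    | empty =>
      intro k
      simpa using hmom k 1 (one_mem W) (by rw [one_mul, ht])
    | insert s R hs ih =>
      intro k
      have e : ∑ χ ∈ F, (χ : G → ℂ) 1 * r χ ^ k * (∏ u ∈ insert s R, (r χ - u)) * (χ : G → ℂ) t =
          ∑ χ ∈ F, (χ : G → ℂ) 1 * r χ ^ (k + 1) * (∏ u ∈ R, (r χ - u)) * (χ : G → ℂ) t -
            s * ∑ χ ∈ F, (χ : G → ℂ) 1 * r χ ^ k * (∏ u ∈ R, (r χ - u)) * (χ : G → ℂ) t := by
        rw [Finset.mul_sum, ← Finset.sum_sub_distrib]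
        exact Finset.sum_congr rfl fun χ _ => by rw [Finset.prod_insert hs]; ring
      rw [e, ih, ih, mul_zero, sub_zero]
  -- the principal character is the only one with `χ w = χ 1`
  have honly : ∀ χ : IrrCharacter G, χ ≠ Char.principal G → r χ ≠ 1 := by
    intro χ hne he
    have h1 := irr_one_ne_zero χ
    have hw1 : (χ : G → ℂ) w = (χ : G → ℂ) 1 := (div_eq_one_iff_eq h1).1 he
    obtain ⟨K, hK, hmem, -⟩ := Cfsg.Agent.Char.IsCharacter.exists_kernel (irr_isCharacter χ)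
    have htop : K = ⊤ := hK.eq_bot_or_eq_top.resolve_left fun hb => by
      have := (hmem w).2 hw1
      rw [hb, Subgroup.mem_bot] at this
      rw [this, orderOf_one] at hw2
      norm_num at hw2
    have hconst : ∀ g, (χ : G → ℂ) g = (χ : G → ℂ) 1 := fun g => (hmem g).1 (htop ▸ Subgroup.mem_top g)
    have h2 := classInner_irr_of_ne χ.2 isIrrCharacter_one (fun e => hne (Subtype.ext e))
    simp only [Cfsg.classInner, hconst, map_one, mul_one, Finset.sum_const, Finset.card_univ,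
      nsmul_eq_mul, ← Nat.card_eq_fintype_card] at h2
    rw [← mul_assoc, inv_mul_cancel₀ (Nat.cast_ne_zero.2 Nat.card_pos.ne'), one_mul] at h2
    exact h1 h2
  have h := hpoly ((F.image r).erase 1) 0
  have hp : Char.principal G ∈ F := Finset.mem_filter.2 ⟨Finset.mem_univ _, principal_mem_principalBlock⟩
  have hr1 : r (Char.principal G) = 1 := by simp [r, Char.principal]
  rw [Finset.sum_eq_single_of_mem _ hp (fun χ hχ hne => ?_)] at h
  · simp only [hr1, pow_zero, mul_one] at h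
    have : ∏ s ∈ (F.image r).erase 1, ((1 : ℂ) - s) ≠ 0 :=
      Finset.prod_ne_zero_iff.2 fun s hs => sub_ne_zero.2 (Ne.symm (Finset.ne_of_mem_erase hs))
    simp [Char.principal] at h
    exact this (by simpa using h)
  · have : ∏ s ∈ (F.image r).erase 1, (r χ - s) = 0 :=
      Finset.prod_eq_zero (Finset.mem_erase.2 ⟨honly χ hne, Finset.mem_image_of_mem r hχ⟩) (sub_self _)
    rw [this, mul_zero, zero_mul]

end Two

end Cfsg.Agent.LECentralCoset
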