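/-
A p-element-free argument: p'-elements of R K lie in the subnormal subgroup K when R = O_p(G).
-/
import Cfsg.Agent.Lib.Techniques.CharP

set_option autoImplicit false

namespace Cfsg.Agent.LESubnormal

open Cfsg.Agent.PBasic

variable {G : Type*} [Group G] [Finite G] {p : ℕ} [Fact p.Prime]

/-- For a normal `p`-subgroup `R` and a subnormal `K`, every `p'`-element of `R K` lies in `K`. -/
theorem coprime_mem {R K : Subgroup G} [R.Normal] (hR : IsPGroup p ↥R) (hK : K.IsSubnormal) :
    ∀ g ∈ R ⊔ K, (orderOf g).Coprime p → g ∈ K := by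
  induction hK with
  | top => intro g _ _; exact Subgroup.mem_top g
  | step H K' h_le _ hn ih =>
    intro g hg hgc
    have hgK : g ∈ K' := ih g (sup_le_sup_left h_le R hg) hgc
    obtain ⟨r, hr, h, hh, rfl⟩ := Subgroup.mem_sup_of_normal_left.1 hg
    have hrK : r ∈ K' := by
      have := mul_mem hgK (inv_mem (h_le hh))
      rwa [mul_inv_cancel_right] at this
    haveI := hn
    let f := QuotientGroup.mk' (H.subgroupOf K')
    have h1 : f ⟨r * h, hgK⟩ = f ⟨r, hrK⟩ := by
      show (QuotientGroup.mk ⟨r * h, hgK⟩ : ↥K' ⧸ H.subgroupOf K') = QuotientGroup.mk ⟨r, hrK⟩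
      rw [QuotientGroup.eq, Subgroup.mem_subgroupOf]
      simpa using hh
    have h2 : (orderOf (f ⟨r * h, hgK⟩)).Coprime p :=
      Nat.Coprime.coprime_dvd_left (orderOf_map_dvd f _) (by rwa [Subgroup.orderOf_mk])
    have h3 : f ⟨r * h, hgK⟩ = 1 := by
      refine eq_one_of_isPGroup_of_coprime (P := (R.subgroupOf K').map f)
        ((hR.comap_of_injective K'.subtype K'.subtype_injective).map f) ?_ h2
      rw [h1]
      exact ⟨⟨r, hrK⟩, hr, rfl⟩
    have h4 : (⟨r * h, hgK⟩ : ↥K') ∈ H.subgroupOf K' := (QuotientGroup.eq_one_iff _).1 h3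
    exact h4

end Cfsg.Agent.LESubnormal
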