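/-
Joins of subnormal subgroups: the `p`-residual and the Sylow subgroups of a join (Wielandt, Kegel).
-/
import Cfsg.Agent.Lib.LocalEven.Wielandt
import Cfsg.Agent.Lib.LocalEven.Norm
import Cfsg.Agent.Lib.LocalEven.Subnormal
import Cfsg.Agent.Lib.LocalEven.Coprime
import Cfsg.Agent.Lib.Solvable.Coprime
import Cfsg.Agent.Lib.Solvable.Gaschutz
import Cfsg.Agent.Lib.Fusion.Sylow

set_option autoImplicit false
set_option linter.unusedSectionVars false
set_option linter.style.haveILetI false

namespace Cfsg.Agent.LEJoin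

open Cfsg.Agent.LEBasic
open Cfsg.Agent.PBasic (eq_one_of_isPGroup_of_coprime)
open scoped commutatorElement

universe u

variable {G : Type u} [Group G] [Finite G] {p : ℕ} [Fact p.Prime]

/-- `O^p(A)` inside the ambient group. -/
def res (p : ℕ) (A : Subgroup G) : Subgroup G :=
  Subgroup.closure {x | x ∈ A ∧ (orderOf x).Coprime p}

theorem mem_res {A : Subgroup G} {x : G} (hx : x ∈ A) (h : (orderOf x).Coprime p) : x ∈ res p A :=
  Subgroup.subset_closure ⟨hx, h⟩

theorem res_le (A : Subgroup G) : res p A ≤ A := (Subgroup.closure_le _).2 fun _ hx => hx.1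

theorem res_mono {A B : Subgroup G} (h : A ≤ B) : res p A ≤ res p B :=
  Subgroup.closure_mono fun _ hx => ⟨h hx.1, hx.2⟩

theorem normalizer_le_normalizer_res (A : Subgroup G) :
    Subgroup.normalizer (A : Set G) ≤ Subgroup.normalizer (res p A : Set G) := by
  intro g hg
  rw [← map_conj_eq_iff_mem_normalizer]
  refine Subgroup.eq_of_le_of_card_ge ?_ (card_map_conj _ g).ge
  rw [Subgroup.map_le_iff_le_comap]
  refine (Subgroup.closure_le _).2 ?_
  rintro x ⟨hx, hxc⟩
  refine mem_res ((Subgroup.mem_normalizer_iff.1 hg x).1 hx) ?_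
  rwa [show (MulAut.conj g).toMonoidHom x = MulAut.conj g x from rfl, MulEquiv.orderOf_eq]

theorem le_normalizer_res (A : Subgroup G) : A ≤ Subgroup.normalizer (res p A : Set G) :=
  Subgroup.le_normalizer.trans (normalizer_le_normalizer_res A)

theorem res_isSubnormal {A : Subgroup G} (hA : A.IsSubnormal) : (res p A).IsSubnormal :=
  Subgroup.IsSubnormal.step _ A (res_le A) hA
    ((Subgroup.normal_subgroupOf_iff_le_normalizer (res_le A)).2 (le_normalizer_res A))

theorem map_res {H : Type*} [Group H] [Finite H] (f : G →* H) (A : Subgroup G) :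
    (res p A).map f = res p (A.map f) := by
  refine le_antisymm ?_ ?_
  · rw [Subgroup.map_le_iff_le_comap]
    exact (Subgroup.closure_le _).2 fun x hx => mem_res (Subgroup.mem_map_of_mem f hx.1)
      (Nat.Coprime.coprime_dvd_left (orderOf_map_dvd f x) hx.2)
  · refine (Subgroup.closure_le _).2 ?_
    rintro _ ⟨⟨x, hx, rfl⟩, hc⟩
    obtain ⟨a, b, hab, ⟨k, hk⟩, hb, haz, hbz⟩ := exists_p_part (p := p) x
    refine ⟨b, mem_res (Subgroup.zpowers_le.2 hx hbz) hb, ?_⟩
    obtain ⟨i, hi⟩ := Subgroup.mem_zpowers_iff.1 haz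
    have h1 : orderOf (f a) ∣ orderOf (f x) := by
      rw [← hi, map_zpow]; exact orderOf_dvd_of_mem_zpowers (Subgroup.zpow_mem_zpowers _ i)
    have h2 : orderOf (f a) = 1 := Nat.eq_one_of_dvd_coprimes (hc.pow_right k) h1
      (hk ▸ orderOf_map_dvd f a)
    rw [hab, map_mul, orderOf_eq_one_iff.1 h2, one_mul]

theorem res_top : res p (⊤ : Subgroup G) = Cfsg.pResidual p G := by
  simp [res, Cfsg.pResidual]

theorem le_res_sup {A S : Subgroup G} (hS : S ≤ A) (hSp : IsPGroup p ↥S) (hidx : ¬ p ∣ S.relIndex A) :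
    A ≤ res p A ⊔ S := by
  obtain ⟨P, hP⟩ := FusionSys.IsSyl.toSylow (show FusionSys.IsSyl p S A from ⟨hS, hSp, hidx⟩)
  have h := Subgroup.map_mono (f := A.subtype) (pResidual_sup_sylow P).ge
  rw [← MonoidHom.range_eq_map, Subgroup.range_subtype, Subgroup.map_sup, ← res_top, map_res,
    ← MonoidHom.range_eq_map, Subgroup.range_subtype, hP, Subgroup.map_subgroupOf_eq_of_le hS] at h
  exact h

/-- `[X, Y] = X` with `Y` in a subnormal subgroup puts `X` there. -/
theorem le_of_commutator_eq {X Y : Subgroup G} (hX : ⁅X, Y⁆ = X) :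
    ∀ K : Subgroup G, K.IsSubnormal → Y ≤ K → X ≤ K := by
  intro K hK
  induction hK with
  | top => exact fun _ => le_top
  | step A B hAB _ hN ih =>
    intro hYA
    rw [← hX]
    exact (Subgroup.commutator_mono (ih (hYA.trans hAB)) hYA).trans
      (Subgroup.le_normalizer_iff_commutator_le_right.1
        ((Subgroup.normal_subgroupOf_iff_le_normalizer hAB).1 hN))

theorem isSyl_inf (T : Sylow p G) {A : Subgroup G} (hA : A.IsSubnormal) :
    FusionSys.IsSyl p ((T : Subgroup G) ⊓ A) A :=
  ⟨inf_le_right, T.2.to_le inf_le_left,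
    LENorm.not_dvd_relIndex inf_le_right (T.2.to_le inf_le_left) (LENorm.maximal_inf_subnormal T hA)⟩

/-- The meets with a minimal normal subgroup generate a normal subgroup. -/
theorem normal_sup_inf {A B N : Subgroup G} [N.Normal] (hA : N ≤ Subgroup.normalizer (A : Set G))
    (hB : N ≤ Subgroup.normalizer (B : Set G)) (hgen : A ⊔ B = ⊤) : ((N ⊓ A) ⊔ (N ⊓ B)).Normal := by
  have key : ∀ A B : Subgroup G, N ≤ Subgroup.normalizer (B : Set G) →
      ∀ b ∈ B, ((N ⊓ A) ⊔ (N ⊓ B)).map (MulAut.conj b).toMonoidHom ≤ (N ⊓ A) ⊔ (N ⊓ B) := by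
    intro A B hB b hb
    rw [Subgroup.map_sup]
    refine sup_le ?_ (le_trans ?_ le_sup_right)
    · rintro _ ⟨x, hx, rfl⟩
      obtain ⟨hxN, hxA⟩ := Subgroup.mem_inf.1 hx
      show b * x * b⁻¹ ∈ _
      rw [show b * x * b⁻¹ = ⁅b, x⁆ * x by simp [commutatorElement_def, mul_assoc]]
      refine mul_mem (Subgroup.mem_sup_right (Subgroup.mem_inf.2 ⟨?_, ?_⟩)) (Subgroup.mem_sup_left hx)
      · exact Subgroup.commutator_le_right B N (Subgroup.commutator_mem_commutator hb hxN)
      · exact Subgroup.le_normalizer_iff_commutator_le_left.1 hB (Subgroup.commutator_mem_commutator hb hxN)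
    · rintro _ ⟨x, hx, rfl⟩
      obtain ⟨hxN, hxB⟩ := Subgroup.mem_inf.1 hx
      exact Subgroup.mem_inf.2 ⟨Subgroup.Normal.conj_mem inferInstance x hxN b, mul_mem (mul_mem hb hxB) (inv_mem hb)⟩
  rw [← Subgroup.normalizer_eq_top_iff, eq_top_iff, ← hgen]
  refine sup_le (fun a ha => ?_) fun b hb => ?_
  · rw [← map_conj_eq_iff_mem_normalizer]
    refine Subgroup.eq_of_le_of_card_ge ?_ (card_map_conj _ a).ge
    rw [sup_comm]
    exact key B A hA a ha
  · rw [← map_conj_eq_iff_mem_normalizer]
    exact Subgroup.eq_of_le_of_card_ge (key A B hB b hb) (card_map_conj _ b).ge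

theorem central_of_inf {A B N : Subgroup G} [N.Normal] (hA : N ≤ Subgroup.normalizer (A : Set G))
    (hB : N ≤ Subgroup.normalizer (B : Set G)) (hgen : A ⊔ B = ⊤) (h : (N ⊓ A) ⊔ (N ⊓ B) = ⊥) :
    N ≤ Subgroup.center G := by
  have key : ∀ A : Subgroup G, N ≤ Subgroup.normalizer (A : Set G) → N ⊓ A = ⊥ →
      A ≤ Subgroup.centralizer (N : Set G) := by
    intro A hA h
    refine Subgroup.commutator_eq_bot_iff_le_centralizer.1 (eq_bot_iff.2 ?_)
    rw [← h]
    exact le_inf (Subgroup.commutator_le_right A N) (Subgroup.le_normalizer_iff_commutator_le_left.1 hA)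
  have htop : (⊤ : Subgroup G) ≤ Subgroup.centralizer (N : Set G) := by
    rw [← hgen]
    exact sup_le (key A hA (eq_bot_iff.2 (h ▸ le_sup_left))) (key B hB (eq_bot_iff.2 (h ▸ le_sup_right)))
  exact fun n hn => Subgroup.mem_center_iff.2 fun g =>
    (Subgroup.mem_centralizer_iff.1 (htop (Subgroup.mem_top g)) n hn).symm

theorem residual_aux : ∀ (n : ℕ) (G : Type u) [Group G] [Finite G], Nat.card G ≤ n →
    ∀ A B : Subgroup G, A.IsSubnormal → B.IsSubnormal → A ⊔ B = ⊤ →
      Cfsg.pResidual p G ≤ res p A ⊔ res p B := by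
  intro n
  induction n with
  | zero => intro G _ _ hn; exact absurd hn (Nat.not_le.2 Nat.card_pos)
  | succ n ih =>
    intro G _ _ hn A B hA hB hgen
    set R := Cfsg.pResidual p G with hR
    set J := res p A ⊔ res p B with hJ
    have hJR : J ≤ R := by
      rw [hR, ← res_top]; exact sup_le (res_mono le_top) (res_mono le_top)
    -- modulo a nontrivial normal subgroup
    have hquot : ∀ M : Subgroup G, M.Normal → M ≠ ⊥ → R ≤ J ⊔ M := by
      intro M hM hM1
      haveI := hM
      let q := QuotientGroup.mk' M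
      have hlt : Nat.card (G ⧸ M) ≤ n := by
        have h1 := Subgroup.card_eq_card_quotient_mul_card_subgroup M
        have h2 : 1 < Nat.card ↥M := (Subgroup.one_lt_card_iff_ne_bot M).2 hM1
        have h3 : 0 < Nat.card (G ⧸ M) := Nat.card_pos
        nlinarith
      have h := ih _ hlt (A.map q) (B.map q) hA.quotient hB.quotient
        (by rw [← Subgroup.map_sup, hgen, Subgroup.map_top_of_surjective _ (QuotientGroup.mk'_surjective M)])
      intro x hx
      have h1 : q x ∈ J.map q := by
        rw [hJ, Subgroup.map_sup, map_res, map_res]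
        exact h (pResidual_map_le q ⟨x, hx, rfl⟩)
      obtain ⟨j, hj, hjx⟩ := h1
      have h2 : j⁻¹ * x ∈ M := QuotientGroup.eq.1 hjx
      simpa using mul_mem (Subgroup.mem_sup_left hj : j ∈ J ⊔ M) (Subgroup.mem_sup_right h2)
    by_contra hRJ
    have hcore : ∀ M : Subgroup G, M.Normal → M ≤ J → M = ⊥ := fun M hM hMJ => by
      by_contra hM1
      exact hRJ ((hquot M hM hM1).trans (sup_le le_rfl hMJ))
    have hne : (⊤ : Subgroup G) ≠ ⊥ := fun h => hRJ ((le_top.trans h.le).trans bot_le)
    obtain ⟨N, hN, hN1, -, hmin⟩ := LEWielandt.exists_minimal_normal (inferInstance : (⊤ : Subgroup G).Normal) hne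
    haveI := hN
    have hRN := hquot N hN hN1
    have hJsn : J.IsSubnormal := LEWielandt.sup (res_isSubnormal hA) (res_isSubnormal hB)
    by_cases hNp : IsPGroup p ↥N
    · refine hRJ ((Subgroup.closure_le _).2 fun x hx => ?_)
      refine LESubnormal.coprime_mem hNp hJsn x ?_ hx
      rw [sup_comm]
      exact hRN (mem_pResidual hx)
    have hNA := LEWielandt.minimal_normal_le_normalizer hN hmin hA
    have hNB := LEWielandt.minimal_normal_le_normalizer hN hmin hB
    haveI hrn : (res p N).Normal := Subgroup.normalizer_eq_top_iff.1 (top_le_iff.1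
      ((Subgroup.normalizer_eq_top_iff.2 hN).ge.trans (normalizer_le_normalizer_res N)))
    have hresN : res p N = N := by
      rcases hmin _ hrn (res_le N) with h | h
      · refine absurd (fun y => ?_) hNp
        obtain ⟨a, b, hab, ⟨k, hk⟩, hb, -, hbz⟩ := exists_p_part (p := p) (y : G)
        have hb1 : b ∈ res p N := mem_res (Subgroup.zpowers_le.2 y.2 hbz) hb
        rw [h, Subgroup.mem_bot] at hb1
        refine ⟨k, Subtype.ext ?_⟩
        rw [SubmonoidClass.coe_pow, hab, hb1, mul_one, ← hk, pow_orderOf_eq_one, OneMemClass.coe_one]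
      · exact h
    rcases hmin _ (normal_sup_inf hNA hNB hgen) (sup_le inf_le_left inf_le_left) with h0 | h0
    swap
    · -- `N` is the join of its meets
      set Z := res p (N ⊓ A) ⊔ res p (N ⊓ B) with hZ
      refine hN1 (hcore N hN ?_)
      have hZJ : Z ≤ J := sup_le_sup (res_mono inf_le_right) (res_mono inf_le_right)
      refine le_trans ?_ hZJ
      have hNn : ∀ A : Subgroup G, N ≤ Subgroup.normalizer (A : Set G) →
          N ≤ Subgroup.normalizer ((N ⊓ A : Subgroup G) : Set G) := fun A hA =>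
        (le_inf Subgroup.le_normalizer hA).trans Subgroup.inf_normalizer_le_normalizer_inf
      haveI : (Z.subgroupOf N).Normal :=
        (Subgroup.normal_subgroupOf_iff_le_normalizer (sup_le ((res_le _).trans inf_le_left) ((res_le _).trans inf_le_left))).2
          ((le_inf ((hNn A hNA).trans (normalizer_le_normalizer_res _)) ((hNn B hNB).trans (normalizer_le_normalizer_res _))).trans
            (Subgroup.normalizer_inf_normalizer_le_normalizer_sup _ _))
      let q := QuotientGroup.mk' (Z.subgroupOf N)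
      haveI : ∀ C : Subgroup G, ((N ⊓ C).subgroupOf N).FiniteIndex := fun C => inferInstance
      have himg : ∀ C : Subgroup G, N ≤ Subgroup.normalizer (C : Set G) → res p (N ⊓ C) ≤ Z →
          ((N ⊓ C).subgroupOf N).map q ≤ Cfsg.pCore p (↥N ⧸ Z.subgroupOf N) := by
        intro C hC hCZ
        haveI : ((N ⊓ C).subgroupOf N).Normal :=
          (Subgroup.normal_subgroupOf_iff_le_normalizer inf_le_left).2 (hNn C hC)
        refine le_pCore (Subgroup.Normal.map inferInstance q (QuotientGroup.mk'_surjective _)) ?_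
        rintro ⟨_, y, hy, rfl⟩
        obtain ⟨a, b, hab, ⟨k, hk⟩, hb, haz, hbz⟩ := exists_p_part (p := p) y
        refine ⟨k, Subtype.ext ?_⟩
        have hby : (b : G) ∈ N ⊓ C := Subgroup.zpowers_le.2 hy hbz
        have hb1 : q b = 1 := (QuotientGroup.eq_one_iff b).2 (hCZ (mem_res hby (by show (orderOf (b : G)).Coprime p; rwa [Subgroup.orderOf_coe])))
        show q y ^ p ^ k = 1
        rw [hab, map_mul, hb1, mul_one, ← map_pow, ← hk, pow_orderOf_eq_one, map_one]
      have hall : ∀ z : ↥N, q z ∈ Cfsg.pCore p (↥N ⧸ Z.subgroupOf N) := by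
        intro z
        have hz : z ∈ (N ⊓ A).subgroupOf N ⊔ (N ⊓ B).subgroupOf N := by
          rw [← Subgroup.subgroupOf_sup inf_le_left inf_le_left, h0, Subgroup.subgroupOf_self]
          exact Subgroup.mem_top z
        exact (sup_le (Subgroup.map_le_iff_le_comap.1 (himg A hNA le_sup_left))
          (Subgroup.map_le_iff_le_comap.1 (himg B hNB le_sup_right))) hz
      conv_lhs => rw [← hresN]
      refine (Subgroup.closure_le _).2 fun x hx => ?_
      have h1 := eq_one_of_isPGroup_of_coprime (P := Cfsg.pCore p (↥N ⧸ Z.subgroupOf N)) pCore_isPGroup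
        (hall ⟨x, hx.1⟩) (Nat.Coprime.coprime_dvd_left (orderOf_map_dvd q _) (by rw [Subgroup.orderOf_mk]; exact hx.2))
      exact ((QuotientGroup.eq_one_iff _).1 h1 : (⟨x, hx.1⟩ : ↥N) ∈ Z.subgroupOf N)
    -- `N` central
    have hNc := central_of_inf hNA hNB hgen h0
    have hNR : N ≤ R := by
      rw [← hresN, hR, ← res_top]; exact res_mono le_top
    have hRJN : J ⊔ N = R := le_antisymm (sup_le hJR hNR) hRN
    have hRab : ∀ x ∈ R, ∀ y ∈ R, x * y = y * x := by
      have hnz : ∀ x ∈ R, ∃ j ∈ J, ∃ z ∈ N, x = j * z := by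
        intro x hx
        rw [← hRJN] at hx
        obtain ⟨j, hj, z, hz, rfl⟩ := Subgroup.mem_sup_of_normal_right.1 hx
        exact ⟨j, hj, z, hz, rfl⟩
      have hRR : ⁅R, R⁆ ≤ J := by
        rw [Subgroup.commutator_le]
        intro x hx y hy
        obtain ⟨j, hj, z, hz, rfl⟩ := hnz x hx
        obtain ⟨j', hj', z', hz', rfl⟩ := hnz y hy
        have hc := fun g => Subgroup.mem_center_iff.1 (hNc hz) g
        have hc' := fun g => Subgroup.mem_center_iff.1 (hNc hz') g
        have : ⁅j * z, j' * z'⁆ = ⁅j, j'⁆ := by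
          simp only [commutatorElement_def, mul_inv_rev]
          calc j * z * (j' * z') * (z⁻¹ * j⁻¹) * (z'⁻¹ * j'⁻¹)
              = j * (j' * z' * z) * z⁻¹ * j⁻¹ * z'⁻¹ * j'⁻¹ := by rw [hc (j' * z')]; simp [mul_assoc]
            _ = j * j' * (j⁻¹ * z') * z'⁻¹ * j'⁻¹ := by rw [hc' j⁻¹]; simp [mul_assoc]
            _ = j * j' * j⁻¹ * j'⁻¹ := by simp [mul_assoc]
        rw [this]
        exact mul_mem (mul_mem (mul_mem hj hj') (inv_mem hj)) (inv_mem hj')
      haveI := pResidual_normal (p := p) (G := G)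
      have h1 := hcore _ (Subgroup.commutator_normal R R) hRR
      intro x hx y hy
      exact commutatorElement_eq_one_iff_mul_comm.1 (Subgroup.mem_bot.1 (h1 ▸ Subgroup.commutator_mem_commutator hx hy))
    have hRc : ∀ x ∈ R, (orderOf x).Coprime p := by
      let S : Subgroup G :=
        { carrier := {x | x ∈ R ∧ (orderOf x).Coprime p}
          one_mem' := ⟨one_mem _, by simp⟩
          mul_mem' := fun {a b} ha hb => ⟨mul_mem ha.1 hb.1,
            Nat.Coprime.coprime_dvd_left ((show Commute a b from hRab a ha.1 b hb.1).orderOf_mul_dvd_mul_orderOf)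
              (Nat.Coprime.mul_left ha.2 hb.2)⟩
          inv_mem' := fun {a} ha => ⟨inv_mem ha.1, by rw [orderOf_inv]; exact ha.2⟩ }
      have : R ≤ S := (Subgroup.closure_le _).2 fun x hx => ⟨mem_pResidual hx, hx⟩
      exact fun x hx => (this hx).2
    haveI hRn : R.Normal := pResidual_normal
    have hstep : ∀ C : Subgroup G, C.IsSubnormal → res p C ≤ J → C ≤ Subgroup.normalizer (J : Set G) := by
      intro C hC hCJ a ha
      obtain ⟨a₁, b, hab, ⟨k, hk⟩, hb, haz, hbz⟩ := exists_p_part (p := p) a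
      have hbR : b ∈ R := mem_pResidual hb
      rw [hab]
      refine mul_mem ?_ (Subgroup.centralizer_le_normalizer _ (Subgroup.mem_centralizer_iff.2 fun j hj =>
        hRab j (hJR hj) b hbR))
      set Y := Subgroup.zpowers a₁ with hY
      have hYC : Y ≤ C := Subgroup.zpowers_le.2 (Subgroup.zpowers_le.2 ha haz)
      have hcop : (Nat.card ↥Y).Coprime (Nat.card ↥R) := by
        rw [Nat.card_zpowers, hk]
        refine Nat.Coprime.pow_left k ((Fact.out : p.Prime).coprime_iff_not_dvd.2 fun hd => ?_)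
        obtain ⟨x, hx⟩ := exists_prime_orderOf_dvd_card' p hd
        have := hRc x x.2
        rw [Subgroup.orderOf_coe, hx] at this
        exact (Fact.out : p.Prime).coprime_iff_not_dvd.1 this dvd_rfl
      have hXR : ⁅R, Y⁆ ≤ R := Subgroup.commutator_le_left R Y
      have hsol : Group.IsSolvable ↥Y := by
        haveI := (LESylow.isPGroup_zpowers (p := p) hk).isNilpotent
        infer_instance
      have hX := CoprimeAct.commutator_commutator (A := Y) (K := R) Subgroup.le_normalizer_of_normal hcop (Or.inl hsol)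
      have hXJ : ⁅R, Y⁆ ≤ J := fun x hx =>
        hCJ (mem_res (le_of_commutator_eq hX C hC hYC hx) (hRc x (hXR hx)))
      rw [← map_conj_eq_iff_mem_normalizer]
      refine Subgroup.eq_of_le_of_card_ge ?_ (card_map_conj J a₁).ge
      rintro _ ⟨j, hj, rfl⟩
      show a₁ * j * a₁⁻¹ ∈ J
      have h1 := hXJ (Subgroup.commutator_mem_commutator (hJR hj) (Subgroup.mem_zpowers a₁))
      rw [show a₁ * j * a₁⁻¹ = ⁅j, a₁⁆⁻¹ * j by simp [commutatorElement_def, mul_assoc]]
      exact mul_mem (inv_mem h1) hj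
    have hJn : J.Normal := by
      rw [← Subgroup.normalizer_eq_top_iff, eq_top_iff, ← hgen]
      exact sup_le (hstep A hA le_sup_left) (hstep B hB le_sup_right)
    have hJ1 : J = ⊥ := hcore J hJn le_rfl
    -- both are `p`-groups
    obtain ⟨T⟩ : Nonempty (Sylow p G) := inferInstance
    have hle : ∀ C : Subgroup G, C.IsSubnormal → res p C ≤ J → C ≤ (T : Subgroup G) := by
      intro C hC hCJ
      have hCp : IsPGroup p ↥C := fun y => by
        obtain ⟨a, b, hab, ⟨k, hk⟩, hb, -, hbz⟩ := exists_p_part (p := p) (y : G)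
        have hb1 : b ∈ res p C := mem_res (Subgroup.zpowers_le.2 y.2 hbz) hb
        have hb2 := hCJ hb1
        rw [hJ1, Subgroup.mem_bot] at hb2
        refine ⟨k, Subtype.ext ?_⟩
        rw [SubmonoidClass.coe_pow, hab, hb2, mul_one, ← hk, pow_orderOf_eq_one, OneMemClass.coe_one]
      exact (LENorm.maximal_inf_subnormal T hC C hCp le_rfl inf_le_right).le.trans inf_le_left
    have hTtop : (T : Subgroup G) = ⊤ :=
      top_le_iff.1 (hgen ▸ sup_le (hle A hA le_sup_left) (hle B hB le_sup_right))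
    refine hRJ ((Subgroup.closure_le _).2 fun x hx => ?_)
    have hxT : x ∈ (T : Subgroup G) := hTtop ▸ Subgroup.mem_top x
    rw [eq_one_of_isPGroup_of_coprime T.2 hxT hx]
    exact one_mem _

/-- `O^p` of the join of two subnormal subgroups generating the group. -/
theorem pResidual_eq {A B : Subgroup G} (hA : A.IsSubnormal) (hB : B.IsSubnormal) (hgen : A ⊔ B = ⊤) :
    Cfsg.pResidual p G = res p A ⊔ res p B :=
  le_antisymm (residual_aux _ G le_rfl A B hA hB hgen) (by rw [← res_top]; exact sup_le (res_mono le_top) (res_mono le_top))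

theorem le_sup_of_normal {X Y T' S : Subgroup G} [X.Normal] (hXY : ∀ t ∈ T', t ∈ X ⊔ Y)
    (hT' : IsPGroup p ↥T') (hS : FusionSys.IsSyl p S Y) (hST : S ≤ T') : T' ≤ X ⊔ S := by
  let q := QuotientGroup.mk' X
  have himg := hS.map q
  have h1 : T'.map q ⊓ Y.map q = S.map q :=
    (himg.eq_of_le (le_inf (Subgroup.map_mono hST) himg.1) inf_le_right ((hT'.map q).to_le inf_le_left)).symm
  intro t ht
  have h2 : q t ∈ Y.map q := by
    have := Subgroup.mem_map_of_mem q (hXY t ht)
    rwa [Subgroup.map_sup, QuotientGroup.map_mk'_self, bot_sup_eq] at this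
  have h3 : q t ∈ S.map q := h1 ▸ Subgroup.mem_inf.2 ⟨Subgroup.mem_map_of_mem q ht, h2⟩
  obtain ⟨s, hs, hst⟩ := h3
  have h4 : s⁻¹ * t ∈ X := QuotientGroup.eq.1 hst
  simpa using mul_mem (Subgroup.mem_sup_right hs : s ∈ X ⊔ S) (Subgroup.mem_sup_left h4)

theorem sylow_aux : ∀ (n : ℕ) (G : Type u) [Group G] [Finite G], Nat.card G ≤ n →
    ∀ (T : Sylow p G) (A B : Subgroup G), A.IsSubnormal → B.IsSubnormal → A ⊔ B = ⊤ →
      (T : Subgroup G) ≤ ((T : Subgroup G) ⊓ A) ⊔ ((T : Subgroup G) ⊓ B) := by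
  intro n
  induction n with
  | zero => intro G _ _ hn; exact absurd hn (Nat.not_le.2 Nat.card_pos)
  | succ n ih =>
    intro G _ _ hn T A B hA hB hgen
    set S₀ := ((T : Subgroup G) ⊓ A) ⊔ ((T : Subgroup G) ⊓ B) with hS₀
    have hS₀T : S₀ ≤ (T : Subgroup G) := sup_le inf_le_left inf_le_left
    rcases eq_or_ne (⊤ : Subgroup G) ⊥ with h | h
    · exact (le_top.trans h.le).trans bot_le
    obtain ⟨N, hN, hN1, -, hmin⟩ := LEWielandt.exists_minimal_normal (inferInstance : (⊤ : Subgroup G).Normal) h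
    haveI := hN
    let q := QuotientGroup.mk' N
    have hq : Function.Surjective q := QuotientGroup.mk'_surjective N
    have hlt : Nat.card (G ⧸ N) ≤ n := by
      have h1 := Subgroup.card_eq_card_quotient_mul_card_subgroup N
      have h2 : 1 < Nat.card ↥N := (Subgroup.one_lt_card_iff_ne_bot N).2 hN1
      have h3 : 0 < Nat.card (G ⧸ N) := Nat.card_pos
      nlinarith
    have himg : ∀ C : Subgroup G, C.IsSubnormal →
        (T : Subgroup G).map q ⊓ C.map q = ((T : Subgroup G) ⊓ C).map q := fun C hC =>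
      (((isSyl_inf T hC).map q).eq_of_le (le_inf (Subgroup.map_mono inf_le_left) (Subgroup.map_mono inf_le_right))
        inf_le_right ((T.2.map q).to_le inf_le_left)).symm
    have hTN : (T : Subgroup G) ≤ S₀ ⊔ N := by
      have h := ih _ hlt (T.mapSurjective hq) (A.map q) (B.map q) hA.quotient hB.quotient
        (by rw [← Subgroup.map_sup, hgen, Subgroup.map_top_of_surjective _ hq])
      rw [Sylow.coe_mapSurjective, himg A hA, himg B hB, ← Subgroup.map_sup, ← hS₀] at h
      have h1 := Subgroup.map_le_iff_le_comap.1 h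
      rwa [Subgroup.comap_map_eq, QuotientGroup.ker_mk'] at h1
    suffices hTNS : (T : Subgroup G) ⊓ N ≤ S₀ by
      intro t ht
      obtain ⟨s, hs, z, hz, rfl⟩ := Subgroup.mem_sup_of_normal_right.1 (hTN ht)
      refine mul_mem hs (hTNS (Subgroup.mem_inf.2 ⟨?_, hz⟩))
      simpa using mul_mem (inv_mem (hS₀T hs)) ht
    have hNA := LEWielandt.minimal_normal_le_normalizer hN hmin hA
    have hNB := LEWielandt.minimal_normal_le_normalizer hN hmin hB
    rcases hmin _ (normal_sup_inf hNA hNB hgen) (sup_le inf_le_left inf_le_left) with h0 | h0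
    swap
    · -- inside `N`: two normal subgroups
      set X := (N ⊓ A).subgroupOf N with hX
      set Y := (N ⊓ B).subgroupOf N with hY
      haveI : X.Normal := (Subgroup.normal_subgroupOf_iff_le_normalizer inf_le_left).2
        ((le_inf Subgroup.le_normalizer hNA).trans Subgroup.inf_normalizer_le_normalizer_inf)
      have hNBsn : (N ⊓ B).IsSubnormal := (Subgroup.Normal.isSubnormal hN).inf hB
      have hS : FusionSys.IsSyl p (((T : Subgroup G) ⊓ (N ⊓ B)).subgroupOf N) Y := by
        obtain ⟨h1, h2, h3⟩ := isSyl_inf T hNBsn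
        refine ⟨fun x hx => (Subgroup.mem_inf.1 hx).2, h2.comap_of_injective N.subtype N.subtype_injective, ?_⟩
        rwa [← Subgroup.relIndex_map_map_of_injective _ _ N.subtype_injective,
          Subgroup.map_subgroupOf_eq_of_le (inf_le_right.trans inf_le_left), hY,
          Subgroup.map_subgroupOf_eq_of_le inf_le_left]
      have h4 := le_sup_of_normal (T' := (T : Subgroup G).subgroupOf N) (X := X) (Y := Y) (fun t _ => by
          rw [hX, hY, ← Subgroup.subgroupOf_sup inf_le_left inf_le_left, h0, Subgroup.subgroupOf_self]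
          exact Subgroup.mem_top t)
        (T.2.comap_of_injective N.subtype N.subtype_injective) hS (fun x hx => (Subgroup.mem_inf.1 hx).1)
      intro t ht
      obtain ⟨htT, htN⟩ := Subgroup.mem_inf.1 ht
      obtain ⟨x, hx, s, hs, hxs⟩ := Subgroup.mem_sup_of_normal_left.1 (h4 (show (⟨t, htN⟩ : ↥N) ∈ _ from htT))
      have hts : t = (x : G) * (s : G) := (congrArg Subtype.val hxs).symm
      have hsT : (s : G) ∈ (T : Subgroup G) := (Subgroup.mem_inf.1 hs).1
      have hxT : (x : G) ∈ (T : Subgroup G) := by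
        have := mul_mem htT (inv_mem hsT)
        rwa [hts, mul_inv_cancel_right] at this
      rw [hts]
      exact mul_mem (Subgroup.mem_sup_left (Subgroup.mem_inf.2 ⟨hxT, (Subgroup.mem_inf.1 hx).2⟩))
        (Subgroup.mem_sup_right (Subgroup.mem_inf.2 ⟨hsT, (Subgroup.mem_inf.1 (Subgroup.mem_inf.1 hs).2).2⟩))
    -- `N` central
    have hNc := central_of_inf hNA hNB hgen h0
    intro t ht
    obtain ⟨htT, htN⟩ := Subgroup.mem_inf.1 ht
    by_contra htS
    have hnorm : ∀ K : Subgroup G, K ≤ N → K.Normal := fun K hK => ⟨fun k hk g => by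
      rw [Subgroup.mem_center_iff.1 (hNc (hK hk)) g, mul_inv_cancel_right]; exact hk⟩
    have hsub : ∀ K : Subgroup G, K ≤ N → K = ⊥ ∨ K = N := fun K hK => hmin K (hnorm K hK) hK
    have hzN : Subgroup.zpowers t = N := by
      refine (hsub _ (Subgroup.zpowers_le.2 htN)).resolve_left fun h => htS ?_
      rw [Subgroup.zpowers_eq_bot] at h
      rw [h]; exact one_mem _
    have hNT : N ≤ (T : Subgroup G) := hzN ▸ Subgroup.zpowers_le.2 htT
    have hinf : S₀ ⊓ N = ⊥ := (hsub _ inf_le_right).resolve_right fun h =>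
      htS (inf_le_left (a := S₀) (h.ge htN))
    haveI : IsMulCommutative ↥N := Subgroup.le_centralizer_iff_isMulCommutative.1 fun x hx =>
      Subgroup.mem_centralizer_iff.2 fun y _ => Subgroup.mem_center_iff.1 (hNc hx) y
    have hcop : (Nat.card ↥N).Coprime (T : Subgroup G).index := by
      obtain ⟨k, hk⟩ := (T.2.to_le hNT).exists_card_eq
      rw [hk]
      exact Nat.Coprime.pow_left k ((Fact.out : p.Prime).coprime_iff_not_dvd.2 T.not_dvd_index)
    obtain ⟨K, hK⟩ := SolvGaschutz.existence (K := N) (U := (T : Subgroup G)) hNT hcop hS₀T hinf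
      (le_antisymm (sup_le hNT hS₀T) (by rw [sup_comm]; exact hTN))
    have hKn : K.Normal := by
      rw [← Subgroup.normalizer_eq_top_iff, eq_top_iff, ← hK.sup_eq_top]
      refine sup_le (fun z hz => ?_) Subgroup.le_normalizer
      exact Subgroup.centralizer_le_normalizer _ (Subgroup.mem_centralizer_iff.2 fun y _ => Subgroup.mem_center_iff.1 (hNc hz) y)
    haveI := hKn
    have hRK : Cfsg.pResidual p G ≤ K := by
      refine pResidual_le_of_quotient ?_
      obtain ⟨k, hk⟩ := (T.2.to_le hNT).exists_card_eq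
      refine IsPGroup.of_card (n := k) ?_
      rw [← Subgroup.index_eq_card, hK.index_eq_card, hk]
    set R := Cfsg.pResidual p G with hR
    haveI hRn : R.Normal := pResidual_normal
    have hRlt : Nat.card ↥R ≤ n := by
      have h1 : Nat.card ↥R ≤ Nat.card ↥K := Subgroup.card_le_of_le hRK
      have h2 := hK.card_mul
      have h3 : 1 < Nat.card ↥N := (Subgroup.one_lt_card_iff_ne_bot N).2 hN1
      have h4 : 0 < Nat.card ↥K := Nat.card_pos
      nlinarith
    have hRJ := pResidual_eq (p := p) hA hB hgen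
    have hA' : res p A ≤ R := le_sup_left.trans hRJ.ge
    have hB' : res p B ≤ R := le_sup_right.trans hRJ.ge
    obtain ⟨P, hP⟩ := (isSyl_inf T (Subgroup.Normal.isSubnormal hRn)).toSylow
    have h := ih ↥R hRlt P ((res p A).subgroupOf R) ((res p B).subgroupOf R) (res_isSubnormal hA).subgroupOf
      (res_isSubnormal hB).subgroupOf
      (by rw [← Subgroup.subgroupOf_sup hA' hB', ← hRJ, Subgroup.subgroupOf_self])
    have hTR : (T : Subgroup G) ⊓ R ≤ S₀ := by
      intro x hx
      have h1 := h (show (⟨x, (Subgroup.mem_inf.1 hx).2⟩ : ↥R) ∈ (P : Subgroup ↥R) by rw [hP]; exact hx)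
      have h2 : ((P : Subgroup ↥R) ⊓ (res p A).subgroupOf R) ⊔ ((P : Subgroup ↥R) ⊓ (res p B).subgroupOf R) ≤
          S₀.subgroupOf R := by
        rw [hP]
        refine sup_le (fun y hy => ?_) fun y hy => ?_
        · exact Subgroup.mem_sup_left (Subgroup.mem_inf.2 ⟨(Subgroup.mem_inf.1 (Subgroup.mem_inf.1 hy).1).1, res_le A (Subgroup.mem_inf.1 hy).2⟩)
        · exact Subgroup.mem_sup_right (Subgroup.mem_inf.2 ⟨(Subgroup.mem_inf.1 (Subgroup.mem_inf.1 hy).1).1, res_le B (Subgroup.mem_inf.1 hy).2⟩)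
      exact h2 h1
    have hS₀R : (⊤ : Subgroup G) ≤ R ⊔ S₀ := by
      rw [← hgen]
      refine sup_le ?_ ?_
      · exact (le_res_sup inf_le_right (T.2.to_le inf_le_left) (isSyl_inf T hA).2.2).trans (sup_le_sup hA' le_sup_left)
      · exact (le_res_sup inf_le_right (T.2.to_le inf_le_left) (isSyl_inf T hB).2.2).trans (sup_le_sup hB' le_sup_right)
    obtain ⟨r, hr, s, hs, hrs⟩ := Subgroup.mem_sup_of_normal_left.1 (hS₀R (Subgroup.mem_top t))
    refine htS (hrs ▸ mul_mem (hTR (Subgroup.mem_inf.2 ⟨?_, hr⟩)) hs)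
    have := mul_mem htT (inv_mem (hS₀T hs))
    rwa [← hrs, mul_inv_cancel_right] at this

/-- Sylow subgroups of a join of subnormal subgroups (Kegel). -/
theorem inf_sup_le (T : Sylow p G) {A B : Subgroup G} (hA : A.IsSubnormal) (hB : B.IsSubnormal) :
    (T : Subgroup G) ⊓ (A ⊔ B) ≤ ((T : Subgroup G) ⊓ A) ⊔ ((T : Subgroup G) ⊓ B) := by
  obtain ⟨P, hP⟩ := (isSyl_inf T (LEWielandt.sup hA hB)).toSylow
  have h := sylow_aux _ ↥(A ⊔ B) le_rfl P (A.subgroupOf (A ⊔ B)) (B.subgroupOf (A ⊔ B)) hA.subgroupOf hB.subgroupOf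
    (by rw [← Subgroup.subgroupOf_sup le_sup_left le_sup_right, Subgroup.subgroupOf_self])
  rw [hP] at h
  intro x hx
  have h1 := Subgroup.mem_map_of_mem (A ⊔ B).subtype (h (show (⟨x, (Subgroup.mem_inf.1 hx).2⟩ : ↥(A ⊔ B)) ∈ _ from hx))
  rw [Subgroup.map_sup] at h1
  refine SetLike.le_def.1 (sup_le_sup ?_ ?_) h1 <;>
    rintro _ ⟨y, hy, rfl⟩ <;>
    exact Subgroup.mem_inf.2 ⟨(Subgroup.mem_inf.1 (Subgroup.mem_inf.1 hy).1).1, (Subgroup.mem_inf.1 hy).2⟩

end Cfsg.Agent.LEJoin
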