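/-
`p`-minimality and `p`-irreducibility from a conjugacy family of subgroups generating `O^p(H)`.
-/
import Cfsg.Agent.Lib.LocalEven.PIrred
import Cfsg.Agent.Lib.LocalEven.JoinSylow
import Cfsg.Agent.Lib.LocalEven.Amalgam
import Cfsg.Agent.Lib.Techniques.CharP
import Cfsg.Agent.Lib.Solvable.Basic
import Cfsg.Agent.Lib.LocalEven.PReduced

set_option autoImplicit false
set_option linter.unusedSectionVars false
set_option linter.style.haveILetI false

namespace Cfsg.Agent.LEFamily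

open Cfsg.Agent.LEBasic
open scoped commutatorElement

variable {H : Type*} [Group H] [Finite H] {p : ℕ} [Fact p.Prime]

theorem sSup_normal {𝒦 : Set (Subgroup H)} (hinv : ∀ h : H, ∀ E ∈ 𝒦, E.map (MulAut.conj h).toMonoidHom ∈ 𝒦) :
    (sSup 𝒦).Normal := by
  refine ⟨fun x hx g => ?_⟩
  have h1 : sSup 𝒦 ≤ (sSup 𝒦).comap (MulAut.conj g).toMonoidHom :=
    sSup_le fun E hE => Subgroup.map_le_iff_le_comap.1 (le_sSup (hinv g E hE))
  exact h1 hx

theorem isSubnormal_of_le_normalizer {F R : Subgroup H} [hR : R.Normal] (hFR : F ≤ R)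
    (hn : R ≤ Subgroup.normalizer (F : Set H)) : F.IsSubnormal :=
  Subgroup.IsSubnormal.step F R hFR hR.isSubnormal ((Subgroup.normal_subgroupOf_iff_le_normalizer hFR).2 hn)

/-- A Sylow subgroup of `H` meets `E` in a Sylow subgroup when `E O_p(H)` is subnormal. -/
theorem exists_sylow_inf (T : Sylow p H) {E : Subgroup H} (hF : (E ⊔ Cfsg.pCore p H).IsSubnormal) :
    ∃ Q : Sylow p ↥E, (Q : Subgroup ↥E) = (T : Subgroup H).subgroupOf E := by
  obtain ⟨Q, hQ⟩ := (T.2.comap_of_injective E.subtype E.subtype_injective).exists_le_sylow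
  refine ⟨Q, le_antisymm (fun x hx => ?_) hQ⟩
  haveI := Cfsg.pCore_normal p H
  set O := Cfsg.pCore p H with hO
  have hp : IsPGroup p ↥((Q : Subgroup ↥E).map E.subtype ⊔ O) :=
    IsPGroup.to_sup_of_normal_right (Q.2.map E.subtype) pCore_isPGroup
  have hle : (T : Subgroup H) ⊓ (E ⊔ O) ≤ (Q : Subgroup ↥E).map E.subtype ⊔ O := by
    intro y hy
    obtain ⟨hyT, hyF⟩ := Subgroup.mem_inf.1 hy
    obtain ⟨e, he, o, ho, rfl⟩ := Subgroup.mem_sup_of_normal_right.1 hyF
    have heT : e ∈ (T : Subgroup H) := by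
      simpa using mul_mem hyT (inv_mem (pCore_le_sylow T ho))
    exact mul_mem (Subgroup.mem_sup_left ⟨⟨e, he⟩, hQ heT, rfl⟩) (Subgroup.mem_sup_right ho)
  have h := LENorm.maximal_inf_subnormal T hF _ hp (sup_le_sup_right (Subgroup.map_subtype_le _) _) hle
  exact (h.le (Subgroup.mem_sup_left ⟨x, hx, rfl⟩) : (x : H) ∈ (T : Subgroup H) ⊓ (E ⊔ O)).1

/-! ### `p`-minimality -/

theorem isMinimalOver_of_family {𝒦 : Set (Subgroup H)} (hne : 𝒦.Nonempty)
    (hinv : ∀ h : H, ∀ E ∈ 𝒦, E.map (MulAut.conj h).toMonoidHom ∈ 𝒦)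
    (htr : ∀ E ∈ 𝒦, ∀ K ∈ 𝒦, ∃ h : H, K = E.map (MulAut.conj h).toMonoidHom)
    (hres : Cfsg.pResidual p H ≤ sSup 𝒦)
    (hnorm : ∀ E ∈ 𝒦, sSup 𝒦 ⊔ Cfsg.pCore p H ≤ Subgroup.normalizer ((E ⊔ Cfsg.pCore p H : Subgroup H) : Set H))
    (hmin : ∀ E ∈ 𝒦, ∀ T : Sylow p ↥E, Cfsg.IsMinimalOver (T : Subgroup ↥E)) (T : Sylow p H) :
    Cfsg.IsMinimalOver (T : Subgroup H) := by
  haveI := Cfsg.pCore_normal p H
  haveI := sSup_normal hinv
  set O := Cfsg.pCore p H with hO
  set R := sSup 𝒦 ⊔ O with hR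
  have hRT : R ⊔ (T : Subgroup H) = ⊤ :=
    top_le_iff.1 ((pResidual_sup_sylow T).ge.trans (sup_le_sup_right (hres.trans le_sup_left) _))
  have hFR : ∀ E ∈ 𝒦, E ⊔ O ≤ R := fun E hE => sup_le_sup_right (le_sSup hE) O
  have hsn : ∀ E ∈ 𝒦, (E ⊔ O).IsSubnormal := fun E hE =>
    isSubnormal_of_le_normalizer (hFR E hE) (hnorm E hE)
  -- the normal closure of `T`
  refine ⟨?_, ?_⟩
  · have h1 : R ≤ Subgroup.normalClosure ((T : Subgroup H) : Set H) := by
      refine sup_le (sSup_le fun E hE => ?_) ((pCore_le_sylow T).trans Subgroup.le_normalClosure)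
      obtain ⟨Q, hQ⟩ := exists_sylow_inf T (hsn E hE)
      have h2 := (hmin E hE Q).1
      haveI : ((Subgroup.normalClosure ((T : Subgroup H) : Set H)).subgroupOf E).Normal :=
        (Subgroup.normalClosure_normal).comap E.subtype
      have h3 : Subgroup.normalClosure ((Q : Subgroup ↥E) : Set ↥E) ≤
          (Subgroup.normalClosure ((T : Subgroup H) : Set H)).subgroupOf E :=
        Subgroup.normalClosure_le_normal (fun x hx => Subgroup.le_normalClosure
          (show (x : H) ∈ (T : Subgroup H) by rw [hQ] at hx; exact hx))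
      rw [h2] at h3
      exact fun x hx => h3 (Subgroup.mem_top ⟨x, hx⟩)
    exact top_le_iff.1 (hRT.ge.trans (sup_le h1 Subgroup.le_normalClosure))
  obtain ⟨E, hE⟩ := hne
  obtain ⟨Q, hQ⟩ := exists_sylow_inf T (hsn E hE)
  obtain ⟨hQnc, M, ⟨hM, hQM⟩, -⟩ := hmin E hE Q
  set F := E ⊔ O with hF
  set MF := M.map E.subtype ⊔ O with hMF
  have hQM' : ∀ x ∈ E, x ∈ (T : Subgroup H) → x ∈ M.map E.subtype := fun x hx hxT =>
    ⟨⟨x, hx⟩, hQM (by rw [hQ]; exact hxT), rfl⟩
  have hMFle : MF ≤ F := sup_le_sup_right (Subgroup.map_subtype_le _) _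
  have hMFinf : ∀ x ∈ E, x ∈ MF → x ∈ M.map E.subtype := by
    intro x hx hxM
    obtain ⟨m, hm, o, ho, rfl⟩ := Subgroup.mem_sup_of_normal_right.1 hxM
    have hoE : o ∈ E := by
      have := mul_mem (inv_mem (Subgroup.map_subtype_le _ hm)) hx
      rwa [inv_mul_cancel_left] at this
    exact mul_mem hm (hQM' o hoE (pCore_le_sylow T ho))
  have hMFne : MF ≠ F := by
    intro h
    refine hM.1 (top_le_iff.1 fun x _ => ?_)
    obtain ⟨y, hy, hyx⟩ := hMFinf x x.2 (h.ge (Subgroup.mem_sup_left x.2))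
    rwa [E.subtype_injective hyx] at hy
  have hTF : (T : Subgroup H) ⊓ F ≤ MF := by
    intro x hx
    obtain ⟨hxT, hxF⟩ := Subgroup.mem_inf.1 hx
    obtain ⟨e, he, o, ho, rfl⟩ := Subgroup.mem_sup_of_normal_right.1 hxF
    exact mul_mem (Subgroup.mem_sup_left (hQM' e he (by simpa using mul_mem hxT (inv_mem (pCore_le_sylow T ho)))))
      (Subgroup.mem_sup_right ho)
  -- proper subgroups of `F` over `T ⊓ F`
  have hsub : ∀ Y : Subgroup H, (T : Subgroup H) ⊓ F ≤ Y → Y ≤ F → Y ≠ F → Y ≤ MF := by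
    intro Y hTY hYF hne
    have hOY : O ≤ Y := (le_inf (pCore_le_sylow T) le_sup_right).trans hTY
    have hQY : (Q : Subgroup ↥E) ≤ Y.subgroupOf E := fun x hx =>
      hTY (Subgroup.mem_inf.2 ⟨(hQ ▸ hx : x ∈ (T : Subgroup H).subgroupOf E), Subgroup.mem_sup_left x.2⟩)
    have hne' : Y.subgroupOf E ≠ ⊤ := fun h =>
      hne (le_antisymm hYF (sup_le (Subgroup.subgroupOf_eq_top.1 h) hOY))
    have h1 := LEPIrred.le_uniqueMax (hmin E hE Q) hM hQM hne' hQY
    intro y hy
    obtain ⟨e, he, o, ho, rfl⟩ := Subgroup.mem_sup_of_normal_right.1 (hYF hy)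
    have heY : e ∈ Y := by simpa using mul_mem hy (inv_mem (hOY ho))
    exact mul_mem (Subgroup.mem_sup_left ⟨⟨e, he⟩, h1 heY, rfl⟩) (Subgroup.mem_sup_right ho)
  have hnotnorm : ¬ R ≤ Subgroup.normalizer (MF : Set H) := by
    intro h
    have hMn : M.Normal := ⟨fun m hm g => by
      have h2 : (g : H) * m * (g : H)⁻¹ ∈ MF :=
        (Subgroup.mem_normalizer_iff.1 (h (hFR E hE (Subgroup.mem_sup_left g.2))) m).1
          (Subgroup.mem_sup_left ⟨m, hm, rfl⟩)
      obtain ⟨y, hy, hyx⟩ := hMFinf _ (g * m * g⁻¹).2 h2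
      rwa [show y = g * m * g⁻¹ from E.subtype_injective hyx] at hy⟩
    exact hM.1 (LEPIrred.not_normal_le (hmin E hE Q) hM hMn hQM)
  -- proper overgroups of `T` normalize `MF` inside `R`
  have hX : ∀ X : Subgroup H, (T : Subgroup H) ≤ X → X ≠ ⊤ → X ⊓ R ≤ Subgroup.normalizer (MF : Set H) := by
    intro X hTX hXne
    have hFX : ¬ F ≤ X := by
      intro h
      refine hXne (top_le_iff.1 (hRT.ge.trans (sup_le (sup_le (sSup_le fun K hK => ?_)
        ((pCore_le_sylow T).trans hTX)) hTX)))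
      obtain ⟨g, rfl⟩ := htr E hE K hK
      obtain ⟨r', hr', t', ht', e⟩ := Subgroup.mem_sup_of_normal_left.1 (hRT.ge (Subgroup.mem_top g⁻¹))
      obtain ⟨r, hr, t, ht, rfl⟩ : ∃ r ∈ R, ∃ t ∈ (T : Subgroup H), g = t * r :=
        ⟨r'⁻¹, inv_mem hr', t'⁻¹, inv_mem ht', by rw [← inv_inv g, ← e, mul_inv_rev]⟩
      refine (map_conj_mono (t * r) (le_sup_left : E ≤ F)).trans ?_
      rw [← map_conj_map_conj, map_conj_eq_iff_mem_normalizer.2 (hnorm E hE hr),
        map_conj_le_iff]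
      refine h.trans (le_of_eq ?_)
      exact (map_conj_eq_iff_mem_normalizer.2 (Subgroup.le_normalizer (inv_mem (hTX ht)))).symm
    intro g hg
    obtain ⟨hgX, hgR⟩ := Subgroup.mem_inf.1 hg
    have hgF := hnorm E hE hgR
    have hXF : X ⊓ F ≤ MF := hsub _ (le_inf (inf_le_left.trans hTX) inf_le_right) inf_le_right
      (fun h => hFX (h ▸ inf_le_left))
    have hS : LEAmalgam.IsSyl p ((T : Subgroup H) ⊓ F) F :=
      ⟨inf_le_right, T.2.to_le inf_le_left, (LEJoin.isSyl_inf T (hsn E hE)).card_eq⟩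
    have hS' : LEAmalgam.IsSyl p ((T : Subgroup H) ⊓ F) (X ⊓ F) :=
      LEAmalgam.isSyl_of_le hS (le_inf (inf_le_left.trans hTX) inf_le_right) inf_le_right
    have hgXF : (X ⊓ F).map (MulAut.conj g).toMonoidHom = X ⊓ F :=
      map_conj_eq_iff_mem_normalizer.2 (Subgroup.inf_normalizer_le_normalizer_inf
        (Subgroup.mem_inf.2 ⟨Subgroup.le_normalizer hgX, hgF⟩))
    have hS'' := LEAmalgam.isSyl_conj hS' g
    rw [hgXF] at hS''
    obtain ⟨l, hl, hlS⟩ := LEAmalgam.exists_conj hS' hS''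
    have hlF := (Subgroup.mem_inf.1 hl).2
    have hnS : ((T : Subgroup H) ⊓ F).map (MulAut.conj (l⁻¹ * g)).toMonoidHom = (T : Subgroup H) ⊓ F := by
      rw [← map_conj_map_conj, ← hlS, map_conj_map_conj, inv_mul_cancel, map_conj_one]
    have hnF : F.map (MulAut.conj (l⁻¹ * g)).toMonoidHom = F :=
      map_conj_eq_iff_mem_normalizer.2 (mul_mem (inv_mem (Subgroup.le_normalizer hlF)) hgF)
    have hnM : MF.map (MulAut.conj (l⁻¹ * g)).toMonoidHom = MF := by
      refine Subgroup.eq_of_le_of_card_ge (hsub _ (hnS.ge.trans (map_conj_mono _ hTF))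
        ((map_conj_mono _ hMFle).trans hnF.le) (fun h => hMFne ?_)) (card_map_conj _ _).ge
      exact Subgroup.map_injective (MulAut.conj (l⁻¹ * g)).injective (h.trans hnF.symm)
    have : g = l * (l⁻¹ * g) := (mul_inv_cancel_left l g).symm
    rw [this]
    exact mul_mem (Subgroup.le_normalizer (hXF hl)) (map_conj_eq_iff_mem_normalizer.1 hnM)
  -- the unique maximal subgroup
  have hTne : (T : Subgroup H) ≠ ⊤ := by
    intro h
    refine hM.1 (top_le_iff.1 ((le_of_eq ?_).trans hQM))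
    rw [hQ, h, Subgroup.top_subgroupOf]
  set L := ⨆ X : {X : Subgroup H // (T : Subgroup H) ≤ X ∧ X ≠ ⊤}, (X : Subgroup H) ⊓ R with hL
  have hLN : L ≤ Subgroup.normalizer (MF : Set H) := iSup_le fun X => hX X X.2.1 X.2.2
  have hTL : (T : Subgroup H) ≤ Subgroup.normalizer (L : Set H) := LEAmalgam.le_normalizer_of_conj fun t ht => by
    rw [hL, Subgroup.map_iSup]
    refine iSup_mono fun X => (map_conj_eq_iff_mem_normalizer.2 (Subgroup.inf_normalizer_le_normalizer_inf
      (Subgroup.mem_inf.2 ⟨Subgroup.le_normalizer (X.2.1 ht), ?_⟩))).le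
    rw [Subgroup.normalizer_eq_top_iff.2 (inferInstance : R.Normal)]
    exact Subgroup.mem_top t
  have htop : L ⊔ (T : Subgroup H) ≠ ⊤ := by
    intro h
    refine hnotnorm fun x hx => hLN ?_
    obtain ⟨l, hl, t, ht, rfl⟩ := (SolvBasic.mem_sup_iff_of_le_normalizer hTL).1
      (show x ∈ L ⊔ (T : Subgroup H) by rw [h]; exact Subgroup.mem_top x)
    have hlR : l ∈ R := (iSup_le fun X => inf_le_right : L ≤ R) hl
    have htR : t ∈ R := by simpa using mul_mem (inv_mem hlR) hx
    exact mul_mem hl (le_iSup (fun X : {X : Subgroup H // (T : Subgroup H) ≤ X ∧ X ≠ ⊤} => (X : Subgroup H) ⊓ R)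
      ⟨(T : Subgroup H), le_rfl, hTne⟩ (Subgroup.mem_inf.2 ⟨ht, htR⟩))
  have hall : ∀ X : Subgroup H, (T : Subgroup H) ≤ X → X ≠ ⊤ → X ≤ L ⊔ (T : Subgroup H) := by
    intro X hTX hXne x hx
    obtain ⟨r, hr, t, ht, rfl⟩ := Subgroup.mem_sup_of_normal_left.1 (hRT.ge (Subgroup.mem_top x))
    refine mul_mem (Subgroup.mem_sup_left (le_iSup (fun X : {X : Subgroup H // (T : Subgroup H) ≤ X ∧ X ≠ ⊤} =>
      (X : Subgroup H) ⊓ R) ⟨X, hTX, hXne⟩ (Subgroup.mem_inf.2 ⟨?_, hr⟩))) (Subgroup.mem_sup_right ht)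
    simpa using mul_mem hx (inv_mem (hTX ht))
  obtain ⟨M₀, hM₀, hLM₀⟩ := (eq_top_or_exists_le_coatom (L ⊔ (T : Subgroup H))).resolve_left htop
  refine ⟨M₀, ⟨hM₀, le_sup_right.trans hLM₀⟩, fun M' ⟨hM', hTM'⟩ => ?_⟩
  exact ((hM'.le_iff_eq hM₀.1).1 ((hall M' hTM' hM'.1).trans hLM₀)).symm

/-! ### `p`-irreducibility -/

variable {X : Type*} [Group X] [Finite X]

/-- An element acting centrally on the `p`-elements of a subnormal subgroup generated by them centralizes it. -/
theorem centralizes {A : Subgroup X} (hA : A.IsSubnormal) (hX : Cfsg.pCore p X = ⊥)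
    (hgen : A ≤ Subgroup.closure {y | y ∈ A ∧ ∃ k : ℕ, y ^ p ^ k = 1}) {n : X}
    (h : ∀ y ∈ A, (∃ k : ℕ, y ^ p ^ k = 1) → n * y * n⁻¹ * y⁻¹ ∈ A ⊓ Subgroup.centralizer (A : Set X)) :
    n ∈ Subgroup.centralizer (A : Set X) := by
  have key : ∀ y ∈ A, (∃ k : ℕ, y ^ p ^ k = 1) → y * n = n * y := by
    intro y hy ⟨k, hk⟩
    obtain ⟨hcA, hcC⟩ := Subgroup.mem_inf.1 (h y hy ⟨k, hk⟩)
    set c := n * y * n⁻¹ * y⁻¹ with hc
    have hcy : Commute c y := (Subgroup.mem_centralizer_iff.1 hcC y hy).symm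
    have h1 : c ^ p ^ k = 1 := by
      have h2 : (c * y) ^ p ^ k = 1 := by
        rw [hc, inv_mul_cancel_right, conj_pow, hk, mul_one, mul_inv_cancel]
      rwa [hcy.mul_pow, hk, mul_one] at h2
    have hzA : Subgroup.zpowers c ≤ A := Subgroup.zpowers_le.2 hcA
    have hnz : A ≤ Subgroup.normalizer ((Subgroup.zpowers c : Subgroup X) : Set X) := by
      intro a ha
      refine LESylow.centralizer_le_normalizer_zpowers c (Subgroup.mem_centralizer_iff.2 fun z hz => ?_)
      obtain rfl : z = c := hz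
      exact (Subgroup.mem_centralizer_iff.1 hcC a ha).symm
    have hsn : (Subgroup.zpowers c).IsSubnormal :=
      Subgroup.IsSubnormal.step _ A hzA hA ((Subgroup.normal_subgroupOf_iff_le_normalizer hzA).2 hnz)
    obtain ⟨j, -, hj⟩ := (Nat.dvd_prime_pow (Fact.out : p.Prime)).1 (orderOf_dvd_of_pow_eq_one h1)
    have h2 := CharP.isPGroup_le_pCore_of_isSubnormal hsn (LESylow.isPGroup_zpowers hj)
    rw [hX, le_bot_iff, Subgroup.zpowers_eq_bot, hc, mul_inv_eq_one, mul_inv_eq_iff_eq_mul] at h2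
    exact h2.symm
  have h3 : A ≤ Subgroup.centralizer {n} := hgen.trans ((Subgroup.closure_le _).2 fun y ⟨hy, hk⟩ =>
    Subgroup.mem_centralizer_iff.2 fun z hz => by obtain rfl : z = n := hz; exact (key y hy hk).symm)
  exact Subgroup.mem_centralizer_iff.2 fun a ha =>
    (Subgroup.mem_centralizer_iff.1 (h3 ha) n rfl).symm

/-- The image in `H/O_p(H)` of a family member. -/
theorem image_prop {E : Subgroup H} (hsn : (E ⊔ Cfsg.pCore p H).IsSubnormal)
    (hirr : Cfsg.IsStronglyPIrreducible p ↥E) (π : H →* X) (hπ : ∀ x, π x = 1 ↔ x ∈ Cfsg.pCore p H) :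
    (E.map π ≤ Subgroup.closure {y | y ∈ E.map π ∧ ∃ k : ℕ, y ^ p ^ k = 1}) ∧
      ∀ N : Subgroup X, E.map π ≤ Subgroup.normalizer (N : Set X) →
        (∀ y ∈ E.map π, ∀ n ∈ N ⊓ E.map π, n * y = y * n) ∨
          (∀ g ∈ E, (orderOf g).Coprime p → π g ∈ N) := by
  haveI := Cfsg.pCore_normal p H
  set O := Cfsg.pCore p H with hO
  have hOE : ∀ x ∈ Cfsg.pCore p ↥E, π x = 1 := by
    have hp : IsPGroup p ↥((Cfsg.pCore p ↥E).map E.subtype ⊔ O) :=
      IsPGroup.to_sup_of_normal_right (pCoreMap_isPGroup E) pCore_isPGroup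
    have hle : (Cfsg.pCore p ↥E).map E.subtype ⊔ O ≤ E ⊔ O := sup_le_sup_right (Subgroup.map_subtype_le _) _
    have hn' : E ⊔ O ≤ Subgroup.normalizer (((Cfsg.pCore p ↥E).map E.subtype ⊔ O : Subgroup H) : Set H) := by
      refine sup_le (LEAmalgam.le_normalizer_of_conj fun g hg => ?_) (le_sup_right.trans Subgroup.le_normalizer)
      rw [Subgroup.map_sup, map_conj_eq_iff_mem_normalizer.2 (normalizer_le_normalizer_pCoreMap E
        (Subgroup.le_normalizer hg)), map_conj_eq_iff_mem_normalizer.2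
        (show g ∈ Subgroup.normalizer (O : Set H) by
          rw [Subgroup.normalizer_eq_top_iff.2 (inferInstance : O.Normal)]; exact Subgroup.mem_top g)]
    have h1 := CharP.isPGroup_le_pCore_of_isSubnormal
      (Subgroup.IsSubnormal.step _ _ hle hsn ((Subgroup.normal_subgroupOf_iff_le_normalizer hle).2 hn')) hp
    exact fun x hx => (hπ x).2 (h1 (Subgroup.mem_sup_left ⟨x, hx, rfl⟩))
  set f := π.comp E.subtype with hf
  have hran : ∀ {y}, y ∈ E.map π → ∃ x : ↥E, f x = y := fun ⟨x, hx, e⟩ => ⟨⟨x, hx⟩, e⟩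
  have hdich : ∀ N : Subgroup X, E.map π ≤ Subgroup.normalizer (N : Set X) →
      (∀ y ∈ E.map π, ∀ n ∈ N ⊓ E.map π, n * y = y * n) ∨ (∀ g ∈ E, (orderOf g).Coprime p → π g ∈ N) := by
    intro N hN
    have hnor : (N.comap f).Normal := ⟨fun m hm g => by
      show f (g * m * g⁻¹) ∈ N
      rw [map_mul, map_mul, map_inv]
      exact (Subgroup.mem_normalizer_iff.1 (hN ⟨g, g.2, rfl⟩) _).1 hm⟩
    by_cases hc : ⁅N.comap f, (⊤ : Subgroup ↥E)⁆ ≤ Cfsg.pCore p ↥E
    · refine Or.inl fun y hy n hn => ?_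
      obtain ⟨b, rfl⟩ := hran hy
      obtain ⟨hnN, hnE⟩ := Subgroup.mem_inf.1 hn
      obtain ⟨a, rfl⟩ := hran hnE
      have h1 : f ⁅a, b⁆ = 1 := hOE _ (hc (Subgroup.commutator_mem_commutator hnN (Subgroup.mem_top b)))
      rw [map_commutatorElement] at h1
      exact commutatorElement_eq_one_iff_mul_comm.1 h1
    · exact Or.inr fun g hg hgc => hirr.2 _ hnor hc
        (mem_pResidual (show (orderOf (⟨g, hg⟩ : ↥E)).Coprime p by rwa [Subgroup.orderOf_mk]))
  refine ⟨?_, hdich⟩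
  set Z := Subgroup.closure {y | y ∈ E.map π ∧ ∃ k : ℕ, y ^ p ^ k = 1} with hZ
  have hZn : E.map π ≤ Subgroup.normalizer (Z : Set X) := by
    refine LEAmalgam.le_normalizer_of_conj fun g hg => ?_
    rw [hZ, MonoidHom.map_closure, Subgroup.closure_le]
    rintro _ ⟨y, ⟨hy, k, hk⟩, rfl⟩
    refine Subgroup.subset_closure ⟨mul_mem (mul_mem hg hy) (inv_mem hg), k, ?_⟩
    show (g * y * g⁻¹) ^ p ^ k = 1
    rw [conj_pow, hk, mul_one, mul_inv_cancel]
  have hpel : ∀ y ∈ E, ∀ k : ℕ, orderOf y = p ^ k → π y ∈ Z := fun y hy k hk =>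
    Subgroup.subset_closure ⟨Subgroup.mem_map_of_mem π hy, k, by rw [← map_pow, ← hk, pow_orderOf_eq_one, map_one]⟩
  rcases hdich Z hZn with hc | hc
  · exfalso
    obtain ⟨Q⟩ : Nonempty (Sylow p ↥E) := inferInstance
    refine hirr.1 ((LEPIrred.pClosed_iff Q).2 fun q hq => ?_)
    have hcom : ⁅(Q : Subgroup ↥E), (⊤ : Subgroup ↥E)⁆ ≤ f.ker := by
      rw [Subgroup.commutator_le]
      intro a ha b _
      obtain ⟨k, hk⟩ := IsPGroup.iff_orderOf.1 Q.2 ⟨a, ha⟩
      rw [MonoidHom.mem_ker, map_commutatorElement, commutatorElement_eq_one_iff_mul_comm]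
      exact hc _ ⟨b, b.2, rfl⟩ _ (Subgroup.mem_inf.2 ⟨hpel a a.2 k (by
        rw [Subgroup.orderOf_coe]; rw [← hk]; exact (Subgroup.orderOf_coe (⟨a, ha⟩ : ↥(Q : Subgroup ↥E))).symm ▸ rfl),
        Subgroup.mem_map_of_mem π a.2⟩)
    set W := (Q : Subgroup ↥E) ⊔ f.ker with hW
    have hWn : W.Normal := ⟨fun x hx g => by
      obtain ⟨a, ha, b, hb, rfl⟩ := Subgroup.mem_sup_of_normal_right.1 hx
      have e : g * (a * b) * g⁻¹ = (⁅g, a⁆ * a) * (g * b * g⁻¹) := by simp [commutatorElement_def, mul_assoc]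
      rw [e]
      refine mul_mem (mul_mem (Subgroup.mem_sup_right ?_) (Subgroup.mem_sup_left ha))
        (Subgroup.mem_sup_right ((inferInstance : f.ker.Normal).conj_mem b hb g))
      refine hcom ?_
      rw [Subgroup.commutator_comm]
      exact Subgroup.commutator_mem_commutator (Subgroup.mem_top g) ha⟩
    have hker : IsPGroup p ↥f.ker := by
      refine ((pCore_isPGroup (G := H) (p := p)).comap_of_injective E.subtype E.subtype_injective).to_le ?_
      exact fun x hx => (hπ x).1 hx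
    exact le_pCore hWn (IsPGroup.to_sup_of_normal_right Q.2 hker) (Subgroup.mem_sup_left hq)
  · intro y hy
    obtain ⟨x, rfl⟩ := hran hy
    obtain ⟨a, b, hab, ⟨k, hk⟩, hb, haz, hbz⟩ := exists_p_part (p := p) (x : H)
    show π x ∈ Z
    rw [hab, map_mul]
    exact mul_mem (hpel a (Subgroup.zpowers_le.2 x.2 haz) k hk) (hc b (Subgroup.zpowers_le.2 x.2 hbz) hb)

theorem isPIrreducible_of_family {𝒦 : Set (Subgroup H)} (hne : 𝒦.Nonempty)
    (hinv : ∀ h : H, ∀ E ∈ 𝒦, E.map (MulAut.conj h).toMonoidHom ∈ 𝒦)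
    (htr : ∀ E ∈ 𝒦, ∀ K ∈ 𝒦, ∃ h : H, K = E.map (MulAut.conj h).toMonoidHom)
    (hres : Cfsg.pResidual p H ≤ sSup 𝒦)
    (hnorm : ∀ E ∈ 𝒦, sSup 𝒦 ⊔ Cfsg.pCore p H ≤ Subgroup.normalizer ((E ⊔ Cfsg.pCore p H : Subgroup H) : Set H))
    (hirr : ∀ E ∈ 𝒦, Cfsg.IsStronglyPIrreducible p ↥E) :
    Cfsg.IsPIrreducible p H ∧ ∀ E ∈ 𝒦, ∀ K ∈ 𝒦,
      (Cfsg.pResidual p ↥(E ⊔ Cfsg.pCore p H)).map (E ⊔ Cfsg.pCore p H).subtype =
          (Cfsg.pResidual p ↥(K ⊔ Cfsg.pCore p H)).map (K ⊔ Cfsg.pCore p H).subtype ∨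
        ⁅E, K⁆ ≤ Cfsg.pCore p H := by
  haveI := Cfsg.pCore_normal p H
  haveI := sSup_normal hinv
  set O := Cfsg.pCore p H with hO
  let π := QuotientGroup.mk' O
  have hπ : ∀ x, π x = 1 ↔ x ∈ O := fun x => QuotientGroup.eq_one_iff x
  have hX : Cfsg.pCore p (H ⧸ O) = ⊥ := pCore_quotient_pCore
  set R := (sSup 𝒦).map π with hR
  haveI hRn : R.Normal := (inferInstance : (sSup 𝒦).Normal).map π (QuotientGroup.mk'_surjective O)
  have hAR : ∀ E ∈ 𝒦, E.map π ≤ R := fun E hE => Subgroup.map_mono (le_sSup hE)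
  have hRA : ∀ E ∈ 𝒦, R ≤ Subgroup.normalizer ((E.map π : Subgroup _) : Set (H ⧸ O)) := by
    intro E hE
    refine le_trans ?_ (le_of_eq_of_le rfl le_rfl)
    rintro _ ⟨r, hr, rfl⟩
    have h1 := congrArg (Subgroup.map π) (map_conj_eq_iff_mem_normalizer.2 (hnorm E hE (Subgroup.mem_sup_left hr)))
    rw [Subgroup.map_map, show π.comp (MulAut.conj r).toMonoidHom = (MulAut.conj (π r)).toMonoidHom.comp π from
      MonoidHom.ext fun x => by simp, ← Subgroup.map_map, Subgroup.map_sup, QuotientGroup.map_mk'_self,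
      sup_bot_eq] at h1
    exact map_conj_eq_iff_mem_normalizer.1 h1
  have hsnA : ∀ E ∈ 𝒦, (E.map π).IsSubnormal := fun E hE => isSubnormal_of_le_normalizer (hAR E hE) (hRA E hE)
  have hprop := fun E (hE : E ∈ 𝒦) => image_prop
    (isSubnormal_of_le_normalizer (R := sSup 𝒦 ⊔ O) (sup_le_sup_right (le_sSup hE) O) (hnorm E hE))
    (hirr E hE) π hπ
  constructor
  · refine ⟨fun hcl => ?_, fun N hN hncl => ?_⟩
    · obtain ⟨E, hE⟩ := hne
      obtain ⟨Q⟩ : Nonempty (Sylow p ↥E) := inferInstance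
      refine (hirr E hE).1 ((LEPIrred.pClosed_iff Q).2 ?_)
      obtain ⟨T, hT⟩ := (Q.2.map E.subtype).exists_le_sylow
      intro q hq
      have h1 : O.subgroupOf E ≤ Cfsg.pCore p ↥E :=
        le_pCore ((Cfsg.pCore_normal p H).comap E.subtype) (pCore_isPGroup.comap_of_injective _ E.subtype_injective)
      exact h1 ((LEPIrred.pClosed_iff T).1 hcl (hT ⟨q, hq, rfl⟩))
    haveI := hN
    haveI : (N.map π).Normal := hN.map π (QuotientGroup.mk'_surjective O)
    by_cases hA : ∃ E ∈ 𝒦, ∀ g ∈ E, (orderOf g).Coprime p → π g ∈ N.map π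
    · obtain ⟨E, hE, hEN⟩ := hA
      refine LEPIrred.pResidual_le_of_le_sup (pCore_isPGroup (p := p)) ?_
      have hall : ∀ K ∈ 𝒦, ∀ g ∈ K, (orderOf g).Coprime p → g ∈ N ⊔ O := by
        intro K hK g hg hgc
        obtain ⟨h, rfl⟩ := htr E hE K hK
        obtain ⟨x, hx, rfl⟩ := hg
        have hxc : (orderOf x).Coprime p := by
          rwa [orderOf_injective (MulAut.conj h).toMonoidHom (MulAut.conj h).injective] at hgc
        obtain ⟨m, hm, hmx⟩ := hEN x hx hxc
        have h1 : x ∈ N ⊔ O := by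
          have h2 : m⁻¹ * x ∈ O := QuotientGroup.eq.1 hmx
          simpa using mul_mem (Subgroup.mem_sup_left hm : m ∈ N ⊔ O) (Subgroup.mem_sup_right h2)
        exact (inferInstance : (N ⊔ O).Normal).conj_mem x h1 h
      -- the image of `R` in `H/NO` is generated by subnormal `p`-subgroups
      set q := QuotientGroup.mk' (N ⊔ O) with hq
      have hqs : Function.Surjective q := QuotientGroup.mk'_surjective _
      have hle : (sSup 𝒦).map q ≤ Cfsg.pCore p (H ⧸ (N ⊔ O)) := by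
        rw [Subgroup.map_le_iff_le_comap]
        refine sSup_le fun K hK => ?_
        rw [← Subgroup.map_le_iff_le_comap]
        have hKp : IsPGroup p ↥(K.map q) := by
          rintro ⟨_, g, hg, rfl⟩
          obtain ⟨a, b, hab, ⟨k, hk⟩, hb, -, hbz⟩ := exists_p_part (p := p) g
          have hb1 : q b = 1 := (QuotientGroup.eq_one_iff b).2 (hall K hK b (Subgroup.zpowers_le.2 hg hbz) hb)
          refine ⟨k, Subtype.ext ?_⟩
          show (q g) ^ p ^ k = 1
          rw [hab, map_mul, hb1, mul_one, ← map_pow, ← hk, pow_orderOf_eq_one, map_one]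
        have h2 : (K ⊔ O).map q = K.map q := by
          rw [Subgroup.map_sup, (Subgroup.map_eq_bot_iff O).2 (by rw [QuotientGroup.ker_mk']; exact le_sup_right),
            sup_bot_eq]
        have h3 := (isSubnormal_of_le_normalizer (R := sSup 𝒦 ⊔ O) (sup_le_sup_right (le_sSup hK) O)
          (hnorm K hK)).map hqs
        rw [h2] at h3
        exact CharP.isPGroup_le_pCore_of_isSubnormal h3 hKp
      rw [Cfsg.pResidual, Subgroup.closure_le]
      intro g hg
      refine (QuotientGroup.eq_one_iff g).1 ?_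
      exact PBasic.eq_one_of_isPGroup_of_coprime (pCore_isPGroup (p := p))
        (hle (Subgroup.mem_map_of_mem q (hres (mem_pResidual hg))))
        (Nat.Coprime.coprime_dvd_left (orderOf_map_dvd q g) hg)
    · exfalso
      push Not at hA
      -- `N` centralizes `R`
      have h1 : ∀ n ∈ N.map π ⊓ R, n ∈ Subgroup.centralizer (R : Set (H ⧸ O)) := by
        intro n hn
        obtain ⟨hnN, hnR⟩ := Subgroup.mem_inf.1 hn
        have : R ≤ Subgroup.centralizer {n} := by
          rw [hR, Subgroup.map_le_iff_le_comap]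
          refine sSup_le fun E hE => ?_
          rw [← Subgroup.map_le_iff_le_comap]
          have hnA := hRA E hE hnR
          have hcen := centralizes (hsnA E hE) hX (hprop E hE).1 (n := n) fun y hy _ => by
            have hcA : n * y * n⁻¹ * y⁻¹ ∈ E.map π :=
              mul_mem ((Subgroup.mem_normalizer_iff.1 hnA y).1 hy) (inv_mem hy)
            have hcN : n * y * n⁻¹ * y⁻¹ ∈ N.map π := by
              rw [mul_assoc n y n⁻¹, mul_assoc n]
              refine mul_mem hnN ?_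
              exact (inferInstance : (N.map π).Normal).conj_mem _ (inv_mem hnN) y
            refine Subgroup.mem_inf.2 ⟨hcA, Subgroup.mem_centralizer_iff.2 fun z hz => ?_⟩
            rcases (hprop E hE).2 (N.map π) (Subgroup.le_normalizer_of_normal (H := N.map π)) with hc | hc
            · exact (hc z hz _ (Subgroup.mem_inf.2 ⟨hcN, hcA⟩)).symm
            · obtain ⟨g, hg, hgc, hgN⟩ := hA E hE
              exact absurd (hc g hg hgc) hgN
          exact fun y hy => Subgroup.mem_centralizer_iff.2 fun z hz => by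
            obtain rfl : z = n := hz; exact (Subgroup.mem_centralizer_iff.1 hcen y hy).symm
        exact Subgroup.mem_centralizer_iff.2 fun y hy => (Subgroup.mem_centralizer_iff.1 (this hy) n rfl).symm
      have hgenR : R ≤ Subgroup.closure {y | y ∈ R ∧ ∃ k : ℕ, y ^ p ^ k = 1} := by
        rw [hR, Subgroup.map_le_iff_le_comap]
        refine sSup_le fun E hE => ?_
        rw [← Subgroup.map_le_iff_le_comap]
        exact (hprop E hE).1.trans (Subgroup.closure_mono fun y hy => ⟨hAR E hE hy.1, hy.2⟩)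
      have h2 : N.map π ≤ Subgroup.centralizer (R : Set (H ⧸ O)) := fun n hn =>
        centralizes hRn.isSubnormal hX hgenR fun y hy _ => by
          have hcR : n * y * n⁻¹ * y⁻¹ ∈ R := mul_mem (hRn.conj_mem y hy n) (inv_mem hy)
          refine Subgroup.mem_inf.2 ⟨hcR, h1 _ (Subgroup.mem_inf.2 ⟨?_, hcR⟩)⟩
          rw [mul_assoc n y n⁻¹, mul_assoc n]
          exact mul_mem hn ((inferInstance : (N.map π).Normal).conj_mem _ (inv_mem hn) y)
      obtain ⟨T⟩ : Nonempty (Sylow p H) := inferInstance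
      refine hncl ((LEPIrred.normal_pClosed_iff T N).2 fun x hx => (hπ x).1 ?_)
      set D := (T : Subgroup H).map π ⊓ Subgroup.centralizer (R : Set (H ⧸ O)) with hD
      have hDn : D.Normal := by
        rw [← Subgroup.normalizer_eq_top_iff, ← top_le_iff]
        have htop : (sSup 𝒦).map π ⊔ (T : Subgroup H).map π = ⊤ := by
          rw [← Subgroup.map_sup, top_le_iff.1 ((pResidual_sup_sylow T).ge.trans (sup_le_sup_right hres _)),
            Subgroup.map_top_of_surjective _ (QuotientGroup.mk'_surjective O)]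
        refine htop.ge.trans (sup_le (fun r hr => ?_) (fun t ht => ?_))
        · refine Subgroup.mem_normalizer_iff.2 fun d => ?_
          constructor
          · intro hd
            have : r * d = d * r := Subgroup.mem_centralizer_iff.1 (Subgroup.mem_inf.1 hd).2 r hr
            rwa [this, mul_inv_cancel_right]
          · intro hd
            have h4 : r * (r * d * r⁻¹) = (r * d * r⁻¹) * r :=
              Subgroup.mem_centralizer_iff.1 (Subgroup.mem_inf.1 hd).2 r hr
            rw [inv_mul_cancel_right] at h4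
            have h5 : r * d * r⁻¹ = d := mul_left_cancel h4
            rwa [h5] at hd
        · refine Subgroup.inf_normalizer_le_normalizer_inf (Subgroup.mem_inf.2 ⟨Subgroup.le_normalizer ht, ?_⟩)
          exact Subgroup.le_normalizer_of_normal (H := Subgroup.centralizer (R : Set (H ⧸ O))) (K := ⊤)
            (Subgroup.mem_top t)
      obtain ⟨hxN, hxT⟩ := Subgroup.mem_inf.1 hx
      have hxD : π x ∈ D := Subgroup.mem_inf.2
        ⟨Subgroup.mem_map_of_mem π hxT, h2 (Subgroup.mem_map_of_mem π hxN)⟩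
      have := le_pCore hDn ((T.2.map π).to_le inf_le_left) hxD
      rwa [hX, Subgroup.mem_bot] at this
  · intro E hE K hK
    rcases (hprop E hE).2 (K.map π) ((hAR E hE).trans (hRA K hK)) with hc | hc
    · right
      rw [Subgroup.commutator_le]
      intro e he b hb
      have hbA := hRA E hE (hAR K hK (Subgroup.mem_map_of_mem π hb))
      have hcen := centralizes (hsnA E hE) hX (hprop E hE).1 (n := π b) fun y hy _ => by
        have hcA : π b * y * (π b)⁻¹ * y⁻¹ ∈ E.map π :=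
          mul_mem ((Subgroup.mem_normalizer_iff.1 hbA y).1 hy) (inv_mem hy)
        have hcB : π b * y * (π b)⁻¹ * y⁻¹ ∈ K.map π := by
          rw [mul_assoc (π b) y, mul_assoc (π b)]
          refine mul_mem (Subgroup.mem_map_of_mem π hb) ?_
          exact (Subgroup.mem_normalizer_iff.1 (hRA K hK (hAR E hE hy)) _).1
            (inv_mem (Subgroup.mem_map_of_mem π hb))
        exact Subgroup.mem_inf.2 ⟨hcA, Subgroup.mem_centralizer_iff.2 fun z hz =>
          (hc z hz _ (Subgroup.mem_inf.2 ⟨hcB, hcA⟩)).symm⟩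
      rw [← hπ, map_commutatorElement, commutatorElement_eq_one_iff_mul_comm]
      exact Subgroup.mem_centralizer_iff.1 hcen _ (Subgroup.mem_map_of_mem π he)
    · left
      obtain ⟨h, rfl⟩ := htr E hE K hK
      set F := E ⊔ O with hF
      set F' := E.map (MulAut.conj h).toMonoidHom ⊔ O with hF'
      have hle : (Cfsg.pResidual p ↥F).map F.subtype ≤ (Cfsg.pResidual p ↥F').map F'.subtype := by
        refine LEPReduced.pResidual_map_le fun x hx hxc => LEPReduced.mem_pResidual_map ?_ hxc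
        obtain ⟨e, he, o, ho, rfl⟩ := Subgroup.mem_sup_of_normal_right.1 hx
        obtain ⟨a, b, hab, ⟨k, hk⟩, hb, haz, hbz⟩ := exists_p_part (p := p) e
        have hmem : π b ∈ (E.map (MulAut.conj h).toMonoidHom).map π := hc b (Subgroup.zpowers_le.2 he hbz) hb
        have hb' : b ∈ F' := by
          rw [hF']
          obtain ⟨m, hm, hmb⟩ := hmem
          have := mul_mem (Subgroup.mem_sup_left hm : m ∈ F')
            (Subgroup.mem_sup_right (QuotientGroup.eq.1 hmb) : m⁻¹ * b ∈ F')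
          rwa [mul_inv_cancel_left] at this
        -- the `p`-part is trivial modulo `O`
        have ha : π a = 1 := by
          have h1 : π (e * o) = π e := by rw [map_mul, (hπ o).2 ho, mul_one]
          obtain ⟨i, hi⟩ := Subgroup.mem_zpowers_iff.1 haz
          have h2 : orderOf (π a) ∣ orderOf (e * o) := by
            rw [← hi, map_zpow, ← h1]
            exact (orderOf_dvd_of_mem_zpowers (Subgroup.zpow_mem_zpowers _ i)).trans (orderOf_map_dvd π _)
          exact orderOf_eq_one_iff.1 (Nat.eq_one_of_dvd_coprimes (Nat.Coprime.pow_right k hxc) h2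
            (hk ▸ orderOf_map_dvd π a))
        rw [hab]
        exact mul_mem (mul_mem (Subgroup.mem_sup_right ((hπ a).1 ha)) hb') (Subgroup.mem_sup_right ho)
      refine Subgroup.eq_of_le_of_card_ge hle (le_of_eq ?_)
      have hFF : F' = F.map (MulAut.conj h).toMonoidHom := by
        rw [hF, Subgroup.map_sup, map_conj_eq_iff_mem_normalizer.2 (show h ∈ Subgroup.normalizer (O : Set H) by
          rw [Subgroup.normalizer_eq_top_iff.2 (inferInstance : O.Normal)]; exact Subgroup.mem_top h)]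
      let e : ↥F ≃* ↥F' := (F.equivMapOfInjective _ (MulAut.conj h).injective).trans (MulEquiv.subgroupCongr hFF.symm)
      rw [Subgroup.card_map_of_injective F'.subtype_injective, Subgroup.card_map_of_injective F.subtype_injective,
        ← PBasic.map_pResidual_eq e.toMonoidHom e.surjective, Subgroup.card_map_of_injective e.injective]

end Cfsg.Agent.LEFamily
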