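import Cfsg.Agent.Lib.LocalEven.RankTwoTrans
import Cfsg.Agent.Lib.FGStruct.Order64.Main
import Cfsg.Agent.S4006

/-!
2-groups with an involutory automorphism fixing exactly a four-group and a commuting automorphism of order three
moving the four-group.
-/

set_option autoImplicit false

namespace Cfsg.Agent.FourFixed

open scoped commutatorElement

universe u

/-- An involutive endomorphism of a nontrivial 2-group fixes a nontrivial element. -/
theorem exists_fixed {G : Type u} [Group G] [Finite G] (hG : IsPGroup 2 G) [Nontrivial G] (f : G →* G)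
    (hf : ∀ x, f (f x) = x) : ∃ x, x ≠ 1 ∧ f x = x := by
  classical
  haveI : Fact (Nat.Prime 2) := ⟨Nat.prime_two⟩
  letI := Fintype.ofFinite G
  let E : Function.End G := (⇑f : G → G)
  have hE : E ^ 2 ^ 1 = 1 := funext (α := G) (β := fun _ => G) fun x => hf x
  by_contra! h
  have hfp : Function.fixedPoints E = ({1} : Set G) := by
    ext x
    exact ⟨fun hx => by_contra fun hx1 => h x hx1 (show f x = x from hx), fun hx => by
      subst hx
      show f 1 = 1
      exact map_one f⟩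
  have hc : Fintype.card G % 2 = Fintype.card (Function.fixedPoints E) % 2 := Equiv.Perm.card_fixedPoints_modEq hE
  rw [Fintype.card_eq_nat_card, Fintype.card_eq_nat_card, hfp, Nat.card_coe_set_eq, Set.ncard_singleton] at hc
  obtain ⟨k, hk⟩ := IsPGroup.iff_card.1 hG
  have h1 : 1 < Nat.card G := Finite.one_lt_card
  rcases k with _ | k
  · omega
  · rw [hk, pow_succ] at hc; omega

/-- The two automorphisms and the four-group. -/
structure Setup (T : Type u) [Group T] where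
  r : MulAut T
  s : MulAut T
  hp : IsPGroup 2 T
  r3 : ∀ x, r (r (r x)) = x
  s2 : ∀ x, s (s x) = x
  sr : ∀ x, s (r x) = r (s x)
  V : Subgroup T
  V4 : Nat.card V = 4
  fix : ∀ x, s x = x ↔ x ∈ V
  rV : ∀ v ∈ V, r v = v → v = 1

namespace Setup

variable {T : Type u} [Group T] [Finite T] (D : Setup T)
include D

theorem rmemV {v : T} (h : v ∈ D.V) : D.r v ∈ D.V := (D.fix _).1 (by rw [D.sr, (D.fix v).2 h])

theorem rne {v : T} (h : v ≠ 1) : D.r v ≠ 1 := fun e => h (D.r.injective (e.trans (map_one D.r).symm))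

theorem V_cases {v : T} (hv : v ∈ D.V) (hv1 : v ≠ 1) {w : T} (hw : w ∈ D.V) :
    w = 1 ∨ w = v ∨ w = D.r v ∨ w = D.r (D.r v) := by
  classical
  letI := Fintype.ofFinite D.V
  have h12 : D.r v ≠ v := fun e => hv1 (D.rV v hv e)
  have h23 : D.r (D.r v) ≠ D.r v := fun e => h12 (D.r.injective e)
  have h13 : D.r (D.r v) ≠ v := fun e => h12 (by rw [← congrArg D.r e, D.r3])
  let a : D.V := ⟨v, hv⟩
  let b : D.V := ⟨_, D.rmemV hv⟩
  let c : D.V := ⟨_, D.rmemV (D.rmemV hv)⟩
  have e1 : (1 : D.V) ≠ a := fun e => hv1 (congrArg Subtype.val e).symm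
  have e2 : (1 : D.V) ≠ b := fun e => D.rne hv1 (congrArg Subtype.val e).symm
  have e3 : (1 : D.V) ≠ c := fun e => D.rne (D.rne hv1) (congrArg Subtype.val e).symm
  have e4 : a ≠ b := fun e => h12 (congrArg Subtype.val e).symm
  have e5 : a ≠ c := fun e => h13 (congrArg Subtype.val e).symm
  have e6 : b ≠ c := fun e => h23 (congrArg Subtype.val e).symm
  have hu : ({1, a, b, c} : Finset D.V) = Finset.univ := Finset.eq_univ_of_card _ (by
    rw [Fintype.card_eq_nat_card, D.V4]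
    simp [Finset.card_insert_of_notMem, e1, e2, e3, e4, e5, e6])
  have := hu.ge (Finset.mem_univ (⟨w, hw⟩ : D.V))
  simpa [a, b, c] using this

theorem V_le {S : Subgroup T} (hS : ∀ x ∈ S, D.r x ∈ S) {v : T} (hv : v ∈ D.V) (hvS : v ∈ S) (hv1 : v ≠ 1) :
    D.V ≤ S := by
  intro w hw
  rcases D.V_cases hv hv1 hw with rfl | rfl | rfl | rfl
  exacts [S.one_mem, hvS, hS _ hvS, hS _ (hS _ hvS)]

theorem V_le_of_s {S : Subgroup T} (hr : ∀ x ∈ S, D.r x ∈ S) (hs : ∀ x ∈ S, D.s x ∈ S) (hne : S ≠ ⊥) :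
    D.V ≤ S := by
  haveI : Nontrivial S := (Subgroup.nontrivial_iff_ne_bot S).2 hne
  obtain ⟨x, hx1, hx⟩ := exists_fixed (D.hp.to_subgroup S)
    ((D.s.toMonoidHom.comp S.subtype).codRestrict S fun x => hs x x.2) fun x => Subtype.ext (D.s2 x)
  exact D.V_le hr ((D.fix _).1 (congrArg Subtype.val hx)) x.2 fun e => hx1 (Subtype.ext e)

theorem fpf {x : T} (hx : D.r x = x) : x = 1 := by
  let C : Subgroup T :=
    { carrier := {y | D.r y = y}
      one_mem' := map_one D.r
      mul_mem' := fun {a b} (ha : D.r a = a) (hb : D.r b = b) => by show D.r _ = _; rw [map_mul, ha, hb]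
      inv_mem' := fun {a} (ha : D.r a = a) => by show D.r _ = _; rw [map_inv, ha] }
  by_contra hx1
  have hle : D.V ≤ C := D.V_le_of_s (fun y (hy : D.r y = y) => by show D.r _ = _; rw [hy, hy])
    (fun y (hy : D.r y = y) => by show D.r _ = _; rw [← D.sr, hy]) fun e => hx1 (Subgroup.mem_bot.1 (e.le hx))
  haveI : Nontrivial D.V := Finite.one_lt_card_iff_nontrivial.1 (by rw [D.V4]; norm_num)
  obtain ⟨v, hv⟩ := exists_ne (1 : D.V)
  exact hv (Subtype.ext (D.rV v v.2 (hle v.2)))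

theorem surj : Function.Surjective fun a => a⁻¹ * D.r a :=
  Finite.surjective_of_injective fun a b h => by
    have h1 : a⁻¹ * D.r a = b⁻¹ * D.r b := h
    have h2 : D.r (b * a⁻¹) = b * a⁻¹ := by
      rw [map_mul, map_inv, show D.r b = b * (a⁻¹ * D.r a) from eq_mul_of_inv_mul_eq h1.symm]
      group
    exact (mul_inv_eq_one.1 (D.fpf h2)).symm

theorem prod_eq (y : T) : y * D.r y * D.r (D.r y) = 1 := by
  obtain ⟨a, rfl⟩ := D.surj y
  show a⁻¹ * D.r a * D.r (a⁻¹ * D.r a) * D.r (D.r (a⁻¹ * D.r a)) = 1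
  simp only [map_mul, map_inv, D.r3]
  group

theorem comm_r (y : T) : Commute y (D.r y) := by
  have h1 : D.r (D.r y) = (y * D.r y)⁻¹ := eq_inv_of_mul_eq_one_right (D.prod_eq y)
  have h2 := D.prod_eq y⁻¹
  simp only [map_inv] at h2
  rw [h1, inv_inv] at h2
  have h3 := inv_eq_of_mul_eq_one_right h2
  rw [mul_inv_rev, inv_inv, inv_inv] at h3
  exact h3.symm

theorem comm_conj (x y : T) : Commute x (y * x * y⁻¹) := by
  have h1 : ∀ x g : T, Commute x (g * D.r x * g⁻¹) := by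
    intro x g
    obtain ⟨a, rfl⟩ := D.surj g
    have h := (D.comm_r (a * x * a⁻¹)).map (MulAut.conj a⁻¹).toMonoidHom
    simp only [MulEquiv.coe_toMonoidHom, MulAut.conj_apply, inv_inv] at h
    rw [map_mul, map_mul, map_inv] at h
    show Commute x (a⁻¹ * D.r a * D.r x * (a⁻¹ * D.r a)⁻¹)
    convert h using 1 <;> group
  have h2 : Commute x (y * D.r (D.r x) * y⁻¹) := by
    have h := (h1 (D.r (D.r x)) y⁻¹).map (MulAut.conj y).toMonoidHom
    simp only [MulEquiv.coe_toMonoidHom, MulAut.conj_apply, inv_inv, D.r3] at h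
    rw [show y * (y⁻¹ * x * y) * y⁻¹ = x by group] at h
    exact h.symm
  have e : y * x * y⁻¹ = (y * D.r (D.r x) * y⁻¹)⁻¹ * (y * D.r x * y⁻¹)⁻¹ := by
    have e' : x = (D.r (D.r x))⁻¹ * (D.r x)⁻¹ := by
      rw [← mul_inv_rev]
      exact eq_inv_of_mul_eq_one_left (by rw [← mul_assoc]; exact D.prod_eq x)
    calc y * x * y⁻¹ = y * ((D.r (D.r x))⁻¹ * (D.r x)⁻¹) * y⁻¹ := by rw [← e']
      _ = _ := by group
  rw [e]
  exact h2.inv_right.mul_right (h1 x y).inv_right

theorem comm_mem (x y : T) : ⁅x, y⁆ ∈ Subgroup.center T := by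
  refine Subgroup.mem_center_iff.2 fun z => commutatorElement_eq_one_iff_mul_comm.1 ?_
  refine Cfsg.Agent.S4006.class_two D.comm_conj (fun g hg => ?_) y x z
  obtain ⟨k, hk⟩ := D.hp g
  exact orderOf_eq_one_iff.1 (Nat.eq_one_of_dvd_coprimes
    (((Nat.coprime_primes Nat.prime_two Nat.prime_three).2 (by norm_num)).pow_left k)
    (orderOf_dvd_of_pow_eq_one hk) (orderOf_dvd_of_pow_eq_one hg))

theorem mul_left (a b c : T) : ⁅a * b, c⁆ = ⁅a, c⁆ * ⁅b, c⁆ := by
  have h := Subgroup.mem_center_iff.1 (D.comm_mem b c)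
  calc ⁅a * b, c⁆ = a * ⁅b, c⁆ * (c * a⁻¹ * c⁻¹) := by rw [commutatorElement_def, commutatorElement_def]; group
    _ = ⁅b, c⁆ * (a * (c * a⁻¹ * c⁻¹)) := by rw [h a, mul_assoc]
    _ = ⁅b, c⁆ * ⁅a, c⁆ := by rw [commutatorElement_def a]; group
    _ = _ := (h _).symm

theorem mul_right (a b c : T) : ⁅a, b * c⁆ = ⁅a, b⁆ * ⁅a, c⁆ := by
  rw [← commutatorElement_inv, D.mul_left, mul_inv_rev, commutatorElement_inv, commutatorElement_inv]
  exact Subgroup.mem_center_iff.1 (D.comm_mem a b) _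

theorem self_r (x : T) : ⁅x, D.r x⁆ = 1 := commutatorElement_eq_one_iff_mul_comm.2 (D.comm_r x).eq

theorem r_swap (x y : T) : ⁅x, D.r y⁆ = ⁅D.r x, y⁆ := by
  have h := D.self_r (x * y)
  rw [map_mul, D.mul_left, D.mul_right, D.mul_right, D.self_r, D.self_r, one_mul, mul_one] at h
  rw [eq_inv_of_mul_eq_one_left h, commutatorElement_inv]

theorem r_left (x y : T) : ⁅D.r x, y⁆ = D.r (D.r ⁅x, y⁆) := by
  have h := congrArg (fun g => ⁅g, y⁆) (D.prod_eq x)
  simp only [D.mul_left, commutatorElement_one_left] at h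
  have hr : ⁅D.r (D.r x), y⁆ = D.r ⁅x, y⁆ := by rw [← D.r_swap (D.r x) y, map_commutatorElement]
  rw [hr] at h
  have e := eq_inv_of_mul_eq_one_left h
  have e2 := eq_inv_of_mul_eq_one_right (D.prod_eq ⁅x, y⁆)
  rw [e2, mul_inv_rev, eq_inv_mul_iff_mul_eq.2 e]
  rw [← mul_inv_rev, ← mul_inv_rev, inv_inj]
  exact Subgroup.mem_center_iff.1 (D.comm_mem x y) _

theorem r_right (x y : T) : ⁅x, D.r y⁆ = D.r (D.r ⁅x, y⁆) := by rw [D.r_swap, D.r_left]

theorem Vc : D.V ≤ Subgroup.center T := by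
  haveI : Nontrivial D.V := Finite.one_lt_card_iff_nontrivial.1 (by rw [D.V4]; norm_num)
  haveI : Nontrivial T := Subtype.coe_injective.nontrivial (f := ((↑) : D.V → T))
  haveI := D.hp.center_nontrivial
  refine D.V_le_of_s (fun x hx => ?_) (fun x hx => ?_) ((Subgroup.nontrivial_iff_ne_bot _).1 inferInstance)
  · exact (Subgroup.characteristic_iff_map_eq.1 inferInstance D.r).le ⟨x, hx, rfl⟩
  · exact (Subgroup.characteristic_iff_map_eq.1 inferInstance D.s).le ⟨x, hx, rfl⟩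

theorem vcomm {v : T} (hv : v ∈ D.V) (y : T) : y * v = v * y := Subgroup.mem_center_iff.1 (D.Vc hv) y

theorem Vsq {v : T} (hv : v ∈ D.V) : v * v = 1 := by
  by_cases hv1 : v = 1
  · simp [hv1]
  have h4 : v ^ 4 = 1 := by
    have h := pow_card_eq_one' (x := (⟨v, hv⟩ : D.V))
    rw [D.V4] at h
    simpa using congrArg Subtype.val h
  have key : v * v = D.r v → v * v = 1 := fun e => by
    have h : D.r (v * v) = 1 := by
      rw [map_mul, ← e, ← h4, pow_succ, pow_succ, pow_two, mul_assoc (v * v)]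
    exact D.r.injective (h.trans (map_one D.r).symm)
  have key2 : v * v = D.r (D.r v) → v * v = 1 := fun e => by
    have h : D.r (D.r (v * v)) = 1 := by
      rw [map_mul, map_mul, ← e, ← h4, pow_succ, pow_succ, pow_two, mul_assoc (v * v)]
    exact D.r.injective (D.r.injective (h.trans (by simp)))
  rcases D.V_cases hv hv1 (D.V.mul_mem hv hv) with e | e | e | e
  · exact e
  · exact absurd (mul_eq_left.1 e) hv1
  · exact key e
  · exact key2 e

theorem normal : D.V.Normal := ⟨fun v hv g => by rw [D.vcomm hv g, mul_inv_cancel_right]; exact hv⟩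

/-- The preimage of the fixed points modulo the four-group. -/
def W : Subgroup T where
  carrier := {x | x⁻¹ * D.s x ∈ D.V}
  one_mem' := by simp [D.V.one_mem]
  mul_mem' := fun {x y} (hx : x⁻¹ * D.s x ∈ D.V) (hy : y⁻¹ * D.s y ∈ D.V) => by
    show (x * y)⁻¹ * D.s (x * y) ∈ D.V
    have e : (x * y)⁻¹ * D.s (x * y) = y⁻¹ * (x⁻¹ * D.s x) * D.s y := by rw [map_mul]; group
    rw [e, D.vcomm hx, mul_assoc]
    exact D.V.mul_mem hx hy
  inv_mem' := fun {x} (hx : x⁻¹ * D.s x ∈ D.V) => by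
    show x⁻¹⁻¹ * D.s x⁻¹ ∈ D.V
    have e : x⁻¹⁻¹ * D.s x⁻¹ = x * ((x⁻¹ * D.s x)⁻¹ * x⁻¹) := by rw [map_inv]; group
    rw [e, ← D.vcomm (D.V.inv_mem hx), mul_inv_cancel_left]
    exact D.V.inv_mem hx

theorem mem_W {x : T} : x ∈ D.W ↔ x⁻¹ * D.s x ∈ D.V := Iff.rfl

theorem V_le_W : D.V ≤ D.W := fun x hx => by
  rw [D.mem_W, (D.fix x).2 hx, inv_mul_cancel]; exact D.V.one_mem

theorem d_r (x : T) : (D.r x)⁻¹ * D.s (D.r x) = D.r (x⁻¹ * D.s x) := by rw [D.sr, map_mul, map_inv]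

theorem rW {x : T} (hx : x ∈ D.W) : D.r x ∈ D.W := by rw [D.mem_W, D.d_r]; exact D.rmemV hx

/-- The displacement on `W`. -/
def d : D.W →* D.V where
  toFun x := ⟨(x : T)⁻¹ * D.s x, x.2⟩
  map_one' := Subtype.ext (by simp)
  map_mul' x y := Subtype.ext (by
    show ((x : T) * y)⁻¹ * D.s ((x : T) * y) = ((x : T)⁻¹ * D.s x) * ((y : T)⁻¹ * D.s y)
    calc ((x : T) * y)⁻¹ * D.s ((x : T) * y) = (y : T)⁻¹ * ((x : T)⁻¹ * D.s x) * D.s y := by rw [map_mul]; group
      _ = _ := by rw [D.vcomm x.2]; group)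

theorem d_ker : D.d.ker = D.V.subgroupOf D.W := by
  ext x
  rw [MonoidHom.mem_ker, Subgroup.mem_subgroupOf, ← D.fix]
  exact ⟨fun h => (inv_mul_eq_one.1 (congrArg Subtype.val h)).symm,
    fun h => Subtype.ext (inv_mul_eq_one.2 h.symm)⟩

theorem card_W (hne : ∃ x : T, x ∉ D.V) : Nat.card D.W = 16 := by
  haveI := D.normal
  haveI : Nontrivial (T ⧸ D.V) := by
    obtain ⟨x, hx⟩ := hne
    exact ⟨(x : T ⧸ D.V), 1, fun e => hx ((QuotientGroup.eq_one_iff x).1 e)⟩
  have hsV : D.V ≤ D.V.comap D.s.toMonoidHom := fun v hv => by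
    show D.s v ∈ D.V
    rwa [(D.fix v).2 hv]
  obtain ⟨q, hq1, hq⟩ := exists_fixed (D.hp.to_quotient D.V) (QuotientGroup.map D.V D.V D.s.toMonoidHom hsV)
    fun a => by
      obtain ⟨x, rfl⟩ := QuotientGroup.mk_surjective a
      show ((D.s (D.s x) : T) : T ⧸ D.V) = _
      rw [D.s2]
  obtain ⟨x, rfl⟩ := QuotientGroup.mk_surjective q
  have hxW : x ∈ D.W := QuotientGroup.eq.1 (show ((x : T) : T ⧸ D.V) = ((D.s x : T) : T ⧸ D.V) from hq.symm)
  have hdx : ((D.d ⟨x, hxW⟩ : D.V) : T) ≠ 1 := fun e => by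
    have : (⟨x, hxW⟩ : D.W) ∈ D.d.ker := Subtype.ext e
    rw [D.d_ker, Subgroup.mem_subgroupOf] at this
    exact hq1 ((QuotientGroup.eq_one_iff x).2 this)
  have hrange : D.d.range.map D.V.subtype = D.V := by
    refine le_antisymm (Subgroup.map_subtype_le _) (D.V_le ?_ (D.d ⟨x, hxW⟩).2 ⟨_, ⟨_, rfl⟩, rfl⟩ hdx)
    rintro _ ⟨_, ⟨w, rfl⟩, rfl⟩
    exact ⟨_, ⟨⟨D.r w, D.rW w.2⟩, rfl⟩, D.d_r w⟩
  have h1 := Subgroup.card_eq_card_quotient_mul_card_subgroup D.d.ker
  rw [Nat.card_congr (QuotientGroup.quotientKerEquivRange D.d).toEquiv, D.d_ker,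
    Nat.card_congr (Subgroup.subgroupOfEquivOfLe D.V_le_W).toEquiv,
    ← Subgroup.card_map_of_injective (f := D.V.subtype) D.V.subtype_injective, hrange, D.V4] at h1
  exact h1

theorem W_generated {e : T} (he : e ∈ D.W) (heV : e ∉ D.V) {w : T} (hw : w ∈ D.W) :
    w ∈ D.V ∨ ∃ v ∈ D.V, w = e * v ∨ w = D.r e * v ∨ w = D.r (D.r e) * v := by
  have hde : e⁻¹ * D.s e ≠ 1 := fun h => heV ((D.fix e).1 (inv_mul_eq_one.1 h).symm)
  have hkey : ∀ g : T, g ∈ D.W → g⁻¹ * D.s g = w⁻¹ * D.s w → g⁻¹ * w ∈ D.V := by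
    intro g hg h
    refine (D.fix _).1 ?_
    rw [map_mul, map_inv, show D.s g = g * (g⁻¹ * D.s g) by group, show D.s w = w * (w⁻¹ * D.s w) by group, h]
    rw [mul_inv_rev, mul_assoc, ← mul_assoc g⁻¹, D.vcomm hw (g⁻¹ * w), inv_mul_cancel_left]
  rcases D.V_cases he hde hw with h | h | h | h
  · exact Or.inl ((D.fix w).1 (inv_mul_eq_one.1 h).symm)
  · exact Or.inr ⟨_, hkey e he h.symm, Or.inl (by group)⟩
  · exact Or.inr ⟨_, hkey _ (D.rW he) ((D.d_r e).trans h.symm), Or.inr (Or.inl (by group))⟩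
  · exact Or.inr ⟨_, hkey _ (D.rW (D.rW he)) (((D.d_r _).trans (congrArg D.r (D.d_r e))).trans h.symm),
      Or.inr (Or.inr (by group))⟩

theorem coprime_mem {N : Subgroup T} {y : T} (h : y ^ 3 ∈ N) : y ∈ N := by
  obtain ⟨k, hk⟩ := D.hp y
  have hcop : (3 : ℕ).Coprime (orderOf y) := Nat.Coprime.coprime_dvd_right (orderOf_dvd_of_pow_eq_one hk)
    (((Nat.coprime_primes Nat.prime_three Nat.prime_two).2 (by norm_num)).pow_right k)
  obtain ⟨m, hm⟩ := exists_pow_eq_self_of_coprime hcop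
  exact hm ▸ N.pow_mem h m

theorem no_fixed_coset {N : Subgroup T} [N.Normal] (hrN : ∀ x ∈ N, D.r x ∈ N) {y : T}
    (h : y⁻¹ * D.r y ∈ N) : y ∈ N := by
  refine D.coprime_mem ((QuotientGroup.eq_one_iff _).1 ?_)
  have h1 : ((D.r y : T) : T ⧸ N) = y := (QuotientGroup.eq.2 h).symm
  have h2 : ((D.r (D.r y) : T) : T ⧸ N) = (D.r y : T) := (QuotientGroup.eq.2 (by
    have := hrN _ h
    rwa [map_mul, map_inv] at this)).symm
  have h3 := congrArg (QuotientGroup.mk (s := N)) (D.prod_eq y)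
  rw [QuotientGroup.mk_mul, QuotientGroup.mk_mul, h2, h1, QuotientGroup.mk_one] at h3
  rw [QuotientGroup.mk_pow, pow_succ, pow_two]
  exact h3

theorem four_cosets {N : Subgroup T} [N.Normal] (hrN : ∀ x ∈ N, D.r x ∈ N) (hidx : N.index ≤ 4) {y : T}
    (hy : y ∉ N) (x : T) : x ∈ N ∨ ∃ n ∈ N, x = y * n ∨ x = D.r y * n ∨ x = D.r (D.r y) * n := by
  classical
  letI := Fintype.ofFinite (T ⧸ N)
  have hmem : ∀ z, D.r z ∈ N → z ∈ N := fun z hz => by
    have := hrN _ (hrN _ hz)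
    rwa [D.r3] at this
  have hry : D.r y ∉ N := fun h => hy (hmem _ h)
  have hrry : D.r (D.r y) ∉ N := fun h => hry (hmem _ h)
  have e4 : ((y : T) : T ⧸ N) ≠ (D.r y : T) := fun e => hy (D.no_fixed_coset hrN (QuotientGroup.eq.1 e))
  have e6 : ((D.r y : T) : T ⧸ N) ≠ (D.r (D.r y) : T) :=
    fun e => hry (D.no_fixed_coset hrN (QuotientGroup.eq.1 e))
  have e5 : ((y : T) : T ⧸ N) ≠ (D.r (D.r y) : T) := fun e => hrry (D.no_fixed_coset hrN (by
    rw [D.r3]
    exact QuotientGroup.eq.1 e.symm))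
  have h0 : ∀ z, z ∉ N → (1 : T ⧸ N) ≠ (z : T) := fun z hz e => hz ((QuotientGroup.eq_one_iff z).1 e.symm)
  have hu : ({1, ((y : T) : T ⧸ N), ((D.r y : T) : T ⧸ N), ((D.r (D.r y) : T) : T ⧸ N)} : Finset (T ⧸ N)) =
      Finset.univ := by
    refine Finset.eq_univ_of_card _ (le_antisymm (Finset.card_le_univ _) ?_)
    rw [Fintype.card_eq_nat_card, ← Subgroup.index_eq_card]
    refine hidx.trans ?_
    simp [Finset.card_insert_of_notMem, h0 _ hy, h0 _ hry, h0 _ hrry, e4, e5, e6]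
  have := hu.ge (Finset.mem_univ ((x : T) : T ⧸ N))
  simp only [Finset.mem_insert, Finset.mem_singleton] at this
  rcases this with h | h | h | h
  · exact Or.inl ((QuotientGroup.eq_one_iff x).1 h)
  all_goals refine Or.inr ⟨_, QuotientGroup.eq.1 h.symm, ?_⟩
  · exact Or.inl (mul_inv_cancel_left _ _).symm
  · exact Or.inr (Or.inl (mul_inv_cancel_left _ _).symm)
  · exact Or.inr (Or.inr (mul_inv_cancel_left _ _).symm)

/-- An element commutes with its two conjugates under `r`. -/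
theorem self_comm {y g : T} (h : g = y ∨ g = D.r y ∨ g = D.r (D.r y)) : ⁅g, y⁆ = 1 := by
  rw [commutatorElement_eq_one_iff_mul_comm]
  rcases h with rfl | rfl | rfl
  · rfl
  · exact (D.comm_r y).eq.symm
  · have := (D.comm_r (D.r (D.r y))).eq
    rwa [D.r3] at this

theorem comm_mem_of_index {N K : Subgroup T} [N.Normal] (hrN : ∀ x ∈ N, D.r x ∈ N) (hidx : N.index ≤ 4)
    (hK : ∀ u ∈ N, ∀ z : T, ⁅u, z⁆ ∈ K) (x y : T) : ⁅x, y⁆ ∈ K := by
  by_cases hy : y ∈ N
  · rw [← commutatorElement_inv]; exact K.inv_mem (hK y hy x)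
  rcases D.four_cosets hrN hidx hy x with h | ⟨n, hn, h | h | h⟩
  · exact hK x h y
  all_goals rw [h, D.mul_left, D.self_comm (by tauto), one_mul]; exact hK n hn y

theorem comap_V : D.V.map D.r.toMonoidHom = D.V := by
  refine le_antisymm ?_ fun v hv => ⟨D.r (D.r v), D.rmemV (D.rmemV hv), D.r3 v⟩
  rintro _ ⟨v, hv, rfl⟩
  exact D.rmemV hv

theorem map_s_V : D.V.map D.s.toMonoidHom = D.V := by
  refine le_antisymm ?_ fun v hv => ⟨v, hv, (D.fix v).2 hv⟩
  rintro _ ⟨v, hv, rfl⟩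
  show D.s v ∈ D.V
  rwa [(D.fix v).2 hv]

omit D in
theorem quot_fix {T : Type u} [Group T] (V : Subgroup T) [V.Normal] {f : T → T} {x : T} :
    ((f x : T) : T ⧸ V) = (x : T) ↔ x⁻¹ * f x ∈ V := by
  rw [eq_comm, QuotientGroup.eq]

/-- The configuration on the factor group. -/
theorem exists_quot (hne : ∃ x : T, x ∉ D.V) (hn : D.V.Normal) :
    ∃ E : Setup (T ⧸ D.V), (∀ x : T, ((x : T ⧸ D.V) ∈ E.V ↔ x ∈ D.W)) ∧
      (∀ x : T, E.r (x : T ⧸ D.V) = ((D.r x : T) : T ⧸ D.V)) ∧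
      (∀ x : T, E.s (x : T ⧸ D.V) = ((D.s x : T) : T ⧸ D.V)) := by
  let φ : D.W →* T ⧸ D.V := (QuotientGroup.mk' D.V).comp D.W.subtype
  have hmem : ∀ x : T, ((x : T ⧸ D.V) ∈ φ.range ↔ x ∈ D.W) := by
    refine fun x => ⟨?_, fun h => ⟨⟨x, h⟩, rfl⟩⟩
    rintro ⟨w, hw⟩
    have h : (w : T)⁻¹ * x ∈ D.V := QuotientGroup.eq.1 hw
    have := D.W.mul_mem w.2 (D.V_le_W h)
    rwa [mul_inv_cancel_left] at this
  refine ⟨{ r := QuotientGroup.congr D.V D.V D.r D.comap_V
            s := QuotientGroup.congr D.V D.V D.s D.map_s_V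
            hp := D.hp.to_quotient D.V
            r3 := ?_, s2 := ?_, sr := ?_
            V := φ.range
            V4 := ?_, fix := ?_, rV := ?_ }, hmem, fun x => rfl, fun x => rfl⟩
  · intro a
    obtain ⟨x, rfl⟩ := QuotientGroup.mk_surjective a
    show ((D.r (D.r (D.r x)) : T) : T ⧸ D.V) = _
    rw [D.r3]
  · intro a
    obtain ⟨x, rfl⟩ := QuotientGroup.mk_surjective a
    show ((D.s (D.s x) : T) : T ⧸ D.V) = _
    rw [D.s2]
  · intro a
    obtain ⟨x, rfl⟩ := QuotientGroup.mk_surjective a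
    show ((D.s (D.r x) : T) : T ⧸ D.V) = ((D.r (D.s x) : T) : T ⧸ D.V)
    rw [D.sr]
  · have h1 := Subgroup.card_eq_card_quotient_mul_card_subgroup φ.ker
    have hk : φ.ker = D.V.subgroupOf D.W := by
      ext x
      exact QuotientGroup.eq_one_iff _
    rw [Nat.card_congr (QuotientGroup.quotientKerEquivRange φ).toEquiv, D.card_W hne, hk,
      Nat.card_congr (Subgroup.subgroupOfEquivOfLe D.V_le_W).toEquiv, D.V4] at h1
    omega
  · intro a
    obtain ⟨x, rfl⟩ := QuotientGroup.mk_surjective a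
    rw [hmem]
    exact quot_fix (f := D.s) D.V
  · intro a ha h
    obtain ⟨x, rfl⟩ := QuotientGroup.mk_surjective a
    exact (QuotientGroup.eq_one_iff x).2 (D.no_fixed_coset (fun v hv => D.rmemV hv) ((quot_fix (f := D.r) D.V).1 h))

theorem abelian_cases (hab : ∀ x y : T, x * y = y * x) :
    (Nat.card T = 16 ∧ ∀ x : T, x * x = 1) ∨ ∀ x : T, x * x = 1 → x ∈ D.V := by
  by_cases h : ∀ x : T, x * x = 1 → x ∈ D.V
  · exact Or.inr h
  push Not at h
  obtain ⟨u, hu, huV⟩ := h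
  left
  have huW : u ∈ D.W := by
    refine (D.fix _).1 ?_
    rw [inv_eq_of_mul_eq_one_right hu, map_mul, D.s2, hab]
  have hW2 : ∀ w ∈ D.W, w * w = 1 := by
    intro w hw
    have key : ∀ g v : T, g * g = 1 → v ∈ D.V → g * v * (g * v) = 1 := fun g v hg hv => by
      rw [show g * v * (g * v) = g * (v * g) * v by group, hab v g, ← mul_assoc, hg, one_mul, D.Vsq hv]
    rcases D.W_generated huW huV hw with h | ⟨v, hv, h | h | h⟩
    · exact D.Vsq h
    · exact h ▸ key _ _ hu hv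
    · exact h ▸ key _ _ (by rw [← map_mul, hu, map_one]) hv
    · exact h ▸ key _ _ (by rw [← map_mul, ← map_mul, hu, map_one, map_one]) hv
  have hfx : ∀ x : T, x * D.s x ∈ D.V := fun x => (D.fix _).1 (by rw [map_mul, D.s2, hab])
  have hsq : ∀ (k : ℕ) (x : T), x ^ 2 ^ k = 1 → x * x = 1 := by
    intro k
    induction k with
    | zero => intro x hx; rw [pow_zero, pow_one] at hx; rw [hx, one_mul]
    | succ k ih =>
      intro x hx
      have h4 : x * x * (x * x) = 1 := ih (x * x) (by rw [← pow_two, ← pow_mul, ← pow_succ']; exact hx)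
      have hv := hfx x
      have hxx : x * x ∈ D.V := by
        refine (D.fix _).1 ?_
        have e : D.s x = x⁻¹ * (x * D.s x) := by group
        rw [map_mul, e]
        generalize x * D.s x = v at hv
        rw [show x⁻¹ * v * (x⁻¹ * v) = x⁻¹ * (v * x⁻¹) * v by group, ← D.vcomm hv, ← mul_assoc, mul_assoc _ v v,
          D.Vsq hv, mul_one, ← mul_inv_rev, inv_eq_of_mul_eq_one_right h4]
      refine hW2 x ?_
      rw [D.mem_W, show x⁻¹ * D.s x = (x * x)⁻¹ * (x * D.s x) by group]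
      exact D.V.mul_mem (D.V.inv_mem hxx) hv
  have h2 : ∀ x : T, x * x = 1 := fun x => by
    obtain ⟨k, hk⟩ := D.hp x
    exact hsq k x hk
  refine ⟨?_, h2⟩
  have htop : D.W = ⊤ := eq_top_iff.2 fun x _ => by
    rw [D.mem_W, inv_eq_of_mul_eq_one_right (h2 x)]; exact hfx x
  have := D.card_W ⟨u, huV⟩
  rwa [htop, Subgroup.card_top] at this

theorem comm_sq {x y : T} (h : ⁅x, y⁆ ∈ D.V) : ⁅x * x, y⁆ = 1 := by
  rw [D.mul_left, D.Vsq h]

end Setup

open Setup in
/-- Nonabelian implies order 64 with squares and commutators in the four-group. -/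
theorem dichotomy (n : ℕ) : ∀ {T : Type u} [Group T] [Finite T] (D : Setup T), Nat.card T = n →
    (∀ x y : T, x * y = y * x) ∨ (Nat.card T = 64 ∧ (∀ x : T, x * x ∈ D.V) ∧ ∀ x y : T, ⁅x, y⁆ ∈ D.V) := by
  induction n using Nat.strong_induction_on with
  | _ n ih =>
  intro T _ _ D hn
  classical
  by_cases hne : ∃ x : T, x ∉ D.V
  swap
  · push Not at hne
    exact Or.inl fun x y => D.vcomm (hne y) x
  by_cases hab : ∀ x y : T, x * y = y * x
  · exact Or.inl hab
  right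
  haveI := D.normal
  obtain ⟨E, hEV, hEr, hEs⟩ := D.exists_quot hne D.normal
  have hcard := Subgroup.card_eq_card_quotient_mul_card_subgroup D.V
  rw [D.V4] at hcard
  have hq : ∀ x : T, (x : T ⧸ D.V) = 1 ↔ x ∈ D.V := fun x => QuotientGroup.eq_one_iff x
  have hcV : ∀ x y : T, ⁅x, y⁆ ∈ D.V ↔ (x : T ⧸ D.V) * y = y * x := fun x y => by
    rw [← commutatorElement_eq_one_iff_mul_comm, ← hq]
    exact Iff.rfl
  by_cases hQ : ∀ a b : T ⧸ D.V, a * b = b * a
  · have hcom : ∀ x y : T, ⁅x, y⁆ ∈ D.V := fun x y => (hcV x y).2 (hQ _ _)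
    rcases E.abelian_cases hQ with ⟨h16, h2⟩ | h
    · refine ⟨by rw [hcard, h16], fun x => (hq _).1 ?_, hcom⟩
      exact h2 x
    exfalso
    apply hab
    set Z := Subgroup.center T with hZ
    have hZsq : ∀ x : T, x * x ∈ Z := fun x => Subgroup.mem_center_iff.2 fun g =>
      (commutatorElement_eq_one_iff_mul_comm.1 (D.comm_sq (hcom x g))).symm
    letI : CommGroup (T ⧸ D.V) := { (inferInstance : Group (T ⧸ D.V)) with mul_comm := hQ }
    let sq : T ⧸ D.V →* T ⧸ D.V := powMonoidHom 2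
    have hker : Nat.card sq.ker ≤ 4 := by
      rw [← E.V4]
      refine Subgroup.card_le_of_le fun a ha => h a ?_
      rw [MonoidHom.mem_ker] at ha
      rw [← pow_two]; exact ha
    have hidx : Z.index ≤ 4 := by
      have h1 : Z.map (QuotientGroup.mk' D.V) ≥ sq.range := by
        rintro _ ⟨a, rfl⟩
        obtain ⟨x, rfl⟩ := QuotientGroup.mk_surjective a
        exact ⟨x * x, hZsq x, by show ((x * x : T) : T ⧸ D.V) = (x : T ⧸ D.V) ^ 2; rw [pow_two]; rfl⟩
      have h2 : (Z.map (QuotientGroup.mk' D.V)).index = Z.index :=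
        Subgroup.index_map_eq _ (QuotientGroup.mk'_surjective _) (by rw [QuotientGroup.ker_mk']; exact D.Vc)
      rw [← h2]
      refine (Nat.le_of_dvd (Nat.pos_of_ne_zero Subgroup.index_ne_zero_of_finite) (Subgroup.index_dvd_of_le h1)).trans
        (le_of_eq_of_le ?_ hker)
      have e1 := Subgroup.card_mul_index sq.range
      have e2 := Subgroup.card_eq_card_quotient_mul_card_subgroup sq.ker
      rw [Nat.card_congr (QuotientGroup.quotientKerEquivRange sq).toEquiv, ← e1] at e2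
      exact Nat.eq_of_mul_eq_mul_left Nat.card_pos e2
    intro x y
    refine commutatorElement_eq_one_iff_mul_comm.1 (Subgroup.mem_bot.1 ?_)
    refine D.comm_mem_of_index (fun z hz => ?_) hidx (fun u hu z => ?_) x y
    · exact (Subgroup.characteristic_iff_map_eq.1 inferInstance D.r).le ⟨z, hz, rfl⟩
    · rw [Subgroup.mem_bot, commutatorElement_eq_one_iff_mul_comm]
      exact (Subgroup.mem_center_iff.1 hu z).symm
  · exfalso
    apply hQ
    have hlt : Nat.card (T ⧸ D.V) < n := by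
      have : 0 < Nat.card (T ⧸ D.V) := Nat.card_pos
      omega
    obtain h | ⟨h64, hsqQ, hcomQ⟩ := ih _ hlt E rfl
    · exact absurd h hQ
    have hcW : ∀ x y : T, ⁅x, y⁆ ∈ D.W := fun x y => (hEV _).1 (hcomQ (x : T ⧸ D.V) y)
    have hsW : ∀ x : T, x * x ∈ D.W := fun x => (hEV _).1 (hsqQ (x : T ⧸ D.V))
    obtain ⟨a₀, b₀, hab₀⟩ : ∃ a b : T, ⁅a, b⁆ ∉ D.V := by
      by_contra! hall
      apply hQ
      intro a b
      obtain ⟨x, rfl⟩ := QuotientGroup.mk_surjective a
      obtain ⟨y, rfl⟩ := QuotientGroup.mk_surjective b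
      exact (hcV x y).1 (hall x y)
    have hWc : ∀ w ∈ D.W, w ∈ Subgroup.center T := by
      intro w hw
      have hk := D.comm_mem a₀ b₀
      have hr : ∀ z ∈ Subgroup.center T, D.r z ∈ Subgroup.center T := fun z hz =>
        (Subgroup.characteristic_iff_map_eq.1 inferInstance D.r).le ⟨z, hz, rfl⟩
      rcases D.W_generated (hcW a₀ b₀) hab₀ hw with h | ⟨v, hv, h | h | h⟩
      · exact D.Vc h
      · exact h ▸ mul_mem hk (D.Vc hv)
      · exact h ▸ mul_mem (hr _ hk) (D.Vc hv)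
      · exact h ▸ mul_mem (hr _ (hr _ hk)) (D.Vc hv)
    haveI := E.normal
    obtain ⟨q₀, hq₀⟩ : ∃ q : T ⧸ D.V, q ∉ E.V := by
      by_contra! hall
      exact hQ fun a b => E.vcomm (hall b) a
    set U : Subgroup T := E.W.comap (QuotientGroup.mk' D.V) with hU
    haveI : E.W.Normal := ⟨fun w hw g => by
      rw [show g * w * g⁻¹ = ⁅g, w⁆ * w by rw [commutatorElement_def]; group]
      exact mul_mem (E.V_le_W (hcomQ g w)) hw⟩
    have hdU : ∀ b : T, b⁻¹ * D.s b ∈ U := by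
      intro b
      show ((b⁻¹ * D.s b : T) : T ⧸ D.V) ∈ E.W
      rw [E.mem_W, hEs, map_mul, map_inv, D.s2]
      have e : (b⁻¹ * D.s b)⁻¹ * ((D.s b)⁻¹ * b) = (b⁻¹ * D.s b)⁻¹ * (b⁻¹ * D.s b)⁻¹ := by group
      show ((((b⁻¹ * D.s b)⁻¹ * ((D.s b)⁻¹ * b)) : T) : T ⧸ D.V) ∈ E.V
      rw [e]
      exact hsqQ (((b⁻¹ * D.s b)⁻¹ : T) : T ⧸ D.V)
    have hUU : ∀ a ∈ U, ∀ b ∈ U, ⁅a, b⁆ = 1 := by
      intro a ha b hb
      by_cases hbV : (b : T ⧸ D.V) ∈ E.V
      · exact commutatorElement_eq_one_iff_mul_comm.2 (Subgroup.mem_center_iff.1 (hWc b ((hEV b).1 hbV)) a)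
      rcases E.W_generated hb hbV ha with h | ⟨v, hv, h⟩
      · exact commutatorElement_eq_one_iff_mul_comm.2 (Subgroup.mem_center_iff.1 (hWc a ((hEV a).1 h)) b).symm
      obtain ⟨c, hc, hc'⟩ : ∃ c : T, (c = b ∨ c = D.r b ∨ c = D.r (D.r b)) ∧ (c : T ⧸ D.V)⁻¹ * a ∈ E.V := by
        rcases h with h | h | h
        · exact ⟨b, Or.inl rfl, by rw [show (a : T ⧸ D.V) = _ from h]; simpa using hv⟩
        · exact ⟨_, Or.inr (Or.inl rfl), by rw [show (a : T ⧸ D.V) = _ from h]; simpa [hEr] using hv⟩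
        · exact ⟨_, Or.inr (Or.inr rfl), by rw [show (a : T ⧸ D.V) = _ from h]; simpa [hEr] using hv⟩
      have hz : c⁻¹ * a ∈ Subgroup.center T := hWc _ ((hEV _).1 hc')
      have e : a = c * (c⁻¹ * a) := by group
      rw [e, D.mul_left, D.self_comm hc, one_mul,
        commutatorElement_eq_one_iff_mul_comm.2 (Subgroup.mem_center_iff.1 hz b).symm]
    have hUK : ∀ u ∈ U, ∀ z : T, ⁅u, z⁆ ∈ D.V := by
      intro u hu z
      refine (D.fix _).1 ?_
      rw [map_commutatorElement, show D.s u = u * (u⁻¹ * D.s u) by group,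
        show D.s z = z * (z⁻¹ * D.s z) by group, D.mul_left, D.mul_right, hUU _ hu _ (hdU z), mul_one]
      have hw : u⁻¹ * D.s u ∈ D.W := (hEV _).1 (by
        have := hu
        rw [hU, Subgroup.mem_comap, E.mem_W] at this
        simpa [hEs] using this)
      rw [commutatorElement_eq_one_iff_mul_comm.2 (Subgroup.mem_center_iff.1 (hWc _ hw) (z * (z⁻¹ * D.s z))).symm,
        mul_one]
    have hidx : U.index ≤ 4 := by
      rw [hU, Subgroup.index_comap_of_surjective _ (QuotientGroup.mk'_surjective _)]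
      have h1 := Subgroup.card_mul_index E.W
      rw [E.card_W ⟨q₀, hq₀⟩, h64] at h1
      omega
    intro a b
    obtain ⟨x, rfl⟩ := QuotientGroup.mk_surjective a
    obtain ⟨y, rfl⟩ := QuotientGroup.mk_surjective b
    refine (hcV x y).1 (D.comm_mem_of_index (fun z hz => ?_) hidx hUK x y)
    show ((D.r z : T) : T ⧸ D.V) ∈ E.W
    rw [← hEr]
    exact E.rW hz

namespace Setup

variable {T : Type u} [Group T] [Finite T] (D : Setup T)
include D

theorem exists_pair (h64 : Nat.card T = 64) (hsq : ∀ x : T, x * x ∈ D.V) (hab : ¬ ∀ x y : T, x * y = y * x)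
    {u : T} (hu : u * u = 1) (huV : u ∉ D.V) : ∃ w : T, w * w = 1 ∧ ⁅u, w⁆ ≠ 1 := by
  classical
  obtain ⟨b, hb⟩ : ∃ b : T, ⁅u, b⁆ ≠ 1 := by
    by_contra! hall
    apply hab
    set Z := Subgroup.center T with hZ
    have huZ : u ∈ Z := Subgroup.mem_center_iff.2 fun g => (commutatorElement_eq_one_iff_mul_comm.1 (hall g)).symm
    have hrZ : ∀ z ∈ Z, D.r z ∈ Z := fun z hz =>
      (Subgroup.characteristic_iff_map_eq.1 inferInstance D.r).le ⟨z, hz, rfl⟩
    have h3 := Cfsg.Agent.Order64.modEq_one D.r (MulEquiv.ext fun y => D.r3 y) (fun y => D.fpf) Z hrZ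
    have hgt : 4 < Nat.card Z := by
      rw [← D.V4]
      refine lt_of_le_of_ne (Subgroup.card_le_of_le D.Vc) fun e => huV ?_
      rwa [Subgroup.eq_of_le_of_card_ge D.Vc e.ge]
    obtain ⟨k, hk, hk'⟩ := (Nat.dvd_prime_pow Nat.prime_two).1
      (show Nat.card Z ∣ 2 ^ 6 by rw [show (2 : ℕ) ^ 6 = 64 by norm_num, ← h64]; exact Subgroup.card_subgroup_dvd_card Z)
    have hidx : Z.index ≤ 4 := by
      have h1 := Subgroup.card_mul_index Z
      rw [h64, hk'] at h1
      rw [hk'] at h3 hgt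
      interval_cases k <;> omega
    intro x y
    refine commutatorElement_eq_one_iff_mul_comm.1 (Subgroup.mem_bot.1 ?_)
    refine D.comm_mem_of_index hrZ hidx (fun v hv z => ?_) x y
    rw [Subgroup.mem_bot, commutatorElement_eq_one_iff_mul_comm]
    exact (Subgroup.mem_center_iff.1 hv z).symm
  by_cases hbb : b * b = 1
  · exact ⟨b, hbb, hb⟩
  obtain ⟨c, hc, hcb⟩ : ∃ c : T, (c = u ∨ c = D.r u ∨ c = D.r (D.r u)) ∧ ⁅c, b⁆ = b * b := by
    have hk : ⁅u, b⁆ ∈ D.V := by
      rw [show ⁅u, b⁆ = (u * b) * (u * b) * ((b * b)⁻¹) by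
        rw [commutatorElement_def, inv_eq_of_mul_eq_one_right hu]; group]
      exact D.V.mul_mem (hsq _) (D.V.inv_mem (hsq b))
    rcases D.V_cases hk hb (hsq b) with h | h | h | h
    · exact absurd h hbb
    · exact ⟨u, Or.inl rfl, h.symm⟩
    · exact ⟨_, Or.inr (Or.inr rfl), by rw [D.r_left, D.r_left, D.r3]; exact h.symm⟩
    · exact ⟨_, Or.inr (Or.inl rfl), by rw [D.r_left]; exact h.symm⟩
  have hcc : c * c = 1 := by
    rcases hc with rfl | rfl | rfl <;> simp only [← map_mul, hu, map_one]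
  refine ⟨b * c, ?_, ?_⟩
  · have e : c * b = ⁅c, b⁆ * (b * c) := by rw [commutatorElement_def]; group
    calc b * c * (b * c) = b * (c * b) * c := by group
      _ = (b * ⁅c, b⁆) * b * (c * c) := by rw [e]; group
      _ = ⁅c, b⁆ * (b * b) := by rw [Subgroup.mem_center_iff.1 (D.comm_mem c b) b, hcc]; group
      _ = 1 := by rw [hcb, D.Vsq (hsq b)]
  · have : ⁅u, c⁆ = 1 := by rw [← commutatorElement_inv, D.self_comm hc, inv_one]
    rwa [D.mul_right, this, mul_one]

open Cfsg.Agent.Order64 in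
theorem iso (h64 : Nat.card T = 64) (hcV : ∀ x y : T, ⁅x, y⁆ ∈ D.V) {u w : T} (hu : u * u = 1) (hw : w * w = 1)
    (hk : ⁅u, w⁆ ≠ 1) {F : Type} [Field F] [Fintype F] (hF : Fintype.card F = 4) : Nonempty (T ≃* Heis F) := by
  classical
  have hsym : ∀ x y : T, ⁅x, y⁆ = ⁅y, x⁆ := fun x y => by
    rw [← commutatorElement_inv]
    exact inv_eq_of_mul_eq_one_left (D.Vsq (hcV y x))
  set k := ⁅u, w⁆ with hkdef
  have hkV : k ∈ D.V := hcV u w
  have hkc : k ∈ Subgroup.center T := D.Vc hkV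
  set a := D.r (D.r k) with hadef
  have haV : a ∈ D.V := D.rmemV (D.rmemV hkV)
  have hac : a ∈ Subgroup.center T := D.Vc haV
  haveI : CharP F 2 := by
    refine (CharP.charP_iff_prime_eq_zero Nat.prime_two).2 ?_
    have h : ((4 : ℕ) : F) = 0 := hF ▸ Nat.cast_card_eq_zero F
    have h' : ((2 : ℕ) : F) * (2 : ℕ) = 0 := by rw [← Nat.cast_mul]; exact h
    exact (mul_self_eq_zero.1 h')
  obtain ⟨ω, hω0, hω1⟩ : ∃ ω : F, ω ≠ 0 ∧ ω ≠ 1 := by
    by_contra hcon
    push Not at hcon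
    have h : (Finset.univ : Finset F) ⊆ {0, 1} := fun y _ => by
      by_cases hy : y = 0
      · simp [hy]
      · simp [hcon y hy]
    have h' := (Finset.card_le_card h).trans Finset.card_le_two
    rw [Finset.card_univ, hF] at h'
    norm_num at h'
  have h2 : (2 : F) = 0 := CharP.cast_eq_zero F 2
  have hω2 : ω * ω = 1 + ω := by
    have h3 : ω ^ 3 = 1 := by
      have h := FiniteField.pow_card_sub_one_eq_one ω hω0
      rwa [hF] at h
    have : (ω - 1) * (ω * ω + ω + 1) = 0 := by linear_combination h3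
    have := (mul_eq_zero.1 this).resolve_left (sub_ne_zero.2 hω1)
    linear_combination this - (1 + ω) * h2
  let θ : ZMod 2 × ZMod 2 →+ F := AddMonoidHom.mk' (fun z => (z.1.val : F) + (z.2.val : F) * ω) fun z z' => by
    have hval : ∀ i i' : ZMod 2, (((i + i').val : ℕ) : F) = (i.val : F) + (i'.val : F) := fun i i' => by
      rw [ZMod.val_add, ← Nat.cast_add, CharP.cast_eq_iff_mod_eq F 2, Nat.mod_mod]
    rw [Prod.fst_add, Prod.snd_add, hval, hval]
    ring
  have hθ : Function.Bijective θ := by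
    have hinj : Function.Injective θ := (injective_iff_map_eq_zero θ).2 fun z hz => by
      obtain ⟨i, j⟩ := z
      have hz' : (i.val : F) + (j.val : F) * ω = 0 := hz
      rcases zmod2_cases i with rfl | rfl <;> rcases zmod2_cases j with rfl | rfl <;>
        simp [ZMod.val_one] at hz'
      · rfl
      · exact absurd hz' hω0
      · exact absurd (show ω = 1 by linear_combination hz' - h2) hω1
    haveI : Finite F := inferInstance
    refine (Nat.bijective_iff_injective_and_card _).2 ⟨hinj, ?_⟩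
    rw [Nat.card_prod, Nat.card_zmod, Nat.card_eq_fintype_card, hF]
  let e : Multiplicative F →* Multiplicative (ZMod 2 × ZMod 2) :=
    AddMonoidHom.toMultiplicative (AddEquiv.ofBijective θ hθ).symm.toAddMonoidHom
  have hρi : ∀ y : T, y * y = 1 → D.r y * D.r y = 1 := fun y hy => by rw [← map_mul, hy, map_one]
  obtain ⟨fu, hfu⟩ := pair_hom hu (hρi u hu) (D.comm_r u)
  obtain ⟨fw, hfw⟩ := pair_hom hw (hρi w hw) (D.comm_r w)
  obtain ⟨fz, hfz⟩ := pair_hom (D.Vsq hkV) (D.Vsq haV) (Subgroup.mem_center_iff.1 hac k)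
  set U := fu.comp e with hU
  set W := fw.comp e with hW
  set Pz := fz.comp e with hPz
  have hval : ∀ (f : Multiplicative (ZMod 2 × ZMod 2) →* T) (i j : ZMod 2),
      (f.comp e) (Multiplicative.ofAdd ((i.val : F) + (j.val : F) * ω)) = f (Multiplicative.ofAdd (i, j)) :=
    fun f i j => congrArg (fun z => f (Multiplicative.ofAdd z)) ((AddEquiv.ofBijective θ hθ).symm_apply_apply (i, j))
  have hPc : ∀ c, Pz c ∈ Subgroup.center T := fun c => by
    obtain ⟨⟨i, j⟩, hij⟩ : ∃ z : ZMod 2 × ZMod 2, e c = Multiplicative.ofAdd z := ⟨_, rfl⟩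
    rw [hPz, MonoidHom.comp_apply, hij, hfz]
    exact mul_mem (pow_mem hkc _) (pow_mem hac _)
  -- the values on the basis
  have v10 : ∀ f : Multiplicative (ZMod 2 × ZMod 2) →* T,
      (f.comp e) (Multiplicative.ofAdd 1) = f (Multiplicative.ofAdd (1, 0)) := fun f => by
    rw [← hval f 1 0]; simp [ZMod.val_one]
  have v01 : ∀ f : Multiplicative (ZMod 2 × ZMod 2) →* T,
      (f.comp e) (Multiplicative.ofAdd ω) = f (Multiplicative.ofAdd (0, 1)) := fun f => by
    rw [← hval f 0 1]; simp [ZMod.val_one]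
  have hU1 : U (Multiplicative.ofAdd 1) = u := by rw [hU, v10, hfu]; simp [ZMod.val_one]
  have hUω : U (Multiplicative.ofAdd ω) = D.r u := by rw [hU, v01, hfu]; simp [ZMod.val_one]
  have hW1 : W (Multiplicative.ofAdd 1) = w := by rw [hW, v10, hfw]; simp [ZMod.val_one]
  have hWω : W (Multiplicative.ofAdd ω) = D.r w := by rw [hW, v01, hfw]; simp [ZMod.val_one]
  have hP1 : Pz (Multiplicative.ofAdd 1) = k := by rw [hPz, v10, hfz]; simp [ZMod.val_one]
  have hPω : Pz (Multiplicative.ofAdd ω) = a := by rw [hPz, v01, hfz]; simp [ZMod.val_one]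
  have hspan : ∀ y : F, y = 0 ∨ y = 1 ∨ y = ω ∨ y = 1 + ω := fun y => by
    obtain ⟨⟨i, j⟩, rfl⟩ := hθ.2 y
    show ((i.val : F) + (j.val : F) * ω = 0) ∨ ((i.val : F) + (j.val : F) * ω = 1) ∨
      ((i.val : F) + (j.val : F) * ω = ω) ∨ ((i.val : F) + (j.val : F) * ω = 1 + ω)
    rcases zmod2_cases i with rfl | rfl <;> rcases zmod2_cases j with rfl | rfl <;> simp [ZMod.val_one]
  -- the commutators
  have hbil : ∀ c d : F, ⁅U (Multiplicative.ofAdd c), W (Multiplicative.ofAdd d)⁆ = Pz (Multiplicative.ofAdd (c * d)) := by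
    have hgen : ∀ c ∈ ({1, ω} : Set F), ∀ d ∈ ({1, ω} : Set F),
        ⁅U (Multiplicative.ofAdd c), W (Multiplicative.ofAdd d)⁆ = Pz (Multiplicative.ofAdd (c * d)) := by
      rintro c (rfl | rfl) d (rfl | rfl)
      · rw [hU1, hW1, one_mul, hP1]
      · rw [hU1, hWω, one_mul, hPω, D.r_right u w]
      · rw [hUω, hW1, mul_one, hPω, D.r_left u w]
      · rw [hUω, hWω, hω2, ofAdd_add, map_mul, hP1, hPω, ← map_commutatorElement, ← hkdef, hadef,
          eq_inv_of_mul_eq_one_right (D.prod_eq k), inv_eq_of_mul_eq_one_right (D.Vsq (D.V.mul_mem hkV (D.rmemV hkV))), ← mul_assoc,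
          D.Vsq hkV, one_mul]
    intro c d
    have hleft : ∀ d ∈ ({1, ω} : Set F), ∀ c,
        ⁅U (Multiplicative.ofAdd c), W (Multiplicative.ofAdd d)⁆ = Pz (Multiplicative.ofAdd (c * d)) := by
      intro d hd c
      rcases hspan c with rfl | rfl | rfl | rfl
      · simp
      · exact hgen 1 (Or.inl rfl) d hd
      · exact hgen c (Or.inr rfl) d hd
      · rw [ofAdd_add, map_mul, D.mul_left, hgen 1 (Or.inl rfl) d hd, hgen ω (Or.inr rfl) d hd, ← map_mul,
          ← ofAdd_add, add_mul]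
    rcases hspan d with rfl | rfl | rfl | rfl
    · simp
    · exact hleft 1 (Or.inl rfl) c
    · exact hleft d (Or.inr rfl) c
    · rw [ofAdd_add, map_mul, D.mul_right, hleft 1 (Or.inl rfl) c, hleft ω (Or.inr rfl) c, ← map_mul,
        ← ofAdd_add, mul_add]
  let Φ : Heis F →* T := MonoidHom.mk'
    (fun z => U (Multiplicative.ofAdd z.a) * W (Multiplicative.ofAdd z.b) * Pz (Multiplicative.ofAdd z.c))
    fun z z' => by
      rw [Heis.mul_a, Heis.mul_b, Heis.mul_c, ofAdd_add, ofAdd_add, ofAdd_add, ofAdd_add, map_mul U, map_mul W,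
        map_mul Pz, map_mul Pz, mul_comm z.b z'.a, ← hbil, hsym]
      set A := U (Multiplicative.ofAdd z.a)
      set A' := U (Multiplicative.ofAdd z'.a)
      set B := W (Multiplicative.ofAdd z.b)
      set B' := W (Multiplicative.ofAdd z'.b)
      set P := Pz (Multiplicative.ofAdd z.c)
      set P' := Pz (Multiplicative.ofAdd z'.c)
      have hP : ∀ g, g * P = P * g := fun g => Subgroup.mem_center_iff.1 (hPc _) g
      have hc : ∀ g, g * ⁅B, A'⁆ = ⁅B, A'⁆ * g := fun g => Subgroup.mem_center_iff.1 (D.comm_mem B A') g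
      symm
      calc A * B * P * (A' * B' * P') = A * B * (P * (A' * B')) * P' := by group
        _ = A * B * ((A' * B') * P) * P' := by rw [hP]
        _ = A * (⁅B, A'⁆ * (A' * B)) * B' * P * P' := by rw [commutatorElement_def]; group
        _ = A * ((A' * B) * ⁅B, A'⁆) * B' * P * P' := by rw [hc]
        _ = A * A' * B * (⁅B, A'⁆ * B') * (P * P') := by group
        _ = A * A' * B * (B' * ⁅B, A'⁆) * (P * P') := by rw [hc]
        _ = A * A' * (B * B') * (⁅B, A'⁆ * (P * P')) := by group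
        _ = A * A' * (B * B') * ((P * P') * ⁅B, A'⁆) := by rw [hc]
        _ = _ := by group
  have hinjP : Function.Injective Pz := by
    refine (injective_iff_map_eq_one Pz).2 fun c hc => ?_
    have hρk : D.r k ≠ 1 := fun h => hk (D.r.injective (h.trans (map_one D.r).symm))
    obtain ⟨y, rfl⟩ := Multiplicative.ofAdd.surjective c
    rcases hspan y with rfl | rfl | rfl | rfl
    · rfl
    · exact absurd (hP1.symm.trans hc) hk
    · rw [hPω, hadef] at hc
      exact absurd (D.r.injective (hc.trans (map_one D.r).symm)) hρk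
    · rw [ofAdd_add, map_mul, hP1, hPω, hadef, eq_inv_of_mul_eq_one_right (D.prod_eq k),
        inv_eq_of_mul_eq_one_right (D.Vsq (D.V.mul_mem hkV (D.rmemV hkV))), ← mul_assoc, D.Vsq hkV, one_mul] at hc
      exact absurd hc hρk
  have hinj : Function.Injective Φ := (injective_iff_map_eq_one Φ).2 fun z hz => by
    have hzz : U (Multiplicative.ofAdd z.a) * W (Multiplicative.ofAdd z.b) * Pz (Multiplicative.ofAdd z.c) = 1 := hz
    have hUU : ∀ c d : F, ⁅U (Multiplicative.ofAdd c), U (Multiplicative.ofAdd d)⁆ = 1 := fun c d =>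
      commutatorElement_eq_one_iff_mul_comm.2 (by rw [← map_mul, mul_comm, map_mul])
    have hWW : ∀ c d : F, ⁅W (Multiplicative.ofAdd c), W (Multiplicative.ofAdd d)⁆ = 1 := fun c d =>
      commutatorElement_eq_one_iff_mul_comm.2 (by rw [← map_mul, mul_comm, map_mul])
    have hPg : ∀ (c : Multiplicative F) (g : T), ⁅Pz c, g⁆ = 1 := fun c g =>
      commutatorElement_eq_one_iff_mul_comm.2 (Subgroup.mem_center_iff.1 (hPc c) g).symm
    have hga : ∀ d : F, z.a * d = 0 := fun d => by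
      have h := congrArg (fun g => ⁅g, W (Multiplicative.ofAdd d)⁆) hzz
      simp only [D.mul_left, hWW, hPg, mul_one, commutatorElement_one_left, hbil] at h
      exact Multiplicative.ofAdd.injective (hinjP (h.trans (map_one Pz).symm))
    have hgb : ∀ d : F, d * z.b = 0 := fun d => by
      have h := congrArg (fun g => ⁅U (Multiplicative.ofAdd d), g⁆) hzz
      simp only [D.mul_right, hUU, one_mul, commutatorElement_one_right, hbil] at h
      rw [hsym _ (Pz _), hPg, mul_one] at h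
      exact Multiplicative.ofAdd.injective (hinjP (h.trans (map_one Pz).symm))
    have ha0 : z.a = 0 := by simpa using hga 1
    have hb0 : z.b = 0 := by simpa using hgb 1
    rw [ha0, hb0, ofAdd_zero, map_one, map_one, one_mul, one_mul] at hzz
    exact Heis.ext ha0 hb0 (Multiplicative.ofAdd.injective (hinjP (hzz.trans (map_one Pz).symm)))
  refine ⟨(MulEquiv.ofBijective Φ ((Nat.bijective_iff_injective_and_card _).2 ⟨hinj, ?_⟩)).symm⟩
  rw [Heis.card, Nat.card_eq_fintype_card, hF, h64]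

/-- The classification. -/
theorem classify : (Nat.card T = 16 ∧ ∀ x : T, x * x = 1) ∨
    (∃ n : ℕ, 1 ≤ n ∧ Nonempty (T ≃* Multiplicative (ZMod (2 ^ n) × ZMod (2 ^ n)))) ∨
      (∀ (F : Type) [Field F] [Fintype F], Fintype.card F = 4 → Nonempty (T ≃* Order64.Heis F)) ∨
        ∃ E : Suzuki2.Datum T, (∃ x y : T, x * y ≠ y * x) ∧ Nat.card E.V = 4 ∧ Nat.card T = 64 := by
  classical
  haveI : Fact (Nat.Prime 2) := ⟨Nat.prime_two⟩
  have hrk : (∀ x : T, x * x = 1 → x ∈ D.V) →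
      (∃ n : ℕ, 1 ≤ n ∧ Nonempty (T ≃* Multiplicative (ZMod (2 ^ n) × ZMod (2 ^ n)))) ∨
        ∃ E : Suzuki2.Datum T, (∃ x y : T, x * y ≠ y * x) ∧ Nat.card E.V = 4 ∧ Nat.card T = 64 := by
    intro hinv
    refine RankTwoTrans.classify D.hp ?_ ?_ D.r ?_
    · intro A hA hA2
      refine (Subgroup.card_le_of_le fun x hx => hinv x ?_).trans_eq (D.V4.trans (by norm_num))
      rw [← pow_two]; exact hA2 x hx
    · intro h
      have := h D.V ⟨⟨fun p q => Subtype.ext (D.vcomm q.2 p)⟩⟩ fun x hx => by rw [pow_two]; exact D.Vsq hx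
      rw [D.V4] at this
      norm_num at this
    · intro p q hp hq
      have h2 : ∀ {z : T}, orderOf z = 2 → z ≠ 1 ∧ z * z = 1 := fun {z} hz =>
        ⟨fun e => by rw [e, orderOf_one] at hz; norm_num at hz, by rw [← pow_two, ← hz, pow_orderOf_eq_one]⟩
      obtain ⟨hp1, hpp⟩ := h2 hp
      obtain ⟨hq1, hqq⟩ := h2 hq
      rcases D.V_cases (hinv p hpp) hp1 (hinv q hqq) with h | h | h | h
      · exact absurd h hq1
      · exact ⟨0, by rw [h]; rfl⟩
      · exact ⟨1, by rw [h, pow_one]⟩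
      · exact ⟨2, by rw [h, pow_two]; rfl⟩
  by_cases hab : ∀ x y : T, x * y = y * x
  · rcases D.abelian_cases hab with h | h
    · exact Or.inl h
    · rcases hrk h with h' | ⟨E, ⟨x, y, hxy⟩, -⟩
      · exact Or.inr (Or.inl h')
      · exact absurd (hab x y) hxy
  obtain ⟨h64, hsq, hcV⟩ := (dichotomy _ D rfl).resolve_left hab
  by_cases hinv : ∀ x : T, x * x = 1 → x ∈ D.V
  · rcases hrk hinv with h | h
    · exact Or.inr (Or.inl h)
    · exact Or.inr (Or.inr (Or.inr h))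
  push Not at hinv
  obtain ⟨u, hu, huV⟩ := hinv
  obtain ⟨w, hw, hk⟩ := D.exists_pair h64 hsq hab hu huV
  exact Or.inr (Or.inr (Or.inl fun F _ _ hF => D.iso h64 hcV hu hw hk hF))

end Setup

end Cfsg.Agent.FourFixed
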