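/-
Asymmetric `Y_M`.
-/
import Cfsg.Agent.Lib.LocalEven.FrakM
import Cfsg.Agent.Lib.LocalEven.WeakClosed

set_option autoImplicit false
set_option linter.unusedSectionVars false

namespace Cfsg.Agent.LEFrakAsym

open Cfsg.Agent.LEBasic Cfsg.Agent.LEPReduced Cfsg.Agent.LEFrakM
open scoped commutatorElement

variable {G : Type*} [Group G] [Finite G] {p : ℕ} [Fact p.Prime]

/-- Standing facts about a member of the family. -/
structure Setup (p : ℕ) (G : Type*) [Group G] where
  T : Sylow p G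
  M : Subgroup G
  hG : Cfsg.IsOfParabolicCharacteristic p G
  hTM : (T : Subgroup G) ≤ M
  hM : Cfsg.IsInFrakM p M
  hasym : ¬ Cfsg.IsSymmetricIn (Cfsg.largestPReducedOf p M)

/-- A `p`-subgroup of `C(Y_M)` above `O_p(M)` is `O_p(M)`. -/
theorem eq_opIn_of_le (T : Sylow p G) {M : Subgroup G} (hTM : (T : Subgroup G) ≤ M) (hM : Cfsg.IsInFrakM p M)
    {R : Subgroup G} (hR : IsPGroup p ↥R) (hPR : CharP.opIn p M ≤ R)
    (hRC : R ≤ Subgroup.centralizer (Cfsg.largestPReducedOf p M : Set G)) : R = CharP.opIn p M := by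
  set C := Subgroup.centralizer (Cfsg.largestPReducedOf p M : Set G) with hC
  have hP : CharP.opIn p M = (T : Subgroup G) ⊓ C :=
    le_antisymm (le_inf (opIn_le_of_sylow T hTM) (opIn_centralizes M)) (inf_le_opIn T hTM hM)
  obtain ⟨S, hS⟩ := exists_sylow_centralizer T (hTM.trans (largestOf_red (p := p) M).1)
  have h1 := S.is_maximal' (Q := R.subgroupOf C) (hR.comap_of_injective C.subtype C.subtype_injective) (by
    rw [hS]; intro x hx; exact hPR (hP ▸ hx))
  refine le_antisymm (fun x hx => ?_) hPR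
  have h2 : (⟨x, hRC hx⟩ : ↥C) ∈ (S : Subgroup ↥C) := h1 ▸ hx
  rw [hS] at h2
  rw [hP]; exact h2

theorem le_of_mutual (D : Setup p G) {R : Subgroup G} (hR : IsPGroup p ↥R) (hPR : CharP.opIn p D.M ≤ R)
    (hRd : R ≤ dag p D.M) {w : G}
    (h1 : (Cfsg.largestPReducedOf p D.M).map (MulAut.conj w).toMonoidHom ≤ R)
    (h2 : (Cfsg.largestPReducedOf p D.M).map (MulAut.conj w⁻¹).toMonoidHom ≤ R) :
    (Cfsg.largestPReducedOf p D.M).map (MulAut.conj w).toMonoidHom ≤ CharP.opIn p D.M := by
  set Y := Cfsg.largestPReducedOf p D.M with hY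
  set Y' := Y.map (MulAut.conj w).toMonoidHom with hY'
  have hRY : R ≤ Subgroup.normalizer (Y : Set G) := hRd.trans (dag_le_normalizer D.M)
  have hn : Y ≤ Subgroup.normalizer (Y' : Set G) := by
    intro y hy
    have h3 : w⁻¹ * y * w ∈ Subgroup.normalizer (Y : Set G) := hRY (h2 ⟨y, hy, by simp⟩)
    rw [← map_conj_eq_iff_mem_normalizer] at h3 ⊢
    rw [hY', map_conj_map_conj, show y * w = w * (w⁻¹ * y * w) by group, ← map_conj_map_conj, h3]
  have h4 : ⁅Y, Y'⁆ = ⊥ := by
    by_contra h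
    exact D.hasym ⟨w, h, le_inf (Subgroup.le_normalizer_iff_commutator_le_left.1 (h1.trans hRY))
      (Subgroup.le_normalizer_iff_commutator_le_right.1 hn)⟩
  have h5 : Y' ≤ Subgroup.centralizer (Y : Set G) :=
    Subgroup.le_centralizer_iff.1 (Subgroup.commutator_eq_bot_iff_le_centralizer.1 h4)
  have h6 := eq_opIn_of_le D.T D.hTM D.hM (R := R ⊓ Subgroup.centralizer (Y : Set G)) (hR.to_le inf_le_left)
    (le_inf hPR (opIn_centralizes D.M)) inf_le_right
  exact h6 ▸ le_inf h1 h5

/-- The core: `N(R) ≤ N(O_p(M))` for a `p`-subgroup `R` of `M C(Y_M)` above `O_p(M)`. -/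
theorem normalizer_le_of_dag (D : Setup p G) {R : Subgroup G} (hR : IsPGroup p ↥R) (hPR : CharP.opIn p D.M ≤ R)
    (hRd : R ≤ dag p D.M) :
    Subgroup.normalizer (R : Set G) ≤ Subgroup.normalizer (CharP.opIn p D.M : Set G) := by
  set Y := Cfsg.largestPReducedOf p D.M with hY
  set L := Subgroup.normalizer (R : Set G) with hL
  set P := CharP.opIn p D.M with hP
  have hYP : Y ≤ P := (largestOf_red D.M).le_opIn (largestOf_le D.M)
  have hMY : ∀ m ∈ D.M, Y.map (MulAut.conj m).toMonoidHom = Y := fun m hm =>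
    map_conj_eq_iff_mem_normalizer.2 ((largestOf_red D.M).1 hm)
  have hMP : ∀ m ∈ D.M, P.map (MulAut.conj m).toMonoidHom = P := fun m hm =>
    map_conj_eq_iff_mem_normalizer.2 (CharP.le_normalizer_opIn D.M hm)
  have hLR : ∀ l ∈ L, P.map (MulAut.conj l).toMonoidHom ≤ R := fun l hl =>
    (map_conj_mono l hPR).trans (map_conj_eq_iff_mem_normalizer.2 hl).le
  have key : ∀ (n : ℕ) (ws : List G), ws.length = n → (∀ x ∈ ws, x ∈ D.M ∨ x ∈ L) →
      Y.map (MulAut.conj ws.prod).toMonoidHom ≤ P := by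
    intro n
    induction n using Nat.strong_induction_on with
    | _ n ih =>
      intro ws hn hws
      rcases List.eq_nil_or_concat ws with rfl | ⟨ini, b, hib⟩
      · rw [List.prod_nil, map_conj_one]; exact hYP
      rcases ws with _ | ⟨a, tl⟩
      · rw [List.prod_nil, map_conj_one]; exact hYP
      have htl : ∀ x ∈ tl, x ∈ D.M ∨ x ∈ L := fun x hx => hws x (List.mem_cons_of_mem _ hx)
      have hYtl : Y.map (MulAut.conj tl.prod).toMonoidHom ≤ P := ih tl.length (by simp at hn; omega) tl rfl htl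
      rw [List.concat_eq_append] at hib
      have hini : ∀ x ∈ ini, x ∈ D.M ∨ x ∈ L := fun x hx => hws x (hib ▸ List.mem_append_left _ hx)
      have hlen : ini.length < n := by
        rw [← hn, hib, List.length_append, List.length_singleton]; omega
      have hb := hws b (hib ▸ List.mem_append_right _ (List.mem_singleton_self b))
      rcases hws a List.mem_cons_self with ha | ha
      · rw [List.prod_cons, ← map_conj_map_conj]
        exact (map_conj_mono a hYtl).trans (hMP a ha).le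
      rcases hb with hb | hb
      · rw [hib, List.prod_append, List.prod_singleton, ← map_conj_map_conj, hMY b hb]
        exact ih _ hlen ini rfl hini
      refine le_of_mutual D hR hPR hRd ?_ ?_
      · rw [List.prod_cons, ← map_conj_map_conj]
        exact (map_conj_mono a hYtl).trans (hLR a ha)
      · rw [hib, List.prod_append, List.prod_singleton, mul_inv_rev, ← map_conj_map_conj]
        refine (map_conj_mono b⁻¹ ?_).trans (hLR b⁻¹ (inv_mem hb))
        rw [List.prod_inv_reverse]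
        refine ih _ hlen _ (by simp) fun x hx => ?_
        obtain ⟨y, hy, rfl⟩ := List.mem_map.1 (List.mem_reverse.1 hx)
        exact (hini y hy).imp inv_mem inv_mem
  set W : Subgroup G := ⨆ ws : {ws : List G // ∀ x ∈ ws, x ∈ D.M ∨ x ∈ L},
    Y.map (MulAut.conj ws.1.prod).toMonoidHom with hW
  have hWP : W ≤ P := iSup_le fun ws => key _ ws.1 rfl ws.2
  have hstab : ∀ g : G, (g ∈ D.M ∨ g ∈ L) → g ∈ Subgroup.normalizer (W : Set G) := by
    intro g hg
    rw [← map_conj_eq_iff_mem_normalizer]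
    refine Subgroup.eq_of_le_of_card_ge ?_ (card_map_conj _ g).ge
    rw [hW, Subgroup.map_iSup]
    refine iSup_le fun ws => ?_
    refine le_trans ?_ (le_iSup _ ⟨g :: ws.1, fun x hx => ?_⟩)
    · rw [List.prod_cons, ← map_conj_map_conj]
    · rcases List.mem_cons.1 hx with rfl | h
      · exact hg
      · exact ws.2 x h
  have hW1 : W ≠ ⊥ := by
    intro h
    refine largest_ne_bot D.T D.hTM D.hM.1 (le_bot_iff.1 (le_trans ?_ h.le))
    refine le_trans ?_ (le_iSup _ ⟨[], by simp⟩)
    rw [List.prod_nil, map_conj_one]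
  have hLd : L ≤ dag p D.M := fun l hl =>
    le_dag D.hG D.T D.hTM D.hM ((CharP.opIn_isPGroup D.M).to_le hWP) hW1
      (fun m hm => hstab m (Or.inl hm)) (hstab l (Or.inr hl))
  intro l hl
  have hlC : l ∈ Subgroup.normalizer (Subgroup.centralizer (Y : Set G) : Set G) :=
    LELarge.normalizer_le_normalizer_centralizer Y (dag_le_normalizer D.M (hLd hl))
  rw [← map_conj_eq_iff_mem_normalizer]
  refine Subgroup.eq_of_le_of_card_ge ?_ (card_map_conj _ l).ge
  have h6 := eq_opIn_of_le D.T D.hTM D.hM (R := R ⊓ Subgroup.centralizer (Y : Set G)) (hR.to_le inf_le_left)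
    (le_inf hPR (opIn_centralizes D.M)) inf_le_right
  exact (le_inf (hLR l hl) ((map_conj_mono l (opIn_centralizes D.M)).trans
    (map_conj_eq_iff_mem_normalizer.2 hlC).le)).trans h6.le

theorem normalizer_opIn_le (D : Setup p G) :
    Subgroup.normalizer (CharP.opIn p D.M : Set G) ≤ dag p D.M :=
  le_dag D.hG D.T D.hTM D.hM (CharP.opIn_isPGroup D.M) (opIn_ne_bot D.hM.1) (CharP.le_normalizer_opIn D.M)

theorem le_normalizer_opIn_of_pGroup (D : Setup p G) {R : Subgroup G} (hR : IsPGroup p ↥R)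
    (hPR : CharP.opIn p D.M ≤ R) : R ≤ Subgroup.normalizer (CharP.opIn p D.M : Set G) := by
  set P := CharP.opIn p D.M with hP
  set R' := R ⊓ Subgroup.normalizer (P : Set G) with hR'
  have h1 := normalizer_le_of_dag D (R := R') (hR.to_le inf_le_left) (le_inf hPR Subgroup.le_normalizer)
    (inf_le_right.trans (normalizer_opIn_le D))
  have h2 : R' = R := LESylow.eq_of_normalizer_inf_le hR inf_le_left
    (le_inf inf_le_left (inf_le_right.trans h1) |>.trans (le_of_eq rfl))
  exact h2.ge.trans inf_le_right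

/-- `N(R) ≤ N(O_p(M))` for every `p`-subgroup `R` above `O_p(M)`. -/
theorem normalizer_le (D : Setup p G) {R : Subgroup G} (hR : IsPGroup p ↥R) (hPR : CharP.opIn p D.M ≤ R) :
    Subgroup.normalizer (R : Set G) ≤ Subgroup.normalizer (CharP.opIn p D.M : Set G) :=
  normalizer_le_of_dag D hR hPR ((le_normalizer_opIn_of_pGroup D hR hPR).trans (normalizer_opIn_le D))

theorem weaklyClosed (D : Setup p G) : Cfsg.IsWeaklyClosedSubgroup p (CharP.opIn p D.M) :=
  LEWeakClosed.weaklyClosed_of_normalizers (CharP.opIn_isPGroup D.M) fun _ hR hPR => normalizer_le D hR hPR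

theorem control (D : Setup p G) {x g : G} (hx : x ∈ Cfsg.largestPReducedOf p D.M)
    (hgx : g * x * g⁻¹ ∈ Cfsg.largestPReducedOf p D.M) : ∃ m ∈ D.M, m * x * m⁻¹ = g * x * g⁻¹ := by
  set Y := Cfsg.largestPReducedOf p D.M with hY
  set P := CharP.opIn p D.M with hP
  set K := Subgroup.centralizer ({g * x * g⁻¹} : Set G) with hK
  have hPK : P ≤ K := (opIn_centralizes D.M).trans (Subgroup.centralizer_le (Set.singleton_subset_iff.2 hgx))
  have hgK : P.map (MulAut.conj g).toMonoidHom ≤ K := by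
    rintro _ ⟨u, hu, rfl⟩
    have h := congrArg (fun z => g * z * g⁻¹) (Subgroup.mem_centralizer_iff.1 (opIn_centralizes D.M hu) x hx)
    exact Subgroup.mem_centralizer_singleton_iff.2 (by simpa [mul_assoc] using h.symm)
  obtain ⟨k, hk, he⟩ := LEWeakClosed.exists_mem_conj_eq (CharP.opIn_isPGroup D.M) (weaklyClosed D) hPK hgK
  have hn : k⁻¹ * g ∈ Subgroup.normalizer (P : Set G) := by
    rw [← map_conj_eq_iff_mem_normalizer, ← map_conj_map_conj, he, LEWeakClosed.map_conj_cancel]
  have hMC : D.M ≤ Subgroup.normalizer (Subgroup.centralizer (Y : Set G) : Set G) :=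
    (largestOf_red D.M).1.trans (LELarge.normalizer_le_normalizer_centralizer _)
  obtain ⟨c, hc, m, hm, hcm⟩ := (SolvBasic.mem_sup_iff_of_le_normalizer hMC).1
    ((sup_comm D.M _).le (normalizer_opIn_le D hn))
  refine ⟨m, hm, ?_⟩
  have hmY : m * x * m⁻¹ ∈ Y := (Subgroup.mem_normalizer_iff.1 ((largestOf_red D.M).1 hm) x).1 hx
  have h1 : (c * m) * x * (c * m)⁻¹ = m * x * m⁻¹ := by
    rw [show (c * m) * x * (c * m)⁻¹ = c * (m * x * m⁻¹) * c⁻¹ by group,
      ← Subgroup.mem_centralizer_iff.1 hc _ hmY, mul_inv_cancel_right]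
  rw [← hcm] at h1
  have h2 : k * (g * x * g⁻¹) * k⁻¹ = g * x * g⁻¹ :=
    mul_inv_eq_iff_eq_mul.2 (Subgroup.mem_centralizer_singleton_iff.1 hk)
  calc m * x * m⁻¹ = k⁻¹ * (g * x * g⁻¹) * k := by rw [← h1]; group
    _ = k⁻¹ * (k * (g * x * g⁻¹) * k⁻¹) * k := by rw [h2]
    _ = g * x * g⁻¹ := by group

end Cfsg.Agent.LEFrakAsym
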