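/-
Subgroups containing the preimage of the generalized Fitting subgroup of `M C(Y_M) / C(Y_M)`.
-/
import Cfsg.Agent.Lib.LocalEven.FrakAsym
import Cfsg.Agent.Lib.LocalEven.Subnormal
import Cfsg.Agent.Lib.Components.FStar

set_option autoImplicit false
set_option linter.unusedSectionVars false

namespace Cfsg.Agent.LEFrakF

open Cfsg.Agent.LEBasic Cfsg.Agent.LEPReduced Cfsg.Agent.LEFrakM Cfsg.Agent.LEFrakAsym
open scoped commutatorElement

variable {G : Type*} [Group G] [Finite G] {p : ℕ} [Fact p.Prime]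

/-- With trivial `O_p`, a `p`-subgroup normalized by `F*` is trivial. -/
theorem eq_bot_of_fstar_normalizes {X : Type*} [Group X] [Finite X] (hX : Cfsg.pCore p X = ⊥) {R : Subgroup X}
    (hR : IsPGroup p ↥R) (hn : Cfsg.generalizedFittingSubgroup X ≤ Subgroup.normalizer (R : Set X)) : R = ⊥ := by
  set F := Cfsg.generalizedFittingSubgroup X with hF
  have hFn : F.Normal := Cfsg.Agent.Components.generalizedFitting_normal
  have hn1 : F ≤ Subgroup.normalizer ((F ⊓ R : Subgroup X) : Set X) :=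
    (le_inf Subgroup.le_normalizer hn).trans (LELarge.inf_normalizer_le _ _)
  have hsub : (F ⊓ R).IsSubnormal := Subgroup.IsSubnormal.step _ F inf_le_left hFn.isSubnormal
    ((Subgroup.normal_subgroupOf_iff_le_normalizer inf_le_left).2 hn1)
  have h1 : F ⊓ R = ⊥ := le_bot_iff.1 (hX ▸ CharP.isPGroup_le_pCore_of_isSubnormal hsub (hR.to_le inf_le_right))
  have h2 : ⁅R, F⁆ = ⊥ := le_bot_iff.1 (h1 ▸ le_inf (Subgroup.le_normalizer_iff_commutator_le_right.1
    (by rw [Subgroup.normalizer_eq_top_iff.2 hFn]; exact le_top))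
    (Subgroup.le_normalizer_iff_commutator_le_left.1 hn))
  have h3 : R ≤ F := (Subgroup.commutator_eq_bot_iff_le_centralizer.1 h2).trans
    Cfsg.Agent.Components.centralizer_generalizedFitting_le
  rw [← h1, inf_eq_right.2 h3]

theorem pCore_quotient_centralizer {V K : Subgroup G} (h : Red p V K)
    [hn : ((Subgroup.centralizer (V : Set G)).subgroupOf K).Normal] :
    Cfsg.pCore p (↥K ⧸ (Subgroup.centralizer (V : Set G)).subgroupOf K) = ⊥ := by
  set π := QuotientGroup.mk' ((Subgroup.centralizer (V : Set G)).subgroupOf K)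
  haveI hM : ((Cfsg.pCore p (↥K ⧸ (Subgroup.centralizer (V : Set G)).subgroupOf K)).comap π).Normal :=
    (Cfsg.pCore_normal p _).comap π
  set N := (Cfsg.pCore p (↥K ⧸ (Subgroup.centralizer (V : Set G)).subgroupOf K)).comap π with hN
  have h1 := h.2.2 (N.map K.subtype) (Subgroup.map_subtype_le _)
    (by
      conv_lhs => rw [← Subgroup.range_subtype K, MonoidHom.range_eq_map]
      exact (Subgroup.map_mono (Subgroup.normalizer_eq_top_iff.2 hM).ge).trans (Subgroup.le_normalizer_map _))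
    (by
      rintro _ ⟨g, hg, rfl⟩ hgc
      exact (QuotientGroup.eq_one_iff g).1 (Cfsg.Agent.PBasic.eq_one_of_isPGroup_of_coprime
        (Cfsg.Agent.PBasic.pCore_isPGroup p _) hg
        (Nat.Coprime.coprime_dvd_left (orderOf_map_dvd π g) (by simpa using hgc))))
  rw [eq_bot_iff]
  intro q hq
  obtain ⟨g, rfl⟩ := QuotientGroup.mk'_surjective _ q
  exact Subgroup.mem_bot.2 ((QuotientGroup.eq_one_iff g).2 (h1 ⟨g, hq, rfl⟩))

theorem main (D : Setup p G)
    [hn : ((Subgroup.centralizer (Cfsg.largestPReducedOf p D.M : Set G)).subgroupOf (dag p D.M)).Normal]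
    {F : Subgroup G} (hF : F = ((Cfsg.generalizedFittingSubgroup (↥(dag p D.M) ⧸
      (Subgroup.centralizer (Cfsg.largestPReducedOf p D.M : Set G)).subgroupOf (dag p D.M))).comap
      (QuotientGroup.mk' ((Subgroup.centralizer (Cfsg.largestPReducedOf p D.M : Set G)).subgroupOf (dag p D.M)))).map
      (dag p D.M).subtype)
    {H : Subgroup G} (hFH : F ≤ H) (hH : Subgroup.centralizer (Cfsg.pCore p ↥H : Set ↥H) ≤ Cfsg.pCore p ↥H) :
    Cfsg.largestPReducedOf p D.M ≤ Cfsg.largestPReducedOf p H := by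
  set Y := Cfsg.largestPReducedOf p D.M with hY
  set C := Subgroup.centralizer (Y : Set G) with hC
  set M' := dag p D.M with hM'
  set C' := C.subgroupOf M' with hC'
  set π := QuotientGroup.mk' C' with hπ
  set P := CharP.opIn p D.M with hP
  have hYe := (largestOf_red (p := p) D.M).2.1
  have hred : Red p Y M' := by
    have h := largestOf_red (p := p) M'
    rwa [hM', ← show Y = Cfsg.largestPReducedOf p (dag p D.M) from D.hM.2.2.2.1] at h
  have hcore : Cfsg.pCore p (↥M' ⧸ C') = ⊥ := pCore_quotient_centralizer (K := M') hred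
  have hCF : C ≤ F := by
    intro c hc
    rw [hF]
    refine ⟨⟨c, (le_sup_right : C ≤ M') hc⟩, ?_, rfl⟩
    show π (⟨c, (le_sup_right : C ≤ M') hc⟩ : ↥M') ∈ Cfsg.generalizedFittingSubgroup (↥M' ⧸ C')
    rw [show π ⟨c, (le_sup_right : C ≤ M') hc⟩ = 1 from (QuotientGroup.eq_one_iff _).2 hc]
    exact one_mem _
  have key : ∀ X : Subgroup G, X ≤ M' → F ≤ Subgroup.normalizer (X : Set G) →
      (∀ g ∈ X, (orderOf g).Coprime p → g ∈ C) → X ≤ C := by
    intro X hXM hFX hco
    have h1 : (X.subgroupOf M').map π = ⊥ := by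
      refine eq_bot_of_fstar_normalizes (p := p) hcore ?_ ?_
      · rintro ⟨_, g, hg, rfl⟩
        obtain ⟨u, v, huv, hu, -, ⟨k, hk⟩, hvc⟩ := Cfsg.Agent.PBasic.exists_pPart_mul (p := p) g
        have hvX : v ∈ X.subgroupOf M' := by
          obtain ⟨b, hb⟩ := Subgroup.mem_zpowers_iff.1 hu
          have hv : v = g ^ (-b + 1) := by rw [zpow_add, zpow_neg, zpow_one, hb, ← huv, inv_mul_cancel_left]
          rw [hv]; exact zpow_mem hg _
        have h2 : π v = 1 := (QuotientGroup.eq_one_iff v).2 (hco v hvX (by simpa using hvc))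
        refine ⟨k, Subtype.ext ?_⟩
        show π g ^ p ^ k = 1
        rw [← huv, map_mul, h2, mul_one, ← map_pow, ← hk, pow_orderOf_eq_one, map_one]
      · have h3 : (Cfsg.generalizedFittingSubgroup (↥M' ⧸ C')).comap π ≤
            Subgroup.normalizer ((X.subgroupOf M' : Subgroup ↥M') : Set ↥M') := by
          intro f hf
          rw [Subgroup.mem_normalizer_iff]
          intro x
          exact Subgroup.mem_normalizer_iff.1 (hFX (hF ▸ ⟨f, hf, rfl⟩ : (f : G) ∈ F)) x
        conv_lhs => rw [← Subgroup.map_comap_eq_self_of_surjective (QuotientGroup.mk'_surjective C')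
          (Cfsg.generalizedFittingSubgroup (↥M' ⧸ C'))]
        exact (Subgroup.map_mono h3).trans (Subgroup.le_normalizer_map _)
    intro x hx
    have h4 : π ⟨x, hXM hx⟩ ∈ (X.subgroupOf M').map π := ⟨⟨x, hXM hx⟩, hx, rfl⟩
    rw [h1, Subgroup.mem_bot] at h4
    exact ((QuotientGroup.eq_one_iff (⟨x, hXM hx⟩ : ↥M')).1 h4 :)
  -- a Sylow subgroup of `H` above `P`
  have hPH : P ≤ H := (opIn_centralizes D.M).trans (hCF.trans hFH)
  obtain ⟨T, hT⟩ := ((CharP.opIn_isPGroup (p := p) D.M).comap_of_injective H.subtype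
    H.subtype_injective).exists_le_sylow
  set T' := (T : Subgroup ↥H).map H.subtype with hT'
  have hPT : P ≤ T' := fun y hy => ⟨⟨y, hPH hy⟩, hT hy, rfl⟩
  have hTp : IsPGroup p ↥T' := T.isPGroup'.map _
  have hTM : T' ≤ M' := (le_normalizer_opIn_of_pGroup D hTp hPT).trans (normalizer_opIn_le D)
  have hTmax : ∀ R : Subgroup G, IsPGroup p ↥R → R ≤ H → T' ≤ R → R = T' := fun R hR hRK hTR => by
    have h2 := T.is_maximal' (hR.comap_of_injective H.subtype H.subtype_injective)
      (Q := R.subgroupOf H) (fun x hx => hTR ⟨x, hx, rfl⟩)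
    rw [hT', ← h2, Subgroup.map_subgroupOf_eq_of_le hRK]
  -- `O_p(H)` centralizes `Y`
  set Q := CharP.opIn p H with hQ
  have hQT : Q ≤ T' := by rintro _ ⟨x, hx, rfl⟩; exact ⟨x, pCore_le_sylow T hx, rfl⟩
  have hQC : Q ≤ C := key Q (hQT.trans hTM) (hFH.trans (CharP.le_normalizer_opIn H)) fun g hg hgc => by
    rw [Cfsg.Agent.PBasic.eq_one_of_isPGroup_of_coprime (CharP.opIn_isPGroup H) hg hgc]; exact one_mem _
  have hYH : Y ≤ H := (le_centralizer_self hYe).trans (hCF.trans hFH)
  have hYW : Y ≤ LEKieler.oz p Q := fun y hy => by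
    have hyQ : y ∈ Subgroup.centralizer (Q : Set G) := Subgroup.le_centralizer_iff.1 hQC hy
    refine Subgroup.subset_closure ⟨Subgroup.mem_inf.2 ⟨?_, hyQ⟩, hYe.2 y hy⟩
    exact ⟨⟨y, hYH hy⟩, hH (Subgroup.mem_centralizer_iff.2 fun q hq =>
      Subtype.ext (Subgroup.mem_centralizer_iff.1 hyQ _ ⟨q, hq, rfl⟩)), rfl⟩
  have hWH : H ≤ Subgroup.normalizer (LEKieler.oz p Q : Set G) :=
    (CharP.le_normalizer_opIn H).trans LEKieler.le_normalizer_oz
  set V := (Subgroup.normalClosure ((Y.subgroupOf H : Subgroup ↥H) : Set ↥H)).map H.subtype with hV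
  have hYV : Y ≤ V := fun y hy => ⟨⟨y, hYH hy⟩, Subgroup.subset_normalClosure hy, rfl⟩
  have hVW : V ≤ LEKieler.oz p Q := by
    haveI hWn : ((LEKieler.oz p Q).subgroupOf H).Normal := (Subgroup.normal_subgroupOf_iff_le_normalizer
      ((LEKieler.oz_le Q).trans (inf_le_left.trans (CharP.opIn_le H)))).2 hWH
    rw [hV, Subgroup.map_le_iff_le_comap]
    exact @Subgroup.normalClosure_le_normal _ _ _ _ hWn fun y hy => hYW hy
  have hVn : H ≤ Subgroup.normalizer (V : Set G) := by
    conv_lhs => rw [← Subgroup.range_subtype H, MonoidHom.range_eq_map]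
    exact (Subgroup.map_mono (Subgroup.normalizer_eq_top_iff.2 Subgroup.normalClosure_normal).ge).trans
      (Subgroup.le_normalizer_map _)
  refine hYV.trans (le_largestOf (Subgroup.map_subtype_le _) ⟨hVn, elem_mono (LEKieler.oz_elem Q) hVW,
    fun N hNH hHN hco => ?_⟩)
  have hcoY : ∀ g ∈ N, (orderOf g).Coprime p → g ∈ C := fun g hg hgc =>
    Subgroup.centralizer_le hYV (hco g hg hgc)
  have hNM : N ⊓ M' ≤ C := key _ inf_le_right
    ((le_inf (hFH.trans hHN) ((hF.le.trans (Subgroup.map_subtype_le _)).trans Subgroup.le_normalizer)).trans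
      (LELarge.inf_normalizer_le _ _)) fun g hg hgc => hcoY g (Subgroup.mem_inf.1 hg).1 hgc
  have hNC : N ≤ C := le_of_coprime_sylow hNH hHN (Subgroup.map_subtype_le _) hTp hTmax hcoY
    ((le_inf inf_le_right (inf_le_left.trans hTM)).trans hNM)
  rw [Subgroup.le_centralizer_iff, hV, Subgroup.map_le_iff_le_comap]
  haveI : ((Subgroup.centralizer (N : Set G)).comap H.subtype).Normal := by
    constructor
    intro x hx g
    exact (Subgroup.mem_normalizer_iff.1 (LELarge.normalizer_le_normalizer_centralizer N (hHN g.2)) _).1 hx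
  exact Subgroup.normalClosure_le_normal fun y hy => Subgroup.le_centralizer_iff.1 hNC hy

end Cfsg.Agent.LEFrakF
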