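/-
Members of `ℌ(O_p(M))`.
-/
import Cfsg.Agent.Lib.LocalEven.FrakAsym
import Cfsg.Agent.Lib.LocalEven.PIrred

set_option autoImplicit false
set_option linter.unusedSectionVars false

namespace Cfsg.Agent.LEFrakH

open Cfsg.Agent.LEBasic Cfsg.Agent.LEPReduced Cfsg.Agent.LEFrakM Cfsg.Agent.LEFrakAsym
open scoped commutatorElement

variable {G : Type*} [Group G] [Finite G] {p : ℕ} [Fact p.Prime]

/-- The normal closure of `X` in `K`, as a subgroup of the ambient group. -/
abbrev nclIn (K X : Subgroup G) : Subgroup G :=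
  (Subgroup.normalClosure ((X.subgroupOf K : Subgroup ↥K) : Set ↥K)).map K.subtype

theorem le_nclIn {K X : Subgroup G} (h : X ≤ K) : X ≤ nclIn K X :=
  fun x hx => ⟨⟨x, h hx⟩, Subgroup.subset_normalClosure hx, rfl⟩

theorem nclIn_le (K X : Subgroup G) : nclIn K X ≤ K := Subgroup.map_subtype_le _

theorem le_normalizer_nclIn (K X : Subgroup G) : K ≤ Subgroup.normalizer (nclIn K X : Set G) := by
  conv_lhs => rw [← Subgroup.range_subtype K, MonoidHom.range_eq_map]
  exact (Subgroup.map_mono (Subgroup.normalizer_eq_top_iff.2 Subgroup.normalClosure_normal).ge).trans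
    (Subgroup.le_normalizer_map _)

theorem nclIn_min {K X N : Subgroup G} (hn : K ≤ Subgroup.normalizer (N : Set G)) (hXN : X ≤ N) :
    nclIn K X ≤ N := by
  haveI : (N.comap K.subtype).Normal :=
    ⟨fun x hx g => (Subgroup.mem_normalizer_iff.1 (hn g.2) _).1 hx⟩
  rw [nclIn, Subgroup.map_le_iff_le_comap]
  exact Subgroup.normalClosure_le_normal fun x hx => hXN hx

/-- `O_p` of a normal subgroup lies in `O_p` of the group. -/
theorem opIn_le_of_normal {N K : Subgroup G} (hNK : N ≤ K) (hn : K ≤ Subgroup.normalizer (N : Set G)) :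
    CharP.opIn p N ≤ CharP.opIn p K :=
  CharP.le_opIn ((CharP.opIn_le N).trans hNK) (hn.trans (CharP.normalizer_le_normalizer_opIn N))
    (CharP.opIn_isPGroup N)

/-- `O_p(K) ∩ N ≤ O_p(N)`. -/
theorem inf_opIn_le {N K : Subgroup G} (hNK : N ≤ K) : N ⊓ CharP.opIn p K ≤ CharP.opIn p N :=
  CharP.le_opIn inf_le_left
    ((le_inf Subgroup.le_normalizer (hNK.trans (CharP.le_normalizer_opIn K))).trans (LELarge.inf_normalizer_le _ _))
    ((CharP.opIn_isPGroup K).to_le inf_le_right)

/-- Joining a `p`-subgroup of `K` with `O_p(K)`. -/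
theorem sup_opIn_isPGroup {K R : Subgroup G} (hR : IsPGroup p ↥R) (hRK : R ≤ K) :
    IsPGroup p ↥(CharP.opIn p K ⊔ R) :=
  IsPGroup.to_sup_of_normal_left' (CharP.opIn_isPGroup K) hR (hRK.trans (CharP.le_normalizer_opIn K))

theorem largest_le_opIn (M : Subgroup G) : Cfsg.largestPReducedOf p M ≤ CharP.opIn p M :=
  (largestOf_red M).le_opIn (largestOf_le M)

theorem normalizer_le_largest (D : Setup p G) :
    Subgroup.normalizer (CharP.opIn p D.M : Set G) ≤ Subgroup.normalizer (Cfsg.largestPReducedOf p D.M : Set G) :=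
  (normalizer_opIn_le D).trans (dag_le_normalizer D.M)

variable {H : Subgroup G}

theorem sylow_le_normalizer (D : Setup p G) {T : Subgroup G} (hT : IsPGroup p ↥T) (hPT : CharP.opIn p D.M ≤ T) :
    T ≤ Subgroup.normalizer (CharP.opIn p D.M : Set G) := le_normalizer_opIn_of_pGroup D hT hPT

theorem exists_sylow_above {K R : Subgroup G} (hR : IsPGroup p ↥R) (hRK : R ≤ K) :
    ∃ T : Sylow p ↥K, R ≤ (T : Subgroup ↥K).map K.subtype := by
  obtain ⟨T, hT⟩ := (hR.comap_of_injective K.subtype K.subtype_injective).exists_le_sylow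
  exact ⟨T, fun y hy => ⟨⟨y, hRK hy⟩, hT hy, rfl⟩⟩

theorem card_sylow_map {K : Subgroup G} (T : Sylow p ↥K) (T' : Sylow p ↥K) :
    Nat.card ↥((T : Subgroup ↥K).map K.subtype) = Nat.card ↥((T' : Subgroup ↥K).map K.subtype) := by
  rw [Nat.card_congr ((T : Subgroup ↥K).equivMapOfInjective K.subtype K.subtype_injective).toEquiv.symm,
    Nat.card_congr ((T' : Subgroup ↥K).equivMapOfInjective K.subtype K.subtype_injective).toEquiv.symm,
    Sylow.card_eq_multiplicity, Sylow.card_eq_multiplicity]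

theorem exists_sylow_of_le {K L : Subgroup G} (hKL : K ≤ L) (P₀ : Sylow p ↥L)
    (h0 : (P₀ : Subgroup ↥L).map L.subtype ≤ K) (T : Sylow p ↥K) :
    ∃ P : Sylow p ↥L, (P : Subgroup ↥L).map L.subtype = (T : Subgroup ↥K).map K.subtype := by
  obtain ⟨T', hT'⟩ := exists_sylow_above (P₀.isPGroup'.map L.subtype) h0
  obtain ⟨Q, hQ⟩ := exists_sylow_above (T.isPGroup'.map K.subtype) ((Subgroup.map_subtype_le _).trans hKL)
  refine ⟨Q, (Subgroup.eq_of_le_of_card_ge hQ ?_).symm⟩
  rw [card_sylow_map Q P₀, card_sylow_map T T']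
  exact Subgroup.card_le_of_le hT'

theorem sylow_inf (D : Setup p G) (hPH : CharP.opIn p D.M ≤ H) (T : Sylow p ↥(H ⊓ dag p D.M)) :
    ∃ P : Sylow p ↥H, (P : Subgroup ↥H).map H.subtype =
      (T : Subgroup ↥(H ⊓ dag p D.M)).map (H ⊓ dag p D.M).subtype := by
  obtain ⟨P₀, hP₀⟩ := exists_sylow_above (CharP.opIn_isPGroup D.M) hPH
  exact exists_sylow_of_le inf_le_left P₀ (le_inf (Subgroup.map_subtype_le _)
    ((sylow_le_normalizer D (P₀.isPGroup'.map _) hP₀).trans (normalizer_opIn_le D))) T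

theorem opIn_le (D : Setup p G) (hPH : CharP.opIn p D.M ≤ H) :
    CharP.opIn p H ≤ Subgroup.normalizer (CharP.opIn p D.M : Set G) :=
  le_sup_left.trans (sylow_le_normalizer D (sup_opIn_isPGroup (CharP.opIn_isPGroup D.M) hPH) le_sup_right)

theorem ncl_eq (D : Setup p G) (hH : Cfsg.IsInFrakH p D.M H) : nclIn H (CharP.opIn p D.M) = H := by
  obtain ⟨-, hPH, hY, hmin⟩ := hH
  by_contra hne
  exact hY ((hmin _ (le_nclIn hPH) (lt_of_le_of_ne (nclIn_le _ _) hne)).trans
    (opIn_le_of_normal (nclIn_le _ _) (le_normalizer_nclIn _ _)))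

/-- The structure of `O^p(H)`. -/
theorem residual_structure (D : Setup p G) (hH : Cfsg.IsInFrakH p D.M H) {R : Subgroup G}
    (hR : R = (Cfsg.pResidual p ↥H).map H.subtype) :
    ⁅R, Cfsg.largestPReducedOf p D.M⁆ = R ∧ R ⊔ CharP.opIn p D.M = H ∧
      R ⊔ Cfsg.largestPReducedOf p D.M = nclIn H (Cfsg.largestPReducedOf p D.M) := by
  have hn := ncl_eq D hH
  obtain ⟨-, hPH, hY, hmin⟩ := hH
  set P := CharP.opIn p D.M with hP
  set Y := Cfsg.largestPReducedOf p D.M with hYdef
  have hYP : Y ≤ P := largest_le_opIn D.M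
  have hYH : Y ≤ H := hYP.trans hPH
  have hRH : R ≤ H := hR.le.trans (Subgroup.map_subtype_le _)
  have hHR : H ≤ Subgroup.normalizer (R : Set G) := by
    rw [hR]
    exact Subgroup.le_normalizer.trans (le_normalizer_map_of_characteristic pResidual_characteristic)
  obtain ⟨T, hT⟩ := exists_sylow_above (CharP.opIn_isPGroup D.M) hPH
  set T' := (T : Subgroup ↥H).map H.subtype with hT'
  have hTH : T' ≤ H := Subgroup.map_subtype_le _
  have hTP := sylow_le_normalizer D (T.isPGroup'.map H.subtype) hT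
  have hgen : H ≤ R ⊔ T' := by
    rw [hR, hT', ← Subgroup.map_sup, pResidual_sup_sylow, ← MonoidHom.range_eq_map, Subgroup.range_subtype]
  have hnorm : ∀ X : Subgroup G, R ≤ Subgroup.normalizer (X : Set G) → T' ≤ Subgroup.normalizer (X : Set G) →
      H ≤ Subgroup.normalizer (X : Set G) := fun X h1 h2 => hgen.trans (sup_le h1 h2)
  set R₀ := ⁅R, Y⁆ with hR₀
  have hR₀R : R₀ ≤ R := Subgroup.le_normalizer_iff_commutator_le_left.1 (hYH.trans hHR)
  have hTR₀ : T' ≤ Subgroup.normalizer (R₀ : Set G) := fun t ht => by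
    rw [← map_conj_eq_iff_mem_normalizer, hR₀, Subgroup.map_commutator,
      map_conj_eq_iff_mem_normalizer.2 (hHR (hTH ht)),
      map_conj_eq_iff_mem_normalizer.2 (normalizer_le_largest D (hTP ht))]
  have hR₀n : H ≤ Subgroup.normalizer (R₀ : Set G) :=
    hnorm _ (Subgroup.normalizer_commutator_ge_left R Y) hTR₀
  -- `R₀ Y` is normal
  have hsupn : ∀ X : Subgroup G, T' ≤ Subgroup.normalizer (X : Set G) → Y ≤ X →
      (∀ r ∈ R, ∀ x ∈ X, r * x * r⁻¹ ∈ R₀ ⊔ X) → H ≤ Subgroup.normalizer ((R₀ ⊔ X : Subgroup G) : Set G) := by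
    intro X hX _ hr
    refine hnorm _ (fun r hrR => ?_) fun t ht => ?_
    · rw [← map_conj_eq_iff_mem_normalizer]
      refine Subgroup.eq_of_le_of_card_ge ?_ (card_map_conj _ r).ge
      rw [Subgroup.map_sup, map_conj_eq_iff_mem_normalizer.2 (Subgroup.normalizer_commutator_ge_left R Y hrR)]
      refine sup_le le_sup_left ?_
      rintro _ ⟨x, hx, rfl⟩
      exact hr r hrR x hx
    · rw [← map_conj_eq_iff_mem_normalizer, Subgroup.map_sup, map_conj_eq_iff_mem_normalizer.2 (hTR₀ ht),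
        map_conj_eq_iff_mem_normalizer.2 (hX ht)]
  have hN : nclIn H Y = R₀ ⊔ Y := by
    refine le_antisymm (nclIn_min (hsupn Y (hTP.trans (normalizer_le_largest D)) le_rfl fun r hr y hy => ?_) le_sup_right)
      (sup_le ?_ (le_nclIn hYH))
    · rw [show r * y * r⁻¹ = ⁅r, y⁆ * y by rw [commutatorElement_def]; group]
      exact mul_mem (Subgroup.mem_sup_left (Subgroup.commutator_mem_commutator hr hy)) (Subgroup.mem_sup_right hy)
    · exact (Subgroup.commutator_mono le_rfl (le_nclIn hYH)).trans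
        (Subgroup.le_normalizer_iff_commutator_le_right.1 (hRH.trans (le_normalizer_nclIn _ _)))
  have hR₀P : R₀ ⊔ P = H := by
    by_contra hne
    have hXH : R₀ ⊔ P ≤ H := sup_le (hR₀R.trans hRH) hPH
    have hYX : Y ≤ CharP.opIn p (R₀ ⊔ P) := hmin _ le_sup_right (lt_of_le_of_ne hXH hne)
    have hNX : nclIn H Y ≤ R₀ ⊔ P := hN.le.trans (sup_le_sup_left hYP _)
    have h1 : Y ≤ CharP.opIn p (nclIn H Y) := (le_inf (le_nclIn hYH) hYX).trans (inf_opIn_le hNX)
    exact hY (h1.trans (opIn_le_of_normal (nclIn_le _ _) (le_normalizer_nclIn _ _)))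
  have hRR₀ : R ≤ R₀ := by
    rw [hR]
    refine pResidual_map_le fun x hx hxc => ?_
    exact LEWeakClosed.mem_of_sup_pGroup (hPH.trans hR₀n) (CharP.opIn_isPGroup D.M) (hR₀P.ge hx) hxc
  have hRe : R₀ = R := le_antisymm hR₀R hRR₀
  exact ⟨hRe, by rw [← hRe]; exact hR₀P, by rw [hN, hRe]⟩

/-- A `p`-subgroup-generated subgroup inherits characteristic `p`. -/
theorem isCharP_of_generated {L X P : Subgroup G} (hL : CharP.IsCharP p ↥L) (hXL : X ≤ L) (hPX : P ≤ X)
    (hgen : nclIn X P = X) (hVP : CharP.opIn p L ≤ Subgroup.normalizer (P : Set G)) : CharP.IsCharP p ↥X := by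
  set V := CharP.opIn p L with hV
  set A := V ⊓ X with hA
  have hXV : X ≤ Subgroup.normalizer (V : Set G) := hXL.trans (CharP.le_normalizer_opIn L)
  have hXA : X ≤ Subgroup.normalizer (A : Set G) :=
    (le_inf hXV Subgroup.le_normalizer).trans (LELarge.inf_normalizer_le _ _)
  let Z : Subgroup G :=
    { carrier := {x | x ∈ X ∧ ∀ v ∈ V, v⁻¹ * (x * v * x⁻¹) ∈ A}
      one_mem' := ⟨one_mem _, fun v _ => by simp⟩
      mul_mem' := fun {a b} ha hb => ⟨mul_mem ha.1 hb.1, fun v hv => by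
        rw [show v⁻¹ * (a * b * v * (a * b)⁻¹) = v⁻¹ * (a * v * a⁻¹) * (a * (v⁻¹ * (b * v * b⁻¹)) * a⁻¹) by group]
        exact mul_mem (ha.2 v hv) ((Subgroup.mem_normalizer_iff.1 (hXA ha.1) _).1 (hb.2 v hv))⟩
      inv_mem' := fun {a} ha => ⟨inv_mem ha.1, fun v hv => by
        have h1 := inv_mem (ha.2 (a⁻¹ * v * a) ((Subgroup.mem_normalizer_iff''.1 (hXV ha.1) v).1 hv))
        simpa [mul_assoc] using h1⟩ }
  have hXZ : X ≤ Subgroup.normalizer (Z : Set G) := by
    intro g hg
    rw [← map_conj_eq_iff_mem_normalizer]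
    refine Subgroup.eq_of_le_of_card_ge ?_ (card_map_conj _ g).ge
    rintro _ ⟨x, ⟨hx, hxv⟩, rfl⟩
    refine ⟨(Subgroup.mem_normalizer_iff.1 (Subgroup.le_normalizer hg) x).1 hx, fun v hv => ?_⟩
    have h1 := (Subgroup.mem_normalizer_iff.1 (hXA hg) _).1
      (hxv (g⁻¹ * v * g) ((Subgroup.mem_normalizer_iff''.1 (hXV hg) v).1 hv))
    simpa [mul_assoc] using h1
  have hPZ : P ≤ Z := fun x hx => ⟨hPX hx, fun v hv => by
    refine Subgroup.mem_inf.2 ⟨mul_mem (inv_mem hv) ((Subgroup.mem_normalizer_iff.1 (hXV (hPX hx)) v).1 hv), hPX ?_⟩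
    have h1 := mul_mem ((Subgroup.mem_normalizer_iff''.1 (hVP hv) x).1 hx) (inv_mem hx)
    simpa [mul_assoc] using h1⟩
  have hXle : X ≤ Z := hgen.ge.trans (nclIn_min hXZ hPZ)
  rw [CharP.isCharP_iff]
  intro x hx hxc hcx
  refine (CharP.isCharP_iff L).1 hL x (hXL hx) hxc fun v hv => ?_
  refine CharP.commute_of_conj_eq_mul (CharP.opIn_isPGroup L) (Subgroup.mem_inf.1 ((hXle hx).2 v hv)).1 hxc
    (by group) (hcx _ ?_)
  have hAX : A ≤ CharP.opIn p X := CharP.le_opIn inf_le_right hXA ((CharP.opIn_isPGroup L).to_le inf_le_left)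
  exact hAX ((hXle hx).2 v hv)

theorem exists_frakH (D : Setup p G) (htall : Cfsg.IsCharPTall p (Cfsg.largestPReducedOf p D.M)) :
    ∃ H : Subgroup G, Cfsg.IsInFrakH p D.M H := by
  set Y := Cfsg.largestPReducedOf p D.M with hY
  set P := CharP.opIn p D.M with hP
  obtain ⟨T, L, hTL, hL, hYL⟩ := htall
  obtain ⟨c, hc, hcT⟩ := LESylow.exists_conj_le_of_le (opIn_centralizes D.M) (CharP.opIn_isPGroup D.M) T
  have hcY : Y.map (MulAut.conj c).toMonoidHom = Y :=
    map_conj_eq_iff_mem_normalizer.2 (Subgroup.centralizer_le_normalizer _ hc)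
  set L' := L.map (MulAut.conj c⁻¹).toMonoidHom with hL'
  have hPL : P ≤ L' := by
    rw [← LEWeakClosed.map_conj_cancel P c]; exact map_conj_mono _ (hcT.trans hTL)
  have hL'c : CharP.IsCharP p ↥L' := LECharP.isCharP_map_conj c⁻¹ hL
  have hYL' : ¬ Y ≤ CharP.opIn p L' := fun h => hYL (by
    rw [← hcY]
    refine (map_conj_mono c h).trans (CharP.le_opIn ?_ ?_ (isPGroup_map_conj (CharP.opIn_isPGroup L') c))
    · have h1 := map_conj_mono c (CharP.opIn_le (p := p) L')
      rw [hL', LEWeakClosed.map_conj_cancel'] at h1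
      exact h1
    · have h1 := map_conj_mono c (CharP.le_normalizer_opIn (p := p) L')
      rw [hL', LEWeakClosed.map_conj_cancel'] at h1
      exact h1.trans (Subgroup.le_normalizer_map _))
  obtain ⟨X, hX⟩ := (Set.toFinite {X : Subgroup G | P ≤ X ∧ X ≤ L' ∧ ¬ Y ≤ CharP.opIn p X}).exists_minimal
    ⟨L', hPL, le_rfl, hYL'⟩
  obtain ⟨hPX, hXL, hYX⟩ := hX.prop
  have hgen : nclIn X P = X := by
    by_contra hne
    refine hne (le_antisymm (nclIn_le _ _) (hX.le_of_le ⟨le_nclIn hPX, (nclIn_le _ _).trans hXL, fun h => ?_⟩ (nclIn_le _ _)))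
    exact hYX (h.trans (opIn_le_of_normal (nclIn_le _ _) (le_normalizer_nclIn _ _)))
  refine ⟨X, isCharP_of_generated hL'c hXL hPX hgen (opIn_le D hPL), hPX, hYX, fun Q hPQ hQX => ?_⟩
  by_contra hYQ
  exact hQX.not_ge (hX.le_of_le ⟨hPQ, hQX.le.trans hXL, hYQ⟩ hQX.le)

theorem pResidual_map_eq_of_normal {N K : Subgroup G} (hNK : N ≤ K)
    (h : ∀ x ∈ K, (orderOf x).Coprime p → x ∈ N) :
    (Cfsg.pResidual p ↥K).map K.subtype = (Cfsg.pResidual p ↥N).map N.subtype :=
  le_antisymm (pResidual_map_le fun x hx hxc => mem_pResidual_map (h x hx hxc) hxc)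
    (pResidual_map_le fun x hx hxc => mem_pResidual_map (hNK hx) hxc)

/-- Part used for the conjugate of `Q`. -/
theorem over_normalized (D : Setup p G) (hH : Cfsg.IsInFrakH p D.M H) {Q : Subgroup G} (hQ : IsPGroup p ↥Q)
    (hHQ : H ≤ Subgroup.normalizer (Q : Set G)) :
    Q ≤ CharP.opIn p (H ⊔ Q) ∧
      CharP.opIn p (H ⊔ Q) ≤ Subgroup.normalizer (CharP.opIn p D.M : Set G) ∧
      (H.subgroupOf (H ⊔ Q)).Normal ∧
      (Cfsg.pResidual p ↥H).map H.subtype = (Cfsg.pResidual p ↥(H ⊔ Q)).map (H ⊔ Q).subtype ∧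
      Cfsg.IsPIrreducible p ↥(H ⊔ Q) := by
  set K := H ⊔ Q with hK
  set P := CharP.opIn p D.M with hP
  set Y := Cfsg.largestPReducedOf p D.M with hY
  have hn := ncl_eq D hH
  obtain ⟨hR1, hR2, hR3⟩ := residual_structure D hH rfl
  obtain ⟨-, hPH, hYo, hmin⟩ := hH
  have hQK : Q ≤ CharP.opIn p K := CharP.le_opIn le_sup_right (sup_le hHQ Subgroup.le_normalizer) hQ
  have hPK : P ≤ K := hPH.trans le_sup_left
  have hop : CharP.opIn p K ≤ Subgroup.normalizer (P : Set G) := opIn_le D hPK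
  have hQP : Q ≤ Subgroup.normalizer (P : Set G) := hQK.trans hop
  -- `H` is the closure of `P` in `K`
  have hconj : ∀ k ∈ K, P.map (MulAut.conj k).toMonoidHom ≤ H := by
    intro k hk
    obtain ⟨q, hq, h, hh, hqh⟩ := (SolvBasic.mem_sup_iff_of_le_normalizer hHQ).1
      ((sup_comm H Q).le (inv_mem hk))
    rw [show k = h⁻¹ * q⁻¹ by rw [← mul_inv_rev, ← hqh, inv_inv], ← map_conj_map_conj,
      map_conj_eq_iff_mem_normalizer.2 (hQP (inv_mem hq))]
    exact LEWeakClosed.map_conj_le_of_le hPH (inv_mem hh)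
  set N₁ := ⨆ k : ↥K, P.map (MulAut.conj (k : G)).toMonoidHom with hN₁
  have hN₁n : K ≤ Subgroup.normalizer (N₁ : Set G) := by
    intro a ha
    rw [← map_conj_eq_iff_mem_normalizer]
    refine Subgroup.eq_of_le_of_card_ge ?_ (card_map_conj _ a).ge
    rw [hN₁, Subgroup.map_iSup]
    refine iSup_le fun k => le_trans ?_ (le_iSup _ (⟨a, ha⟩ * k : ↥K))
    rw [map_conj_map_conj]; rfl
  have hN₁H : N₁ = H := by
    refine le_antisymm (iSup_le fun k => hconj k k.2) ?_
    rw [← hn]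
    refine nclIn_min (le_sup_left.trans hN₁n) (le_trans ?_ (le_iSup _ (1 : ↥K)))
    rw [Subgroup.coe_one, map_conj_one]
  have hKH : K ≤ Subgroup.normalizer (H : Set G) := hN₁H ▸ hN₁n
  have hHK : H ≤ K := le_sup_left
  haveI hHn : (H.subgroupOf K).Normal := (Subgroup.normal_subgroupOf_iff_le_normalizer hHK).2 hKH
  have hp' : ∀ x ∈ K, (orderOf x).Coprime p → x ∈ H := fun x hx hxc =>
    LEWeakClosed.mem_of_sup_pGroup (le_sup_right.trans hKH) hQ hx hxc
  refine ⟨hQK, hop, hHn, (pResidual_map_eq_of_normal hHK hp').symm, ?_, ?_⟩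
  · intro hcl
    obtain ⟨T, hT⟩ := exists_sylow_above (CharP.opIn_isPGroup D.M) hPK
    have h1 : (T : Subgroup ↥K).map K.subtype ≤ CharP.opIn p K :=
      Subgroup.map_mono (LEPIrred.pCore_eq_of_normal_sylow (hcl T)).ge
    exact hYo ((le_inf ((largest_le_opIn D.M).trans hPH) (((largest_le_opIn D.M).trans hT).trans h1)).trans
      (inf_opIn_le hHK))
  · intro N hN hncl
    set N' := N.map K.subtype with hN'
    have hN'K : N' ≤ K := Subgroup.map_subtype_le _
    have hKN' : K ≤ Subgroup.normalizer (N' : Set G) := by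
      conv_lhs => rw [← Subgroup.range_subtype K, MonoidHom.range_eq_map]
      exact (Subgroup.map_mono (Subgroup.normalizer_eq_top_iff.2 hN).ge).trans (Subgroup.le_normalizer_map _)
    set N₀ := N' ⊓ H with hN₀
    have hKN₀ : K ≤ Subgroup.normalizer (N₀ : Set G) :=
      (le_inf hKN' hKH).trans (LELarge.inf_normalizer_le _ _)
    rw [Cfsg.pResidual, Subgroup.closure_le]
    intro x hx
    have hxH : (x : G) ∈ H := hp' x x.2 (by simpa using hx)
    by_cases hX : N₀ ⊔ P = H
    · have h1 : (x : G) ∈ N₀ := LEWeakClosed.mem_of_sup_pGroup (hPK.trans hKN₀) (CharP.opIn_isPGroup D.M)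
        (hX.ge hxH) (by simpa using hx)
      obtain ⟨y, hy, hyx⟩ := (Subgroup.mem_inf.1 h1).1
      exact (K.subtype_injective hyx) ▸ hy
    exfalso
    refine hncl fun S => ?_
    set O := CharP.opIn p H with hO
    have hYH : Y ≤ H := (largest_le_opIn D.M).trans hPH
    have hYX : Y ≤ CharP.opIn p (N₀ ⊔ P) := hmin _ le_sup_right (lt_of_le_of_ne (sup_le inf_le_right hPH) hX)
    have hYN₀ : ⁅Y, N₀⁆ ≤ O := by
      have h1 : ⁅Y, N₀⁆ ≤ N₀ :=
        Subgroup.le_normalizer_iff_commutator_le_right.1 ((hYH.trans hHK).trans hKN₀)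
      have h2 : ⁅Y, N₀⁆ ≤ CharP.opIn p (N₀ ⊔ P) := (Subgroup.commutator_mono hYX le_sup_left).trans
        (Subgroup.le_normalizer_iff_commutator_le_left.1 (CharP.le_normalizer_opIn _))
      exact ((le_inf h1 h2).trans (inf_opIn_le le_sup_left)).trans
        (opIn_le_of_normal inf_le_right (hHK.trans hKN₀))
    -- pass to `K / O_p(H)`
    have hOK : O ≤ K := (CharP.opIn_le H).trans hHK
    have hKO : K ≤ Subgroup.normalizer (O : Set G) := hKH.trans (CharP.normalizer_le_normalizer_opIn H)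
    haveI hOn : (O.subgroupOf K).Normal := (Subgroup.normal_subgroupOf_iff_le_normalizer hOK).2 hKO
    set π := QuotientGroup.mk' (O.subgroupOf K) with hπ
    have hzero : ∀ A B : Subgroup G, A ≤ K → B ≤ K → (⁅(A.subgroupOf K).map π, (B.subgroupOf K).map π⁆ = ⊥ ↔ ⁅A, B⁆ ≤ O) := by
      intro A B hA hB
      have e : (⁅A.subgroupOf K, B.subgroupOf K⁆).map K.subtype = ⁅A, B⁆ := by
        rw [Subgroup.map_commutator, Subgroup.map_subgroupOf_eq_of_le hA, Subgroup.map_subgroupOf_eq_of_le hB]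
      rw [← Subgroup.map_commutator, Subgroup.map_eq_bot_iff, QuotientGroup.ker_mk', ← e,
        Subgroup.map_le_iff_le_comap]
      rfl
    set R := (Cfsg.pResidual p ↥H).map H.subtype with hR
    have hRH : R ≤ H := Subgroup.map_subtype_le _
    have hN₀K : N₀ ≤ K := inf_le_left.trans hN'K
    haveI : (N₀.subgroupOf K).Normal := (Subgroup.normal_subgroupOf_iff_le_normalizer hN₀K).2 hKN₀
    haveI : ((N₀.subgroupOf K).map π).Normal := Subgroup.Normal.map inferInstance π (QuotientGroup.mk'_surjective _)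
    set Cm := ((Subgroup.centralizer (((N₀.subgroupOf K).map π : Subgroup (↥K ⧸ O.subgroupOf K)) : Set (↥K ⧸ O.subgroupOf K))).comap π).map K.subtype with hCm
    have hYC : Y ≤ Cm := fun y hy => by
      have h1 := (hzero Y N₀ (hYH.trans hHK) hN₀K).2 hYN₀
      exact ⟨⟨y, hHK (hYH hy)⟩, Subgroup.commutator_eq_bot_iff_le_centralizer.1 h1 ⟨⟨y, hHK (hYH hy)⟩, hy, rfl⟩, rfl⟩
    have hRC : R ≤ Cm := by
      refine le_trans ?_ (nclIn_min (K := H) ?_ hYC)
      · exact le_sup_left.trans hR3.le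
      · refine hHK.trans ?_
        conv_lhs => rw [← Subgroup.range_subtype K, MonoidHom.range_eq_map]
        refine (Subgroup.map_mono (Subgroup.normalizer_eq_top_iff.2 ?_).ge).trans (Subgroup.le_normalizer_map _)
        exact Subgroup.Normal.comap Subgroup.normal_centralizer π
    have hRN₀ : ⁅R, N₀⁆ ≤ O := by
      refine (hzero R N₀ (hRH.trans hHK) hN₀K).1 (Subgroup.commutator_eq_bot_iff_le_centralizer.2 ?_)
      rintro _ ⟨r, hr, rfl⟩
      obtain ⟨r', hr', hre⟩ := hRC hr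
      exact (K.subtype_injective hre) ▸ hr'
    -- three subgroups
    have hRN : ⁅R, N'⁆ ≤ O := by
      set a := (R.subgroupOf K).map π
      set b := (Y.subgroupOf K).map π
      set c := (N'.subgroupOf K).map π
      set d := (N₀.subgroupOf K).map π
      have hbc : ⁅b, c⁆ ≤ d := by
        rw [← Subgroup.map_commutator]
        refine Subgroup.map_mono (Subgroup.commutator_le.2 fun y hy n hn => Subgroup.mem_subgroupOf.2 ?_)
        refine Subgroup.mem_inf.2 ⟨?_, ?_⟩
        · exact Subgroup.le_normalizer_iff_commutator_le_right.1 ((hYH.trans hHK).trans hKN')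
            (Subgroup.commutator_mem_commutator hy hn)
        · exact Subgroup.le_normalizer_iff_commutator_le_left.1 ((hN'K).trans hKH)
            (Subgroup.commutator_mem_commutator (hYH hy) hn)
      have hca : ⁅c, a⁆ ≤ d := by
        rw [← Subgroup.map_commutator]
        refine Subgroup.map_mono (Subgroup.commutator_le.2 fun n hn r hr => Subgroup.mem_subgroupOf.2 ?_)
        refine Subgroup.mem_inf.2 ⟨?_, ?_⟩
        · exact Subgroup.le_normalizer_iff_commutator_le_left.1 ((hRH.trans hHK).trans hKN')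
            (Subgroup.commutator_mem_commutator hn hr)
        · exact Subgroup.le_normalizer_iff_commutator_le_right.1 ((hN'K).trans hKH)
            (Subgroup.commutator_mem_commutator hn (hRH hr))
      have hda : ⁅d, a⁆ = ⊥ := by
        rw [Subgroup.commutator_comm]; exact (hzero R N₀ (hRH.trans hHK) hN₀K).2 hRN₀
      have hdb : ⁅d, b⁆ = ⊥ := by
        rw [Subgroup.commutator_comm]; exact (hzero Y N₀ (hYH.trans hHK) hN₀K).2 hYN₀
      have h3 : ⁅⁅a, b⁆, c⁆ = ⊥ := Subgroup.commutator_commutator_eq_bot_of_rotate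
        (le_bot_iff.1 (hda ▸ Subgroup.commutator_mono hbc le_rfl))
        (le_bot_iff.1 (hdb ▸ Subgroup.commutator_mono hca le_rfl))
      have e : ⁅a, b⁆ = a := by
        rw [← Subgroup.map_commutator]
        congr 1
        apply Subgroup.map_injective K.subtype_injective
        rw [Subgroup.map_commutator, Subgroup.map_subgroupOf_eq_of_le (hRH.trans hHK),
          Subgroup.map_subgroupOf_eq_of_le (hYH.trans hHK)]
        exact hR1
      rw [e] at h3
      exact (hzero R N' (hRH.trans hHK) hN'K).1 h3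
    -- so the Sylow subgroup is normal
    have hON : IsPGroup p ↥((O.subgroupOf K).subgroupOf N) :=
      ((CharP.opIn_isPGroup H).comap_of_injective K.subtype K.subtype_injective).comap_of_injective N.subtype
        N.subtype_injective
    rw [← Subgroup.normalizer_eq_top_iff, ← top_le_iff, ← pResidual_sup_sylow S]
    refine sup_le ?_ Subgroup.le_normalizer
    rw [Cfsg.pResidual, Subgroup.closure_le]
    intro a ha
    rw [SetLike.mem_coe, ← map_conj_eq_iff_mem_normalizer]
    refine Subgroup.eq_of_le_of_card_ge ?_ (card_map_conj _ a).ge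
    rintro _ ⟨t, ht, rfl⟩
    have hOS : (O.subgroupOf K).subgroupOf N ≤ (S : Subgroup ↥N) := normal_le_sylow hON S
    have haG : (((a : ↥N) : ↥K) : G) ∈ R := by
      have hc : (orderOf (((a : ↥N) : ↥K) : G)).Coprime p := by simpa using ha
      exact mem_pResidual_map (hp' _ (SetLike.coe_mem _) hc) hc
    have h4 : ⁅a, t⁆ ∈ (S : Subgroup ↥N) := hOS (Subgroup.mem_subgroupOf.2 (Subgroup.mem_subgroupOf.2
      (hRN (Subgroup.commutator_mem_commutator haG ⟨(t : ↥K), t.2, rfl⟩))))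
    show MulAut.conj a t ∈ (S : Subgroup ↥N)
    rw [MulAut.conj_apply, show a * t * a⁻¹ = ⁅a, t⁆ * t by rw [commutatorElement_def]; group]
    exact mul_mem h4 ht

end Cfsg.Agent.LEFrakH
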