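/-
The norm map modulo a fixed subgroup.
-/
import Cfsg.Agent.Lib.LocalEven.Norm

set_option autoImplicit false
set_option linter.unusedSectionVars false

namespace Cfsg.Agent.LENorm

open Cfsg.Agent.LEBasic

variable {G : Type*} [Group G] [Finite G]

/-- An element fixed modulo `U` by `T` yields one fixed modulo `U` by `L`, `U` centralized by `L`. -/
theorem exists_norm_mod {A L T U : Subgroup G} (hA : ∀ a ∈ A, ∀ b ∈ A, a * b = b * a) (hUA : U ≤ A)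
    (hLA : L ≤ Subgroup.normalizer (A : Set G)) (hLU : L ≤ Subgroup.centralizer (U : Set G)) {z : G} (hz : z ∈ A)
    (hTz : ∀ t ∈ T, z⁻¹ * (t * z * t⁻¹) ∈ U) :
    ∃ n ∈ A, (∀ l ∈ L, n⁻¹ * (l * n * l⁻¹) ∈ U) ∧
      ∀ W : Subgroup G, (∀ l ∈ L, z⁻¹ * (l * z * l⁻¹) ∈ W) → (z ^ T.relIndex L)⁻¹ * n ∈ W := by
  letI : CommGroup ↥A :=
    { (inferInstance : Group ↥A) with mul_comm := fun x y => Subtype.ext (hA x x.2 y y.2) }
  classical
  let T' : Subgroup ↥L := T.subgroupOf L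
  haveI : Fintype (↥L ⧸ T') := Fintype.ofFinite _
  let f₀ : ↥L → ↥A := fun l => ⟨(l : G) * z * (l : G)⁻¹, (Subgroup.mem_normalizer_iff.1 (hLA l.2) z).1 hz⟩
  let U' : Subgroup ↥A := U.subgroupOf A
  let π := QuotientGroup.mk' U'
  have hf₀ : ∀ a b : ↥L, a⁻¹ * b ∈ T' → π (f₀ a) = π (f₀ b) := by
    intro a b hab
    refine (QuotientGroup.eq).2 (Subgroup.mem_subgroupOf.2 ?_)
    have h1 := hTz _ (Subgroup.mem_subgroupOf.1 hab)
    have h2 : (a : G) * (z⁻¹ * (((a⁻¹ * b : ↥L) : G) * z * ((a⁻¹ * b : ↥L) : G)⁻¹)) * (a : G)⁻¹ ∈ U := by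
      rw [← Subgroup.mem_centralizer_iff.1 (hLU a.2) _ h1, mul_inv_cancel_right]; exact h1
    simpa [f₀, mul_assoc] using h2
  have hcard : T.relIndex L = Fintype.card (↥L ⧸ T') := by
    rw [← Nat.card_eq_fintype_card]; rfl
  refine ⟨((∏ q : ↥L ⧸ T', f₀ q.out : ↥A) : G), SetLike.coe_mem _, ?_, ?_⟩
  · intro l hl
    let φ : ↥A →* ↥A :=
      { toFun := fun x => ⟨l * x * l⁻¹, (Subgroup.mem_normalizer_iff.1 (hLA hl) x).1 x.2⟩
        map_one' := by ext; simp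
        map_mul' := fun x y => by ext; simp [mul_assoc] }
    have h1 : π (φ (∏ q : ↥L ⧸ T', f₀ q.out)) = π (∏ q : ↥L ⧸ T', f₀ q.out) := by
      rw [map_prod, map_prod, map_prod]
      refine Fintype.prod_equiv (MulAction.toPerm (⟨l, hl⟩ : ↥L)) _ _ fun q => ?_
      have e : φ (f₀ q.out) = f₀ (⟨l, hl⟩ * q.out) := by ext; simp [φ, f₀, mul_assoc]
      rw [e]
      refine hf₀ _ _ ((QuotientGroup.eq).1 ?_)
      rw [MulAction.toPerm_apply, QuotientGroup.out_eq']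
      conv_rhs => rw [← QuotientGroup.out_eq' q]
      rfl
    have h2 := Subgroup.mem_subgroupOf.1 ((QuotientGroup.eq).1 h1.symm)
    exact h2
  · intro W hW
    have h1 : (⟨z, hz⟩ : ↥A) ^ T.relIndex L = ∏ _q : ↥L ⧸ T', (⟨z, hz⟩ : ↥A) := by
      rw [Finset.prod_const, Finset.card_univ, hcard]
    have h2 : ((⟨z, hz⟩ : ↥A) ^ T.relIndex L)⁻¹ * ∏ q : ↥L ⧸ T', f₀ q.out ∈ W.subgroupOf A := by
      rw [h1, ← Finset.prod_inv_distrib, ← Finset.prod_mul_distrib]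
      exact Subgroup.prod_mem _ fun q _ => Subgroup.mem_subgroupOf.2 (hW _ q.out.2)
    simpa [Subgroup.mem_subgroupOf] using h2

end Cfsg.Agent.LENorm
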