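/-
A minimal subgroup of a member of `ℌ(O_p(M))` on which `Y_M` is not in `O_p`.
-/
import Cfsg.Agent.Lib.LocalEven.FrakH
import Cfsg.Agent.Lib.LocalEven.NormMod
import Cfsg.Agent.Lib.Involutions.BaerSuzuki

set_option autoImplicit false
set_option linter.unusedSectionVars false

namespace Cfsg.Agent.LEFrakLMin

open Cfsg.Agent.LEBasic Cfsg.Agent.LEPReduced Cfsg.Agent.LEFrakM Cfsg.Agent.LEFrakAsym Cfsg.Agent.LEFrakH
open scoped commutatorElement

variable {G : Type*} [Group G] [Finite G] {p : ℕ} [Fact p.Prime]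

/-- The data. -/
structure Ctx (D : Setup p G) (H L : Subgroup G) : Prop where
  hH : Cfsg.IsInFrakH p D.M H
  hLH : L ≤ H
  hYL : Cfsg.largestPReducedOf p D.M ≤ L
  hYO : ¬ Cfsg.largestPReducedOf p D.M ≤ CharP.opIn p L
  hmin : ∀ L' : Subgroup G, L' ≤ L → Cfsg.largestPReducedOf p D.M ≤ L' →
    ¬ Cfsg.largestPReducedOf p D.M ≤ CharP.opIn p L' → L' = L

variable {D : Setup p G} {H L : Subgroup G}

local notation "Y" => Cfsg.largestPReducedOf p D.M
local notation "P" => CharP.opIn p D.M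

theorem inv_mul_conj_eq {v x : G} : v⁻¹ * (x * v * x⁻¹) = ⁅v⁻¹, x⁆ := LEKieler.inv_mul_conj

theorem opIn_le_normalizer_Y (c : Ctx D H L) : CharP.opIn p H ≤ Subgroup.normalizer (Y : Set G) :=
  (opIn_le D c.hH.2.1).trans (normalizer_le_largest D)

theorem conj_Y_eq_self {g : G} (hg : g ∈ Subgroup.normalizer (Y : Set G)) :
    (Y : Subgroup G).map (MulAut.conj g).toMonoidHom = Y := map_conj_eq_iff_mem_normalizer.2 hg

theorem sup_P_eq (c : Ctx D H L) : L ⊔ P = H := by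
  by_contra hne
  have h1 := c.hH.2.2.2 (L ⊔ P) le_sup_right (lt_of_le_of_ne (sup_le c.hLH c.hH.2.1) hne)
  exact c.hYO ((le_inf c.hYL h1).trans (inf_opIn_le le_sup_left))

theorem le_opIn_of_proper (c : Ctx D H L) {X : Subgroup G} (hX : X ≤ L) (hne : X ≠ L) (hY : Y ≤ X) :
    Y ≤ CharP.opIn p X := by
  by_contra h
  exact hne (c.hmin X hX hY h)

theorem nclIn_eq (c : Ctx D H L) : nclIn L Y = L := by
  by_contra hne
  exact c.hYO ((le_opIn_of_proper c (nclIn_le _ _) hne (le_nclIn c.hYL)).trans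
    (opIn_le_of_normal (nclIn_le _ _) (le_normalizer_nclIn _ _)))

theorem isCharP (c : Ctx D H L) : CharP.IsCharP p ↥L :=
  isCharP_of_generated c.hH.1 c.hLH c.hYL (nclIn_eq c) (opIn_le_normalizer_Y c)

theorem exists_gen (c : Ctx D H L) :
    ∃ k ∈ L, L = Y ⊔ (Y : Subgroup G).map (MulAut.conj k).toMonoidHom := by
  by_contra hall
  push Not at hall
  refine c.hYO ?_
  have hp : ∀ k : ↥L, IsPGroup p
      ↥((Y : Subgroup G).subgroupOf L ⊔ ((Y : Subgroup G).subgroupOf L).map (MulAut.conj k).toMonoidHom) := by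
    intro k
    have e : ((Y : Subgroup G).subgroupOf L ⊔ ((Y : Subgroup G).subgroupOf L).map (MulAut.conj k).toMonoidHom).map L.subtype =
        Y ⊔ (Y : Subgroup G).map (MulAut.conj (k : G)).toMonoidHom := by
      rw [Subgroup.map_sup, Subgroup.map_subgroupOf_eq_of_le c.hYL]
      congr 1
      conv_rhs => rw [← Subgroup.map_subgroupOf_eq_of_le c.hYL]
      rw [Subgroup.map_map, Subgroup.map_map]
      congr 1
    set J := Y ⊔ (Y : Subgroup G).map (MulAut.conj (k : G)).toMonoidHom with hJ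
    have hJL : J ≤ L := sup_le c.hYL (LEWeakClosed.map_conj_le_of_le c.hYL k.2)
    have h1 := le_opIn_of_proper c hJL (fun h => hall k k.2 h.symm) le_sup_left
    have hJp : IsPGroup p ↥J := (sup_opIn_isPGroup (K := J)
      (isPGroup_map_conj (isPGroup_of_elem (largestOf_red D.M).2.1) (k : G)) le_sup_right).to_le
      (sup_le (h1.trans le_sup_left) le_sup_right)
    rw [← e] at hJp
    exact hJp.of_equiv (Subgroup.equivMapOfInjective _ _ L.subtype_injective).symm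
  obtain ⟨N, hN, hNp, hYN⟩ := Cfsg.Agent.BaerSuzuki.baerSuzuki ((Y : Subgroup G).subgroupOf L)
    ((isPGroup_of_elem (largestOf_red D.M).2.1).comap_of_injective L.subtype L.subtype_injective) hp
  exact fun y hy => ⟨⟨y, c.hYL hy⟩, le_pCore hN hNp (hYN hy), rfl⟩

/-- `[Y ^ g, O] ≤ Y ^ g ∩ O`. -/
theorem commutator_opIn (c : Ctx D H L) {g : G} (hg : g ∈ H) :
    ⁅(Y : Subgroup G).map (MulAut.conj g).toMonoidHom, CharP.opIn p H⁆ ≤
      (Y ⊓ CharP.opIn p H : Subgroup G).map (MulAut.conj g).toMonoidHom := by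
  set O := CharP.opIn p H
  have hO : O.map (MulAut.conj g).toMonoidHom = O :=
    map_conj_eq_iff_mem_normalizer.2 (CharP.le_normalizer_opIn H hg)
  rw [Subgroup.map_inf _ _ _ (MulAut.conj g).injective]
  conv_lhs => rw [← hO]
  rw [← Subgroup.map_commutator]
  have hYH : Y ≤ H := (largest_le_opIn D.M).trans c.hH.2.1
  exact le_inf (Subgroup.map_mono (Subgroup.le_normalizer_iff_commutator_le_left.1 (opIn_le_normalizer_Y c)))
    (Subgroup.map_mono (Subgroup.le_normalizer_iff_commutator_le_right.1 (hYH.trans (CharP.le_normalizer_opIn H))))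

theorem conj_comm {g : G} {a b : G} (ha : a ∈ (Y : Subgroup G).map (MulAut.conj g).toMonoidHom)
    (hb : b ∈ (Y : Subgroup G).map (MulAut.conj g).toMonoidHom) : a * b = b * a := by
  obtain ⟨x, hx, rfl⟩ := ha
  obtain ⟨y, hy, rfl⟩ := hb
  rw [← map_mul, ← map_mul, commute_of_elem (largestOf_red (p := p) D.M).2.1 hx hy]

theorem le_normalizer_gen_A (c : Ctx D H L) {k : G} (hk : k ∈ H)
    (hgen : L = Y ⊔ (Y : Subgroup G).map (MulAut.conj k).toMonoidHom) :
    L ≤ Subgroup.normalizer (((Y ⊓ CharP.opIn p H) ⊔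
        (Y ⊓ CharP.opIn p H : Subgroup G).map (MulAut.conj k).toMonoidHom : Subgroup G) : Set G) ∧
      ∀ l ∈ L, ∀ o ∈ CharP.opIn p H, o⁻¹ * (l * o * l⁻¹) ∈ (Y ⊓ CharP.opIn p H) ⊔
        (Y ⊓ CharP.opIn p H : Subgroup G).map (MulAut.conj k).toMonoidHom := by
  set O := CharP.opIn p H with hO
  set U := (Y ⊓ O : Subgroup G) with hU
  set A := U ⊔ U.map (MulAut.conj k).toMonoidHom with hA
  have hUO : U.map (MulAut.conj k).toMonoidHom ≤ O :=
    (map_conj_mono k inf_le_right).trans (map_conj_eq_iff_mem_normalizer.2 (CharP.le_normalizer_opIn H hk)).le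
  have hAO : A ≤ O := sup_le inf_le_right hUO
  have hnorm : ∀ Z' : Subgroup G, ⁅Z', O⁆ ≤ A → Z' ≤ Subgroup.normalizer (A : Set G) := fun Z' hZ =>
    Subgroup.le_normalizer_iff_commutator_le_right.2 ((Subgroup.commutator_mono le_rfl hAO).trans hZ)
  have h1 : ⁅(Y : Subgroup G), O⁆ ≤ A := by
    have h := commutator_opIn c (one_mem H)
    rw [map_conj_one, map_conj_one] at h
    exact h.trans le_sup_left
  have h2 : ⁅(Y : Subgroup G).map (MulAut.conj k).toMonoidHom, O⁆ ≤ A := (commutator_opIn c hk).trans le_sup_right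
  have hn : L ≤ Subgroup.normalizer (A : Set G) := hgen.le.trans (sup_le (hnorm _ h1) (hnorm _ h2))
  let Z : Subgroup G :=
    { carrier := {l | l ∈ L ∧ ∀ o ∈ O, o⁻¹ * (l * o * l⁻¹) ∈ A}
      one_mem' := ⟨one_mem _, fun o _ => by simp⟩
      mul_mem' := fun {a b} ha hb => ⟨mul_mem ha.1 hb.1, fun o ho => by
        rw [show o⁻¹ * (a * b * o * (a * b)⁻¹) = o⁻¹ * (a * o * a⁻¹) * (a * (o⁻¹ * (b * o * b⁻¹)) * a⁻¹) by group]
        exact mul_mem (ha.2 o ho) ((Subgroup.mem_normalizer_iff.1 (hn ha.1) _).1 (hb.2 o ho))⟩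
      inv_mem' := fun {a} ha => ⟨inv_mem ha.1, fun o ho => by
        have h := inv_mem (ha.2 (a⁻¹ * o * a)
          ((Subgroup.mem_normalizer_iff''.1 (CharP.le_normalizer_opIn H (c.hLH ha.1)) o).1 ho))
        simpa [mul_assoc] using h⟩ }
  have hgenmem : ∀ Z' : Subgroup G, Z' ≤ L → ⁅Z', O⁆ ≤ A → Z' ≤ Z := fun Z' hL hZ y hy => ⟨hL hy, fun o ho => by
    rw [inv_mul_conj_eq]
    exact hZ ((Subgroup.commutator_comm O Z').le (Subgroup.commutator_mem_commutator (inv_mem ho) hy))⟩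
  have hle : L ≤ Z := hgen.le.trans (sup_le (hgenmem _ c.hYL h1) (hgenmem _ (le_sup_right.trans hgen.ge) h2))
  exact ⟨hn, fun l hl => (hle hl).2⟩

/-- The key facts on the action of `L` on `O_p(H)`. -/
theorem action (c : Ctx D H L) {k : G} (hk : k ∈ L)
    (hgen : L = Y ⊔ (Y : Subgroup G).map (MulAut.conj k).toMonoidHom) {u : G} (hu : u ∈ L)
    (hcomm : (Y : Subgroup G).map (MulAut.conj u).toMonoidHom ≤ Subgroup.centralizer (Y : Set G)) :
    (Y ⊓ CharP.opIn p H : Subgroup G).map (MulAut.conj u).toMonoidHom = Y ⊓ CharP.opIn p H ∧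
      (∀ o ∈ CharP.opIn p H, o ∈ Subgroup.centralizer (Y : Set G) →
        o⁻¹ * (u * o * u⁻¹) ∈ Y ⊓ CharP.opIn p H) ∧
      ∀ o ∈ CharP.opIn p H, o ∈ Subgroup.centralizer (Y : Set G) →
        o ∈ Subgroup.centralizer ((Y : Subgroup G).map (MulAut.conj u).toMonoidHom : Set G) := by
  obtain ⟨hLA, htriv⟩ := le_normalizer_gen_A c (c.hLH hk) hgen
  set O := CharP.opIn p H with hO
  set U := (Y ⊓ O : Subgroup G) with hU
  set Uk := U.map (MulAut.conj k).toMonoidHom with hUk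
  set A := U ⊔ Uk with hA
  have hYe := (largestOf_red (p := p) D.M).2.1
  have hUkY : Uk ≤ (Y : Subgroup G).map (MulAut.conj k).toMonoidHom := map_conj_mono k inf_le_left
  have hUkO : Uk ≤ O :=
    (map_conj_mono k inf_le_right).trans (map_conj_eq_iff_mem_normalizer.2 (CharP.le_normalizer_opIn H (c.hLH hk))).le
  have hUkn : Uk ≤ Subgroup.normalizer (U : Set G) :=
    hUkO.trans ((le_inf (opIn_le_normalizer_Y c) Subgroup.le_normalizer).trans (LELarge.inf_normalizer_le _ _))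
  have hLcent : ∀ x : G, x ∈ Subgroup.centralizer (Y : Set G) →
      x ∈ Subgroup.centralizer ((Y : Subgroup G).map (MulAut.conj k).toMonoidHom : Set G) →
      ∀ l ∈ L, l * x = x * l := by
    intro x h1 h2 l hl
    have h3 : L ≤ Subgroup.centralizer ({x} : Set G) := hgen.le.trans (sup_le
      (fun y hy => Subgroup.mem_centralizer_singleton_iff.2 (Subgroup.mem_centralizer_iff.1 h1 y hy))
      (fun y hy => Subgroup.mem_centralizer_singleton_iff.2 (Subgroup.mem_centralizer_iff.1 h2 y hy)))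
    exact Subgroup.mem_centralizer_singleton_iff.1 (h3 hl)
  have hCA : ∀ x ∈ A, x ∈ Subgroup.centralizer (Y : Set G) → x ∈ U := by
    intro x hx hxc
    obtain ⟨a, ha, b, hb, rfl⟩ := (SolvBasic.mem_sup_iff_of_le_normalizer hUkn).1 hx
    have hbY : b ∈ Subgroup.centralizer (Y : Set G) := by
      have := mul_mem (inv_mem (le_centralizer_self hYe ((Subgroup.mem_inf.1 ha).1 : a ∈ (Y : Subgroup G)))) hxc
      simpa using this
    have hbk : b ∈ Subgroup.centralizer ((Y : Subgroup G).map (MulAut.conj k).toMonoidHom : Set G) :=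
      Subgroup.mem_centralizer_iff.2 fun y hy => conj_comm hy (hUkY hb)
    refine mul_mem ha ?_
    obtain ⟨b', hb', hbe⟩ := hb
    have h4 := hLcent b hbY hbk k hk
    have hbb : b = b' := by
      have e : k * b' * k⁻¹ = b := by simpa using hbe
      calc b = k⁻¹ * (k * b) := by group
        _ = k⁻¹ * (b * k) := by rw [h4]
        _ = b' := by rw [← e]; group
    rw [hbb]; exact hb'
  have hUU : U.map (MulAut.conj u).toMonoidHom = U := by
    refine (Subgroup.eq_of_le_of_card_ge ?_ (card_map_conj U u).le).symm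
    intro x hx
    have h1 : u⁻¹ * x * u ∈ A := (Subgroup.mem_normalizer_iff''.1 (hLA hu) x).1 (Subgroup.mem_sup_left hx)
    have h2 : u⁻¹ * x * u ∈ Subgroup.centralizer (Y : Set G) := by
      rw [Subgroup.mem_centralizer_iff]
      intro y hy
      have h3 := Subgroup.mem_centralizer_iff.1 (hcomm ⟨y, hy, rfl⟩) x ((Subgroup.mem_inf.1 hx).1 : x ∈ (Y : Subgroup G))
      have h4 := congrArg (fun z => u⁻¹ * z * u) h3
      simpa [mul_assoc] using h4.symm
    exact ⟨_, hCA _ h1 h2, by simp [mul_assoc]⟩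
  have hdec : ∀ o ∈ O, o ∈ Subgroup.centralizer (Y : Set G) → ∃ x ∈ U, ∀ l ∈ L, l * (o * x) = o * x * l := by
    intro o ho hoc
    obtain ⟨a, ha, b, hb, hab⟩ := (SolvBasic.mem_sup_iff_of_le_normalizer hUkn).1 (htriv k hk o ho)
    have he : o * a = k * o * k⁻¹ * b⁻¹ := by
      calc o * a = o * (a * b) * b⁻¹ := by group
        _ = _ := by rw [← hab]; group
    refine ⟨a, ha, hLcent _ (mul_mem hoc (le_centralizer_self hYe ((Subgroup.mem_inf.1 ha).1 : a ∈ (Y : Subgroup G)))) ?_⟩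
    rw [he]
    refine mul_mem (Subgroup.mem_centralizer_iff.2 ?_) (inv_mem (Subgroup.mem_centralizer_iff.2 fun y hy => conj_comm hy (hUkY hb)))
    rintro _ ⟨y, hy, rfl⟩
    show MulAut.conj k y * (MulAut.conj k o) = MulAut.conj k o * MulAut.conj k y
    rw [← map_mul, ← map_mul, Subgroup.mem_centralizer_iff.1 hoc y hy]
  have hmove : ∀ l ∈ L, U.map (MulAut.conj l).toMonoidHom = U → ∀ o ∈ O, o ∈ Subgroup.centralizer (Y : Set G) →
      o⁻¹ * (l * o * l⁻¹) ∈ U := by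
    intro l hl hlU o ho hoc
    obtain ⟨x, hx, hcx⟩ := hdec o ho hoc
    have h1 : l * x⁻¹ * l⁻¹ ∈ U := hlU.le ⟨x⁻¹, inv_mem hx, rfl⟩
    have e : o⁻¹ * (l * o * l⁻¹) = x * (l * x⁻¹ * l⁻¹) := by
      calc o⁻¹ * (l * o * l⁻¹) = o⁻¹ * (l * (o * x) * l⁻¹) * (l * x⁻¹ * l⁻¹) := by group
        _ = _ := by rw [hcx l hl]; group
    rw [e]; exact mul_mem hx h1
  refine ⟨hUU, hmove u hu hUU, fun o ho hoc => ?_⟩
  have hUU' : U.map (MulAut.conj u⁻¹).toMonoidHom = U := by
    conv_lhs => rw [← hUU]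
    exact LEWeakClosed.map_conj_cancel U u
  have h1 := hmove u⁻¹ (inv_mem hu) hUU' o ho hoc
  rw [inv_inv] at h1
  have h2 : u⁻¹ * o * u ∈ Subgroup.centralizer (Y : Set G) := by
    have h3 := mul_mem hoc (le_centralizer_self hYe ((Subgroup.mem_inf.1 h1).1))
    simpa using h3
  rw [Subgroup.mem_centralizer_iff]
  rintro _ ⟨y, hy, rfl⟩
  have h4 := congrArg (fun z => u * z * u⁻¹) (Subgroup.mem_centralizer_iff.1 h2 y hy)
  simpa [mul_assoc] using h4

/-- An element `u` of `L` with `[Y, Y ^ u] = 1` normalizes `Y`. -/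
theorem main (c : Ctx D H L) {k : G} (hk : k ∈ L)
    (hgen : L = Y ⊔ (Y : Subgroup G).map (MulAut.conj k).toMonoidHom) {u : G} (hu : u ∈ L)
    (hcomm : (Y : Subgroup G).map (MulAut.conj u).toMonoidHom ≤ Subgroup.centralizer (Y : Set G)) :
    u ∈ Subgroup.normalizer (Y : Set G) := by
  obtain ⟨hUU, hmove, hE⟩ := action c hk hgen hu hcomm
  obtain ⟨hchar, hPH, hYnO, hHmin⟩ := c.hH
  set O := CharP.opIn p H with hO
  set U := (Y ⊓ O : Subgroup G) with hU
  set Yu := (Y : Subgroup G).map (MulAut.conj u).toMonoidHom with hYu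
  have hYe := (largestOf_red (p := p) D.M).2.1
  have huH : u ∈ H := c.hLH hu
  have hYH : Y ≤ H := (largest_le_opIn D.M).trans hPH
  have hHO : H ≤ Subgroup.normalizer (O : Set G) := CharP.le_normalizer_opIn H
  have hPC : P ≤ Subgroup.centralizer (Y : Set G) := opIn_centralizes D.M
  have hUc : U ≤ Subgroup.centralizer (P : Set G) :=
    inf_le_left.trans (Subgroup.le_centralizer_iff.1 hPC)
  -- `[P, Y ^ u] ≤ O`
  have hPY : ⁅(P : Subgroup G), Yu⁆ ≤ O := by
    have h1 : ⁅⁅Yu, O⁆, (P : Subgroup G)⁆ = ⊥ := by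
      rw [Subgroup.commutator_eq_bot_iff_le_centralizer]
      exact ((commutator_opIn c huH).trans hUU.le).trans hUc
    have h2 : ⁅⁅O, (P : Subgroup G)⁆, Yu⁆ = ⊥ := by
      rw [Subgroup.commutator_eq_bot_iff_le_centralizer]
      intro o ho
      refine hE o ?_ ?_
      · exact Subgroup.le_normalizer_iff_commutator_le_left.1 (hPH.trans hHO) ho
      · exact hPC (Subgroup.le_normalizer_iff_commutator_le_right.1 (opIn_le D hPH) ho)
    have h3 := Subgroup.commutator_commutator_eq_bot_of_rotate (H₁ := (P : Subgroup G)) (H₂ := Yu) (H₃ := O) h1 h2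
    rw [Subgroup.commutator_eq_bot_iff_le_centralizer] at h3
    have hle : ⁅(P : Subgroup G), Yu⁆ ≤ H := by
      refine Subgroup.commutator_le.2 fun a ha b hb => ?_
      have hb' : b ∈ H := LEWeakClosed.map_conj_le_of_le hYH huH hb
      rw [commutatorElement_def]
      exact mul_mem (mul_mem (mul_mem (hPH ha) hb') (inv_mem (hPH ha))) (inv_mem hb')
    intro d hd
    exact ⟨⟨d, hle hd⟩, hchar (Subgroup.mem_centralizer_iff.2 fun q hq =>
      Subtype.ext (Subgroup.mem_centralizer_iff.1 (h3 hd) _ ⟨q, hq, rfl⟩)), rfl⟩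
  -- the subgroup `X₁`
  set P' := (P : Subgroup G).map (MulAut.conj u⁻¹).toMonoidHom with hP'
  set X₁ := P ⊔ P' with hX₁
  let K₀ : Subgroup G :=
    { carrier := {h | h ∈ H ∧ ∀ y ∈ (Y : Subgroup G), y⁻¹ * (h * y * h⁻¹) ∈ O}
      one_mem' := ⟨one_mem _, fun o _ => by simp⟩
      mul_mem' := fun {a b} ha hb => ⟨mul_mem ha.1 hb.1, fun o ho => by
        rw [show o⁻¹ * (a * b * o * (a * b)⁻¹) = o⁻¹ * (a * o * a⁻¹) * (a * (o⁻¹ * (b * o * b⁻¹)) * a⁻¹) by group]
        exact mul_mem (ha.2 o ho) ((Subgroup.mem_normalizer_iff.1 (hHO ha.1) _).1 (hb.2 o ho))⟩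
      inv_mem' := fun {a} ha => ⟨inv_mem ha.1, fun y hy => by
        have h := (Subgroup.mem_normalizer_iff''.1 (hHO ha.1) _).1 (inv_mem (ha.2 y hy))
        simpa [mul_assoc] using h⟩ }
  have hPK : (P : Subgroup G) ≤ K₀ := fun a ha => ⟨hPH ha, fun y hy => by
    rw [← Subgroup.mem_centralizer_iff.1 (hPC ha) y hy, mul_inv_cancel_right, inv_mul_cancel]; exact one_mem _⟩
  have hP'K : P' ≤ K₀ := by
    rintro _ ⟨a, ha, rfl⟩
    refine ⟨mul_mem (mul_mem (inv_mem huH) (hPH ha)) (by simpa using huH), fun y hy => ?_⟩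
    have h1 : ⁅MulAut.conj u y⁻¹, a⁆ ∈ O := hPY ((Subgroup.commutator_comm Yu (P : Subgroup G)).le
      (Subgroup.commutator_mem_commutator ⟨y⁻¹, inv_mem hy, rfl⟩ ha))
    have h2 := (Subgroup.mem_normalizer_iff''.1 (hHO huH) _).1 h1
    simpa [commutatorElement_def, mul_assoc] using h2
  have hX₁H : X₁ ≤ H := (sup_le hPK hP'K : X₁ ≤ K₀).trans fun h hh => hh.1
  have hX₁ne : X₁ ≠ H := by
    intro he
    refine hYnO ?_
    have hHK : H ≤ K₀ := he.ge.trans (sup_le hPK hP'K)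
    have hn : H ≤ Subgroup.normalizer ((Y ⊔ O : Subgroup G) : Set G) := by
      intro h hh
      rw [← map_conj_eq_iff_mem_normalizer]
      refine Subgroup.eq_of_le_of_card_ge ?_ (card_map_conj _ h).ge
      rw [Subgroup.map_sup, map_conj_eq_iff_mem_normalizer.2 (hHO hh)]
      refine sup_le ?_ le_sup_right
      rintro _ ⟨y, hy, rfl⟩
      show h * y * h⁻¹ ∈ _
      rw [show h * y * h⁻¹ = y * (y⁻¹ * (h * y * h⁻¹)) by group]
      exact mul_mem (Subgroup.mem_sup_left hy) (Subgroup.mem_sup_right ((hHK hh).2 y hy))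
    refine le_trans le_sup_left (CharP.le_opIn (sup_le hYH (CharP.opIn_le H)) hn ?_)
    rw [sup_comm]
    exact sup_opIn_isPGroup (isPGroup_of_elem hYe) hYH
  have hYD : Y ≤ CharP.opIn p X₁ := hHmin X₁ le_sup_left (lt_of_le_of_ne hX₁H hX₁ne)
  have hDP : CharP.opIn p X₁ ≤ Subgroup.normalizer (Y : Set G) :=
    (opIn_le D le_sup_left).trans (normalizer_le_largest D)
  have hcommX : ∀ x ∈ X₁, ∀ y ∈ (Y : Subgroup G), ∀ y' ∈ (Y : Subgroup G),
      y * (x * y' * x⁻¹) = (x * y' * x⁻¹) * y := by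
    intro x hx y hy y' hy'
    have hD : (CharP.opIn p X₁).map (MulAut.conj x).toMonoidHom = CharP.opIn p X₁ :=
      map_conj_eq_iff_mem_normalizer.2 (CharP.le_normalizer_opIn X₁ hx)
    set Yx := (Y : Subgroup G).map (MulAut.conj x).toMonoidHom with hYx
    have h1 : Yx ≤ Subgroup.normalizer (Y : Set G) := ((map_conj_mono x hYD).trans hD.le).trans hDP
    have h2 : (Y : Subgroup G) ≤ Subgroup.normalizer (Yx : Set G) :=
      (hYD.trans hD.ge).trans ((map_conj_mono x hDP).trans (Subgroup.le_normalizer_map _))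
    have h3 : ⁅(Y : Subgroup G), Yx⁆ = ⊥ := by
      by_contra h
      exact D.hasym ⟨x, h, le_inf (Subgroup.le_normalizer_iff_commutator_le_left.1 h1)
        (Subgroup.le_normalizer_iff_commutator_le_right.1 h2)⟩
    exact (Subgroup.mem_centralizer_iff.1 (Subgroup.commutator_eq_bot_iff_le_centralizer.1 h3 hy) _
      ⟨y', hy', rfl⟩).symm
  set W := Subgroup.closure {w : G | ∃ x ∈ X₁, ∃ y ∈ (Y : Subgroup G), w = x * y * x⁻¹} with hW
  have hWe : Cfsg.IsElementaryAbelian p W := by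
    refine elem_closure ?_ ?_
    · rintro _ ⟨x, hx, y, hy, rfl⟩ _ ⟨x', hx', y', hy', rfl⟩
      have h := congrArg (fun z => x * z * x⁻¹) (hcommX (x⁻¹ * x') (mul_mem (inv_mem hx) hx') y hy y' hy')
      simpa [mul_assoc] using h
    · rintro _ ⟨x, hx, y, hy, rfl⟩
      rw [conj_pow, hYe.2 y hy, mul_one, mul_inv_cancel]
  have hX₁W : X₁ ≤ Subgroup.normalizer (W : Set G) := by
    intro g hg
    rw [← map_conj_eq_iff_mem_normalizer]
    refine Subgroup.eq_of_le_of_card_ge ?_ (card_map_conj _ g).ge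
    rw [hW, MonoidHom.map_closure]
    refine Subgroup.closure_mono ?_
    rintro _ ⟨_, ⟨x, hx, y, hy, rfl⟩, rfl⟩
    exact ⟨g * x, mul_mem hg hx, y, hy, by simp [mul_assoc]⟩
  have hYW : Y ≤ W := fun y hy => Subgroup.subset_closure ⟨1, one_mem _, y, hy, by simp⟩
  have hUW : U ≤ W := inf_le_left.trans hYW
  have hX₁U : X₁ ≤ Subgroup.centralizer (U : Set G) := by
    refine sup_le (Subgroup.le_centralizer_iff.1 hUc) ?_
    rintro _ ⟨a, ha, rfl⟩
    rw [Subgroup.mem_centralizer_iff]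
    intro s hs
    have hs' : u * s * u⁻¹ ∈ U := hUU.le ⟨s, hs, rfl⟩
    have h := congrArg (fun z => u⁻¹ * z * u) (Subgroup.mem_centralizer_iff.1 (hUc hs') a ha).symm
    simpa [mul_assoc] using h
  obtain ⟨S, hPS⟩ := exists_sylow_above (CharP.opIn_isPGroup D.M) (le_sup_left : (P : Subgroup G) ≤ X₁)
  set T₁ := (S : Subgroup ↥X₁).map X₁.subtype with hT₁
  have hT₁Y : T₁ ≤ Subgroup.normalizer (Y : Set G) :=
    (sylow_le_normalizer D (S.isPGroup'.map _) hPS).trans (normalizer_le_largest D)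
  have hXK : X₁ ≤ K₀ := sup_le hPK hP'K
  refine LEBasic.map_conj_eq_iff_mem_normalizer.1 ?_
  suffices hPN : (P : Subgroup G) ≤ Subgroup.normalizer (Yu : Set G) by
    -- weak closure
    have hP'N : P' ≤ dag p D.M := by
      rw [← normalizer_largest D.hG D.T D.hTM D.hM]
      rw [hYu, LECharP.normalizer_map_conj] at hPN
      rw [hP', ← LEWeakClosed.map_conj_cancel (Subgroup.normalizer (Y : Set G)) u]
      exact map_conj_mono _ hPN
    obtain ⟨c', hc', he⟩ := LEWeakClosed.exists_mem_conj_eq (CharP.opIn_isPGroup D.M) (weaklyClosed D)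
      ((CharP.opIn_le D.M).trans le_sup_left) hP'N
    have hn : c'⁻¹ * u⁻¹ ∈ Subgroup.normalizer (P : Set G) := by
      rw [← map_conj_eq_iff_mem_normalizer, ← map_conj_map_conj, he, LEWeakClosed.map_conj_cancel]
    have hud : u⁻¹ ∈ Subgroup.normalizer (Y : Set G) := by
      rw [normalizer_largest D.hG D.T D.hTM D.hM]
      have := mul_mem hc' (normalizer_opIn_le D hn)
      rwa [mul_inv_cancel_left] at this
    exact conj_Y_eq_self (by simpa using inv_mem hud)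
  intro a ha
  rw [← map_conj_eq_iff_mem_normalizer]
  refine Subgroup.eq_of_le_of_card_ge ?_ (card_map_conj _ a).ge
  rintro _ ⟨_, ⟨y, hy, rfl⟩, rfl⟩
  obtain ⟨n, hnW, hnfix, hncong⟩ := LENorm.exists_norm_mod (A := W) (L := X₁) (T := T₁) (U := U)
    (fun s hs t ht => commute_of_elem hWe hs ht) hUW hX₁W hX₁U (hYW hy) (fun t ht => Subgroup.mem_inf.2
      ⟨mul_mem (inv_mem hy) ((Subgroup.mem_normalizer_iff.1 (hT₁Y ht) y).1 hy),
        (hXK (Subgroup.map_subtype_le _ ht)).2 y hy⟩)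
  set m := T₁.relIndex X₁ with hm
  have hmp : ¬ p ∣ m := by
    rw [hm, hT₁, Subgroup.relIndex, Subgroup.subgroupOf, Subgroup.comap_map_eq_self_of_injective X₁.subtype_injective]
    exact S.not_dvd_index
  set v := (y ^ m)⁻¹ * n with hv
  have hvO : v ∈ O := hncong O fun l hl => (hXK hl).2 y hy
  have hvW : v ∈ W := mul_mem (inv_mem (pow_mem (hYW hy) m)) hnW
  have hvC : v ∈ Subgroup.centralizer (Y : Set G) :=
    Subgroup.centralizer_le hYW (le_centralizer_self hWe hvW)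
  have hs := hmove v hvO hvC
  set s := v⁻¹ * (u * v * u⁻¹) with hs'
  set w := u * y * u⁻¹ with hw
  have hwY : w ∈ Yu := ⟨y, hy, rfl⟩
  set c₁ := n⁻¹ * (a * n * a⁻¹) with hc₁
  have hc₁U : c₁ ∈ U := hnfix a (Subgroup.mem_sup_left ha)
  set c₂ := (u * n * u⁻¹)⁻¹ * (a * (u * n * u⁻¹) * a⁻¹) with hc₂
  have hc₂U : c₂ ∈ U := by
    have hau : u⁻¹ * a * u ∈ X₁ := Subgroup.mem_sup_right ⟨a, ha, by simp⟩
    have h := hUU.le ⟨_, hnfix _ hau, rfl⟩
    simpa [hc₂, mul_assoc] using h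
  have hay : a * (y ^ m) * a⁻¹ = y ^ m :=
    mul_inv_eq_iff_eq_mul.2 (Subgroup.mem_centralizer_iff.1 (hPC ha) _ (pow_mem hy m)).symm
  have hav : a * v * a⁻¹ = v * c₁ := by
    calc a * v * a⁻¹ = (a * (y ^ m) * a⁻¹)⁻¹ * (a * n * a⁻¹) := by rw [hv]; group
      _ = v * c₁ := by rw [hay, hv, hc₁]; group
  have has : a * s * a⁻¹ = s :=
    mul_inv_eq_iff_eq_mul.2 (Subgroup.mem_centralizer_iff.1 (hUc hs) a ha)
  have hnu : u * n * u⁻¹ = w ^ m * v * s := by
    calc u * n * u⁻¹ = u * y ^ m * u⁻¹ * (u * v * u⁻¹) := by rw [hv]; group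
      _ = w ^ m * v * s := by rw [hs', hw, conj_pow]; group
  have hvs : ∀ x ∈ U, v * x = x * v := fun x hx => commute_of_elem hWe hvW (hUW hx)
  have hUab : ∀ x ∈ U, ∀ z ∈ U, x * z = z * x := fun x hx z hz =>
    commute_of_elem hYe (Subgroup.mem_inf.1 hx).1 (Subgroup.mem_inf.1 hz).1
  have hmem : a * w ^ m * a⁻¹ = w ^ m * (c₂ * c₁⁻¹) := by
    have h1 : a * (u * n * u⁻¹) * a⁻¹ = w ^ m * v * s * c₂ := by rw [← hnu, hc₂]; group
    rw [hnu] at h1
    have h2 : a * (w ^ m * v * s) * a⁻¹ = (a * w ^ m * a⁻¹) * (a * v * a⁻¹) * (a * s * a⁻¹) := by group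
    rw [h2, hav, has] at h1
    calc a * w ^ m * a⁻¹ = (a * w ^ m * a⁻¹ * (v * c₁) * s) * (s⁻¹ * c₁⁻¹ * v⁻¹) := by group
      _ = w ^ m * v * s * c₂ * (s⁻¹ * c₁⁻¹ * v⁻¹) := by rw [h1]
      _ = w ^ m * (v * (s * (c₂ * s⁻¹) * c₁⁻¹) * v⁻¹) := by group
      _ = w ^ m * (v * (s * (s⁻¹ * c₂) * c₁⁻¹) * v⁻¹) := by rw [hUab c₂ hc₂U _ (inv_mem hs)]
      _ = w ^ m * (c₂ * c₁⁻¹) := by
        rw [show s * (s⁻¹ * c₂) * c₁⁻¹ = c₂ * c₁⁻¹ by group,
          hvs _ (mul_mem hc₂U (inv_mem hc₁U)), mul_inv_cancel_right]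
  show MulAut.conj a w ∈ Yu
  rw [MulAut.conj_apply]
  have hUYu : U ≤ Yu := hUU.ge.trans (map_conj_mono u inf_le_left)
  have hwp : w ^ p = 1 := by rw [hw, conj_pow, hYe.2 y hy, mul_one, mul_inv_cancel]
  refine LENorm.mem_of_pow_mem (p := p) Fact.out (z := a * w * a⁻¹) ?_ hmp ?_
  · rw [conj_pow, hwp, mul_one, mul_inv_cancel]
  · rw [conj_pow, hmem]
    exact mul_mem (pow_mem hwY m) (hUYu (mul_mem hc₂U (inv_mem hc₁U)))

/-- Mutual normalization forces commutation. -/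
theorem commute_of_mutual {x : G}
    (h1 : (Y : Subgroup G).map (MulAut.conj x).toMonoidHom ≤ Subgroup.normalizer (Y : Set G))
    (h2 : (Y : Subgroup G).map (MulAut.conj x⁻¹).toMonoidHom ≤ Subgroup.normalizer (Y : Set G)) :
    (Y : Subgroup G).map (MulAut.conj x).toMonoidHom ≤ Subgroup.centralizer (Y : Set G) := by
  have h3 : (Y : Subgroup G) ≤ Subgroup.normalizer (((Y : Subgroup G).map (MulAut.conj x).toMonoidHom : Subgroup G) : Set G) := by
    have h := map_conj_mono x h2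
    rw [LEWeakClosed.map_conj_cancel'] at h
    exact h.trans (Subgroup.le_normalizer_map _)
  have h4 : ⁅(Y : Subgroup G), (Y : Subgroup G).map (MulAut.conj x).toMonoidHom⁆ = ⊥ := by
    by_contra h
    exact D.hasym ⟨x, h, le_inf (Subgroup.le_normalizer_iff_commutator_le_left.1 h1)
      (Subgroup.le_normalizer_iff_commutator_le_right.1 h3)⟩
  exact Subgroup.le_centralizer_iff.1 (Subgroup.commutator_eq_bot_iff_le_centralizer.1 h4)

/-- Proper subgroups of `L` over `Y` normalize `Y`. -/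
theorem le_normalizer_of_proper (c : Ctx D H L) {X : Subgroup G} (hXL : X ≤ L) (hne : X ≠ L) (hYX : Y ≤ X) :
    X ≤ Subgroup.normalizer (Y : Set G) := by
  obtain ⟨k, hk, hgen⟩ := exists_gen c
  set R := CharP.opIn p X with hR
  have hYR : Y ≤ R := le_opIn_of_proper c hXL hne hYX
  have hmut : ∀ x ∈ X, (Y : Subgroup G).map (MulAut.conj x).toMonoidHom ≤ Subgroup.normalizer (Y : Set G) →
      (Y : Subgroup G).map (MulAut.conj x⁻¹).toMonoidHom ≤ Subgroup.normalizer (Y : Set G) →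
      x ∈ Subgroup.normalizer (Y : Set G) :=
    fun x hx h1 h2 => main c hk hgen (hXL hx) (commute_of_mutual h1 h2)
  have hRY : R ≤ Subgroup.normalizer (Y : Set G) := by
    have hS : R ⊓ Subgroup.normalizer (Y : Set G) = R := by
      refine LESylow.eq_of_normalizer_inf_le (CharP.opIn_isPGroup X) inf_le_left fun g hg => ?_
      obtain ⟨hgR, hgN⟩ := Subgroup.mem_inf.1 hg
      have hY1 : (Y : Subgroup G) ≤ R ⊓ Subgroup.normalizer (Y : Set G) := le_inf hYR Subgroup.le_normalizer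
      refine Subgroup.mem_inf.2 ⟨hgR, hmut g (CharP.opIn_le X hgR) ?_ ?_⟩
      · exact ((map_conj_mono g hY1).trans (map_conj_eq_iff_mem_normalizer.2 hgN).le).trans inf_le_right
      · exact ((map_conj_mono g⁻¹ hY1).trans (map_conj_eq_iff_mem_normalizer.2 (inv_mem hgN)).le).trans inf_le_right
    exact hS.ge.trans inf_le_right
  intro x hx
  have hc : ∀ z ∈ X, (Y : Subgroup G).map (MulAut.conj z).toMonoidHom ≤ Subgroup.normalizer (Y : Set G) :=
    fun z hz => ((map_conj_mono z hYR).trans (map_conj_eq_iff_mem_normalizer.2 (CharP.le_normalizer_opIn X hz)).le).trans hRY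
  exact hmut x hx (hc x hx) (hc x⁻¹ (inv_mem hx))

theorem gen_of_not_normalizes (c : Ctx D H L) {h : G} (hh : h ∈ L) (hn : h ∉ Subgroup.normalizer (Y : Set G)) :
    Y ⊔ (Y : Subgroup G).map (MulAut.conj h).toMonoidHom = L ∧
      (Y : Subgroup G).map (MulAut.conj h).toMonoidHom ⊔ P = H := by
  obtain ⟨k, hk, hgen⟩ := exists_gen c
  set Yh := (Y : Subgroup G).map (MulAut.conj h).toMonoidHom with hYh
  have hJ : Y ⊔ Yh = L := by
    by_contra hne
    have hJL : Y ⊔ Yh ≤ L := sup_le c.hYL (LEWeakClosed.map_conj_le_of_le c.hYL hh)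
    have h1 := le_normalizer_of_proper c hJL hne le_sup_left
    set J' := (Y : Subgroup G).map (MulAut.conj h⁻¹).toMonoidHom ⊔ Y with hJ'
    have hJ'ne : J' ≠ L := fun he => hne (by
      have h2 := congrArg (Subgroup.map (MulAut.conj h).toMonoidHom) he
      rw [hJ', Subgroup.map_sup, LEWeakClosed.map_conj_cancel',
        map_conj_eq_iff_mem_normalizer.2 (Subgroup.le_normalizer hh)] at h2
      exact h2)
    have h2 := le_normalizer_of_proper c
      (sup_le (LEWeakClosed.map_conj_le_of_le c.hYL (inv_mem hh)) c.hYL) hJ'ne le_sup_right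
    exact hn (main c hk hgen hh (commute_of_mutual (le_sup_right.trans h1) (le_sup_left.trans h2)))
  refine ⟨hJ, ?_⟩
  by_contra hne
  obtain ⟨-, hPH, -, hHmin⟩ := c.hH
  have hXH : Yh ⊔ P ≤ H := sup_le (LEWeakClosed.map_conj_le_of_le ((largest_le_opIn D.M).trans hPH) (c.hLH hh)) hPH
  have h1 := hHmin _ le_sup_right (lt_of_le_of_ne hXH hne)
  have hLX : L ≤ Yh ⊔ P := hJ.ge.trans (sup_le ((largest_le_opIn D.M).trans le_sup_right) le_sup_left)
  exact c.hYO ((le_inf c.hYL h1).trans (inf_opIn_le hLX))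

theorem inf_normalizer_lt (c : Ctx D H L) : L ⊓ Subgroup.normalizer (Y : Set G) < L := by
  refine lt_of_le_of_ne inf_le_left fun h => c.hYO ?_
  exact CharP.le_opIn c.hYL (h.ge.trans inf_le_right) (isPGroup_of_elem (largestOf_red D.M).2.1)

theorem isMinimalOver (c : Ctx D H L) : Cfsg.IsMinimalOver ((Y : Subgroup G).subgroupOf L) := by
  have hlt := inf_normalizer_lt c
  set N₀ := L ⊓ Subgroup.normalizer (Y : Set G) with hN₀
  have hmax : ∀ K : Subgroup ↥L, K ≠ ⊤ → (Y : Subgroup G).subgroupOf L ≤ K → K ≤ N₀.subgroupOf L := by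
    intro K hK hYK x hx
    have hKL : K.map L.subtype ≠ L := fun h => hK (Subgroup.map_injective L.subtype_injective (by
      rw [h, ← MonoidHom.range_eq_map, Subgroup.range_subtype]))
    exact Subgroup.mem_subgroupOf.2 (Subgroup.mem_inf.2 ⟨x.2, le_normalizer_of_proper c (Subgroup.map_subtype_le K)
      hKL (fun y hy => ⟨⟨y, c.hYL hy⟩, hYK hy, rfl⟩) ⟨x, hx, rfl⟩⟩)
  have hYN : (Y : Subgroup G).subgroupOf L ≤ N₀.subgroupOf L := fun x hx =>
    Subgroup.mem_subgroupOf.2 (Subgroup.mem_inf.2 ⟨x.2, Subgroup.le_normalizer hx⟩)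
  have hco : IsCoatom (N₀.subgroupOf L) := by
    refine ⟨fun h => hlt.not_ge (Subgroup.subgroupOf_eq_top.1 h), fun K hK => ?_⟩
    by_contra hne
    exact hK.not_ge (hmax K hne (hYN.trans hK.le))
  refine ⟨Subgroup.map_injective L.subtype_injective ?_, N₀.subgroupOf L, ⟨hco, hYN⟩, fun K hK => ?_⟩
  · rw [← MonoidHom.range_eq_map, Subgroup.range_subtype]
    exact nclIn_eq c
  · have h := hmax K hK.1.1 hK.2
    exact h.eq_of_not_lt fun hl => hco.1 (hK.1.2 _ hl)

/-- `O^p(L)` acts nontrivially on noncentral chief factors inside `O_p(H)`. -/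
theorem chief_factor (c : Ctx D H L) {V W : Subgroup G} (hV : V ≤ CharP.opIn p H)
    (hHV : H ≤ Subgroup.normalizer (V : Set G)) (hHW : H ≤ Subgroup.normalizer (W : Set G)) (hWV : W < V)
    (hchief : ∀ Z : Subgroup G, H ≤ Subgroup.normalizer (Z : Set G) → W ≤ Z → Z ≤ V → Z = W ∨ Z = V)
    (hnc : ¬ ⁅V, H⁆ ≤ W) : ¬ ⁅V, (Cfsg.pResidual p ↥L).map L.subtype⁆ ≤ W := by
  intro hres
  refine hnc ?_
  set C : Subgroup G :=
    { carrier := {h | h ∈ H ∧ ∀ v ∈ V, v⁻¹ * (h * v * h⁻¹) ∈ W}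
      one_mem' := ⟨one_mem _, fun o _ => by simp⟩
      mul_mem' := fun {a b} ha hb => ⟨mul_mem ha.1 hb.1, fun o ho => by
        rw [show o⁻¹ * (a * b * o * (a * b)⁻¹) = o⁻¹ * (a * o * a⁻¹) * (a * (o⁻¹ * (b * o * b⁻¹)) * a⁻¹) by group]
        exact mul_mem (ha.2 o ho) ((Subgroup.mem_normalizer_iff.1 (hHW ha.1) _).1 (hb.2 o ho))⟩
      inv_mem' := fun {a} ha => ⟨inv_mem ha.1, fun o ho => by
        have h := inv_mem (ha.2 (a⁻¹ * o * a) ((Subgroup.mem_normalizer_iff''.1 (hHV ha.1) o).1 ho))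
        simpa [mul_assoc] using h⟩ } with hCdef
  have hHC : H ≤ Subgroup.normalizer (C : Set G) := by
    intro g hg
    rw [← map_conj_eq_iff_mem_normalizer]
    refine Subgroup.eq_of_le_of_card_ge ?_ (card_map_conj _ g).ge
    rintro _ ⟨x, ⟨hx, hxv⟩, rfl⟩
    refine ⟨(Subgroup.mem_normalizer_iff.1 (Subgroup.le_normalizer hg) x).1 hx, fun v hv => ?_⟩
    have h1 := (Subgroup.mem_normalizer_iff.1 (hHW hg) _).1
      (hxv (g⁻¹ * v * g) ((Subgroup.mem_normalizer_iff''.1 (hHV hg) v).1 hv))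
    simpa [mul_assoc] using h1
  have hR : (Cfsg.pResidual p ↥L).map L.subtype ≤ C := fun r hr => by
    refine ⟨c.hLH (Subgroup.map_subtype_le _ hr), fun v hv => ?_⟩
    rw [inv_mul_conj_eq]; exact hres (Subgroup.commutator_mem_commutator (inv_mem hv) hr)
  obtain ⟨S, hYS⟩ := exists_sylow_above (isPGroup_of_elem (largestOf_red (p := p) D.M).2.1) c.hYL
  set T := (S : Subgroup ↥L).map L.subtype with hT
  have hTne : T ≠ L := fun h => c.hYO (hYS.trans
    (CharP.le_opIn (Subgroup.map_subtype_le _) (by rw [h]; exact Subgroup.le_normalizer) (S.isPGroup'.map _)))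
  have hTY : T ≤ Subgroup.normalizer (Y : Set G) := le_normalizer_of_proper c (Subgroup.map_subtype_le _) hTne hYS
  set X := (L ⊓ C) ⊔ Y with hX
  have hXe : X = L := by
    by_contra hne
    have h1 := le_normalizer_of_proper c (sup_le inf_le_left c.hYL) hne le_sup_right
    refine (inf_normalizer_lt c).not_ge (le_inf le_rfl ?_)
    calc L = (Cfsg.pResidual p ↥L).map L.subtype ⊔ T := by
          rw [hT, ← Subgroup.map_sup, pResidual_sup_sylow, ← MonoidHom.range_eq_map, Subgroup.range_subtype]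
      _ ≤ _ := sup_le (((le_inf (Subgroup.map_subtype_le _) hR).trans le_sup_left).trans h1) hTY
  obtain ⟨-, hPH, -, -⟩ := c.hH
  have hgenH : H ≤ C ⊔ (P : Subgroup G) := by
    rw [← sup_P_eq c]
    refine sup_le (hXe.ge.trans (sup_le (inf_le_right.trans le_sup_left) ((largest_le_opIn D.M).trans le_sup_right))) le_sup_right
  -- an element fixed by `P` modulo `W`
  obtain ⟨b, hb, hbW, hbfix⟩ := LEKieler.exists_fixed_mod (B := V) (B₀ := W) (T := CharP.opIn p H ⊔ (P : Subgroup G))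
    (sup_opIn_isPGroup (CharP.opIn_isPGroup D.M) hPH) (hV.trans le_sup_left)
    ((sup_le (CharP.opIn_le H) hPH).trans hHV) hWV.not_ge
  set Z := W ⊔ Subgroup.zpowers b with hZ
  have hZV : Z ≤ V := sup_le hWV.le (Subgroup.zpowers_le.2 hb)
  have hstab : ∀ g ∈ H, b⁻¹ * (g * b * g⁻¹) ∈ W → g ∈ Subgroup.normalizer (Z : Set G) := by
    intro g hg hgb
    rw [← map_conj_eq_iff_mem_normalizer]
    refine Subgroup.eq_of_le_of_card_ge ?_ (card_map_conj _ g).ge
    rw [Subgroup.map_sup, map_conj_eq_iff_mem_normalizer.2 (hHW hg)]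
    refine sup_le le_sup_left ?_
    rw [MonoidHom.map_zpowers, Subgroup.zpowers_le]
    show g * b * g⁻¹ ∈ Z
    rw [show g * b * g⁻¹ = b * (b⁻¹ * (g * b * g⁻¹)) by group]
    exact mul_mem (Subgroup.mem_sup_right (Subgroup.mem_zpowers b)) (Subgroup.mem_sup_left hgb)
  have hHZ : H ≤ Subgroup.normalizer (Z : Set G) := hgenH.trans (sup_le (fun g hg => hstab g hg.1 (hg.2 b hb))
    fun a ha => hstab a (hPH ha) (hbfix a (Subgroup.mem_sup_right ha)))
  have hZe : Z = V := (hchief Z hHZ le_sup_left hZV).resolve_left fun h =>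
    hbW (h.le (Subgroup.mem_sup_right (Subgroup.mem_zpowers b)))
  have hPC : (P : Subgroup G) ≤ C := fun a ha => ⟨hPH ha, fun v hv => by
    obtain ⟨w, hw, z, hz, rfl⟩ := (SolvBasic.mem_sup_iff_of_le_normalizer
      (Subgroup.zpowers_le.2 (hHW ((CharP.opIn_le H) (hV hb))))).1 (hZe.ge hv)
    have hab : a * b * a⁻¹ = b * (b⁻¹ * (a * b * a⁻¹)) := by group
    have h1 : b⁻¹ * (a * b * a⁻¹) ∈ W := hbfix a (Subgroup.mem_sup_right ha)
    let Zc : Subgroup G :=
      { carrier := {x | x ∈ V ∧ x⁻¹ * (a * x * a⁻¹) ∈ W}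
        one_mem' := ⟨one_mem _, by simp⟩
        mul_mem' := fun {x x'} hx hx' => ⟨mul_mem hx.1 hx'.1, by
          have h := (Subgroup.mem_normalizer_iff''.1 (hHW (CharP.opIn_le H (hV hx'.1))) _).1 hx.2
          have h' := mul_mem h hx'.2
          simpa [mul_assoc] using h'⟩
        inv_mem' := fun {x} hx => ⟨inv_mem hx.1, by
          have h := (Subgroup.mem_normalizer_iff.1 (hHW (CharP.opIn_le H (hV hx.1))) _).1 (inv_mem hx.2)
          simpa [mul_assoc] using h⟩ }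
    have hWZ : W ≤ Zc := fun x hx => ⟨hWV.le hx,
      mul_mem (inv_mem hx) ((Subgroup.mem_normalizer_iff.1 (hHW (hPH ha)) x).1 hx)⟩
    exact (mul_mem (hWZ hw) ((Subgroup.zpowers_le.2 (⟨hb, h1⟩ : b ∈ Zc)) hz) : w * z ∈ Zc).2⟩
  have hHle : H ≤ C := hgenH.trans (sup_le le_rfl hPC)
  rw [Subgroup.commutator_le]
  intro v hv g hg
  have h := (hHle hg).2 v⁻¹ (inv_mem hv)
  rwa [inv_mul_conj_eq, inv_inv] at h

/-- The normal closure of `O_p(L) ∩ Y` in `L` lies in `O_p(H)`. -/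
theorem ncl_le_opIn (c : Ctx D H L) : nclIn L (CharP.opIn p L ⊓ Y) ≤ CharP.opIn p H := by
  refine nclIn_min (c.hLH.trans (CharP.le_normalizer_opIn H)) ?_
  obtain ⟨k, hk, hgen⟩ := exists_gen c
  obtain ⟨hLA, htriv⟩ := le_normalizer_gen_A c (c.hLH hk) hgen
  obtain ⟨hchar, hPH, hYnO, -⟩ := c.hH
  have hYe := (largestOf_red (p := p) D.M).2.1
  set O := CharP.opIn p H with hO
  set U := (Y ⊓ O : Subgroup G) with hU
  set Uk := U.map (MulAut.conj k).toMonoidHom with hUk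
  set A := U ⊔ Uk with hA
  have hUkO : Uk ≤ O :=
    (map_conj_mono k inf_le_right).trans (map_conj_eq_iff_mem_normalizer.2 (CharP.le_normalizer_opIn H (c.hLH hk))).le
  have hAO : A ≤ O := sup_le inf_le_right hUkO
  have hUkn : Uk ≤ Subgroup.normalizer (U : Set G) :=
    hUkO.trans ((le_inf (opIn_le_normalizer_Y c) Subgroup.le_normalizer).trans (LELarge.inf_normalizer_le _ _))
  set E := O ⊓ Subgroup.centralizer (Y : Set G) with hE
  set B := A ⊔ E with hB
  have hBO : B ≤ O := sup_le hAO inf_le_left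
  have hOB : ∀ g ∈ H, ∀ o ∈ O, o⁻¹ * (g * o * g⁻¹) ∈ O := fun g hg o ho =>
    mul_mem (inv_mem ho) ((Subgroup.mem_normalizer_iff.1 (CharP.le_normalizer_opIn H hg) o).1 ho)
  -- `[O, P] ≤ B`, so `B` is normal
  have hPB : ∀ a ∈ (P : Subgroup G), ∀ o ∈ O, o⁻¹ * (a * o * a⁻¹) ∈ B := fun a ha o ho => by
    refine Subgroup.mem_sup_right (Subgroup.mem_inf.2 ⟨hOB a (hPH ha) o ho, opIn_centralizes D.M ?_⟩)
    rw [inv_mul_conj_eq]
    exact Subgroup.le_normalizer_iff_commutator_le_right.1 (opIn_le D hPH)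
      (Subgroup.commutator_mem_commutator (inv_mem ho) ha)
  have hLB : ∀ l ∈ L, ∀ o ∈ O, o⁻¹ * (l * o * l⁻¹) ∈ B := fun l hl o ho => Subgroup.mem_sup_left (htriv l hl o ho)
  have hBn : H ≤ Subgroup.normalizer (B : Set G) := by
    rw [← sup_P_eq c]
    refine sup_le (fun g hg => ?_) (fun g hg => ?_)
    all_goals
      rw [← map_conj_eq_iff_mem_normalizer]
      refine Subgroup.eq_of_le_of_card_ge ?_ (card_map_conj _ g).ge
      rintro _ ⟨x, hx, rfl⟩
      show g * x * g⁻¹ ∈ B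
      rw [show g * x * g⁻¹ = x * (x⁻¹ * (g * x * g⁻¹)) by group]
      first
        | exact mul_mem hx (hLB g hg x (hBO hx))
        | exact mul_mem hx (hPB g hg x (hBO hx))
  let Q : Subgroup G :=
    { carrier := {h | h ∈ H ∧ ∀ o ∈ O, o⁻¹ * (h * o * h⁻¹) ∈ B}
      one_mem' := ⟨one_mem _, fun o _ => by simp⟩
      mul_mem' := fun {a b} ha hb => ⟨mul_mem ha.1 hb.1, fun o ho => by
        rw [show o⁻¹ * (a * b * o * (a * b)⁻¹) = o⁻¹ * (a * o * a⁻¹) * (a * (o⁻¹ * (b * o * b⁻¹)) * a⁻¹) by group]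
        exact mul_mem (ha.2 o ho) ((Subgroup.mem_normalizer_iff.1 (hBn ha.1) _).1 (hb.2 o ho))⟩
      inv_mem' := fun {a} ha => ⟨inv_mem ha.1, fun o ho => by
        have h := inv_mem (ha.2 (a⁻¹ * o * a) ((Subgroup.mem_normalizer_iff''.1 (CharP.le_normalizer_opIn H ha.1) o).1 ho))
        simpa [mul_assoc] using h⟩ }
  have hHQ : H ≤ Q := (sup_P_eq c).ge.trans (sup_le (fun l hl => ⟨c.hLH hl, hLB l hl⟩)
    fun a ha => ⟨hPH ha, hPB a ha⟩)
  -- the central subgroup `Zc`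
  set Zc := U ⊓ Uk with hZc
  have hZcH : ∀ z ∈ Zc, ∀ g ∈ H, g * z = z * g := by
    intro z hz g hg
    obtain ⟨hz1, hz2⟩ := Subgroup.mem_inf.1 hz
    have h3 : H ≤ Subgroup.centralizer ({z} : Set G) := by
      rw [← sup_P_eq c]
      refine sup_le (hgen.le.trans (sup_le (fun y hy => ?_) fun y hy => ?_)) fun a ha => ?_
      · exact Subgroup.mem_centralizer_singleton_iff.2 (commute_of_elem hYe hy (Subgroup.mem_inf.1 hz1).1)
      · exact Subgroup.mem_centralizer_singleton_iff.2 (conj_comm hy (map_conj_mono k inf_le_left hz2))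
      · exact Subgroup.mem_centralizer_singleton_iff.2
          (Subgroup.mem_centralizer_iff.1 (opIn_centralizes D.M ha) z (Subgroup.mem_inf.1 hz1).1).symm
    exact Subgroup.mem_centralizer_singleton_iff.1 (h3 hg)
  let C₀ : Subgroup G :=
    { carrier := {h | h ∈ H ∧ ∀ b ∈ B, b⁻¹ * (h * b * h⁻¹) ∈ Zc}
      one_mem' := ⟨one_mem _, fun o _ => by simp⟩
      mul_mem' := fun {a b} ha hb => ⟨mul_mem ha.1 hb.1, fun o ho => by
        rw [show o⁻¹ * (a * b * o * (a * b)⁻¹) = o⁻¹ * (a * o * a⁻¹) * (a * (o⁻¹ * (b * o * b⁻¹)) * a⁻¹) by group,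
          hZcH _ (hb.2 o ho) a ha.1, mul_inv_cancel_right]
        exact mul_mem (ha.2 o ho) (hb.2 o ho)⟩
      inv_mem' := fun {a} ha => ⟨inv_mem ha.1, fun o ho => by
        have h := inv_mem (ha.2 (a⁻¹ * o * a) ((Subgroup.mem_normalizer_iff''.1 (hBn ha.1) o).1 ho))
        simpa [mul_assoc] using h⟩ }
  have hC₀n : H ≤ Subgroup.normalizer (C₀ : Set G) := by
    intro g hg
    rw [← map_conj_eq_iff_mem_normalizer]
    refine Subgroup.eq_of_le_of_card_ge ?_ (card_map_conj _ g).ge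
    rintro _ ⟨x, ⟨hx, hxv⟩, rfl⟩
    refine ⟨(Subgroup.mem_normalizer_iff.1 (Subgroup.le_normalizer hg) x).1 hx, fun v hv => ?_⟩
    have h0 := hxv (g⁻¹ * v * g) ((Subgroup.mem_normalizer_iff''.1 (hBn hg) v).1 hv)
    have h1 : g * ((g⁻¹ * v * g)⁻¹ * (x * (g⁻¹ * v * g) * x⁻¹)) * g⁻¹ ∈ Zc := by
      rw [hZcH _ h0 g hg, mul_inv_cancel_right]; exact h0
    simpa [mul_assoc] using h1
  have hC₀p : IsPGroup p ↥C₀ := by
    rintro ⟨g, hg⟩
    obtain ⟨s, t, hst, hs, -, ⟨j, hj⟩, htc⟩ := Cfsg.Agent.PBasic.exists_pPart_mul (p := p) g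
    have htC : t ∈ C₀ := by
      obtain ⟨b, hb⟩ := Subgroup.mem_zpowers_iff.1 hs
      have : t = g ^ (-b + 1) := by rw [zpow_add, zpow_neg, zpow_one, hb, ← hst, inv_mul_cancel_left]
      rw [this]; exact zpow_mem hg _
    have htB : ∀ b ∈ B, t * b = b * t := fun b hb =>
      CharP.commute_of_conj_eq_mul (CharP.opIn_isPGroup H) (hAO (Subgroup.mem_sup_left (Subgroup.mem_inf.1 (htC.2 b hb)).1))
        htc (by group) (hZcH _ (htC.2 b hb) t htC.1)
    have ht1 : t = 1 := (CharP.isCharP_iff H).1 hchar t htC.1 htc fun o ho =>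
      CharP.commute_of_conj_eq_mul (CharP.opIn_isPGroup H) (hBO ((hHQ htC.1).2 o ho)) htc (by group)
        (htB _ ((hHQ htC.1).2 o ho))
    rw [ht1, mul_one] at hst
    refine ⟨j, Subtype.ext ?_⟩
    show g ^ p ^ j = 1
    rw [← hst, ← hj, pow_orderOf_eq_one]
  have hC₀O : C₀ ≤ O := CharP.le_opIn (fun x hx => hx.1) hC₀n hC₀p
  -- `Y ∩ O_p(L) ≤ C₀`
  have hYk : CharP.opIn p L ≤ Subgroup.normalizer (((Y : Subgroup G).map (MulAut.conj k).toMonoidHom : Subgroup G) : Set G) := by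
    have hne : CharP.opIn p L ⊔ Y ≠ L := fun h => c.hYO (le_trans le_sup_right (CharP.le_opIn h.le
      (by rw [h]; exact Subgroup.le_normalizer) (sup_opIn_isPGroup (isPGroup_of_elem hYe) c.hYL)))
    have h1 : CharP.opIn p L ≤ Subgroup.normalizer (Y : Set G) :=
      le_sup_left.trans (le_normalizer_of_proper c (sup_le (CharP.opIn_le L) c.hYL) hne le_sup_right)
    have h2 := map_conj_mono k h1
    rw [map_conj_eq_iff_mem_normalizer.2 (CharP.le_normalizer_opIn L hk)] at h2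
    exact h2.trans (Subgroup.le_normalizer_map _)
  intro s hs
  obtain ⟨hsL, hsY⟩ := Subgroup.mem_inf.1 hs
  have hsH : s ∈ H := c.hLH (c.hYL hsY)
  refine hC₀O ⟨hsH, ?_⟩
  let F : Subgroup G :=
    { carrier := {b | b ∈ O ∧ b⁻¹ * (s * b * s⁻¹) ∈ Zc}
      one_mem' := ⟨one_mem _, by simp⟩
      mul_mem' := fun {x y} hx hy => ⟨mul_mem hx.1 hy.1, by
        rw [show (x * y)⁻¹ * (s * (x * y) * s⁻¹) = y⁻¹ * (x⁻¹ * (s * x * s⁻¹)) * y * (y⁻¹ * (s * y * s⁻¹)) by group,
          mul_assoc y⁻¹, ← hZcH _ hx.2 y (CharP.opIn_le H hy.1), inv_mul_cancel_left]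
        exact mul_mem hx.2 hy.2⟩
      inv_mem' := fun {x} hx => ⟨inv_mem hx.1, by
        have h := inv_mem hx.2
        have h' : x * (x⁻¹ * (s * x * s⁻¹))⁻¹ * x⁻¹ ∈ Zc := by
          rw [hZcH _ h x (CharP.opIn_le H hx.1), mul_inv_cancel_right]; exact h
        simpa [mul_assoc] using h'⟩ }
  have hcent : ∀ x ∈ O, x ∈ Subgroup.centralizer (Y : Set G) → x ∈ F := fun x hxO hxc => ⟨hxO, by
    rw [Subgroup.mem_centralizer_iff.1 hxc s hsY, mul_inv_cancel_right, inv_mul_cancel]; exact one_mem _⟩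
  have hBF : B ≤ F := by
    refine sup_le (sup_le (fun x hx => hcent x (Subgroup.mem_inf.1 hx).2 (le_centralizer_self hYe (Subgroup.mem_inf.1 hx).1)) ?_)
      fun x hx => hcent x (Subgroup.mem_inf.1 hx).1 (Subgroup.mem_inf.1 hx).2
    intro x hx
    refine ⟨hUkO hx, Subgroup.mem_inf.2 ⟨Subgroup.mem_inf.2 ⟨?_, hOB s hsH x (hUkO hx)⟩, ?_⟩⟩
    · rw [inv_mul_conj_eq]
      exact Subgroup.le_normalizer_iff_commutator_le_right.1 (opIn_le_normalizer_Y c)
        (Subgroup.commutator_mem_commutator (inv_mem (hUkO hx)) hsY)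
    · rw [hUk, hU, Subgroup.map_inf _ _ _ (MulAut.conj k).injective]
      have hxk : x ∈ (Y : Subgroup G).map (MulAut.conj k).toMonoidHom := map_conj_mono k inf_le_left hx
      refine Subgroup.mem_inf.2 ⟨mul_mem (inv_mem hxk) ((Subgroup.mem_normalizer_iff.1 (hYk hsL) x).1 hxk), ?_⟩
      rw [map_conj_eq_iff_mem_normalizer.2 (CharP.le_normalizer_opIn H (c.hLH hk))]
      exact hOB s hsH x (hUkO hx)
  exact fun b hb => (hBF hb).2

end Cfsg.Agent.LEFrakLMin
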