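/-
The normalizer of the image of `Y` in `L / O_p(L)` has a unique minimal normal elementary abelian `p`-subgroup.
-/
import Cfsg.Agent.Lib.FrakLFix.Main
import Cfsg.Agent.Lib.LocalEven.PReduced
import Cfsg.Agent.Lib.LocalEven.Amalgam

set_option autoImplicit false
set_option linter.unusedSectionVars false
set_option linter.style.haveILetI false

namespace Cfsg.Agent.LEFrakLBorel

open Cfsg.Agent.LEBasic

variable {X : Type*} [Group X] [Finite X] {p : ℕ} [Fact p.Prime]

/-- `P` is the only nontrivial normal subgroup of exponent `p` of its normalizer. -/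
def Only (p : ℕ) (P : Subgroup X) : Prop :=
  ∀ V : Subgroup X, V ≤ Subgroup.normalizer (P : Set X) →
    Subgroup.normalizer (P : Set X) ≤ Subgroup.normalizer (V : Set X) →
    IsPGroup p ↥V → (∀ v ∈ V, v ^ p = 1) → V ≠ ⊥ → V = P

theorem le_of_sylow {P V : Subgroup X} (hP : IsPGroup p ↥P) (hidx : ¬ p ∣ P.index)
    (hVP : V ≤ Subgroup.normalizer (P : Set X)) (hV : IsPGroup p ↥V) : V ≤ P := by
  have h1 : IsPGroup p ↥(P ⊔ V) := hP.to_sup_of_normal_left' hV hVP
  have h2 := (hP.toSylow hidx).is_maximal' h1 (le_sup_left : P ≤ P ⊔ V)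
  exact le_sup_right.trans h2.le

theorem only_of_transport {X' : Type*} [Group X'] [Finite X'] (f : X ≃* X') {P : Subgroup X}
    (h : Only p (P.map f.toMonoidHom)) : Only p P := by
  intro V hV hn hVp hVe hV1
  apply Subgroup.map_injective (f := f.toMonoidHom) f.injective
  refine h _ ?_ ?_ (hVp.map _) ?_ ((Subgroup.map_eq_bot_iff_of_injective V f.injective).not.2 hV1)
  · rw [← Subgroup.map_equiv_normalizer_eq]; exact Subgroup.map_mono hV
  · rw [← Subgroup.map_equiv_normalizer_eq, ← Subgroup.map_equiv_normalizer_eq]; exact Subgroup.map_mono hn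
  · rintro _ ⟨v, hv, rfl⟩; rw [← map_pow, hVe v hv, map_one]

theorem only_of_card_two {t s : X} (ht : t * t = 1) (hs : s * s = 1) (hts : Subgroup.zpowers t ⊔ Subgroup.zpowers s = ⊤)
    (hO : Cfsg.pCore 2 X = ⊥) (ht1 : t ≠ 1) : Only 2 (Subgroup.zpowers t) := by
  haveI : Fact (Nat.Prime 2) := ⟨Nat.prime_two⟩
  set x := t * s with hx
  have hti : t⁻¹ = t := inv_eq_of_mul_eq_one_left ht
  have hsi : s⁻¹ = s := inv_eq_of_mul_eq_one_left hs
  have hconj : ∀ z ∈ Subgroup.zpowers x, t * z * t⁻¹ = z⁻¹ := by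
    rintro _ ⟨n, rfl⟩
    show t * x ^ n * t⁻¹ = (x ^ n)⁻¹
    rw [← conj_zpow, ← inv_zpow, hx, mul_inv_rev, hsi, hti, ← mul_assoc t t, ht, one_mul]
  have htn : t ∈ Subgroup.normalizer (Subgroup.zpowers x : Set X) := by
    rw [← map_conj_eq_iff_mem_normalizer]
    refine Subgroup.eq_of_le_of_card_ge ?_ (card_map_conj _ t).ge
    rintro _ ⟨z, hz, rfl⟩
    show t * z * t⁻¹ ∈ _
    rw [hconj z hz]; exact inv_mem hz
  have htop : Subgroup.zpowers x ⊔ Subgroup.zpowers t = ⊤ := by
    refine top_le_iff.1 (hts.ge.trans (sup_le le_sup_right (Subgroup.zpowers_le.2 ?_)))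
    have : s = t * x := by rw [hx, ← mul_assoc, ht, one_mul]
    rw [this]
    exact mul_mem (Subgroup.mem_sup_right (Subgroup.mem_zpowers t)) (Subgroup.mem_sup_left (Subgroup.mem_zpowers x))
  haveI hxn : (Subgroup.zpowers x).Normal := Subgroup.normalizer_eq_top_iff.1 (top_le_iff.1
    (htop.ge.trans (sup_le Subgroup.le_normalizer (Subgroup.zpowers_le.2 htn))))
  have hodd : ¬ 2 ∣ orderOf x := by
    intro hd
    set y := x ^ (orderOf x / 2) with hy
    have hy2 : orderOf y = 2 := orderOf_pow_orderOf_div (orderOf_pos x).ne' hd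
    have hyx : y ∈ Subgroup.zpowers x := pow_mem (Subgroup.mem_zpowers x) _
    have hfix : t * y * t⁻¹ = y := by
      rw [hconj y hyx]
      exact inv_eq_of_mul_eq_one_left (by rw [← pow_two, ← hy2, pow_orderOf_eq_one])
    have hyc : (⊤ : Subgroup X) ≤ Subgroup.centralizer {y} := htop.ge.trans (sup_le
      (Subgroup.zpowers_le.2 (Subgroup.mem_centralizer_singleton_iff.2 (by
        obtain ⟨n, hn⟩ := Subgroup.mem_zpowers_iff.1 hyx
        rw [← hn]; exact (Commute.zpow_self x n).eq.symm)))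
      (Subgroup.zpowers_le.2 (Subgroup.mem_centralizer_singleton_iff.2 (mul_inv_eq_iff_eq_mul.1 hfix))))
    have hyn : (Subgroup.zpowers y).Normal := ⟨fun z hz g => by
      have hg : g * y = y * g := Subgroup.mem_centralizer_singleton_iff.1 (hyc (Subgroup.mem_top g))
      obtain ⟨n, rfl⟩ := hz
      show g * y ^ n * g⁻¹ ∈ _
      rw [(Commute.zpow_right (show Commute g y from hg) n).eq, mul_inv_cancel_right]
      exact zpow_mem (Subgroup.mem_zpowers y) n⟩
    have h := le_pCore hyn (IsPGroup.of_card (n := 1) (by rw [Nat.card_zpowers, hy2, pow_one]) :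
      IsPGroup 2 ↥(Subgroup.zpowers y))
    rw [hO, le_bot_iff, Subgroup.zpowers_eq_bot] at h
    rw [h, orderOf_one] at hy2
    omega
  have ht2 : orderOf t = 2 := orderOf_eq_prime (by rw [pow_two, ht]) ht1
  have hPp : IsPGroup 2 ↥(Subgroup.zpowers t) := IsPGroup.of_card (n := 1) (by rw [Nat.card_zpowers, ht2, pow_one])
  have hidx : ¬ 2 ∣ (Subgroup.zpowers t).index := by
    intro hd
    refine hodd (hd.trans ?_)
    have h1 := SolvBasic.card_sup_mul_card_inf (N := Subgroup.zpowers x) (H := Subgroup.zpowers t)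
      (Subgroup.le_normalizer_of_normal)
    rw [htop, Subgroup.card_top, Nat.card_zpowers, Nat.card_zpowers, ← Subgroup.card_mul_index (Subgroup.zpowers t),
      Nat.card_zpowers] at h1
    refine ⟨Nat.card ↥(Subgroup.zpowers x ⊓ Subgroup.zpowers t), ?_⟩
    refine Nat.eq_of_mul_eq_mul_left (show 0 < orderOf t by omega) ?_
    rw [← mul_assoc, h1, mul_comm]
  intro V hV _ hVp _ hV1
  refine Subgroup.eq_of_le_of_card_ge (le_of_sylow hPp hidx hV hVp) ?_
  rw [Nat.card_zpowers, ht2]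
  exact (Subgroup.one_lt_card_iff_ne_bot V).2 hV1

section SLTwo

open SL2Classes FrakLFix

variable {F : Type} [Field F] [Fintype F]

local notation "SL2" => Matrix.SpecialLinearGroup (Fin 2) F

/-- A diagonal element. -/
noncomputable def torusEl (a : Fˣ) : SL2 := ⟨!![(a : F), 0; 0, (a⁻¹ : Fˣ)], by simp [Matrix.det_fin_two_of]⟩

theorem torusEl_conj (a : Fˣ) (s : F) : torusEl a * upper s * (torusEl a)⁻¹ = upper ((a : F) * a * s) := by
  rw [mul_inv_eq_iff_eq_mul]
  apply Subtype.ext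
  show (torusEl a).1 * (upper s).1 = (upper ((a : F) * a * s)).1 * (torusEl a).1
  rw [upper_val, upper_val, show (torusEl a).1 = !![(a : F), 0; 0, (a⁻¹ : Fˣ)] from rfl]
  ext i j; fin_cases i <;> fin_cases j <;> simp [Matrix.mul_apply, Fin.sum_univ_two]
  field_simp

theorem squares_gen (S : AddSubgroup F) {s : F} (hs : s ≠ 0) (h : ∀ a : F, a * a * s ∈ S) : ∀ x, x ∈ S := by
  intro x
  by_cases h2 : (2 : F) = 0
  · haveI : CharP F 2 := CharTwo.of_one_ne_zero_of_two_eq_zero one_ne_zero h2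
    obtain ⟨a, ha⟩ := FiniteField.isSquare_of_char_two (ringChar.eq F 2) (x / s)
    have := h a
    rwa [← ha, div_mul_cancel₀ _ hs] at this
  · have h4 : (4 : F) ≠ 0 := by
      rw [show (4 : F) = 2 * 2 by norm_num]; exact mul_ne_zero h2 h2
    have := S.sub_mem (h (x / s / 4 + 1)) (h (x / s / 4 - 1))
    have e : (x / s / 4 + 1) * (x / s / 4 + 1) * s - (x / s / 4 - 1) * (x / s / 4 - 1) * s = x := by
      field_simp
      ring
    rwa [e] at this

theorem only_upper [CharP F p] (hidx : ¬ p ∣ (upperHom (F := F)).range.index) :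
    Only p (upperHom (F := F)).range := by
  intro V hV hn hVp _ hV1
  set R := (upperHom (F := F)).range with hR
  have hRp : IsPGroup p ↥R := by
    rintro ⟨_, s, rfl⟩
    refine ⟨1, Subtype.ext ?_⟩
    show upperHom s ^ p ^ 1 = 1
    rw [pow_one, ← map_pow]
    refine (congrArg upperHom ?_).trans (map_one _)
    apply Multiplicative.toAdd.injective
    rw [toAdd_pow, toAdd_one, nsmul_eq_mul, CharP.cast_eq_zero, zero_mul]
  have hVR : V ≤ R := le_of_sylow hRp hidx hV hVp
  let S : AddSubgroup F :=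
    { carrier := {s | upper s ∈ V}
      zero_mem' := by show upper 0 ∈ V; rw [upper_zero]; exact one_mem V
      add_mem' := fun {a b} ha hb => by show upper (a + b) ∈ V; rw [upper_add]; exact mul_mem ha hb
      neg_mem' := fun {a} ha => by
        show upper (-a) ∈ V
        have : upper (-a) = (upper a)⁻¹ := eq_inv_of_mul_eq_one_left (by rw [← upper_add, neg_add_cancel, upper_zero])
        rw [this]; exact inv_mem ha }
  obtain ⟨v, hv, hv1⟩ : ∃ v ∈ V, v ≠ 1 := by
    by_contra hc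
    push Not at hc
    exact hV1 ((Subgroup.eq_bot_iff_forall V).2 hc)
  obtain ⟨s, rfl⟩ := hVR hv
  have hs : s.toAdd ≠ 0 := fun e => hv1 (by
    show upper s.toAdd = 1
    rw [e, upper_zero])
  have hall : ∀ x : F, x ∈ S := by
    refine squares_gen S hs fun a => ?_
    rcases eq_or_ne a 0 with rfl | ha
    · simp [zero_mem]
    have hmem : torusEl (Units.mk0 a ha) ∈ Subgroup.normalizer (R : Set SL2) := by
      rw [← map_conj_eq_iff_mem_normalizer]
      refine Subgroup.eq_of_le_of_card_ge ?_ (card_map_conj _ _).ge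
      rintro _ ⟨_, ⟨w, rfl⟩, rfl⟩
      exact ⟨Multiplicative.ofAdd _, (torusEl_conj (Units.mk0 a ha) w.toAdd).symm⟩
    have := (Subgroup.mem_normalizer_iff.1 (hn hmem) _).1 hv
    show upper (a * a * s.toAdd) ∈ V
    have e := torusEl_conj (Units.mk0 a ha) s.toAdd
    rw [Units.val_mk0] at e
    rw [← e]
    exact this
  refine le_antisymm hVR ?_
  rintro _ ⟨w, rfl⟩
  exact hall w.toAdd

end SLTwo

theorem only_zGroup {F : Type} [Field F] [Fintype F] {m : ℕ} (h : Suzuki.SzField F m) :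
    Only 2 (Suzuki.zGroup h) := by
  haveI : Fact (Nat.Prime 2) := ⟨Nat.prime_two⟩
  intro V hV hn hVp hVe hV1
  set R := Suzuki.rootGroup h
  have hRZ : R ≤ Subgroup.normalizer (Suzuki.zGroup h : Set (Cfsg.Sz F m)) := by
    refine LEAmalgam.le_normalizer_of_conj ?_
    rintro _ ⟨a, b, rfl⟩ _ ⟨_, ⟨d, rfl⟩, rfl⟩
    refine ⟨d, ?_⟩
    show Suzuki.T h a b * Suzuki.T h 0 d * (Suzuki.T h a b)⁻¹ = _
    rw [← Suzuki.T_zero_central, mul_inv_cancel_right]
  have hidx := Suzuki.odd_index_rootGroup h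
  have hsup : IsPGroup 2 ↥(V ⊔ R) := hVp.to_sup_of_normal_left' (Suzuki.isPGroup_rootGroup h) (hRZ.trans hn)
  have hVR : V ≤ R := le_sup_left.trans
    (((Suzuki.isPGroup_rootGroup h).toSylow hidx).is_maximal' hsup (le_sup_right : R ≤ V ⊔ R)).le
  have hVZ : V ≤ Suzuki.zGroup h := fun v hv =>
    Suzuki.involution_in_rootGroup h (hVR hv) (by rw [← pow_two]; exact hVe v hv)
  refine le_antisymm hVZ ?_
  obtain ⟨v, hv, hv1⟩ : ∃ v ∈ V, v ≠ 1 := by
    by_contra hc
    push Not at hc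
    exact hV1 ((Subgroup.eq_bot_iff_forall V).2 hc)
  obtain ⟨b, rfl⟩ := hVZ hv
  have hb : b ≠ 0 := fun e => hv1 ((Suzuki.eq_one_iff_T h).2 ⟨rfl, e⟩)
  rintro _ ⟨b', rfl⟩
  rcases eq_or_ne b' 0 with hb' | hb'
  · rw [(Suzuki.eq_one_iff_T h).2 ⟨rfl, hb'⟩]; exact one_mem V
  obtain ⟨k, hk⟩ := Suzuki.exists_H_conj h hb hb'
  have hmem : Suzuki.H h k ∈ Subgroup.normalizer (Suzuki.zGroup h : Set (Cfsg.Sz F m)) := by
    rw [← map_conj_eq_iff_mem_normalizer]
    refine Subgroup.eq_of_le_of_card_ge ?_ (card_map_conj _ _).ge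
    rintro _ ⟨_, ⟨d, rfl⟩, rfl⟩
    exact ⟨_, Suzuki.H_conj_zero h k d⟩
  rw [← hk]
  exact (Subgroup.mem_normalizer_iff.1 (hn hmem) _).1 hv

section Quot

variable {L : Type*} [Group L] [Finite L] {Y : Subgroup L}

/-- The image of `Y` modulo `O_p(L)`. -/
abbrev img (p : ℕ) (Y : Subgroup L) : Subgroup (L ⧸ Cfsg.pCore p L) := Y.map (QuotientGroup.mk' (Cfsg.pCore p L))

theorem only_of_two (D : FrakLFix.Data p Y) (hp : p = 2) (hq : Nat.card ↥(img p Y) = 2) : Only p (img p Y) := by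
  subst hp
  set π := QuotientGroup.mk' (Cfsg.pCore 2 L) with hπ
  obtain ⟨y, hy, hyA⟩ := SetLike.not_le_iff_exists.1 D.not_le
  have hy1 : π y ≠ 1 := fun e => hyA ((QuotientGroup.eq_one_iff y).1 e)
  have hyy : π y * π y = 1 := by rw [← map_mul, ← pow_two, D.expo y hy, map_one]
  have hPy : img 2 Y = Subgroup.zpowers (π y) := (Subgroup.eq_of_le_of_card_ge
    (Subgroup.zpowers_le.2 (Subgroup.mem_map_of_mem π hy))
    (by rw [hq, Nat.card_zpowers, orderOf_eq_prime (by rw [pow_two, hyy]) hy1])).symm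
  obtain ⟨g, hg⟩ := D.exists_ne
  have hgen := D.gen_two (g := g) (fun h => hg (map_conj_eq_iff_mem_normalizer.2 h))
  rw [hPy]
  refine only_of_card_two (s := π g * π y * (π g)⁻¹) hyy ?_ ?_ pCore_quotient_pCore hy1
  · rw [show π g * π y * (π g)⁻¹ * (π g * π y * (π g)⁻¹) = π g * (π y * π y) * (π g)⁻¹ by group, hyy,
      mul_one, mul_inv_cancel]
  · have h1 := congrArg (Subgroup.map π) hgen
    rw [Subgroup.map_sup, Subgroup.map_top_of_surjective _ (QuotientGroup.mk'_surjective _),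
      show Y.map π = img 2 Y from rfl, hPy] at h1
    refine top_le_iff.1 (h1.ge.trans (sup_le le_sup_left (le_sup_of_le_right ?_)))
    rintro _ ⟨_, ⟨z, hz, rfl⟩, rfl⟩
    obtain ⟨n, hn⟩ := Subgroup.mem_zpowers_iff.1 (hPy.le (Subgroup.mem_map_of_mem π hz))
    refine Subgroup.mem_zpowers_iff.2 ⟨n, ?_⟩
    show _ = π (g * z * g⁻¹)
    rw [conj_zpow, hn, map_mul, map_mul, map_inv]

theorem only_of_sl2 (D : FrakLFix.Data p Y) {F : Type} [Field F] [Fintype F]
    (hq : Fintype.card F = Nat.card ↥(img p Y))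
    (e : L ⧸ Cfsg.pCore p L ≃* Matrix.SpecialLinearGroup (Fin 2) F) : Only p (img p Y) := by
  classical
  obtain ⟨n, hn⟩ := IsPGroup.iff_card.1 (D.pgrp.map (QuotientGroup.mk' (Cfsg.pCore p L)))
  have h1lt : 1 < Fintype.card F := Fintype.one_lt_card
  haveI : CharP F p := by
    obtain ⟨p', hp'⟩ := CharP.exists F
    obtain ⟨k, hk, hck⟩ := FiniteField.card F p'
    rw [hq, hn] at hck
    have h1 : p' ∣ p := hk.dvd_of_dvd_pow (n := n) (hck ▸ dvd_pow_self _ k.pos.ne')
    exact (Nat.prime_dvd_prime_iff_eq hk Fact.out).1 h1 ▸ hp'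
  set R := (FrakLFix.upperHom (F := F)).range with hR
  have hRc : Nat.card R = Fintype.card F := by
    rw [hR, ← Nat.card_congr (MonoidHom.ofInjective FrakLFix.upperHom_injective).toEquiv, ← Nat.card_eq_fintype_card]
    exact Nat.card_congr Multiplicative.toAdd
  have hsyl : ∀ Q : Subgroup (Matrix.SpecialLinearGroup (Fin 2) F), Nat.card Q = Fintype.card F →
      IsPGroup p Q ∧ ¬ p ∣ Q.index := by
    intro Q hQ
    refine ⟨IsPGroup.of_card (n := n) (by rw [hQ, hq, hn]), ?_⟩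
    have h1 := Q.card_mul_index
    rw [TwoByTwo.card_sl_two, hQ, Nat.card_eq_fintype_card] at h1
    have h2 : Q.index = Fintype.card F ^ 2 - 1 := Nat.eq_of_mul_eq_mul_left Fintype.card_pos h1
    rw [h2]
    intro hd
    have hn0 : n ≠ 0 := fun e => by rw [hq, hn, e, pow_zero] at h1lt; omega
    have h3 : p ∣ Fintype.card F ^ 2 := by rw [hq, hn]; exact dvd_pow (dvd_pow_self p hn0) two_ne_zero
    have h5 : 1 ≤ Fintype.card F ^ 2 := Nat.one_le_pow _ _ Fintype.card_pos
    have := Nat.dvd_sub h3 hd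
    rw [show Fintype.card F ^ 2 - (Fintype.card F ^ 2 - 1) = 1 by omega] at this
    exact (Fact.out : p.Prime).not_dvd_one this
  set Q := (img p Y).map e.toMonoidHom with hQdef
  have hQc : Nat.card Q = Fintype.card F := by
    rw [hq, hQdef]; exact (Nat.card_congr (Subgroup.equivMapOfInjective _ _ e.injective).toEquiv).symm
  obtain ⟨g₀, hg₀⟩ := MulAction.exists_smul_eq (Matrix.SpecialLinearGroup (Fin 2) F)
    ((hsyl Q hQc).1.toSylow (hsyl Q hQc).2) ((hsyl R hRc).1.toSylow (hsyl R hRc).2)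
  have hQR : Q.map (MulAut.conj g₀).toMonoidHom = R := by
    have := congrArg Sylow.toSubgroup hg₀
    rw [Sylow.coe_subgroup_smul] at this
    exact this
  refine only_of_transport (e.trans (MulAut.conj g₀)) ?_
  rw [show (e.trans (MulAut.conj g₀)).toMonoidHom = (MulAut.conj g₀).toMonoidHom.comp e.toMonoidHom from rfl,
    ← Subgroup.map_map, ← hQdef, hQR]
  exact only_upper (hsyl R hRc).2

theorem only_of_sz (D : FrakLFix.Data p Y) (hp : p = 2) {F : Type} [Field F] [Fintype F] {m : ℕ}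
    (hF : Fintype.card F = 2 ^ (2 * m + 1)) (hm : 1 ≤ m) (hq : Fintype.card F = Nat.card ↥(img p Y))
    (e : L ⧸ Cfsg.pCore p L ≃* ↥(Cfsg.Lie.Sz F (2 ^ (m + 1)))) : Only p (img p Y) := by
  subst hp
  have hS : Suzuki.SzField F m := ⟨hm, hF⟩
  set f := e.trans (Suzuki.minorEquiv hS).symm with hf
  set P := (img 2 Y).map f.toMonoidHom with hP
  have hPp : IsPGroup 2 ↥P := (D.pgrp.map _).map _
  obtain ⟨u, hu⟩ := Suzuki.exists_conj_isPGroup_le hS hPp
  have hle : P.map (MulAut.conj u).toMonoidHom ≤ Suzuki.zGroup hS := by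
    rintro _ ⟨w, hw, rfl⟩
    refine Suzuki.involution_in_rootGroup hS (hu _ hw) ?_
    obtain ⟨_, ⟨y, hy, rfl⟩, rfl⟩ := hw
    rw [← pow_two, ← map_pow, ← map_pow, ← map_pow, D.expo y hy, map_one, map_one, map_one]
  have heq := Subgroup.eq_of_le_of_card_ge hle (by
    rw [Suzuki.card_zGroup, card_map_conj, hP, ← hF, hq]
    exact (Nat.card_congr (Subgroup.equivMapOfInjective _ _ f.injective).toEquiv).le)
  refine only_of_transport (f.trans (MulAut.conj u)) ?_
  rw [show (f.trans (MulAut.conj u)).toMonoidHom = (MulAut.conj u).toMonoidHom.comp f.toMonoidHom from rfl,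
    ← Subgroup.map_map, ← hP, heq]
  exact only_zGroup hS

end Quot

end Cfsg.Agent.LEFrakLBorel
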