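/-
Subgroups A₄ of GL₂(ℤ/2ᵏ) are conjugate.
-/
import Mathlib.LinearAlgebra.Matrix.GeneralLinearGroup.Defs
import Mathlib.GroupTheory.SpecificGroups.Alternating
import Mathlib.Data.ZMod.Basic
import Mathlib.RingTheory.Nilpotent.Basic
import Mathlib.Tactic.LinearCombination
import Mathlib.Tactic.NoncommRing

set_option autoImplicit false

namespace Cfsg.Agent.LEGL2A4

variable {k : ℕ}

local notation "R" => ZMod (2 ^ k)
local notation "M₂" => Matrix (Fin 2) (Fin 2) (ZMod (2 ^ k))
local notation "G₂" => GL (Fin 2) (ZMod (2 ^ k))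

/-- The element of order two in `ℤ/2ᵏ`. -/
def hh (k : ℕ) : ZMod (2 ^ k) := (2 : ZMod (2 ^ k)) ^ (k - 1)

theorem two_pow_eq : (2 : R) ^ k = 0 := by
  have h := ZMod.natCast_self (2 ^ k)
  push_cast at h
  exact h

theorem two_mul_hh (hk : 2 ≤ k) : 2 * hh k = 0 := by
  rw [hh, ← pow_succ', show k - 1 + 1 = k by omega, two_pow_eq]

theorem hh_sq (hk : 2 ≤ k) : hh k * hh k = 0 := by
  rw [hh, ← pow_add, show k - 1 + (k - 1) = k + (k - 2) by omega, pow_add, two_pow_eq, zero_mul]

theorem two_torsion (hk : 2 ≤ k) {x : R} (h : 2 * x = 0) : x = 0 ∨ x = hh k := by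
  haveI : NeZero (2 ^ k) := ⟨by positivity⟩
  have hv := ZMod.val_lt x
  have h' : ((2 * x.val : ℕ) : R) = 0 := by push_cast; rw [ZMod.natCast_zmod_val]; exact h
  rw [ZMod.natCast_eq_zero_iff] at h'
  obtain ⟨j, hj⟩ := h'
  rw [← ZMod.natCast_zmod_val x]
  have h2 : 2 ^ k = 2 * 2 ^ (k - 1) := by rw [← pow_succ', show k - 1 + 1 = k by omega]
  have hj2 : j < 2 := by
    by_contra hc
    have : 2 ^ k * 2 ≤ 2 ^ k * j := Nat.mul_le_mul_left _ (by omega)
    omega
  interval_cases j
  · left; rw [show x.val = 0 by omega, Nat.cast_zero]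
  · right; rw [show x.val = 2 ^ (k - 1) by omega, Nat.cast_pow, Nat.cast_two, hh]

theorem isUnit_of_cast (hk : 2 ≤ k) {x : R}
    (h : (ZMod.castHom (dvd_pow_self 2 (by omega : k ≠ 0)) (ZMod 2)) x = 1) : IsUnit x := by
  haveI : NeZero (2 ^ k) := ⟨by positivity⟩
  rw [← ZMod.natCast_zmod_val x] at h ⊢
  rw [map_natCast] at h
  rw [ZMod.isUnit_iff_coprime]
  refine Nat.Coprime.pow_right k ?_
  rw [Nat.coprime_comm, Nat.Prime.coprime_iff_not_dvd Nat.prime_two]
  intro hd
  rw [(ZMod.natCast_eq_zero_iff _ _).2 hd] at h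
  exact zero_ne_one h

/-- The companion matrix of `X² + X + 1`. -/
def cmat (k : ℕ) : GL (Fin 2) (ZMod (2 ^ k)) :=
  ⟨!![0, -1; 1, -1], !![-1, 1; -1, 0], by simp [Matrix.mul_fin_two, Matrix.one_fin_two],
    by simp [Matrix.mul_fin_two, Matrix.one_fin_two]⟩

theorem mod_two_order_three : ∀ m : Matrix (Fin 2) (Fin 2) (ZMod 2), m ^ 3 = 1 → m ≠ 1 →
    m 1 0 = 1 ∧ (m - 1).det = 1 := by
  decide +kernel

theorem exists_conj_cmat (hk : 2 ≤ k) {c : G₂} (h3 : c ^ 3 = 1) (hc : c ≠ 1) :
    ∃ g : G₂, g * c * g⁻¹ = cmat k := by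
  set φ := (ZMod.castHom (dvd_pow_self 2 (by omega : k ≠ 0)) (ZMod 2)) with hφ
  set m : M₂ := (c : M₂) with hm
  have hm3 : m ^ 3 = 1 := by rw [hm, ← Units.val_pow_eq_pow_val, h3, Units.val_one]
  set mb := φ.mapMatrix m with hmb
  have hb3 : mb ^ 3 = 1 := by rw [hmb, ← map_pow, hm3, map_one]
  have hb1 : mb ≠ 1 := by
    intro hb
    haveI : NeZero (2 ^ k) := ⟨by positivity⟩
    -- `m = 1 + 2 y`
    have hy : ∃ y : M₂, m = 1 + 2 * y := by
      refine ⟨Matrix.of fun i j => ((((m - 1) i j).val / 2 : ℕ) : R), ?_⟩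
      ext i j
      have h0 : φ ((m - 1) i j) = 0 := by
        have := congrFun (congrFun hb i) j
        rw [hmb, RingHom.mapMatrix_apply, Matrix.map_apply] at this
        rw [Matrix.sub_apply, map_sub, this]
        rcases eq_or_ne i j with rfl | hij
        · simp
        · simp [Matrix.one_apply_ne hij]
      rw [← ZMod.natCast_zmod_val ((m - 1) i j), map_natCast, ZMod.natCast_eq_zero_iff] at h0
      obtain ⟨q, hq⟩ := h0
      rw [two_mul, Matrix.add_apply, Matrix.add_apply, Matrix.of_apply, hq, Nat.mul_div_cancel_left _ (by norm_num : 0 < 2)]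
      have h1 : (m - 1) i j = ((2 * q : ℕ) : R) := by rw [← hq, ZMod.natCast_zmod_val]
      rw [Matrix.sub_apply, sub_eq_iff_eq_add] at h1
      rw [h1]; push_cast; ring
    obtain ⟨y, hy⟩ := hy
    have hnil : IsNilpotent ((2 : M₂) * (y * (3 + 2 * y) + 1)) := by
      refine (Commute.ofNat_left 2 _).isNilpotent_mul_right ⟨k, ?_⟩
      have : (2 : M₂) = Matrix.scalar (Fin 2) (2 : R) := (map_ofNat _ 2).symm
      rw [this, ← map_pow, two_pow_eq, map_zero]
    have hu := hnil.isUnit_one_add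
    have h0 : (2 * y) * (1 + 2 * (y * (3 + 2 * y) + 1)) = 0 := by
      have : (1 + 2 * y) ^ 3 = 1 := hy ▸ hm3
      rw [← sub_eq_zero] at this
      rw [← this]; noncomm_ring
    rw [hu.mul_left_eq_zero] at h0
    rw [h0, add_zero] at hy
    exact hc (Units.ext hy)
  obtain ⟨h10, hdet⟩ := mod_two_order_three mb hb3 hb1
  have hunit : IsUnit (m - 1) := by
    rw [Matrix.isUnit_iff_isUnit_det]
    refine isUnit_of_cast hk ?_
    rw [RingHom.map_det, map_sub, map_one]
    exact hdet
  have hquad : m * m + m + 1 = 0 := by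
    have : (m - 1) * (m * m + m + 1) = 0 := by rw [← sub_eq_zero.2 hm3]; noncomm_ring
    rwa [hunit.mul_right_eq_zero] at this
  obtain ⟨u, hu⟩ := isUnit_of_cast hk (x := m 1 0) h10
  set P : M₂ := !![1, m 0 0; 0, m 1 0] with hP
  have hPu : IsUnit P := by
    rw [Matrix.isUnit_iff_isUnit_det, hP, Matrix.det_fin_two_of, one_mul, mul_zero, sub_zero]
    exact ⟨u, hu⟩
  obtain ⟨p, hp⟩ := hPu
  refine ⟨p⁻¹, ?_⟩
  have key : c * p = p * cmat k := by
    apply Units.ext
    rw [Units.val_mul, Units.val_mul, hp, hP, ← hm]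
    show m * _ = _ * (!![0, -1; 1, -1] : M₂)
    have e00 := congrFun (congrFun hquad 0) 0
    have e10 := congrFun (congrFun hquad 1) 0
    simp only [Matrix.add_apply, Matrix.mul_apply, Fin.sum_univ_two, Matrix.one_apply_eq,
      Matrix.zero_apply, Matrix.one_apply_ne (show (1 : Fin 2) ≠ 0 by decide)] at e00 e10
    ext i j
    fin_cases i <;> fin_cases j <;> simp [Matrix.mul_apply, Fin.sum_univ_two]
    · linear_combination e00
    · linear_combination e10
  rw [inv_inv, mul_assoc, key, inv_mul_cancel_left]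

/-- The involutions `1 + h B`. -/
def tmat (k : ℕ) (hk : 2 ≤ k) : GL (Fin 2) (ZMod (2 ^ k)) :=
  ⟨!![1 + hh k, hh k; 0, 1 + hh k], !![1 + hh k, hh k; 0, 1 + hh k],
    by
      have h1 := two_mul_hh hk
      have h2 := hh_sq hk
      rw [Matrix.mul_fin_two, Matrix.one_fin_two]
      ext i j
      fin_cases i <;> fin_cases j <;> simp
      · linear_combination h1 + h2
      · linear_combination h1 + 2 * h2
      · linear_combination h1 + h2,
    by
      have h1 := two_mul_hh hk
      have h2 := hh_sq hk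
      rw [Matrix.mul_fin_two, Matrix.one_fin_two]
      ext i j
      fin_cases i <;> fin_cases j <;> simp
      · linear_combination h1 + h2
      · linear_combination h1 + 2 * h2
      · linear_combination h1 + h2⟩

theorem involution_cases (hk : 2 ≤ k) {t : G₂} (ht : t * t = 1) (ht1 : t ≠ 1)
    (hrel : t * (cmat k * t * (cmat k)⁻¹) = (cmat k)⁻¹ * t * cmat k) :
    t = tmat k hk ∨ t = cmat k * tmat k hk * (cmat k)⁻¹ ∨ t = (cmat k)⁻¹ * tmat k hk * cmat k := by
  set m : M₂ := (t : M₂) with hm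
  have h1 := two_mul_hh hk
  have h2 := hh_sq hk
  have hmm : m * m = 1 := by rw [hm, ← Units.val_mul, ht, Units.val_one]
  have hmrel : m * ((!![0, -1; 1, -1] : M₂) * m * !![-1, 1; -1, 0]) =
      (!![-1, 1; -1, 0] : M₂) * m * !![0, -1; 1, -1] := congrArg Units.val hrel
  have hd : m.det = 1 := by
    have e1 : m.det * m.det = 1 := by rw [← Matrix.det_mul, hmm, Matrix.det_one]
    have e2 := congrArg Matrix.det hmrel
    rw [Matrix.det_mul, Matrix.det_mul, Matrix.det_mul, Matrix.det_mul, Matrix.det_mul,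
      Matrix.det_fin_two_of, Matrix.det_fin_two_of] at e2
    linear_combination (-1 : R) * e2 + e1
  have hadj : m = m.adjugate := by
    have e := Matrix.mul_adjugate m
    rw [hd, one_smul] at e
    calc m = m * (m * m.adjugate) := by rw [e, mul_one]
      _ = m.adjugate := by rw [← mul_assoc, hmm, one_mul]
  rw [Matrix.adjugate_fin_two] at hadj
  obtain ⟨a, b, c, d, hmd⟩ : ∃ a b c d, m = !![a, b; c, d] :=
    ⟨_, _, _, _, Matrix.eta_fin_two m⟩
  rw [hmd] at hadj hd hmrel
  have had : a = d := by simpa using congrFun (congrFun hadj 0) 0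
  have hb : 2 * b = 0 := by
    have : b = -b := by simpa using congrFun (congrFun hadj 0) 1
    linear_combination this
  have hc : 2 * c = 0 := by
    have : c = -c := by simpa using congrFun (congrFun hadj 1) 0
    linear_combination this
  subst had
  rw [Matrix.det_fin_two_of] at hd
  obtain ⟨r, hr⟩ : ∃ r, a = 1 + r ∧ r * b = 0 ∧ r * c = 0 := by
    -- `a` is odd, so kills nothing of order two
    refine ⟨a - 1, by ring, ?_, ?_⟩ <;>
    · have hbc : b * c = 0 := by
        rcases two_torsion hk hb with rfl | rfl <;> rcases two_torsion hk hc with rfl | rfl <;> simp [h2]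
      have hodd : (ZMod.castHom (dvd_pow_self 2 (by omega : k ≠ 0)) (ZMod 2)) a = 1 := by
        have e : a * a = 1 := by linear_combination hd + hbc
        have := congrArg (ZMod.castHom (dvd_pow_self 2 (by omega : k ≠ 0)) (ZMod 2)) e
        rw [map_mul, map_one] at this
        revert this
        generalize (ZMod.castHom (dvd_pow_self 2 (by omega : k ≠ 0)) (ZMod 2)) a = z
        revert z; decide
      haveI : NeZero (2 ^ k) := ⟨by positivity⟩
      rw [← ZMod.natCast_zmod_val a, map_natCast, ← Nat.cast_one, ZMod.natCast_eq_natCast_iff'] at hodd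
      have hval : (a - 1) = 2 * ((a.val / 2 : ℕ) : R) := by
        have e : a.val = 2 * (a.val / 2) + 1 := by omega
        conv_lhs => rw [← ZMod.natCast_zmod_val a, e]
        push_cast; ring
      rw [hval, mul_comm (2 : R), mul_assoc]
      simp [hb, hc]
  obtain ⟨hr, hrb, hrc⟩ := hr
  subst hr
  have e00 := congrFun (congrFun hmrel 0) 0
  simp [Matrix.mul_fin_two] at e00
  have hbb : b * b = 0 ∧ b * c = 0 ∧ c * c = 0 := by
    rcases two_torsion hk hb with rfl | rfl <;> rcases two_torsion hk hc with rfl | rfl <;> simp [h2]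
  obtain ⟨hbb, hbc, hcc⟩ := hbb
  have hr2 : r * r + 2 * r = 0 := by linear_combination hd + hbc
  have hr' : r = b + c := by
    linear_combination (-1 : R) * e00 + hr2 + hrc + hbc - hbb
  subst hr'
  have hmt : (t : M₂) = !![1 + (b + c), b; c, 1 + (b + c)] := hmd
  rcases two_torsion hk hb with rfl | rfl <;> rcases two_torsion hk hc with rfl | rfl
  · exact absurd (Units.ext (by rw [hmt, Units.val_one, Matrix.one_fin_two]; simp)) ht1
  · right; left
    apply Units.ext
    rw [hmt]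
    show _ = (!![0, -1; 1, -1] : M₂) * !![1 + hh k, hh k; 0, 1 + hh k] * !![-1, 1; -1, 0]
    ext i j
    fin_cases i <;> fin_cases j <;> simp
    all_goals first | linear_combination (0 : R) | linear_combination h1 | linear_combination (-1 : R) * h1
  · left
    apply Units.ext
    rw [hmt]
    show _ = (!![1 + hh k, hh k; 0, 1 + hh k] : M₂)
    simp
  · right; right
    apply Units.ext
    rw [hmt]
    show _ = (!![-1, 1; -1, 0] : M₂) * !![1 + hh k, hh k; 0, 1 + hh k] * !![0, -1; 1, -1]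
    ext i j
    fin_cases i <;> fin_cases j <;> simp
    all_goals first | linear_combination (0 : R) | linear_combination h1 | linear_combination (-1 : R) * h1

/-- The two generators of `A₄`. -/
theorem exists_gens {H : Subgroup G₂} (e : ↥H ≃* ↥(alternatingGroup (Fin 4))) :
    ∃ c t : G₂, c ^ 3 = 1 ∧ c ≠ 1 ∧ t * t = 1 ∧ t ≠ 1 ∧ t * (c * t * c⁻¹) = c⁻¹ * t * c ∧
      H = Subgroup.closure {c, t} := by
  let c₀ : alternatingGroup (Fin 4) := ⟨Equiv.swap 0 1 * Equiv.swap 1 2, Equiv.Perm.mem_alternatingGroup.2 (by decide)⟩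
  let t₀ : alternatingGroup (Fin 4) := ⟨Equiv.swap 0 1 * Equiv.swap 2 3, Equiv.Perm.mem_alternatingGroup.2 (by decide)⟩
  have hrel : c₀ ^ 3 = 1 ∧ c₀ ≠ 1 ∧ t₀ * t₀ = 1 ∧ t₀ ≠ 1 ∧ t₀ * (c₀ * t₀ * c₀⁻¹) = c₀⁻¹ * t₀ * c₀ := by
    decide +kernel
  have hgen : ∀ x : alternatingGroup (Fin 4), x ∈ ([1, t₀, c₀ * t₀ * c₀⁻¹, c₀⁻¹ * t₀ * c₀, c₀, t₀ * c₀,
      c₀ * t₀ * c₀⁻¹ * c₀, c₀⁻¹ * t₀ * c₀ * c₀, c₀⁻¹, t₀ * c₀⁻¹, c₀ * t₀ * c₀⁻¹ * c₀⁻¹,
      c₀⁻¹ * t₀ * c₀ * c₀⁻¹] : List (alternatingGroup (Fin 4))) := by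
    decide +kernel
  let f : alternatingGroup (Fin 4) →* G₂ := H.subtype.comp e.symm.toMonoidHom
  have inj : Function.Injective f := Subtype.val_injective.comp e.symm.injective
  obtain ⟨h1, h2, h3, h4, h5⟩ := hrel
  refine ⟨f c₀, f t₀, by rw [← map_pow, h1, map_one], fun h => h2 (inj (h.trans (map_one f).symm)),
    by rw [← map_mul, h3, map_one], fun h => h4 (inj (h.trans (map_one f).symm)),
    by simp only [← map_mul, ← map_inv, h5], le_antisymm ?_ ?_⟩
  · intro x hx
    have hxe : x = f (e ⟨x, hx⟩) := by simp [f]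
    rw [hxe]
    have hc : f c₀ ∈ Subgroup.closure {f c₀, f t₀} := Subgroup.subset_closure (by simp)
    have ht : f t₀ ∈ Subgroup.closure {f c₀, f t₀} := Subgroup.subset_closure (by simp)
    rw [← Subgroup.mem_comap]
    have hc' : c₀ ∈ (Subgroup.closure {f c₀, f t₀}).comap f := hc
    have ht' : t₀ ∈ (Subgroup.closure {f c₀, f t₀}).comap f := ht
    have := hgen (e ⟨x, hx⟩)
    simp only [List.mem_cons, List.not_mem_nil, or_false] at this
    have hci := inv_mem hc'
    have ha := mul_mem (mul_mem hc' ht') hci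
    have hb := mul_mem (mul_mem hci ht') hc'
    rcases this with h | h | h | h | h | h | h | h | h | h | h | h <;> rw [h]
    exacts [one_mem _, ht', ha, hb, hc', mul_mem ht' hc', mul_mem ha hc', mul_mem hb hc', hci,
      mul_mem ht' hci, mul_mem ha hci, mul_mem hb hci]
  · rw [Subgroup.closure_le]
    rintro _ (rfl | rfl) <;> exact (e.symm _).2

theorem conj_eq_std (hk : 2 ≤ k) {H : Subgroup G₂} (e : ↥H ≃* ↥(alternatingGroup (Fin 4))) :
    ∃ g : G₂, H.map (MulAut.conj g).toMonoidHom = Subgroup.closure {cmat k, tmat k hk} := by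
  obtain ⟨c, t, h3, hc, ht, ht1, hrel, rfl⟩ := exists_gens e
  obtain ⟨g, hg⟩ := exists_conj_cmat hk h3 hc
  refine ⟨g, ?_⟩
  rw [MonoidHom.map_closure, Set.image_pair]
  show Subgroup.closure {g * c * g⁻¹, g * t * g⁻¹} = _
  rw [hg]
  have hcm : cmat k ∈ Subgroup.closure ({cmat k, g * t * g⁻¹} : Set G₂) := Subgroup.subset_closure (by simp)
  have htm : g * t * g⁻¹ ∈ Subgroup.closure ({cmat k, g * t * g⁻¹} : Set G₂) := Subgroup.subset_closure (by simp)
  have hcm' : cmat k ∈ Subgroup.closure ({cmat k, tmat k hk} : Set G₂) := Subgroup.subset_closure (by simp)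
  have htm' : tmat k hk ∈ Subgroup.closure ({cmat k, tmat k hk} : Set G₂) := Subgroup.subset_closure (by simp)
  have hcases := involution_cases hk (t := g * t * g⁻¹)
    (by rw [show g * t * g⁻¹ * (g * t * g⁻¹) = g * (t * t) * g⁻¹ by group, ht]; group)
    (fun h => ht1 (by rwa [mul_inv_eq_one, mul_eq_left] at h))
    (by
      rw [← hg]
      calc g * t * g⁻¹ * (g * c * g⁻¹ * (g * t * g⁻¹) * (g * c * g⁻¹)⁻¹)
          = g * (t * (c * t * c⁻¹)) * g⁻¹ := by group
        _ = _ := by rw [hrel]; group)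
  apply le_antisymm <;> rw [Subgroup.closure_le]
  · rintro _ (rfl | rfl)
    · exact hcm'
    · rcases hcases with h | h | h <;> rw [h]
      · exact htm'
      · exact mul_mem (mul_mem hcm' htm') (inv_mem hcm')
      · exact mul_mem (mul_mem (inv_mem hcm') htm') hcm'
  · rintro _ (rfl | rfl)
    · exact hcm
    · rcases hcases with h | h | h
      · exact h ▸ htm
      · have : tmat k hk = (cmat k)⁻¹ * (g * t * g⁻¹) * cmat k := by rw [h]; group
        rw [this]; exact mul_mem (mul_mem (inv_mem hcm) htm) hcm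
      · have : tmat k hk = cmat k * (g * t * g⁻¹) * (cmat k)⁻¹ := by rw [h]; group
        rw [this]; exact mul_mem (mul_mem hcm htm) (inv_mem hcm)

end Cfsg.Agent.LEGL2A4
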