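/-
Isolated `p`-minimal subgroups: the structure of the normal closure in a quotient without normal
`p`-subgroups.
-/
import Cfsg.Agent.Lib.LocalEven.Basic
import Cfsg.Agent.Lib.Components.FStar
import Cfsg.Agent.Lib.Solvable.Coprime
import Cfsg.Agent.Lib.Solvable.Hall
import Cfsg.Agent.Lib.Solvable.NilpotentFrattini
import Cfsg.Agent.Lib.Transfer.PGroup
import Cfsg.Agent.Lib.BaumannBlock.Basic

set_option autoImplicit false
set_option linter.unusedSectionVars false
set_option linter.style.haveILetI false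

namespace Cfsg.Agent.LEIsoPMin

open Cfsg.Agent Subgroup
open scoped commutatorElement

variable {X : Type*} [Group X] [Finite X]

/-- Maschke for a coprime action on an elementary abelian subgroup. -/
theorem invariant_complement {q : ℕ} [hq : Fact q.Prime] {V A S : Subgroup X}
    (hc : ∀ a ∈ V, ∀ b ∈ V, a * b = b * a) (hexp : ∀ v ∈ V, v ^ q = 1) (hA : A ≤ V)
    (hSV : S ≤ normalizer (V : Set X)) (hSA : S ≤ normalizer (A : Set X)) (hS : ¬ q ∣ Nat.card S) :
    ∃ U : Subgroup X, U ≤ V ∧ S ≤ normalizer (U : Set X) ∧ A ⊓ U = ⊥ ∧ A ⊔ U = V := by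
  classical
  letI : CommGroup ↥V :=
    { (inferInstance : Group ↥V) with mul_comm := fun a b => Subtype.ext (hc a a.2 b b.2) }
  have hpow : ∀ (v : ↥V) (k : ℕ) (C : Subgroup ↥V), ¬ q ∣ k → v ^ k ∈ C → v ∈ C := by
    intro v k C hk hv
    obtain ⟨i, -, hi⟩ := Nat.exists_mul_mod_eq_one_of_coprime
      ((hq.out.coprime_iff_not_dvd.2 hk).symm) hq.out.one_lt
    have h1 : v ^ q = 1 := Subtype.ext (hexp v v.2)
    have h2 : (v ^ k) ^ i = v := by
      rw [← pow_mul, ← Nat.div_add_mod (k * i) q, hi, pow_add, pow_mul, h1, one_pow, one_mul, pow_one]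
    exact h2 ▸ pow_mem hv i
  set A' := A.subgroupOf V with hA'
  obtain ⟨B, hB, hmax⟩ := (Set.toFinite {B : Subgroup ↥V | A' ⊓ B = ⊥}).exists_maximal ⟨⊥, inf_bot_eq A'⟩
  have hAB : ∀ v : ↥V, v ∈ A' ⊔ B := by
    intro v
    by_contra hv
    have h1 : A' ⊓ (B ⊔ zpowers v) = ⊥ := by
      rw [eq_bot_iff]
      rintro x ⟨hxA, hx⟩
      obtain ⟨b, hb, y, hy, rfl⟩ := mem_sup_of_normal_left.1 hx
      obtain ⟨k, rfl⟩ := (isOfFinOrder_of_finite v).mem_powers_iff_mem_zpowers.2 hy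
      have h2 : v ^ k ∈ A' ⊔ B := by
        simpa using mul_mem (inv_mem (mem_sup_right (S := A') hb)) (mem_sup_left (T := B) hxA)
      obtain ⟨j, rfl⟩ : q ∣ k := by
        by_contra hk
        exact hv (hpow v k _ hk h2)
      change b * v ^ (q * j) ∈ A' at hxA
      show b * v ^ (q * j) ∈ (⊥ : Subgroup ↥V)
      rw [pow_mul, show v ^ q = 1 from Subtype.ext (hexp v v.2), one_pow, mul_one] at hxA ⊢
      rw [← hB]
      exact mem_inf.2 ⟨hxA, hb⟩
    exact hv (mem_sup_right (hmax h1 le_sup_left (mem_sup_right (mem_zpowers v))))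
  have hdec : ∀ v : ↥V, ∃ a, a ∈ A' ∧ a⁻¹ * v ∈ B := fun v => by
    obtain ⟨a, ha, b, hb, rfl⟩ := mem_sup_of_normal_left.1 (hAB v)
    exact ⟨a, ha, by rwa [inv_mul_cancel_left]⟩
  choose π hπA hπB using hdec
  have huniq : ∀ (v a : ↥V), a ∈ A' → a⁻¹ * v ∈ B → π v = a := fun v a ha hb => by
    have h1 : a⁻¹ * π v ∈ A' ⊓ B :=
      mem_inf.2 ⟨mul_mem (inv_mem ha) (hπA v), by simpa [mul_assoc] using mul_mem hb (inv_mem (hπB v))⟩
    rw [hB, mem_bot, inv_mul_eq_one] at h1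
    exact h1.symm
  have hπmul : ∀ u v, π (u * v) = π u * π v := fun u v => huniq _ _ (mul_mem (hπA u) (hπA v)) (by
    rw [mul_inv_rev, show (π v)⁻¹ * (π u)⁻¹ * (u * v) = ((π u)⁻¹ * u) * ((π v)⁻¹ * v) by
      simp only [mul_comm, mul_assoc, mul_left_comm]]
    exact mul_mem (hπB u) (hπB v))
  let α : ↥S →* MulAut ↥V := V.normalizerMonoidHom.comp (inclusion hSV)
  have hα : ∀ (s : ↥S) (v : ↥V), ((α s v : ↥V) : X) = s * v * (s : X)⁻¹ := fun _ _ => rfl
  have hαA : ∀ (s : ↥S) (v : ↥V), v ∈ A' → α s v ∈ A' := fun s v hv => by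
    rw [hA', mem_subgroupOf, hα]
    exact (mem_normalizer_iff.1 (hSA s.2) _).1 hv
  haveI : Fintype ↥S := Fintype.ofFinite _
  set m := Fintype.card ↥S with hm
  have hmq : ¬ q ∣ m := by rwa [hm, ← Nat.card_eq_fintype_card]
  let τ : ↥V →* ↥V := MonoidHom.mk' (fun v => ∏ s : ↥S, α s (π (α s⁻¹ v))) fun u v => by
    simp only [map_mul, hπmul, Finset.prod_mul_distrib]
  have hτ : ∀ v, τ v = ∏ s : ↥S, α s (π (α s⁻¹ v)) := fun v => rfl
  have hτA : ∀ v, τ v ∈ A' := fun v => by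
    rw [hτ]
    exact prod_mem fun s _ => hαA s _ (hπA _)
  have hτid : ∀ v ∈ A', τ v = v ^ m := fun v hv => by
    rw [hτ, Finset.prod_congr rfl (g := fun _ => v) fun s _ => by
      rw [huniq (α s⁻¹ v) _ (hαA s⁻¹ v hv) (by rw [inv_mul_cancel]; exact one_mem B), ← MulAut.mul_apply,
        ← map_mul, mul_inv_cancel, map_one, MulAut.one_apply], Finset.prod_const, Finset.card_univ]
  have heq : ∀ (t : ↥S) v, τ (α t v) = α t (τ v) := fun t v => by
    rw [hτ, hτ, map_prod]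
    refine Fintype.prod_equiv (Equiv.mulLeft t⁻¹) _ _ fun s => ?_
    simp only [Equiv.coe_mulLeft, ← MulAut.mul_apply, ← map_mul]
    simp [mul_assoc]
  refine ⟨τ.ker.map V.subtype, map_subtype_le _, fun s hs => ?_, ?_, ?_⟩
  · have key : ∀ s ∈ S, ∀ x ∈ τ.ker.map V.subtype, s * x * s⁻¹ ∈ τ.ker.map V.subtype := by
      rintro s hs _ ⟨v, hv, rfl⟩
      refine ⟨α ⟨s, hs⟩ v, ?_, hα ⟨s, hs⟩ v⟩
      rw [SetLike.mem_coe, MonoidHom.mem_ker, heq, MonoidHom.mem_ker.1 hv, map_one]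
    refine mem_normalizer_iff.2 fun x => ⟨key s hs x, fun hx => ?_⟩
    simpa [mul_assoc] using key s⁻¹ (inv_mem hs) _ hx
  · rw [eq_bot_iff]
    rintro x ⟨hxA, v, hv, rfl⟩
    have h1 : v ^ m ∈ (⊥ : Subgroup ↥V) := by
      rw [mem_bot, ← hτid v hxA]
      exact hv
    rw [mem_bot, show v = 1 from hpow v m ⊥ hmq h1 |> mem_bot.1]
    rfl
  · refine le_antisymm (sup_le hA (map_subtype_le _)) fun x hx => ?_
    set v : ↥V := ⟨x, hx⟩ with hv
    have h1 : v ^ m ∈ A' ⊔ τ.ker := by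
      rw [show v ^ m = τ v * (v ^ m * (τ v)⁻¹) by rw [mul_comm (v ^ m), mul_inv_cancel_left]]
      refine mul_mem (mem_sup_left (hτA v)) (mem_sup_right ?_)
      rw [MonoidHom.mem_ker, map_mul, map_pow, map_inv, hτid _ (hτA v), mul_inv_cancel]
    have h2 : x ∈ (A' ⊔ τ.ker).map V.subtype := ⟨v, hpow v m _ hmq h1, rfl⟩
    rw [Subgroup.map_sup, hA', map_subgroupOf_eq_of_le hA] at h2
    exact h2

/-- `[A ⊔ B, Q] ≤ M` when `A` and `B` normalise `M`. -/
theorem commutator_sup_le_of_normalize {A B Q M : Subgroup X} (hA : A ≤ normalizer (M : Set X))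
    (hB : B ≤ normalizer (M : Set X)) (h1 : ⁅A, Q⁆ ≤ M) (h2 : ⁅B, Q⁆ ≤ M) : ⁅A ⊔ B, Q⁆ ≤ M := by
  rw [commutator_le] at h1 h2 ⊢
  let N : Subgroup X :=
    { carrier := {y | y ∈ normalizer (M : Set X) ∧ ∀ t ∈ Q, ⁅y, t⁆ ∈ M}
      one_mem' := ⟨one_mem _, fun t _ => by rw [commutatorElement_one_left]; exact one_mem M⟩
      mul_mem' := fun {a b} ha hb => ⟨mul_mem ha.1 hb.1, fun t ht => by
        rw [show ⁅a * b, t⁆ = a * ⁅b, t⁆ * a⁻¹ * ⁅a, t⁆ by simp [commutatorElement_def, mul_assoc]]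
        exact mul_mem ((mem_normalizer_iff.1 ha.1 _).1 (hb.2 t ht)) (ha.2 t ht)⟩
      inv_mem' := fun {a} ha => ⟨inv_mem ha.1, fun t ht => by
        have h := (mem_normalizer_iff.1 (inv_mem ha.1) _).1 (inv_mem (ha.2 t ht))
        rwa [show a⁻¹ * ⁅a, t⁆⁻¹ * a⁻¹⁻¹ = ⁅a⁻¹, t⁆ by simp [commutatorElement_def, mul_assoc]] at h⟩ }
  have hle : A ⊔ B ≤ N := sup_le (fun a ha => ⟨hA ha, h1 a ha⟩) fun b hb => ⟨hB hb, h2 b hb⟩
  exact fun y hy t ht => (hle hy).2 t ht

theorem commutator_normalizer {A B K : Subgroup X} (hA : K ≤ normalizer (A : Set X))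
    (hB : K ≤ normalizer (B : Set X)) : K ≤ normalizer ((⁅A, B⁆ : Subgroup X) : Set X) := by
  intro k hk
  rw [← LEBasic.map_conj_eq_iff_mem_normalizer, map_commutator,
    LEBasic.map_conj_eq_iff_mem_normalizer.2 (hA hk), LEBasic.map_conj_eq_iff_mem_normalizer.2 (hB hk)]

/-- The data of an isolated `p`-minimal subgroup modulo a normal `p`-subgroup. -/
structure Setting (p : ℕ) (S Q L E Y : Subgroup X) : Prop where
  hSp : IsPGroup p ↥S
  hQS : Q ≤ S
  hSL : S ≤ L
  hLQ : L ≤ normalizer (Q : Set X)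
  hgen : Y ⊔ L = ⊤
  hYn : Y.Normal
  hEY : E ≤ Y
  hSE : S ≤ normalizer (E : Set X)
  hclos : ∀ N : Subgroup X, N.Normal → E ≤ N → Y ≤ N
  hEQ : E ≤ ⁅E, Q⁆
  hdich : ∀ K : Subgroup X, K ≤ Y → S ≤ normalizer (K : Set X) → E ≤ K ∨ K ≤ L
  hOp : Cfsg.pCore p ↥Y = ⊥
  hne : E ≠ ⊥

variable {p : ℕ} [hp : Fact p.Prime] {S Q L E Y : Subgroup X}

namespace Setting

theorem pgroup_eq_bot (h : Setting p S Q L E Y) {N : Subgroup X} (hN : N ≤ Y)
    (hn : Y ≤ normalizer (N : Set X)) (hNp : IsPGroup p ↥N) : N = ⊥ := by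
  have h1 := LEBasic.le_pCoreMap hN hn hNp
  rwa [h.hOp, Subgroup.map_bot, le_bot_iff] at h1

theorem Y_ne_bot (h : Setting p S Q L E Y) : Y ≠ ⊥ := fun e => h.hne (le_bot_iff.1 (e ▸ h.hEY))

/-- A subgroup of `L` that is normal in `Y` and invariant under `Q` is centralised by `Q`. -/
theorem commutator_eq_bot (h : Setting p S Q L E Y) {K : Subgroup X} (hK : K ≤ Y) (hKL : K ≤ L)
    (hYK : Y ≤ normalizer (K : Set X)) (hQK : Q ≤ normalizer (K : Set X)) : ⁅K, Q⁆ = ⊥ := by
  have h1 : ⁅K, Q⁆ ≤ K ⊓ Q := le_inf (le_normalizer_iff_commutator_le_left.1 hQK)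
    (le_normalizer_iff_commutator_le_right.1 (hKL.trans h.hLQ))
  have h2 : K ⊓ Q ≤ (Cfsg.pCore p ↥K).map K.subtype :=
    LEBasic.le_pCoreMap inf_le_left (fun k hk => inf_normalizer_le_normalizer_inf
      (mem_inf.2 ⟨le_normalizer hk, h.hLQ (hKL hk)⟩)) ((h.hSp.to_le h.hQS).to_le inf_le_right)
  have h3 : (Cfsg.pCore p ↥K).map K.subtype = ⊥ :=
    h.pgroup_eq_bot ((map_subtype_le _).trans hK)
      (hYK.trans (LEBasic.normalizer_le_normalizer_pCoreMap K)) (LEBasic.pCoreMap_isPGroup K)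
  exact le_bot_iff.1 (h3 ▸ h1.trans h2)

theorem le_of_mem_Q (h : Setting p S Q L E Y) {N : Subgroup X} (hN : N.Normal) (hQN : Q ≤ N) :
    Y ≤ N := by
  haveI := hN
  exact h.hclos N hN (h.hEQ.trans ((commutator_mono le_rfl hQN).trans (commutator_le_right E N)))

/-- Proper normal subgroups inside `Y` are centralised by `Y`. -/
theorem central (h : Setting p S Q L E Y) {N : Subgroup X} (hN : N.Normal) (hNY : N ≤ Y)
    (hne : N ≠ Y) : ⁅Y, N⁆ = ⊥ := by
  haveI := hN
  have hnn : (⊤ : Subgroup X) ≤ normalizer (N : Set X) := (normalizer_eq_top_iff.2 hN).ge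
  have hNL : N ≤ L := (h.hdich N hNY (le_top.trans hnn)).resolve_left fun hE =>
    hne (le_antisymm hNY (h.hclos N hN hE))
  have h1 := h.commutator_eq_bot hNY hNL (le_top.trans hnn) (le_top.trans hnn)
  rw [commutator_comm, commutator_eq_bot_iff_le_centralizer] at h1
  exact commutator_eq_bot_iff_le_centralizer.2 (h.le_of_mem_Q inferInstance h1)

theorem commutator_eq (h : Setting p S Q L E Y) : ⁅Y, Q⁆ = Y := by
  haveI := h.hYn
  refine le_antisymm (commutator_le_left Y Q) (h.hclos _ ?_ (h.hEQ.trans (commutator_mono h.hEY le_rfl)))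
  refine normalizer_eq_top_iff.1 (top_le_iff.1 (h.hgen.ge.trans (sup_le ?_ ?_)))
  · exact BBlock.left_le_normalizer_commutator Y Q
  · exact commutator_normalizer ((le_top : L ≤ ⊤).trans (normalizer_eq_top_iff.2 h.hYn).ge) h.hLQ

/-- A `p'`-group `Y` is a `t`-group. -/
theorem prime_power (h : Setting p S Q L E Y) (hp' : ¬ p ∣ Nat.card Y) :
    ∃ t : ℕ, t.Prime ∧ t ≠ p ∧ IsPGroup t ↥Y := by
  haveI := h.hYn
  haveI := h.hSp.isNilpotent
  have hSY : S ≤ normalizer (Y : Set X) := (le_top : S ≤ ⊤).trans (normalizer_eq_top_iff.2 h.hYn).ge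
  have hcop : (Nat.card S).Coprime (Nat.card Y) := by
    obtain ⟨k, hk⟩ := IsPGroup.iff_card.1 h.hSp
    rw [hk]
    exact Nat.Coprime.pow_left k (hp.out.coprime_iff_not_dvd.2 hp')
  set C := Y ⊓ centralizer (Q : Set X) with hC
  have hinf : Y ⊓ Q = ⊥ := by
    refine inf_eq_bot_of_coprime ?_
    exact (hcop.coprime_dvd_left (card_dvd_of_le h.hQS)).symm
  have hR : ∀ t, Fact t.Prime → ∃ R : Sylow t ↥Y,
      S ≤ normalizer (((R : Subgroup ↥Y).map Y.subtype : Subgroup X) : Set X) ∧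
      (¬ E ≤ (R : Subgroup ↥Y).map Y.subtype → (R : Subgroup ↥Y).map Y.subtype ≤ C) := by
    intro t ht
    obtain ⟨R, hR⟩ := CoprimeAct.exists_invariant_sylow (A := S) (K := Y) hSY hcop (Or.inl inferInstance) t
    refine ⟨R, hR, fun hE => le_inf (map_subtype_le _) ?_⟩
    rw [← commutator_eq_bot_iff_le_centralizer, eq_bot_iff, ← hinf]
    refine le_inf ((commutator_mono (map_subtype_le _) le_rfl).trans (commutator_le_left Y Q))
      (le_normalizer_iff_commutator_le_right.1 ?_)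
    exact ((h.hdich _ (map_subtype_le _) hR).resolve_left hE).trans h.hLQ
  choose R hRS hRC using hR
  have hdvd : ∀ t, (ht : Fact t.Prime) → ¬ E ≤ (R t ht : Subgroup ↥Y).map Y.subtype →
      (Nat.card Y).factorization t ≤ (Nat.card C).factorization t := by
    intro t ht hE
    have h1 := card_dvd_of_le (hRC t ht hE)
    rw [card_map_of_injective Y.subtype_injective, (R t ht).card_eq_multiplicity] at h1
    exact (ht.out.pow_dvd_iff_le_factorization Nat.card_pos.ne').1 h1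
  by_cases hall : ∀ t, (ht : Fact t.Prime) → ¬ E ≤ (R t ht : Subgroup ↥Y).map Y.subtype
  · exfalso
    have h1 : Nat.card Y ∣ Nat.card C :=
      (Nat.factorization_prime_le_iff_dvd Nat.card_pos.ne' Nat.card_pos.ne').1
        fun t ht => hdvd t ⟨ht⟩ (hall t ⟨ht⟩)
    have h2 : C = Y := eq_of_le_of_card_ge inf_le_left (Nat.le_of_dvd Nat.card_pos h1)
    refine h.Y_ne_bot (h.commutator_eq ▸ commutator_eq_bot_iff_le_centralizer.2 ?_)
    exact h2.ge.trans inf_le_right
  push Not at hall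
  obtain ⟨t, ht, hE⟩ := hall
  set T := (R t ht : Subgroup ↥Y).map Y.subtype with hT
  have hTp : IsPGroup t ↥T := (R t ht).isPGroup'.map Y.subtype
  refine ⟨t, ht.out, ?_, ?_⟩
  · rintro rfl
    refine h.hne (le_bot_iff.1 (hE.trans ?_))
    have h1 : T ≤ ⊥ := by
      rcases hTp.card_eq_or_dvd with e | e
      · exact (card_eq_one.1 e).le
      · exact absurd (e.trans (card_dvd_of_le (map_subtype_le _))) hp'
    exact h1
  have hother : ∀ r, (hr : Fact r.Prime) → r ≠ t → ¬ E ≤ (R r hr : Subgroup ↥Y).map Y.subtype := by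
    intro r hr hrt hE'
    refine h.hne (le_bot_iff.1 ((le_inf hE' hE).trans (le_of_eq (inf_eq_bot_of_coprime ?_))))
    obtain ⟨a, ha⟩ := IsPGroup.iff_card.1 ((R r hr).isPGroup'.map Y.subtype)
    obtain ⟨b, hb⟩ := IsPGroup.iff_card.1 hTp
    rw [ha, hb]
    exact Nat.coprime_pow_primes _ _ hr.out ht.out hrt
  -- `Y = C T`
  have hidx : (C.subgroupOf Y).index.Coprime (R t ht : Subgroup ↥Y).index := by
    refine Nat.coprime_of_dvd fun r hr h1 h2 => ?_
    haveI := Fact.mk hr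
    have hrt : r ≠ t := fun e => by
      subst e
      exact (R r ht).not_dvd_index h2
    have h3 := hdvd r ⟨hr⟩ (hother r ⟨hr⟩ hrt)
    have h4 := card_mul_index (C.subgroupOf Y)
    rw [Nat.card_congr (subgroupOfEquivOfLe (show C ≤ Y from inf_le_left)).toEquiv] at h4
    rw [← h4, Nat.factorization_mul Nat.card_pos.ne' index_ne_zero_of_finite, Finsupp.add_apply] at h3
    have := hr.factorization_pos_of_dvd index_ne_zero_of_finite h1
    omega
  have hle : ⁅Y, Q⁆ ≤ T := by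
    rw [commutator_le]
    intro y hy s hs
    obtain ⟨a, ha, c, hc, hac⟩ := HallSolv.exists_mul_of_coprime_index hidx.symm (⟨y, hy⟩ : ↥Y)
    have e : y = (a : X) * c := congrArg Subtype.val hac
    have hcs : s * (c : X) = c * s := mem_centralizer_iff.1 (mem_inf.1 hc).2 s hs
    rw [e, show ⁅(a : X) * c, s⁆ = (a : X) * ((s : X) * (a : X)⁻¹ * s⁻¹) by
      rw [commutatorElement_def, mul_assoc (a : X) (c : X) s, ← hcs]; group]
    exact mul_mem ⟨a, ha, rfl⟩
      ((mem_normalizer_iff.1 (hRS t ht (h.hQS hs)) _).1 (inv_mem ⟨a, ha, rfl⟩))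
  exact hTp.to_le (h.commutator_eq ▸ hle)

/-- The nilpotent case: `E = Y`. -/
theorem eq_of_prime_power (h : Setting p S Q L E Y) {t : ℕ} (ht : t.Prime) (htp : t ≠ p)
    (hY : IsPGroup t ↥Y) : Y ≤ E := by
  haveI := h.hYn
  haveI := Fact.mk ht
  haveI := hY.isNilpotent
  set Φ := (frattini ↥Y).map Y.subtype with hΦ
  haveI hΦn : Φ.Normal := inferInstance
  have hΦY : Φ ≤ Y := map_subtype_le _
  have hmem : ∀ y : ↥Y, (y : X) ∈ Φ ↔ y ∈ frattini ↥Y := fun y =>
    ⟨fun ⟨z, hz, e⟩ => Subtype.ext e ▸ hz, fun hy => ⟨y, hy, rfl⟩⟩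
  let π := QuotientGroup.mk' Φ
  have hπ : Function.Surjective π := QuotientGroup.mk'_surjective Φ
  have hSY : S ≤ normalizer (Y : Set X) := (le_top : S ≤ ⊤).trans (normalizer_eq_top_iff.2 h.hYn).ge
  have hmapn : ∀ K : Subgroup X, S ≤ normalizer (K : Set X) →
      S.map π ≤ normalizer ((K.map π : Subgroup (X ⧸ Φ)) : Set (X ⧸ Φ)) := fun K hK =>
    (Subgroup.map_mono hK).trans (le_normalizer_map π)
  have hSt : ¬ t ∣ Nat.card (S.map π) := by
    obtain ⟨k, hk⟩ := IsPGroup.iff_card.1 (h.hSp.map π)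
    rw [hk]
    exact fun hd => htp ((Nat.prime_dvd_prime_iff_eq ht hp.out).1 (ht.dvd_of_dvd_pow hd))
  obtain ⟨U, hUV, hSU, hinf, hsup⟩ := invariant_complement (q := t) (V := Y.map π) (A := E.map π)
    (S := S.map π) (by
      rintro _ ⟨a, ha, rfl⟩ _ ⟨b, hb, rfl⟩
      rw [← map_mul, ← map_mul]
      refine (QuotientGroup.eq).2 ((hmem ⟨_, Y.mul_mem (inv_mem (mul_mem ha hb)) (mul_mem hb ha)⟩).2 ?_)
      apply SolvStruct.commutator_le_frattini ↥Y
      rw [show (⟨(a * b)⁻¹ * (b * a), _⟩ : ↥Y) = ⁅(⟨b, hb⟩ : ↥Y)⁻¹, (⟨a, ha⟩ : ↥Y)⁻¹⁆ from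
        Subtype.ext (by simp [commutatorElement_def, mul_assoc])]
      exact commutator_mem_commutator (mem_top _) (mem_top _))
    (by
      rintro _ ⟨v, hv, rfl⟩
      rw [← map_pow]
      exact (QuotientGroup.eq_one_iff _).2 ((hmem ⟨_, pow_mem hv t⟩).2
        (PGroupBasics.pow_mem_frattini hY ⟨v, hv⟩)))
    (Subgroup.map_mono h.hEY) (hmapn Y hSY) (hmapn E h.hSE) hSt
  set U' := U.comap π with hU'
  have hU'Y : U' ≤ Y := fun x hx => by
    obtain ⟨y, hy, e⟩ := hUV hx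
    have h1 : y⁻¹ * x ∈ Φ := QuotientGroup.eq.1 e
    simpa using mul_mem hy (hΦY h1)
  have hSU' : S ≤ normalizer (U' : Set X) := fun s hs => mem_normalizer_iff.2 fun x => by
    simp only [hU', mem_comap, map_mul, map_inv]
    exact mem_normalizer_iff.1 (hSU ⟨s, hs, rfl⟩) (π x)
  have hU'L : U' ≤ L := by
    refine (h.hdich U' hU'Y hSU').resolve_left fun hE => ?_
    have h1 : E ≤ Φ := fun x hx => (QuotientGroup.eq_one_iff x).1
      (mem_bot.1 (hinf.le ⟨⟨x, hx, rfl⟩, hE hx⟩))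
    have h2 : frattini ↥Y = ⊤ := eq_top_iff.2 fun y _ => (hmem y).1 (h.hclos Φ hΦn h1 y.2)
    have h3 := frattini_nongenerating (K := (⊥ : Subgroup ↥Y)) (by rw [bot_sup_eq, h2])
    refine h.Y_ne_bot (eq_bot_iff.2 fun y hy => ?_)
    exact mem_bot.2 (congrArg Subtype.val (mem_bot.1 (h3.ge (mem_top (⟨y, hy⟩ : ↥Y)))))
  set M := E ⊔ Φ with hM
  have hMY : M ≤ Y := sup_le h.hEY hΦY
  have hYM : Y ≤ normalizer (M : Set X) := by
    intro y hy
    refine mem_normalizer_iff.2 fun x => ?_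
    have key : ∀ y ∈ Y, ∀ x ∈ M, y * x * y⁻¹ ∈ M := by
      intro y hy x hx
      rw [show y * x * y⁻¹ = ⁅y, x⁆ * x by simp [commutatorElement_def, mul_assoc]]
      refine mul_mem (mem_sup_right ⟨⁅(⟨y, hy⟩ : ↥Y), (⟨x, hMY hx⟩ : ↥Y)⁆,
        SolvStruct.commutator_le_frattini ↥Y (commutator_mem_commutator (mem_top _) (mem_top _)), rfl⟩) hx
    exact ⟨key y hy x, fun hx => by simpa [mul_assoc] using key y⁻¹ (inv_mem hy) _ hx⟩
  have hSM : S ≤ normalizer (M : Set X) :=
    (le_inf h.hSE ((le_top : S ≤ ⊤).trans (normalizer_eq_top_iff.2 hΦn).ge)).trans fun s hs => by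
      obtain ⟨h1, h2⟩ := mem_inf.1 hs
      rw [← LEBasic.map_conj_eq_iff_mem_normalizer, hM, Subgroup.map_sup,
        LEBasic.map_conj_eq_iff_mem_normalizer.2 h1, LEBasic.map_conj_eq_iff_mem_normalizer.2 h2]
  have hU'C : ⁅U', Q⁆ = ⊥ := by
    rw [eq_bot_iff, ← show Y ⊓ Q = ⊥ from inf_eq_bot_of_coprime (by
      obtain ⟨a, ha⟩ := IsPGroup.iff_card.1 hY
      obtain ⟨b, hb⟩ := IsPGroup.iff_card.1 (h.hSp.to_le h.hQS)
      rw [ha, hb]
      exact Nat.coprime_pow_primes _ _ ht hp.out htp)]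
    exact le_inf ((commutator_mono hU'Y le_rfl).trans (commutator_le_left Y Q))
      (le_normalizer_iff_commutator_le_right.1 (hU'L.trans h.hLQ))
  have hYle : Y ≤ U' ⊔ M := fun y hy => by
    have h1 : π y ∈ (U' ⊔ M).map π := by
      rw [Subgroup.map_sup, hU', map_comap_eq_self_of_surjective hπ, hM, Subgroup.map_sup]
      have h2 : π y ∈ Y.map π := ⟨y, hy, rfl⟩
      rw [← hsup, sup_comm] at h2
      exact (sup_le_sup_left le_sup_left U) h2
    obtain ⟨z, hz, e⟩ := h1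
    simpa using mul_mem hz (mem_sup_right (S := U') (mem_sup_right (S := E) (QuotientGroup.eq.1 e)))
  have hle : Y ≤ M := h.commutator_eq.ge.trans ((commutator_mono hYle le_rfl).trans
    (commutator_sup_le_of_normalize (hU'Y.trans hYM) Subgroup.le_normalizer (hU'C ▸ bot_le)
      (le_normalizer_iff_commutator_le_left.1 (h.hQS.trans hSM))))
  have htop : E.subgroupOf Y ⊔ frattini ↥Y = ⊤ := by
    apply map_injective Y.subtype_injective
    rw [Subgroup.map_sup, map_subgroupOf_eq_of_le h.hEY, ← MonoidHom.range_eq_map, range_subtype]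
    exact le_antisymm hMY hle
  exact subgroupOf_eq_top.1 (frattini_nongenerating htop)

/-- The two cases. -/
theorem dichotomy (h : Setting p S Q L E Y) :
    (∃ t : ℕ, t.Prime ∧ t ≠ p ∧ IsPGroup t ↥Y ∧ (∀ a b c : ↥Y, ⁅a, b⁆ * c = c * ⁅a, b⁆) ∧ Y ≤ E) ∨
    (p ∣ Nat.card Y ∧ ¬ Group.IsSolvable ↥Y ∧ Cfsg.layer ↥Y = ⊤ ∧
      ∀ K₁ K₂ : Subgroup X, Cfsg.IsComponent K₁ → Cfsg.IsComponent K₂ → K₁ ≤ Y → K₂ ≤ Y →
        ∃ s ∈ S, K₂ = K₁.map (MulAut.conj s).toMonoidHom) := by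
  haveI := h.hYn
  have hnil : ⁅Y, Y⁆ ≠ Y → ∀ a b c : ↥Y, ⁅a, b⁆ * c = c * ⁅a, b⁆ := by
    intro hne a b c
    have h1 := h.central (N := ⁅Y, Y⁆) inferInstance (commutator_le_self Y) hne
    rw [commutator_comm, commutator_eq_bot_iff_le_centralizer] at h1
    exact Subtype.ext (mem_centralizer_iff.1 (h1 (commutator_mem_commutator a.2 b.2)) c c.2).symm
  by_cases hA : ⁅Y, Y⁆ ≠ Y ∨ ¬ p ∣ Nat.card Y
  · have hp' : ¬ p ∣ Nat.card Y := by
      rcases hA with hne | h1
      · have hcl := hnil hne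
        haveI : Group.IsNilpotent ↥Y := Components.isNilpotent_of_commutator_le_center (by
          rw [_root_.commutator_def, commutator_le]
          exact fun a _ b _ => mem_center_iff.2 fun c => (hcl a b c).symm)
        intro hd
        obtain ⟨P⟩ : Nonempty (Sylow p ↥Y) := inferInstance
        have hPn : (P : Subgroup ↥Y).Normal := inferInstance
        have h2 : (P : Subgroup ↥Y) = ⊥ := le_bot_iff.1 (h.hOp ▸ LEBasic.le_pCore hPn P.isPGroup')
        exact P.ne_bot_of_dvd_card hd h2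
      · exact h1
    obtain ⟨t, ht, htp, hY⟩ := h.prime_power hp'
    haveI := Fact.mk ht
    haveI := hY.isNilpotent
    refine Or.inl ⟨t, ht, htp, hY, hnil fun e => ?_, h.eq_of_prime_power ht htp hY⟩
    haveI : Nontrivial ↥Y := (nontrivial_iff_ne_bot Y).2 h.Y_ne_bot
    refine (Group.IsSolvable.commutator_lt_top_of_nontrivial (G := ↥Y)).ne ?_
    apply map_injective Y.subtype_injective
    rw [map_subtype_commutator, e, ← MonoidHom.range_eq_map, range_subtype]
  push Not at hA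
  obtain ⟨hperf, hpd⟩ := hA
  have hYne : ¬ Y ≤ centralizer (Y : Set X) := fun hc =>
    h.Y_ne_bot (hperf ▸ commutator_eq_bot_iff_le_centralizer.2 hc)
  have hperf' : ⁅(⊤ : Subgroup ↥Y), (⊤ : Subgroup ↥Y)⁆ = ⊤ := by
    apply map_injective Y.subtype_injective
    rw [map_commutator, ← MonoidHom.range_eq_map, range_subtype]
    exact hperf
  have hns : ¬ Group.IsSolvable ↥Y := fun hs => by
    haveI := hs
    haveI : Nontrivial ↥Y := (nontrivial_iff_ne_bot Y).2 h.Y_ne_bot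
    exact (Group.IsSolvable.commutator_lt_top_of_nontrivial (G := ↥Y)).ne hperf'
  -- characteristic proper subgroups of `Y` are central
  have hchar : ∀ C : Subgroup ↥Y, C.Characteristic → C ≠ ⊤ → C ≤ center ↥Y := by
    intro C hC hne
    haveI := hC
    have hn : (C.map Y.subtype).Normal := inferInstance
    have h1 := h.central hn (map_subtype_le _) fun e => hne (by
      apply map_injective Y.subtype_injective
      rw [e, ← MonoidHom.range_eq_map, range_subtype])
    rw [commutator_comm, commutator_eq_bot_iff_le_centralizer] at h1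
    exact fun x hx => mem_center_iff.2 fun y =>
      Subtype.ext (mem_centralizer_iff.1 (h1 ⟨x, hx, rfl⟩) y y.2)
  have hZne : center ↥Y ≠ ⊤ := fun e => hYne fun y hy => mem_centralizer_iff.2 fun z hz =>
    congrArg Subtype.val (mem_center_iff.1 (e.ge (mem_top (⟨y, hy⟩ : ↥Y))) ⟨z, hz⟩)
  have hFtop : Cfsg.generalizedFittingSubgroup ↥Y = ⊤ := by
    by_contra hne
    have h1 := hchar _ Components.generalizedFitting_characteristic hne
    refine hZne (top_le_iff.1 ?_)
    refine le_trans ?_ ((Components.centralizer_generalizedFitting_le (G := ↥Y)).trans h1)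
    intro y _
    exact mem_centralizer_iff.2 fun z hz => (mem_center_iff.1 (h1 hz) y).symm
  have hlayer : Cfsg.layer ↥Y = ⊤ := by
    have hF : Cfsg.fittingSubgroup ↥Y ≤ center ↥Y := hchar _ Components.fittingSubgroup_characteristic
      fun e => hns (by
        haveI := Components.fitting_solvable (G := ↥Y)
        exact Components.isSolvable_congr ((MulEquiv.subgroupCongr e).trans Subgroup.topEquiv) |>.1 inferInstance)
    rw [eq_top_iff, ← hperf']
    have h1 : (⊤ : Subgroup ↥Y) ≤ Cfsg.layer ↥Y ⊔ center ↥Y :=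
      hFtop.ge.trans (sup_le_sup_left hF _)
    haveI := Components.layer_normal (G := ↥Y)
    refine (commutator_mono h1 h1).trans (commutator_sup_le_of_normalize ?_ ?_ ?_ ?_)
    · exact le_normalizer_of_normal (K := _)
    · exact le_normalizer_of_normal (K := _)
    · exact commutator_le_left _ _
    · rw [commutator_le]
      intro z hz y _
      rw [commutatorElement_eq_one_iff_mul_comm.2 (mem_center_iff.1 hz y).symm]
      exact one_mem _
  refine Or.inr ⟨hpd, hns, hlayer, ?_⟩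
  have hYE : Y ≤ Cfsg.layer X := by
    intro y hy
    have h1 : ((⟨y, hy⟩ : ↥Y) : X) ∈ (Cfsg.layer ↥Y).map Y.subtype :=
      ⟨⟨y, hy⟩, hlayer.ge (mem_top _), rfl⟩
    exact Components.layer_map_le_of_subnormal (h.hYn.isSubnormal) h1
  have hgenY : ∀ N : Subgroup X, (∀ K, Cfsg.IsComponent K → K ≤ Y → K ≤ N) → Y ≤ N := by
    intro N hN y hy
    have h1 : Cfsg.layer ↥Y ≤ N.subgroupOf Y := (Components.layer_le_iff).2 fun K hK => by
      intro k hk
      exact hN _ (Components.component_map_subtype h.hYn.isSubnormal hK) (map_subtype_le _) ⟨k, hk, rfl⟩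
    exact h1 (hlayer.ge (mem_top (⟨y, hy⟩ : ↥Y)))
  let orb : Subgroup X → Subgroup X := fun K => ⨆ s : ↥S, K.map (MulAut.conj (s : X)).toMonoidHom
  have horbY : ∀ K, K ≤ Y → orb K ≤ Y := fun K hK => iSup_le fun s =>
    (LEBasic.map_conj_mono (s : X) hK).trans
      (LEBasic.map_conj_eq_iff_mem_normalizer.2 (by rw [normalizer_eq_top_iff.2 h.hYn]; trivial)).le
  have horbn : ∀ K, Cfsg.IsComponent K → Y ≤ normalizer (orb K : Set X) := fun K hK y hy => by
    rw [← LEBasic.map_conj_eq_iff_mem_normalizer, Subgroup.map_iSup]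
    exact iSup_congr fun s => LEBasic.map_conj_eq_iff_mem_normalizer.2
      (Components.layer_le_normalizer_component (Components.component_conj hK _) (hYE hy))
  have horbS : ∀ K, S ≤ normalizer (orb K : Set X) := fun K u hu => by
    rw [← LEBasic.map_conj_eq_iff_mem_normalizer, Subgroup.map_iSup]
    simp only [LEBasic.map_conj_map_conj]
    exact (Equiv.mulLeft (⟨u, hu⟩ : ↥S)).iSup_comp
      (g := fun s : ↥S => K.map (MulAut.conj (s : X)).toMonoidHom)
  have horb0 : ∀ K, K ≤ orb K := fun K =>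
    le_iSup_of_le (1 : ↥S) (by rw [OneMemClass.coe_one, LEBasic.map_conj_one])
  have hcomm : ∀ K, Cfsg.IsComponent K → ∀ M, Cfsg.IsComponent M →
      (∀ s ∈ S, M ≠ K.map (MulAut.conj s).toMonoidHom) → orb K ≤ centralizer (M : Set X) := fun K hK M hM hne =>
    iSup_le fun s => commutator_eq_bot_iff_le_centralizer.1
      (Components.components_commute (Components.component_conj hK _) hM (hne s s.2).symm)
  -- some orbit contains `E`
  obtain ⟨K₀, hK₀, hK₀Y, hEK₀⟩ : ∃ K, Cfsg.IsComponent K ∧ K ≤ Y ∧ E ≤ orb K := by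
    by_contra hall
    push Not at hall
    refine h.Y_ne_bot (h.commutator_eq ▸ commutator_eq_bot_iff_le_centralizer.2 (hgenY _ fun K hK hKY => ?_))
    have h1 := h.commutator_eq_bot (horbY K hKY) ((h.hdich _ (horbY K hKY) (horbS K)).resolve_left
      (hall K hK hKY)) (horbn K hK) (h.hQS.trans (horbS K))
    exact (horb0 K).trans (commutator_eq_bot_iff_le_centralizer.1 h1)
  have hin : Y ≤ orb K₀ := by
    refine h.commutator_eq.ge.trans ?_
    rw [commutator_le]
    have hsub : Y ≤ orb K₀ ⊔ (Y ⊓ centralizer (Q : Set X)) := hgenY _ fun M hM hMY => by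
      by_cases horbit : ∃ s ∈ S, M = K₀.map (MulAut.conj s).toMonoidHom
      · obtain ⟨s, hs, rfl⟩ := horbit
        exact (le_iSup (fun u : ↥S => K₀.map (MulAut.conj (u : X)).toMonoidHom) ⟨s, hs⟩).trans le_sup_left
      push Not at horbit
      rcases h.hdich _ (horbY M hMY) (horbS M) with hE | hL
      · exfalso
        -- `E` would be central in `Y`
        apply hYne
        refine h.hclos _ inferInstance ?_
        rw [le_centralizer_iff]
        refine hgenY _ fun K hK hKY => le_centralizer_iff.1 ?_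
        by_cases hK' : ∀ s ∈ S, K ≠ K₀.map (MulAut.conj s).toMonoidHom
        · exact hEK₀.trans (hcomm K₀ hK₀ K hK hK')
        · push Not at hK'
          obtain ⟨s, hs, rfl⟩ := hK'
          refine hE.trans (hcomm M hM _ (Components.component_conj hK₀ s) fun u hu e => ?_)
          refine horbit (u⁻¹ * s) (mul_mem (inv_mem hu) hs) ?_
          rw [← LEBasic.map_conj_map_conj, e, LEBasic.map_conj_map_conj, inv_mul_cancel, LEBasic.map_conj_one]
      · exact le_sup_of_le_right (le_inf hMY ((horb0 M).trans (commutator_eq_bot_iff_le_centralizer.1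
          (h.commutator_eq_bot (horbY M hMY) hL (horbn M hM) (h.hQS.trans (horbS M))))))
    refine fun y hy t ht => (commutator_le.1 (commutator_sup_le_of_normalize (A := orb K₀)
      (B := Y ⊓ centralizer (Q : Set X)) (M := orb K₀) (Q := Q) Subgroup.le_normalizer
      (inf_le_left.trans (horbn K₀ hK₀)) (le_normalizer_iff_commutator_le_left.1 (h.hQS.trans (horbS K₀)))
      ?_)) y (hsub hy) t ht
    rw [commutator_eq_bot_iff_le_centralizer.2 (inf_le_right : Y ⊓ centralizer (Q : Set X) ≤ _)]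
    exact bot_le
  have hone : ∀ M, Cfsg.IsComponent M → M ≤ Y → ∃ s ∈ S, M = K₀.map (MulAut.conj s).toMonoidHom := by
    intro M hM hMY
    by_contra hne
    push Not at hne
    refine Components.quasisimple_not_commutative hM.2 (le_centralizer_iff_isMulCommutative.1 ?_)
    exact hMY.trans (hin.trans (hcomm K₀ hK₀ M hM hne))
  intro K₁ K₂ h1 h2 h1Y h2Y
  obtain ⟨a, ha, rfl⟩ := hone K₁ h1 h1Y
  obtain ⟨b, hb, rfl⟩ := hone K₂ h2 h2Y
  exact ⟨b * a⁻¹, mul_mem hb (inv_mem ha), by rw [LEBasic.map_conj_map_conj, inv_mul_cancel_right]⟩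

end Setting

end Cfsg.Agent.LEIsoPMin
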