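/-
Isolated `p`-minimal subgroups of a finite group.
-/
import Cfsg.Agent.Lib.LocalEven.PMinimal
import Cfsg.Agent.Lib.LocalEven.IsoPMinAbs

set_option autoImplicit false
set_option linter.unusedSectionVars false
set_option linter.style.haveILetI false

namespace Cfsg.Agent.LEIsoPMin

open Cfsg.Agent Subgroup
open scoped commutatorElement

variable {G : Type*} [Group G] [Finite G] {p : ℕ} [Fact p.Prime]

theorem isPMinimal_congr {A B : Type*} [Group A] [Group B] [Finite A] (e : A ≃* B)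
    (h : Cfsg.IsPMinimal p A) : Cfsg.IsPMinimal p B := by
  intro R
  let R' : Sylow p A := R.comapOfInjective e.toMonoidHom e.injective (by
    rw [MonoidHom.range_eq_top.2 e.surjective]; exact le_top)
  obtain ⟨hnn, M, ⟨hM, hRM⟩, huniq⟩ := h R'
  have hR' : (R' : Subgroup A) = (R : Subgroup B).comap e.toMonoidHom := rfl
  have hmap : (R' : Subgroup A).map e.toMonoidHom = (R : Subgroup B) := by
    rw [hR', map_comap_eq_self_of_surjective e.surjective]
  refine ⟨fun h1 => hnn (hR' ▸ Subgroup.Normal.comap h1 _), M.map e.toMonoidHom,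
    ⟨(e.mapSubgroup.isCoatom_iff M).2 hM, hmap ▸ Subgroup.map_mono hRM⟩, fun M' ⟨hM', hRM'⟩ => ?_⟩
  have h1 : IsCoatom (M'.comap e.toMonoidHom) := by
    rw [← e.mapSubgroup.isCoatom_iff]
    show IsCoatom (Subgroup.map e.toMonoidHom (M'.comap e.toMonoidHom))
    rwa [map_comap_eq_self_of_surjective e.surjective]
  rw [← huniq _ ⟨h1, hR' ▸ Subgroup.comap_mono hRM'⟩, map_comap_eq_self_of_surjective e.surjective]

/-- McBride: an overgroup of `S` is generated by `N(S)` and the `p`-minimal subgroups it contains. -/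
theorem le_join_of_ge (S : Sylow p G) (K : Subgroup G) (hSK : (S : Subgroup G) ≤ K) :
    K ≤ (normalizer ((S : Subgroup G) : Set G) ⊓ K) ⊔
      ⨆ P' : {P' : Subgroup G // (S : Subgroup G) ≤ P' ∧ P' ≤ K ∧ Cfsg.IsPMinimal p ↥P'}, (P' : Subgroup G) := by
  set J := (normalizer ((S : Subgroup G) : Set G) ⊓ K) ⊔
      ⨆ P' : {P' : Subgroup G // (S : Subgroup G) ≤ P' ∧ P' ≤ K ∧ Cfsg.IsPMinimal p ↥P'}, (P' : Subgroup G) with hJ
  have hS : ((S.subtype hSK : Sylow p ↥K) : Subgroup ↥K).map K.subtype = (S : Subgroup G) := by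
    rw [Sylow.coe_subtype, map_subgroupOf_eq_of_le hSK]
  have hSJ : (S : Subgroup G) ≤ J := (le_inf Subgroup.le_normalizer hSK).trans le_sup_left
  have h1 := LEPMinimal.pElementClosure_le_join (S.subtype hSK) ⊤ le_top
  have h2 : Cfsg.pElementClosure p K ≤ J := by
    rw [Cfsg.pElementClosure, closure_le]
    rintro x ⟨hx, k, hk⟩
    have h3 : (⟨x, hx⟩ : ↥K) ∈ Cfsg.pElementClosure p (⊤ : Subgroup ↥K) :=
      subset_closure ⟨mem_top _, k, by rw [← orderOf_coe]; exact hk⟩
    have h4 := Subgroup.mem_map_of_mem K.subtype (h1 h3)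
    rw [Subgroup.map_sup, hS, Subgroup.map_iSup] at h4
    refine (sup_le hSJ (iSup_le ?_)) h4
    rintro ⟨P', hSP', hP'⟩
    exact le_sup_of_le_right (le_iSup
      (fun P'' : {P' : Subgroup G // (S : Subgroup G) ≤ P' ∧ P' ≤ K ∧ Cfsg.IsPMinimal p ↥P'} => (P'' : Subgroup G))
      ⟨P'.map K.subtype, hS ▸ Subgroup.map_mono hSP', map_subtype_le _,
        isPMinimal_congr (equivMapOfInjective P' _ K.subtype_injective) hP'⟩)
  intro g hg
  obtain ⟨l, hl, n, hn, hnS, rfl⟩ := LEAmalgam.exists_mul_normalizer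
    (hS ▸ LEAmalgam.isSyl_map (S.subtype hSK)) hg
  exact mul_mem (h2 hl) (mem_sup_left (mem_inf.2 ⟨hnS, hn⟩))

/-- The hypothesis of the statements. -/
structure Data (S : Sylow p G) (P L Y : Subgroup G) : Prop where
  hSP : (S : Subgroup G) ≤ P
  hPmin : Cfsg.IsPMinimal p ↥P
  hL : L = normalizer ((S : Subgroup G) : Set G) ⊔
    ⨆ P' : {P' : Subgroup G // (S : Subgroup G) ≤ P' ∧ Cfsg.IsPMinimal p ↥P' ∧ P' ≠ P}, (P' : Subgroup G)
  hiso : ¬ (Cfsg.pCore p ↥L).map L.subtype ≤ (Cfsg.pCore p ↥P).map P.subtype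
  hY : Y = normalClosure (((Cfsg.pResidual p ↥P).map P.subtype : Subgroup G) : Set G)

namespace Data

variable {S : Sylow p G} {P L Y : Subgroup G}

theorem S_le_L (d : Data S P L Y) : (S : Subgroup G) ≤ L :=
  d.hL ▸ Subgroup.le_normalizer.trans le_sup_left

theorem le_L (d : Data S P L Y) {K : Subgroup G} (hSK : (S : Subgroup G) ≤ K) (hPK : ¬ P ≤ K) : K ≤ L := by
  refine (le_join_of_ge S K hSK).trans (sup_le (inf_le_left.trans (d.hL ▸ le_sup_left)) (iSup_le ?_))
  rintro ⟨P', hSP', hP'K, hP'⟩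
  rw [d.hL]
  exact le_sup_of_le_right (le_iSup
    (fun P'' : {P' : Subgroup G // (S : Subgroup G) ≤ P' ∧ Cfsg.IsPMinimal p ↥P' ∧ P' ≠ P} => (P'' : Subgroup G))
    ⟨P', hSP', hP', fun e => hPK (e ▸ hP'K)⟩)

theorem Q_le_S (d : Data S P L Y) : (Cfsg.pCore p ↥L).map L.subtype ≤ (S : Subgroup G) := by
  have h := Subgroup.map_mono (f := L.subtype) (LEBasic.pCore_le_sylow (S.subtype d.S_le_L))
  rwa [Sylow.coe_subtype, map_subgroupOf_eq_of_le d.S_le_L] at h

theorem L_le_normalizer_Q (_d : Data S P L Y) :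
    L ≤ normalizer (((Cfsg.pCore p ↥L).map L.subtype : Subgroup G) : Set G) :=
  Subgroup.le_normalizer.trans (LEBasic.normalizer_le_normalizer_pCoreMap L)

theorem E_sup_S (d : Data S P L Y) : (Cfsg.pResidual p ↥P).map P.subtype ⊔ (S : Subgroup G) = P := by
  have h := congrArg (Subgroup.map P.subtype) (LEBasic.pResidual_sup_sylow (S.subtype d.hSP))
  rwa [Subgroup.map_sup, Sylow.coe_subtype, map_subgroupOf_eq_of_le d.hSP, ← MonoidHom.range_eq_map,
    range_subtype] at h

theorem P_le_normalizer_E (_d : Data S P L Y) :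
    P ≤ normalizer (((Cfsg.pResidual p ↥P).map P.subtype : Subgroup G) : Set G) :=
  Subgroup.le_normalizer.trans (LEBasic.le_normalizer_map_of_characteristic LEBasic.pResidual_characteristic)

theorem mem_E (_d : Data S P L Y) {x : G} (hx : x ∈ P) (ho : (orderOf x).Coprime p) :
    x ∈ (Cfsg.pResidual p ↥P).map P.subtype :=
  ⟨⟨x, hx⟩, LEBasic.mem_pResidual (by rw [← orderOf_coe]; exact ho), rfl⟩

theorem E_le_Y (d : Data S P L Y) : (Cfsg.pResidual p ↥P).map P.subtype ≤ Y :=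
  d.hY ▸ le_normalClosure

theorem Y_normal (d : Data S P L Y) : Y.Normal := d.hY ▸ normalClosure_normal

theorem Y_le (d : Data S P L Y) {N : Subgroup G} (hN : N.Normal)
    (h : (Cfsg.pResidual p ↥P).map P.subtype ≤ N) : Y ≤ N := by
  haveI := hN
  exact d.hY ▸ normalClosure_le_normal h

theorem E_le_of (d : Data S P L Y) {K : Subgroup G} (hSK : (S : Subgroup G) ≤ normalizer (K : Set G))
    (h : P ≤ K ⊔ (S : Subgroup G)) : (Cfsg.pResidual p ↥P).map P.subtype ≤ K := by
  set C := K ⊓ P with hC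
  have h1 : P ≤ C ⊔ (S : Subgroup G) := fun x hx => by
    obtain ⟨a, ha, b, hb, rfl⟩ := (SolvBasic.mem_sup_iff_of_le_normalizer hSK).1 (h hx)
    refine mul_mem (mem_sup_left (mem_inf.2 ⟨ha, ?_⟩)) (mem_sup_right hb)
    simpa using mul_mem hx (inv_mem (d.hSP hb))
  have hSC : (S : Subgroup G) ≤ normalizer (C : Set G) := fun s hs =>
    inf_normalizer_le_normalizer_inf (mem_inf.2 ⟨hSK hs, Subgroup.le_normalizer (d.hSP hs)⟩)
  haveI : (C.subgroupOf P).Normal :=
    normal_subgroupOf_of_le_normalizer (h1.trans (sup_le Subgroup.le_normalizer hSC))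
  have h2 : Cfsg.pResidual p ↥P ≤ C.subgroupOf P := by
    refine LEPIrred.pResidual_le_of_le_sup ((S.subtype d.hSP).isPGroup') ?_
    intro x _
    rw [Sylow.coe_subtype, ← Subgroup.subgroupOf_sup inf_le_right d.hSP, mem_subgroupOf]
    exact h1 x.2
  exact (Subgroup.map_mono h2).trans ((map_subgroupOf_eq_of_le (inf_le_right : C ≤ P)).le.trans inf_le_left)

theorem E_ne_pGroup (d : Data S P L Y) : ¬ IsPGroup p ↥((Cfsg.pResidual p ↥P).map P.subtype) := by
  intro hE
  have h1 : IsPGroup p ↥((Cfsg.pResidual p ↥P).map P.subtype ⊔ (S : Subgroup G) : Subgroup G) :=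
    IsPGroup.to_sup_of_normal_left' hE S.isPGroup' (d.hSP.trans d.P_le_normalizer_E)
  rw [d.E_sup_S] at h1
  have h2 : (S : Subgroup G) = P := (S.is_maximal' h1 d.hSP).symm
  refine (d.hPmin (S.subtype d.hSP)).1 ?_
  rw [Sylow.coe_subtype, subgroupOf_eq_top.2 h2.ge]
  infer_instance

theorem E_le_commutator (d : Data S P L Y) : (Cfsg.pResidual p ↥P).map P.subtype ≤
    ⁅(Cfsg.pResidual p ↥P).map P.subtype, (Cfsg.pCore p ↥L).map L.subtype⁆ := by
  set E := (Cfsg.pResidual p ↥P).map P.subtype with hE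
  set Q := (Cfsg.pCore p ↥L).map L.subtype with hQ
  set C := ⁅E, Q⁆ with hC
  have hEP : E ≤ P := map_subtype_le _
  have hCP : C ≤ P := (commutator_le_self P).trans' (commutator_mono hEP (d.Q_le_S.trans d.hSP))
  have hSQ : (S : Subgroup G) ≤ normalizer (Q : Set G) := d.S_le_L.trans d.L_le_normalizer_Q
  have hSC : (S : Subgroup G) ≤ normalizer (C : Set G) :=
    commutator_normalizer (d.hSP.trans d.P_le_normalizer_E) hSQ
  set N := C ⊔ Q with hN
  have hPN : P ≤ normalizer (N : Set G) := by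
    conv_lhs => rw [← d.E_sup_S]
    refine sup_le ?_ fun s hs => ?_
    · refine BBlock.le_normalizer_of_conj fun e he x hx => ?_
      have hmap : N.map (MulAut.conj e).toMonoidHom ≤ N := by
        rw [hN, Subgroup.map_sup]
        refine sup_le ((LEBasic.map_conj_eq_iff_mem_normalizer.2
          (BBlock.left_le_normalizer_commutator E Q he)).le.trans le_sup_left) ?_
        rintro _ ⟨t, ht, rfl⟩
        show e * t * e⁻¹ ∈ _
        rw [show e * t * e⁻¹ = ⁅e, t⁆ * t by simp [commutatorElement_def]]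
        exact mul_mem (mem_sup_left (commutator_mem_commutator he ht)) (mem_sup_right ht)
      exact hmap ⟨x, hx, rfl⟩
    · rw [← LEBasic.map_conj_eq_iff_mem_normalizer, hN, Subgroup.map_sup,
        LEBasic.map_conj_eq_iff_mem_normalizer.2 (hSC hs), LEBasic.map_conj_eq_iff_mem_normalizer.2 (hSQ hs)]
  -- `N` is normal in `P` and not in `O_p(P)`
  have hNP : N ≤ P := sup_le hCP (d.Q_le_S.trans d.hSP)
  haveI : (N.subgroupOf P).Normal := normal_subgroupOf_of_le_normalizer hPN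
  set S' := S.subtype d.hSP with hS'
  have hmin := LEPIrred.isMinimalOver_of_isPMinimal d.hPmin S'
  obtain ⟨M, hM, hTM⟩ : ∃ M : Subgroup ↥P, IsCoatom M ∧ (S' : Subgroup ↥P) ≤ M :=
    let ⟨M, hM, _⟩ := hmin.2
    ⟨M, hM⟩
  have htop : N.subgroupOf P ⊔ (S' : Subgroup ↥P) = ⊤ := by
    by_contra hne
    have h1 := (LEPIrred.normal_pClosed_iff S' (N.subgroupOf P)).1
      (LEPIrred.pClosed_of_sup_ne_top S' hmin hM hTM hne)
    refine d.hiso fun x hx => ?_
    exact ⟨⟨x, d.hSP (d.Q_le_S hx)⟩, h1 (mem_inf.2 ⟨mem_sup_right (S := C) hx, d.Q_le_S hx⟩), rfl⟩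
  have h2 : P ≤ C ⊔ (S : Subgroup G) := by
    have h3 := congrArg (Subgroup.map P.subtype) htop
    rw [Subgroup.map_sup, hS', Sylow.coe_subtype, map_subgroupOf_eq_of_le d.hSP,
      map_subgroupOf_eq_of_le hNP, ← MonoidHom.range_eq_map, range_subtype] at h3
    exact h3.ge.trans (sup_le (sup_le le_sup_left (d.Q_le_S.trans le_sup_right)) le_sup_right)
  exact d.E_le_of hSC h2

theorem Y_sup_L (d : Data S P L Y) : Y ⊔ L = ⊤ := by
  refine top_le_iff.1 ((le_join_of_ge S ⊤ le_top).trans (sup_le (inf_le_left.trans (le_sup_of_le_right (d.hL ▸ le_sup_left))) (iSup_le ?_)))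
  rintro ⟨P', hSP', -, hP'⟩
  by_cases e : P' = P
  · subst e
    calc P' = _ := d.E_sup_S.symm
      _ ≤ Y ⊔ L := sup_le_sup d.E_le_Y d.S_le_L
  · rw [d.hL]
    exact le_sup_of_le_right (le_sup_of_le_right (le_iSup
      (fun P'' : {P' : Subgroup G // (S : Subgroup G) ≤ P' ∧ Cfsg.IsPMinimal p ↥P' ∧ P' ≠ P} => (P'' : Subgroup G))
      ⟨P', hSP', hP', e⟩))

theorem isolated (d : Data S P L Y) :
    ¬ (Cfsg.pCore p ↥((normalizer ((S : Subgroup G) : Set G) ⊓ (Y ⊔ (S : Subgroup G))) ⊔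
          ⨆ P' : {P' : Subgroup G // (S : Subgroup G) ≤ P' ∧ P' ≤ Y ⊔ (S : Subgroup G) ∧ Cfsg.IsPMinimal p ↥P' ∧ P' ≠ P}, (P' : Subgroup G))).map
        (Subgroup.subtype _) ≤ (Cfsg.pCore p ↥P).map P.subtype := by
  intro h
  refine d.hiso (le_trans ?_ h)
  refine LEBasic.le_pCoreMap (le_sup_of_le_left (le_inf (d.Q_le_S.trans Subgroup.le_normalizer)
    (d.Q_le_S.trans le_sup_right))) (sup_le ?_ (iSup_le ?_)) (LEBasic.pCoreMap_isPGroup L)
  · exact inf_le_left.trans ((le_sup_left.trans d.hL.ge).trans d.L_le_normalizer_Q)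
  · rintro ⟨P', hSP', -, hP', hne⟩
    refine le_trans ?_ d.L_le_normalizer_Q
    rw [d.hL]
    exact le_sup_of_le_right (le_iSup
      (fun P'' : {P' : Subgroup G // (S : Subgroup G) ≤ P' ∧ Cfsg.IsPMinimal p ↥P' ∧ P' ≠ P} => (P'' : Subgroup G))
      ⟨P', hSP', hP', hne⟩)

theorem setting (d : Data S P L Y) (N : Subgroup G) [N.Normal] (hNp : IsPGroup p ↥N)
    (hN : ∀ M : Subgroup G, M.Normal → M ≤ Y → IsPGroup p ↥M → M ≤ N) :
    Setting p ((S : Subgroup G).map (QuotientGroup.mk' N))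
      (((Cfsg.pCore p ↥L).map L.subtype).map (QuotientGroup.mk' N))
      (L.map (QuotientGroup.mk' N))
      (((Cfsg.pResidual p ↥P).map P.subtype).map (QuotientGroup.mk' N))
      (Y.map (QuotientGroup.mk' N)) := by
  set π := QuotientGroup.mk' N with hπdef
  have hπ : Function.Surjective π := QuotientGroup.mk'_surjective N
  haveI := d.Y_normal
  haveI hYn : (Y.map π).Normal := d.Y_normal.map π hπ
  exact
  { hSp := S.isPGroup'.map π
    hQS := Subgroup.map_mono d.Q_le_S
    hSL := Subgroup.map_mono d.S_le_L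
    hLQ := (Subgroup.map_mono d.L_le_normalizer_Q).trans (le_normalizer_map π)
    hgen := by rw [← Subgroup.map_sup, d.Y_sup_L, map_top_of_surjective _ hπ]
    hYn := hYn
    hEY := Subgroup.map_mono d.E_le_Y
    hSE := (Subgroup.map_mono (d.hSP.trans d.P_le_normalizer_E)).trans (le_normalizer_map π)
    hclos := fun M hM hEM => map_le_iff_le_comap.2 (d.Y_le (hM.comap π) (map_le_iff_le_comap.1 hEM))
    hEQ := by rw [← map_commutator]; exact Subgroup.map_mono d.E_le_commutator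
    hdich := fun K _ hSK => by
      have hSK' : (S : Subgroup G) ≤ normalizer ((K.comap π : Subgroup G) : Set G) := fun s hs =>
        mem_normalizer_iff.2 fun x => by
          simp only [mem_comap, map_mul, map_inv]
          exact mem_normalizer_iff.1 (hSK ⟨s, hs, rfl⟩) (π x)
      by_cases h : P ≤ K.comap π ⊔ (S : Subgroup G)
      · exact Or.inl (map_le_iff_le_comap.2 (d.E_le_of hSK' h))
      · refine Or.inr ?_
        rw [← map_comap_eq_self_of_surjective hπ K]
        exact Subgroup.map_mono (le_sup_left.trans (d.le_L le_sup_right h))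
    hOp := by
      set Mb := (Cfsg.pCore p ↥(Y.map π)).map (Y.map π).subtype with hMb
      haveI : Mb.Normal := normalizer_eq_top_iff.1 (top_le_iff.1
        ((normalizer_eq_top_iff.2 hYn).ge.trans (LEBasic.normalizer_le_normalizer_pCoreMap _)))
      have h1 : Mb.comap π ⊓ Y ≤ N := by
        refine hN _ inferInstance inf_le_right (IsPGroup.to_le ?_ inf_le_left)
        exact (LEBasic.pCoreMap_isPGroup _).comap_of_ker_isPGroup π (by rw [QuotientGroup.ker_mk']; exact hNp)
      rw [eq_bot_iff]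
      intro x hx
      obtain ⟨y, hy, e⟩ := x.2
      have h2 : π y ∈ Mb := ⟨x, hx, e.symm⟩
      rw [mem_bot]
      refine Subtype.ext (e.symm.trans ?_)
      exact (QuotientGroup.eq_one_iff _).2 (h1 (mem_inf.2 ⟨h2, hy⟩))
    hne := fun h => d.E_ne_pGroup (hNp.to_le (by rwa [Subgroup.map_eq_bot_iff, QuotientGroup.ker_mk'] at h)) }

theorem E_eq_Y (d : Data S P L Y) (N : Subgroup G) [N.Normal] (hNp : IsPGroup p ↥N)
    (h : Y.map (QuotientGroup.mk' N) ≤ ((Cfsg.pResidual p ↥P).map P.subtype).map (QuotientGroup.mk' N)) :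
    (Cfsg.pResidual p ↥P).map P.subtype = Y := by
  set E := (Cfsg.pResidual p ↥P).map P.subtype with hE
  have hYP : Y ≤ P := by
    refine ((map_le_iff_le_comap.1 h).trans (comap_map_eq _ _).le).trans ?_
    rw [QuotientGroup.ker_mk']
    exact sup_le (map_subtype_le _) ((LEBasic.normal_le_sylow hNp S).trans d.hSP)
  haveI := d.Y_normal
  have hn : E.Normal := by
    refine ⟨fun x hx g => ?_⟩
    have h1 : E ≤ E.comap (MulAut.conj g).toMonoidHom := by
      rw [hE, map_le_iff_le_comap, Cfsg.pResidual, closure_le]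
      intro a ha
      refine d.mem_E (hYP (d.Y_normal.conj_mem _ (d.E_le_Y ⟨a, subset_closure ha, rfl⟩) g)) ?_
      show Nat.Coprime (orderOf ((MulAut.conj g) (a : G))) p
      rw [MulEquiv.orderOf_eq, orderOf_coe]
      exact ha
    exact h1 hx
  exact le_antisymm d.E_le_Y (d.Y_le hn le_rfl)

theorem W_normal (d : Data S P L Y) : ((Cfsg.pCore p ↥Y).map Y.subtype).Normal := by
  haveI := d.Y_normal
  exact normalizer_eq_top_iff.1 (top_le_iff.1
    ((normalizer_eq_top_iff.2 d.Y_normal).ge.trans (LEBasic.normalizer_le_normalizer_pCoreMap Y)))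

theorem le_W (_d : Data S P L Y) (M : Subgroup G) (hM : M.Normal) (hMY : M ≤ Y) (hMp : IsPGroup p ↥M) :
    M ≤ (Cfsg.pCore p ↥Y).map Y.subtype :=
  LEBasic.le_pCoreMap hMY (le_top.trans (normalizer_eq_top_iff.2 hM).ge) hMp

/-- `Y / O_p(Y)` is the image of `Y` modulo `O_p(Y)`. -/
theorem quotient_equiv (d : Data S P L Y) [hn : (Cfsg.pCore p ↥Y).Normal] :
    haveI := d.W_normal
    ∃ e : (↥Y ⧸ Cfsg.pCore p ↥Y) ≃* ↥(Y.map (QuotientGroup.mk' ((Cfsg.pCore p ↥Y).map Y.subtype))),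
      ∀ y : ↥Y, ((e y : ↥(Y.map (QuotientGroup.mk' ((Cfsg.pCore p ↥Y).map Y.subtype)))) :
        G ⧸ (Cfsg.pCore p ↥Y).map Y.subtype) = QuotientGroup.mk' _ (y : G) := by
  haveI := d.W_normal
  set π := QuotientGroup.mk' ((Cfsg.pCore p ↥Y).map Y.subtype) with hπ
  have hker : (π.subgroupMap Y).ker = Cfsg.pCore p ↥Y := by
    ext y
    rw [MonoidHom.mem_ker]
    constructor
    · intro h
      obtain ⟨z, hz, e⟩ := (QuotientGroup.eq_one_iff _).1 (congrArg Subtype.val h)
      exact Subtype.ext e ▸ hz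
    · intro h
      exact Subtype.ext ((QuotientGroup.eq_one_iff _).2 ⟨y, h, rfl⟩)
  exact ⟨(QuotientGroup.quotientMulEquivOfEq hker.symm).trans
    (QuotientGroup.quotientKerEquivOfSurjective _ (π.subgroupMap_surjective Y)), fun y => rfl⟩

end Data

end Cfsg.Agent.LEIsoPMin
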