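/-
The L-Lemma for T-minimal groups, proved by induction over sections.
-/
import Cfsg.Agent.Lib.LocalEven.SylowAux
import Cfsg.Agent.Lib.Techniques.CharP

set_option autoImplicit false
set_option linter.unusedSectionVars false

namespace Cfsg.Agent.LELLemma

open Cfsg.Agent.LEBasic

variable {H : Type*} [Group H] [Finite H] {p : ℕ} [Fact p.Prime]

/-- `X` conjugated by `c`. -/
abbrev cj (X : Subgroup H) (c : H) : Subgroup H := X.map (MulAut.conj c).toMonoidHom

/-- `T` is a Sylow `p`-subgroup of `K`, phrased in the ambient group. -/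
def SylIn (p : ℕ) (T K : Subgroup H) : Prop :=
  IsPGroup p ↥T ∧ T ≤ K ∧ ∀ R : Subgroup H, IsPGroup p ↥R → R ≤ K → ∃ k ∈ K, cj R k ≤ T

theorem exists_sylIn {Q K : Subgroup H} (hQ : IsPGroup p ↥Q) (hQK : Q ≤ K) :
    ∃ T : Subgroup H, SylIn p T K ∧ Q ≤ T := by
  obtain ⟨S, hS⟩ := (hQ.comap_of_injective K.subtype K.subtype_injective).exists_le_sylow
  refine ⟨(S : Subgroup ↥K).map K.subtype, ⟨S.isPGroup'.map _, Subgroup.map_subtype_le _,
    fun R hR hRK => LESylow.exists_conj_le_of_le hRK hR S⟩, fun x hx => ⟨⟨x, hQK hx⟩, hS hx, rfl⟩⟩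

theorem SylIn.eq_of_le {T K R : Subgroup H} (hT : SylIn p T K) (hR : IsPGroup p ↥R) (hRK : R ≤ K)
    (hTR : T ≤ R) : R = T := by
  obtain ⟨k, -, hk⟩ := hT.2.2 R hR hRK
  exact (Subgroup.eq_of_le_of_card_ge hTR
    ((card_map_conj R k).ge.trans (Subgroup.card_le_of_le hk))).symm

theorem cj_le_of_mem {X K : Subgroup H} {k : H} (hX : X ≤ K) (hk : k ∈ K) : cj X k ≤ K := by
  rintro _ ⟨x, hx, rfl⟩
  exact mul_mem (mul_mem hk (hX hx)) (inv_mem hk)

theorem cj_inv_cj (X : Subgroup H) (c : H) : cj (cj X c) c⁻¹ = X := by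
  rw [cj, cj, map_conj_map_conj, inv_mul_cancel, map_conj_one]

theorem cj_cj_inv (X : Subgroup H) (c : H) : cj (cj X c⁻¹) c = X := by
  rw [cj, cj, map_conj_map_conj, mul_inv_cancel, map_conj_one]

theorem cj_lt {X Y : Subgroup H} (c : H) (h : X < Y) : cj X c < cj Y c :=
  (Subgroup.map_lt_map_iff_of_injective (MulAut.conj c).injective).2 h

theorem opIn_cj (K : Subgroup H) (c : H) : CharP.opIn p (cj K c) = cj (CharP.opIn p K) c := by
  have key : ∀ (K : Subgroup H) (c : H), cj (CharP.opIn p K) c ≤ CharP.opIn p (cj K c) := fun K c =>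
    CharP.le_opIn (map_conj_mono c (CharP.opIn_le K))
      (by
        refine le_trans ?_ (Subgroup.le_normalizer_map _)
        exact map_conj_mono c (CharP.le_normalizer_opIn K))
      ((CharP.opIn_isPGroup K).map _)
  refine le_antisymm ?_ (key K c)
  have h1 := map_conj_mono c (key (cj K c) c⁻¹)
  rwa [← cj, cj_cj_inv, cj_inv_cj] at h1

theorem opIn_le_opIn {L U : Subgroup H} (hLU : L ≤ U) (h : CharP.opIn p U ≤ L) :
    CharP.opIn p U ≤ CharP.opIn p L :=
  CharP.le_opIn h (hLU.trans (CharP.le_normalizer_opIn U)) (CharP.opIn_isPGroup U)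

theorem sup_opIn_isPGroup {A U : Subgroup H} (hA : IsPGroup p ↥A) (hAU : A ≤ U) :
    IsPGroup p ↥(A ⊔ CharP.opIn p U) :=
  IsPGroup.to_sup_of_normal_right' hA (CharP.opIn_isPGroup U) (hAU.trans (CharP.le_normalizer_opIn U))

/-- The conclusion of the L-Lemma for `A` inside `U` with distinguished subgroup `V`. -/
def Good (p : ℕ) (U V A : Subgroup H) : Prop :=
  ∃ L : Subgroup H, L ≤ U ∧ A ⊔ CharP.opIn p U ≤ L ∧ ¬ A ≤ CharP.opIn p L ∧ ∃ g ∈ U,
    A ⊔ CharP.opIn p L ≤ L ⊓ cj V g ∧ L ⊓ cj V g < L ∧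
    (∀ X : Subgroup H, A ⊔ CharP.opIn p L ≤ X → X < L → X ≤ L ⊓ cj V g) ∧
    ∀ x ∈ L, x ∉ L ⊓ cj V g → A ⊔ cj A x ⊔ CharP.opIn p L = L

theorem Good.conj {U V A : Subgroup H} {u : H} (hu : u ∈ U) (h : Good p U V (cj A u)) : Good p U V A := by
  obtain ⟨L, hLU, hAL, hAO, g, hg, h1, h2, h3, h4⟩ := h
  have hUu : cj U u⁻¹ = U := map_conj_eq_iff_mem_normalizer.2 (Subgroup.le_normalizer (inv_mem hu))
  have hOU : cj (CharP.opIn p U) u⁻¹ = CharP.opIn p U :=
    map_conj_eq_iff_mem_normalizer.2 (CharP.le_normalizer_opIn U (inv_mem hu))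
  have hV : cj (L ⊓ cj V g) u⁻¹ = cj L u⁻¹ ⊓ cj V (u⁻¹ * g) := by
    rw [cj, Subgroup.map_inf_eq _ _ _ (MulAut.conj u⁻¹).injective, cj, cj, map_conj_map_conj]
  refine ⟨cj L u⁻¹, hUu ▸ map_conj_mono _ hLU, ?_, ?_, u⁻¹ * g, mul_mem (inv_mem hu) hg, ?_, ?_,
    fun X hX1 hX2 => ?_, fun x hx hx' => ?_⟩
  · have := map_conj_mono u⁻¹ hAL
    rwa [Subgroup.map_sup, ← cj, cj_inv_cj, ← cj, hOU] at this
  · intro hle
    apply hAO
    have := map_conj_mono u hle
    rwa [opIn_cj, ← cj, ← cj, cj_cj_inv] at this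
  · rw [← hV, opIn_cj]
    have := map_conj_mono u⁻¹ h1
    rwa [Subgroup.map_sup, ← cj, cj_inv_cj, ← cj] at this
  · rw [← hV]; exact cj_lt _ h2
  · rw [← hV]
    have hX1' : cj A u ⊔ CharP.opIn p L ≤ cj X u := by
      have := map_conj_mono u hX1
      rwa [Subgroup.map_sup, opIn_cj, ← cj, ← cj, cj_cj_inv] at this
    have hX2' : cj X u < L := by
      have := cj_lt u hX2
      rwa [cj_cj_inv] at this
    have := map_conj_mono u⁻¹ (h3 _ hX1' hX2')
    rwa [← cj, cj_inv_cj] at this
  · rw [mem_map_conj, inv_inv] at hx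
    have hxn : u * x * u⁻¹ ∉ L ⊓ cj V g := fun h => hx' (by
      rw [← hV, mem_map_conj, inv_inv]; exact h)
    have h5 := congrArg (fun Y => cj Y u⁻¹) (h4 _ hx hxn)
    simp only [cj, Subgroup.map_sup, map_conj_map_conj] at h5
    rw [show u⁻¹ * (u * x * u⁻¹ * u) = x by group, inv_mul_cancel, map_conj_one, ← cj, ← cj, ← opIn_cj] at h5
    exact h5

theorem llemma_aux : ∀ (n : ℕ) (U V T : Subgroup H), Nat.card ↥U ≤ n → T ≤ V → V < U → SylIn p T U →
    (∀ X : Subgroup H, T ≤ X → X < U → X ≤ V) →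
    ∀ (B A : Subgroup H), B = A ⊔ CharP.opIn p U → A ≤ V → IsPGroup p ↥A → ¬ A ≤ CharP.opIn p U →
      Good p U V A := by
  intro n
  induction n with
  | zero => intro U V T hn; exact absurd hn (Nat.not_le.2 Nat.card_pos)
  | succ n ih =>
    intro U V T hn hTV hVU hT huniq B
    induction B using WellFoundedGT.induction with
    | ind B ihB =>
      intro A hBdef hAV hA hAO
      set O := CharP.opIn p U with hOdef
      have hAU : A ≤ U := hAV.trans hVU.le
      have hOT : O ≤ T := by
        obtain ⟨k, hk, hle⟩ := hT.2.2 O (CharP.opIn_isPGroup U) (CharP.opIn_le U)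
        rwa [cj, map_conj_eq_iff_mem_normalizer.2 (CharP.le_normalizer_opIn U hk)] at hle
      have hBp : IsPGroup p ↥B := hBdef ▸ sup_opIn_isPGroup hA hAU
      have hBV : B ≤ V := hBdef ▸ sup_le hAV (hOT.trans hTV)
      obtain ⟨L, hL⟩ := (Set.toFinite {L : Subgroup H | L ≤ U ∧ B ≤ L ∧ ¬ L ≤ V}).exists_minimal
        ⟨U, le_rfl, hBV.trans hVU.le, hVU.not_ge⟩
      obtain ⟨hLU, hBL, hLV⟩ := hL.prop
      have hmin : ∀ X : Subgroup H, B ≤ X → X < L → X ≤ L ⊓ V := fun X hX hXL => by
        refine le_inf hXL.le ?_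
        by_contra h
        exact hXL.not_ge (hL.le_of_le ⟨hXL.le.trans hLU, hX, h⟩ hXL.le)
      have hL₀ : L ⊓ V < L := lt_of_le_of_ne inf_le_left fun h => hLV (inf_eq_left.1 h)
      have hOL : O ≤ L := (le_sup_right.trans hBdef.ge).trans hBL
      have hOL' : O ≤ CharP.opIn p L := opIn_le_opIn hLU hOL
      have hAL : A ≤ L := (le_sup_left.trans hBdef.ge).trans hBL
      by_cases hgood : ¬ A ≤ CharP.opIn p L
      · have hBO : B ≤ A ⊔ CharP.opIn p L := hBdef ▸ sup_le_sup_left hOL' A
        have hA2 : A ⊔ CharP.opIn p L ≤ L ⊓ V := by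
          refine hmin _ hBO (lt_of_le_of_ne (sup_le hAL (CharP.opIn_le L)) fun h => hgood ?_)
          refine hAL.trans (CharP.le_opIn le_rfl Subgroup.le_normalizer ?_)
          exact h ▸ sup_opIn_isPGroup hA hAL
        have h1 : cj V 1 = V := map_conj_one V
        refine ⟨L, hLU, hBdef ▸ hBL, hgood, 1, one_mem U, ?_⟩
        rw [h1]
        refine ⟨hA2, hL₀, fun X hX hXL => hmin X (hBO.trans hX) hXL, fun x hx hx' => ?_⟩
        by_contra hne
        have hle : A ⊔ cj A x ⊔ CharP.opIn p L < L :=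
          lt_of_le_of_ne (sup_le (sup_le hAL (cj_le_of_mem hAL hx)) (CharP.opIn_le L)) hne
        have hX := hmin _ (hBO.trans (sup_le_sup_right le_sup_left _)) hle
        -- the unique maximal subgroup is normalized by x
        have hxL₀ : cj (L ⊓ V) x⁻¹ = L ⊓ V := by
          refine Subgroup.eq_of_le_of_card_ge (hmin _ (hBO.trans (sup_le ?_ ?_)) ?_) (card_map_conj _ _).ge
          · intro a ha
            rw [mem_map_conj, inv_inv]
            exact hX (Subgroup.mem_sup_left (Subgroup.mem_sup_right ⟨a, ha, rfl⟩))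
          · rw [← map_conj_eq_iff_mem_normalizer.2 (CharP.le_normalizer_opIn L (inv_mem hx))]
            exact map_conj_mono _ (le_sup_right.trans hA2)
          · have := cj_lt x⁻¹ hL₀
            rwa [show cj L x⁻¹ = L from map_conj_eq_iff_mem_normalizer.2 (Subgroup.le_normalizer (inv_mem hx))] at this
        have hnorm : L ≤ Subgroup.normalizer ((L ⊓ V : Subgroup H) : Set H) := by
          by_contra h
          have hlt : L ⊓ Subgroup.normalizer ((L ⊓ V : Subgroup H) : Set H) < L :=
            lt_of_le_of_ne inf_le_left fun e => h (inf_eq_left.1 e)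
          have hxN : x ∈ L ⊓ Subgroup.normalizer ((L ⊓ V : Subgroup H) : Set H) :=
            Subgroup.mem_inf.2 ⟨hx, inv_inv x ▸ inv_mem (map_conj_eq_iff_mem_normalizer.1 hxL₀)⟩
          exact hx' (hmin _ ((le_inf hBL hBV).trans (le_inf inf_le_left Subgroup.le_normalizer)) hlt hxN)
        obtain ⟨T₀, hT₀, hAT₀⟩ := exists_sylIn (sup_opIn_isPGroup hA hAL) hA2
        by_cases hN : L ≤ Subgroup.normalizer (T₀ : Set H)
        · exact hgood ((le_sup_left.trans hAT₀).trans
            (CharP.le_opIn (hT₀.2.1.trans inf_le_left) hN hT₀.1))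
        · have hlt : L ⊓ Subgroup.normalizer (T₀ : Set H) < L :=
            lt_of_le_of_ne inf_le_left fun e => hN (inf_eq_left.1 e)
          have hN₀ := hmin _ ((hBO.trans hAT₀).trans (le_inf (hT₀.2.1.trans inf_le_left) Subgroup.le_normalizer)) hlt
          refine hx' ?_
          obtain ⟨k, hk, hkT⟩ := hT₀.2.2 (cj T₀ x) (hT₀.1.map _) (by
            rw [← map_conj_eq_iff_mem_normalizer.2 (hnorm hx)]; exact map_conj_mono x hT₀.2.1)
          have hkx : cj T₀ (k * x) = T₀ := by
            refine Subgroup.eq_of_le_of_card_ge ?_ (card_map_conj _ _).ge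
            rw [cj, ← map_conj_map_conj]; exact hkT
          have hkL : k ∈ L := (Subgroup.mem_inf.1 hk).1
          have h6 := hN₀ (Subgroup.mem_inf.2 ⟨mul_mem hkL hx, map_conj_eq_iff_mem_normalizer.1 hkx⟩)
          have := mul_mem (inv_mem hk) h6
          rwa [inv_mul_cancel_left] at this
      · rw [not_not] at hgood
        have hBOL : B ≤ CharP.opIn p L := hBdef ▸ sup_le hgood hOL'
        have hLne : L < U := lt_of_le_of_ne hLU fun h => hAO (by rw [hOdef, ← h]; exact hgood)
        -- a larger p-subgroup B' of V, generated by conjugates of A, lying in some X < U not in V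
        obtain ⟨B', hBB', hB'p, hB'V, hgenB', X, hB'X, hXU, hXV⟩ : ∃ B' : Subgroup H, B < B' ∧ IsPGroup p ↥B' ∧
            B' ≤ V ∧ (∀ Q : Subgroup H, O ≤ Q → (∀ u ∈ U, cj A u ≤ B' → cj A u ≤ Q) → B' ≤ Q) ∧
            ∃ X : Subgroup H, B' ≤ X ∧ X < U ∧ ¬ X ≤ V := by
          by_cases hBn : L ≤ Subgroup.normalizer (B : Set H)
          · set N := U ⊓ Subgroup.normalizer (B : Set H) with hN
            have hLN : L ≤ N := le_inf hLU hBn
            have hNU : N < U := lt_of_le_of_ne inf_le_left fun h => hAO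
              ((le_sup_left.trans hBdef.ge).trans
                (CharP.le_opIn (hBV.trans hVU.le) (h.ge.trans inf_le_right) hBp))
            have hBN : B ≤ N := le_inf (hBV.trans hVU.le) Subgroup.le_normalizer
            obtain ⟨T₁, hT₁, hBT₁⟩ := exists_sylIn hBp (le_inf hBN hBV)
            by_cases hex : ∃ u ∈ U, cj B u ≤ T₁ ∧ cj B u ≠ B
            · obtain ⟨u, hu, hule, hune⟩ := hex
              refine ⟨B ⊔ cj B u, lt_of_le_of_ne le_sup_left fun h => hune
                  (Subgroup.eq_of_le_of_card_ge (le_sup_right.trans h.ge) (card_map_conj B u).ge),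
                hT₁.1.to_le (sup_le hBT₁ hule), (sup_le hBT₁ hule).trans (hT₁.2.1.trans inf_le_right),
                fun Q hOQ hQ => ?_, N, (sup_le hBT₁ hule).trans (hT₁.2.1.trans inf_le_left), hNU,
                fun h => hLV (hLN.trans h)⟩
              refine sup_le (hBdef ▸ sup_le ?_ hOQ) ?_
              · have := hQ 1 (one_mem U) (by
                  rw [cj, map_conj_one]; exact (le_sup_left.trans hBdef.ge).trans le_sup_left)
                rwa [cj, map_conj_one] at this
              · rw [hBdef, cj, Subgroup.map_sup]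
                refine sup_le (hQ u hu ((map_conj_mono u (le_sup_left.trans hBdef.ge)).trans le_sup_right)) ?_
                rw [map_conj_eq_iff_mem_normalizer.2 (CharP.le_normalizer_opIn U hu)]
                exact hOQ
            · push Not at hex
              exfalso
              -- T₁ lies in a Sylow subgroup of U inside V, which it must equal
              obtain ⟨T', hT', hT₁T'⟩ := exists_sylIn hT₁.1 (hT₁.2.1.trans inf_le_right)
              have hgrow : T₁ = T' := by
                refine LESylow.eq_of_normalizer_inf_le hT'.1 hT₁T' fun y hy => ?_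
                obtain ⟨hyT, hyN⟩ := Subgroup.mem_inf.1 hy
                have hyU : y ∈ U := hVU.le (hT'.2.1 hyT)
                have hyB : cj B y = B := hex y hyU ((map_conj_mono y hBT₁).trans
                  (map_conj_eq_iff_mem_normalizer.2 hyN).le)
                have hle : Subgroup.zpowers y ⊔ T₁ ≤ T' := sup_le (Subgroup.zpowers_le.2 hyT) hT₁T'
                have := hT₁.eq_of_le (hT'.1.to_le hle) (sup_le (Subgroup.zpowers_le.2 (Subgroup.mem_inf.2
                  ⟨Subgroup.mem_inf.2 ⟨hyU, map_conj_eq_iff_mem_normalizer.1 hyB⟩, hT'.2.1 hyT⟩)) hT₁.2.1) le_sup_right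
                exact this.le (Subgroup.mem_sup_left (Subgroup.mem_zpowers y))
              obtain ⟨v, hv, hvle⟩ := hT'.2.2 T hT.1 hTV
              have hNv : cj N v⁻¹ < U := by
                have := cj_lt v⁻¹ hNU
                rwa [show cj U v⁻¹ = U from map_conj_eq_iff_mem_normalizer.2
                  (Subgroup.le_normalizer (inv_mem (hVU.le hv)))] at this
              have h7 : cj N v⁻¹ ≤ V := by
                refine huniq _ ?_ hNv
                rw [← cj_inv_cj T v]
                exact map_conj_mono _ (hvle.trans (hgrow.ge.trans (hT₁.2.1.trans inf_le_left)))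
              refine hLV (hLN.trans ?_)
              rw [← cj_cj_inv N v]
              exact cj_le_of_mem h7 hv
          · set B' := ⨆ l : ↥L, cj B (l : H) with hB'
            have hB'O : B' ≤ CharP.opIn p L := iSup_le fun l =>
              (map_conj_mono _ hBOL).trans
                (map_conj_eq_iff_mem_normalizer.2 (CharP.le_normalizer_opIn L l.2)).le
            have hBB' : B ≤ B' := le_trans (map_conj_one B).ge (le_iSup (fun l : ↥L => cj B (l : H)) 1)
            refine ⟨B', lt_of_le_of_ne hBB' fun h => hBn fun l hl => map_conj_eq_iff_mem_normalizer.1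
              (Subgroup.eq_of_le_of_card_ge ((le_iSup (fun l : ↥L => cj B (l : H)) ⟨l, hl⟩).trans h.ge)
                (card_map_conj B l).ge), (CharP.opIn_isPGroup L).to_le hB'O, ?_, fun Q hOQ hQ => ?_,
              L, hB'O.trans (CharP.opIn_le L), hLne, hLV⟩
            · by_cases hPL : CharP.opIn p L = L
              · have hLp : IsPGroup p ↥L := hPL ▸ CharP.opIn_isPGroup L
                have hnorm : L ≤ Subgroup.normalizer ((L ⊓ V : Subgroup H) : Set H) := by
                  by_contra h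
                  have hlt : L ⊓ Subgroup.normalizer ((L ⊓ V : Subgroup H) : Set H) < L :=
                    lt_of_le_of_ne inf_le_left fun e => h (inf_eq_left.1 e)
                  exact hL₀.ne (LESylow.eq_of_normalizer_inf_le hLp inf_le_left
                    (hmin _ ((le_inf hBL hBV).trans (le_inf inf_le_left Subgroup.le_normalizer)) hlt))
                exact iSup_le fun l => ((map_conj_mono _ (le_inf hBL hBV)).trans
                  (map_conj_eq_iff_mem_normalizer.2 (hnorm l.2)).le).trans inf_le_right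
              · exact hB'O.trans ((hmin _ hBOL (lt_of_le_of_ne (CharP.opIn_le L) hPL)).trans inf_le_right)
            · refine iSup_le fun l => ?_
              rw [hBdef, cj, Subgroup.map_sup, map_conj_eq_iff_mem_normalizer.2 (CharP.le_normalizer_opIn U (hLU l.2))]
              refine sup_le (hQ l (hLU l.2) ((map_conj_mono _ (le_sup_left.trans hBdef.ge)).trans
                (le_iSup (fun l : ↥L => cj B (l : H)) l))) hOQ
        have hOB' : O ≤ B' := (le_sup_right.trans hBdef.ge).trans hBB'.le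
        obtain ⟨L₂, hL₂U, hB'L₂, hB'O₂, g, hg, h1, h2, h3, h4⟩ :=
          ihB B' hBB' B' (sup_eq_left.2 hOB').symm hB'V hB'p
            (fun h => hBB'.not_ge (h.trans (hBdef ▸ le_sup_right)))
        have hL₂ne : L₂ < U := by
          refine lt_of_le_of_ne hL₂U fun h => hXV ?_
          subst h
          have hVg : cj V g = V := by
            refine (Subgroup.eq_of_le_of_card_ge ((h3 V ?_ hVU).trans inf_le_right) (card_map_conj V g).le).symm
            exact sup_le hB'V (hOT.trans hTV)
          exact ((h3 X (sup_le hB'X (hOB'.trans hB'X)) hXU).trans inf_le_right).trans hVg.le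
        -- some conjugate of A in B' is not in O_p(L₂)
        obtain ⟨u, hu, huB, huO⟩ : ∃ u ∈ U, cj A u ≤ B' ∧ ¬ cj A u ≤ CharP.opIn p L₂ := by
          by_contra h
          push Not at h
          exact hB'O₂ (hgenB' _ (opIn_le_opIn hL₂U (le_sup_right.trans hB'L₂)) h)
        set V₂ := L₂ ⊓ cj V g with hV₂
        obtain ⟨T₂, hT₂, hBT₂⟩ := exists_sylIn
          (sup_opIn_isPGroup hB'p (le_sup_left.trans hB'L₂)) h1
        have hT₂L : SylIn p T₂ L₂ := by
          obtain ⟨T₃, hT₃, h23⟩ := exists_sylIn hT₂.1 (hT₂.2.1.trans inf_le_left)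
          have hN : L₂ ⊓ Subgroup.normalizer (T₂ : Set H) < L₂ := lt_of_le_of_ne inf_le_left fun e =>
            hB'O₂ ((le_sup_left.trans hBT₂).trans
              (CharP.le_opIn (hT₂.2.1.trans inf_le_left) (inf_eq_left.1 e) hT₂.1))
          have hN₂ := h3 _ (hBT₂.trans (le_inf (hT₂.2.1.trans inf_le_left) Subgroup.le_normalizer)) hN
          have : T₂ = T₃ := by
            refine LESylow.eq_of_normalizer_inf_le hT₃.1 h23 fun y hy => ?_
            obtain ⟨hyT, hyN⟩ := Subgroup.mem_inf.1 hy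
            have hyV : y ∈ V₂ := hN₂ (Subgroup.mem_inf.2 ⟨hT₃.2.1 hyT, hyN⟩)
            have := hT₂.eq_of_le (hT₃.1.to_le (sup_le (Subgroup.zpowers_le.2 hyT) h23))
              (sup_le (Subgroup.zpowers_le.2 hyV) hT₂.2.1) le_sup_right
            exact this.le (Subgroup.mem_sup_left (Subgroup.mem_zpowers y))
          exact this ▸ hT₃
        have hcard : Nat.card ↥L₂ ≤ n := by
          have : Nat.card ↥L₂ < Nat.card ↥U := lt_of_le_of_ne (Subgroup.card_le_of_le hL₂U) fun e =>
            hL₂ne.ne (Subgroup.eq_of_le_of_card_ge hL₂U e.ge)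
          omega
        obtain ⟨L₃, hL₃, hAL₃, hAO₃, g₂, hg₂, k1, k2, k3, k4⟩ :=
          ih L₂ V₂ T₂ hcard hT₂.2.1 h2 hT₂L (fun Y hY hY' => h3 Y (hBT₂.trans hY) hY') _ (cj A u) rfl
            ((huB.trans (le_sup_left.trans hBT₂)).trans hT₂.2.1) (hA.map _) huO
        have hV₃ : L₃ ⊓ cj V₂ g₂ = L₃ ⊓ cj V (g₂ * g) := by
          rw [hV₂, cj, Subgroup.map_inf_eq _ _ _ (MulAut.conj g₂).injective,
            map_conj_eq_iff_mem_normalizer.2 (Subgroup.le_normalizer hg₂), map_conj_map_conj, ← inf_assoc,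
            inf_eq_left.2 hL₃]
        refine Good.conj hu ⟨L₃, hL₃.trans hL₂U, ?_, hAO₃, g₂ * g, mul_mem (hL₂U hg₂) hg, ?_⟩
        · refine sup_le (le_sup_left.trans hAL₃) ?_
          exact ((opIn_le_opIn hL₂U (le_sup_right.trans hB'L₂)).trans le_sup_right).trans hAL₃
        · rw [← hV₃]
          exact ⟨k1, k2, k3, k4⟩

theorem llemma {U V T A : Subgroup H} (hTV : T ≤ V) (hVU : V < U) (hT : SylIn p T U)
    (huniq : ∀ X : Subgroup H, T ≤ X → X < U → X ≤ V) (hAV : A ≤ V) (hA : IsPGroup p ↥A)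
    (hAO : ¬ A ≤ CharP.opIn p U) : Good p U V A :=
  llemma_aux _ U V T le_rfl hTV hVU hT huniq _ A rfl hAV hA hAO

end Cfsg.Agent.LELLemma
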