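/-
Normal closures of large subgroups modulo the centralizer of a module with quasisimple image.
-/
import Cfsg.Agent.Lib.LocalEven.Large
import Cfsg.Agent.Lib.LocalEven.JoinSylow
import Cfsg.Agent.Lib.LocalEven.PIrred
import Cfsg.Agent.Lib.LocalEven.PReduced
import Cfsg.Agent.Lib.LocalEven.Amalgam
import Cfsg.Agent.Lib.Components.Local

set_option autoImplicit false
set_option linter.unusedSectionVars false
set_option linter.style.haveILetI false

namespace Cfsg.Agent.LELargeQS

open Cfsg.Agent.LEBasic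
open scoped commutatorElement

variable {E : Type*} [Group E] [Finite E] {p : ℕ} [Fact p.Prime]

/-- A perfect subgroup that centralizes `[A, K]` centralizes `A`. -/
theorem centralizes_of_perfect {A K : Subgroup E} (hK : ⁅K, K⁆ = K) (h : ⁅⁅A, K⁆, K⁆ = ⊥) : ⁅A, K⁆ = ⊥ := by
  have h1 := Subgroup.commutator_commutator_eq_bot_of_rotate (H₁ := K) (H₂ := K) (H₃ := A)
    (by rw [Subgroup.commutator_comm K A]; exact h) h
  rwa [hK, Subgroup.commutator_comm] at h1

theorem perfect_of_commutator {K : Subgroup E} (hK : ⁅K, K⁆ = K) : Group.IsPerfect ↥K := by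
  refine ⟨?_⟩
  apply Subgroup.map_injective K.subtype_injective
  rw [commutator_def, Subgroup.map_commutator, ← MonoidHom.range_eq_map, Subgroup.range_subtype, hK]

/-- A perfect group with a central kernel onto a quasisimple group is quasisimple. -/
theorem quasisimple_of_central {K : Type*} [Group K] (hE : Group.IsPerfect E) (hK : Cfsg.IsQuasisimple K)
    (f : E →* K) (hf : Function.Surjective f) (hker : f.ker ≤ Subgroup.center E) : Cfsg.IsQuasisimple E := by
  haveI := hE
  haveI := hK.2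
  refine ⟨hE, ?_⟩
  have hc : (Subgroup.center K).comap f = Subgroup.center E := by
    refine le_antisymm ?_ fun x hx => ?_
    · set A := (Subgroup.center K).comap f
      have h1 : ⁅A, (⊤ : Subgroup E)⁆ ≤ f.ker := by
        rw [Subgroup.commutator_le]
        intro a ha b _
        rw [MonoidHom.mem_ker, map_commutatorElement, commutatorElement_eq_one_iff_mul_comm]
        exact (Subgroup.mem_center_iff.1 ha (f b)).symm
      have htop : ⁅(⊤ : Subgroup E), (⊤ : Subgroup E)⁆ = ⊤ := by
        rw [← commutator_def]; exact hE.commutator_eq_top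
      have h2 := centralizes_of_perfect (A := A) htop (by
        rw [Subgroup.commutator_eq_bot_iff_le_centralizer]
        refine h1.trans (hker.trans ?_)
        rw [Subgroup.coe_top, Subgroup.centralizer_univ])
      rw [Subgroup.commutator_eq_bot_iff_le_centralizer, Subgroup.coe_top, Subgroup.centralizer_univ] at h2
      exact h2
    · rw [Subgroup.mem_comap, Subgroup.mem_center_iff]
      intro g
      obtain ⟨g', rfl⟩ := hf g
      rw [← map_mul, ← map_mul, Subgroup.mem_center_iff.1 hx g']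
  let q : E →* K ⧸ Subgroup.center K := (QuotientGroup.mk' _).comp f
  have hq : Function.Surjective q := (QuotientGroup.mk'_surjective _).comp hf
  have hqk : q.ker = Subgroup.center E := by
    rw [← MonoidHom.comap_ker, QuotientGroup.ker_mk', hc]
  exact ((QuotientGroup.quotientMulEquivOfEq hqk.symm).trans
    (QuotientGroup.quotientKerEquivOfSurjective q hq)).isSimpleGroup

/-- A Sylow subgroup is normal when the `p'`-elements are central. -/
theorem sylow_normal_of_central (h : Cfsg.pResidual p E ≤ Subgroup.center E) (P : Sylow p E) :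
    (P : Subgroup E).Normal := by
  rw [← Subgroup.normalizer_eq_top_iff, ← top_le_iff]
  exact (pResidual_sup_sylow P).ge.trans
    (sup_le (h.trans (Subgroup.center_le_normalizer _)) Subgroup.le_normalizer)

theorem isPGroup_of_central {A : Subgroup E} (hgen : A ≤ Subgroup.closure {y | y ∈ A ∧ ∃ k : ℕ, orderOf y = p ^ k})
    (h : ∀ x ∈ A, (orderOf x).Coprime p → ∀ y ∈ A, x * y = y * x) : IsPGroup p ↥A := by
  obtain ⟨P⟩ : Nonempty (Sylow p ↥A) := inferInstance
  haveI := sylow_normal_of_central (p := p) (E := ↥A) (by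
    rw [Cfsg.pResidual, Subgroup.closure_le]
    intro x hx
    rw [SetLike.mem_coe, Subgroup.mem_center_iff]
    exact fun y => Subtype.ext (h x x.2 (by rwa [Subgroup.orderOf_coe]) y y.2).symm) P
  have hle : A ≤ (P : Subgroup ↥A).map A.subtype := by
    refine hgen.trans ((Subgroup.closure_le _).2 ?_)
    rintro y ⟨hy, k, hk⟩
    obtain ⟨Q, hQ⟩ := (LESylow.isPGroup_zpowers (a := (⟨y, hy⟩ : ↥A)) (k := k) (by
      rw [Subgroup.orderOf_mk]; exact hk)).exists_le_sylow
    refine ⟨⟨y, hy⟩, ?_, rfl⟩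
    rw [LEPIrred.pCore_eq_of_normal_sylow (T := P) inferInstance |>.symm,
      ← LEPIrred.sylow_eq_pCore (T := P) (LEPIrred.pCore_eq_of_normal_sylow (T := P) inferInstance).ge Q]
    exact hQ (Subgroup.mem_zpowers _)
  exact (P.2.map A.subtype).to_le hle

section Main

variable (C W : Subgroup E) [C.Normal] [W.Normal]
  (hred : Cfsg.pCore p (E ⧸ C) = ⊥)
  (hqs : Cfsg.IsQuasisimple ↥(Cfsg.pResidual p (E ⧸ C)))
  (hgen : W ≤ Subgroup.closure {y | y ∈ W ∧ ∃ k : ℕ, orderOf y = p ^ k})
  (hWC : ⁅W, C⁆ ≤ Cfsg.pCore p E) (hW1 : ¬ W ≤ C)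

include hred hqs in
theorem eq_bot_of_centralizes {Y : Subgroup (E ⧸ C)} (hY : IsPGroup p ↥Y)
    (h : ⁅Y, Cfsg.pResidual p (E ⧸ C)⁆ = ⊥) : Y = ⊥ := by
  set K := Cfsg.pResidual p (E ⧸ C) with hK
  haveI : K.Normal := pResidual_normal
  set C' := Subgroup.centralizer (K : Set (E ⧸ C)) with hC'
  obtain ⟨P, hP⟩ := ((hY.comap_of_injective C'.subtype C'.subtype_injective)).exists_le_sylow
  have hYC : Y ≤ C' := Subgroup.commutator_eq_bot_iff_le_centralizer.1 h
  haveI := sylow_normal_of_central (p := p) (E := ↥C') (by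
    rw [Cfsg.pResidual, Subgroup.closure_le]
    intro x hx
    rw [SetLike.mem_coe, Subgroup.mem_center_iff]
    have hxK : (x : E ⧸ C) ∈ K := mem_pResidual (by rwa [Subgroup.orderOf_coe])
    exact fun y => Subtype.ext (Subgroup.mem_centralizer_iff.1 y.2 _ hxK).symm) P
  refine le_bot_iff.1 fun y hy => ?_
  rw [← hred]
  exact pCoreMap_le_pCore ⟨⟨y, hYC hy⟩, le_pCore inferInstance P.2 (hP hy), rfl⟩

include hqs in
theorem residual_perfect : ⁅Cfsg.pResidual p (E ⧸ C), Cfsg.pResidual p (E ⧸ C)⁆ = Cfsg.pResidual p (E ⧸ C) :=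
  Components.quasisimple_commutator_eq hqs

include hqs in
theorem normal_dichotomy {N : Subgroup (E ⧸ C)} (hN : N ≤ Cfsg.pResidual p (E ⧸ C))
    (hn : Cfsg.pResidual p (E ⧸ C) ≤ Subgroup.normalizer (N : Set (E ⧸ C))) :
    Cfsg.pResidual p (E ⧸ C) ≤ N ∨ ⁅N, Cfsg.pResidual p (E ⧸ C)⁆ = ⊥ := by
  set K := Cfsg.pResidual p (E ⧸ C) with hK
  haveI : (N.subgroupOf K).Normal := (Subgroup.normal_subgroupOf_iff_le_normalizer hN).2 hn
  rcases Components.quasisimple_normal hqs (N.subgroupOf K) with h | h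
  · exact Or.inl (Subgroup.subgroupOf_eq_top.1 h)
  · refine Or.inr (Subgroup.commutator_eq_bot_iff_le_centralizer.2 fun x hx => ?_)
    rw [Subgroup.mem_centralizer_iff]
    intro y hy
    exact congrArg Subtype.val (Subgroup.mem_center_iff.1 (h (show (⟨x, hN hx⟩ : ↥K) ∈ N.subgroupOf K from hx)) ⟨y, hy⟩)

include hred hqs hgen hW1 in
theorem residual_le_image : Cfsg.pResidual p (E ⧸ C) ≤ W.map (QuotientGroup.mk' C) := by
  set K := Cfsg.pResidual p (E ⧸ C) with hK
  haveI : K.Normal := pResidual_normal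
  set π := QuotientGroup.mk' C
  haveI : (W.map π).Normal := (inferInstance : W.Normal).map π (QuotientGroup.mk'_surjective C)
  rcases normal_dichotomy C hqs (N := ⁅W.map π, K⁆) (Subgroup.commutator_le_right _ _)
      (Subgroup.le_normalizer_of_normal (H := ⁅W.map π, K⁆)) with h | h
  · exact h.trans (Subgroup.commutator_le_left _ _)
  · exfalso
    have h1 := centralizes_of_perfect (residual_perfect C hqs) h
    apply hW1
    refine hgen.trans ((Subgroup.closure_le _).2 ?_)
    rintro y ⟨hy, k, hk⟩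
    have hY := eq_bot_of_centralizes C hred hqs ((LESylow.isPGroup_zpowers hk).map π) (le_bot_iff.1 (h1 ▸
      Subgroup.commutator_mono (Subgroup.map_mono (Subgroup.zpowers_le.2 hy)) le_rfl))
    rw [MonoidHom.map_zpowers, Subgroup.zpowers_eq_bot] at hY
    exact (QuotientGroup.eq_one_iff y).1 hY

include hred hqs hgen hW1 in
theorem image_res : (LEJoin.res p W).map (QuotientGroup.mk' C) = Cfsg.pResidual p (E ⧸ C) := by
  set K := Cfsg.pResidual p (E ⧸ C) with hK
  rw [LEJoin.map_res]
  refine le_antisymm ((Subgroup.closure_le _).2 fun x hx => mem_pResidual hx.2) ?_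
  haveI := hqs.1
  have h1 := Components.pResidual_eq_top_of_perfect (p := p) (G := ↥K)
  have h2 : K ≤ (Cfsg.pResidual p ↥K).map K.subtype := by
    rw [h1, ← MonoidHom.range_eq_map, Subgroup.range_subtype]
  exact h2.trans (LEPReduced.pResidual_map_le fun x hx hxc =>
    LEJoin.mem_res (residual_le_image C W hred hqs hgen hW1 hx) hxc)

include hred in
theorem pCore_le : Cfsg.pCore p E ≤ C := by
  haveI := Cfsg.pCore_normal p E
  have h := le_pCore (Cfsg.pCore_normal p E |>.map (QuotientGroup.mk' C) (QuotientGroup.mk'_surjective C))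
    ((pCore_isPGroup (G := E) (p := p)).map (QuotientGroup.mk' C))
  rw [hred, le_bot_iff, Subgroup.map_eq_bot_iff, QuotientGroup.ker_mk'] at h
  exact h

instance res_normal : (LEJoin.res p W).Normal :=
  Subgroup.normalizer_eq_top_iff.1 (top_le_iff.1
    ((Subgroup.normalizer_eq_top_iff.2 (inferInstance : W.Normal)).ge.trans (LEJoin.normalizer_le_normalizer_res W)))

include hWC in
theorem comm_mem {c w : E} (hc : c ∈ C) (hw : w ∈ LEJoin.res p W) :
    ⁅c, w⁆ ∈ LEJoin.res p W ⊓ Cfsg.pCore p E := by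
  refine Subgroup.mem_inf.2 ⟨mul_mem ((res_normal W).conj_mem w hw c) (inv_mem hw), hWC ?_⟩
  rw [Subgroup.commutator_comm]
  exact Subgroup.commutator_mem_commutator hc (LEJoin.res_le W hw)

theorem res_le_of_le_sup {N : Subgroup E}
    (hn : LEJoin.res p W ≤ Subgroup.normalizer (N : Set E))
    (h : LEJoin.res p W ≤ N ⊔ (LEJoin.res p W ⊓ Cfsg.pCore p E)) : LEJoin.res p W ≤ N :=
  (Subgroup.closure_le _).2 fun _ hx => LEWeakClosed.mem_of_sup_pGroup (inf_le_left.trans hn)
    ((pCore_isPGroup (G := E) (p := p)).to_le inf_le_right) (h (LEJoin.mem_res hx.1 hx.2)) hx.2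

include hred hqs hgen hWC hW1 in
theorem res_commutator : ⁅LEJoin.res p W, LEJoin.res p W⁆ = LEJoin.res p W := by
  set R := LEJoin.res p W with hR
  haveI := Cfsg.pCore_normal p E
  refine le_antisymm (Subgroup.commutator_le_left _ _) ?_
  refine res_le_of_le_sup W (Subgroup.le_normalizer_of_normal (H := ⁅R, R⁆)) ?_
  set M := ⁅R, R⁆ ⊔ (R ⊓ Cfsg.pCore p E) with hM
  haveI : M.Normal := Subgroup.sup_normal _ _
  let q := QuotientGroup.mk' M
  -- the image of `R` in `E/M` is central in the image of `W`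
  have hcen : ∀ x ∈ R, ∀ y ∈ W, q x * q y = q y * q x := by
    intro x hx y hy
    have himg := image_res C W hred hqs hgen hW1
    have hxmap : QuotientGroup.mk' C x ∈ (⁅R, R⁆).map (QuotientGroup.mk' C) := by
      rw [Subgroup.map_commutator, himg, residual_perfect C hqs, ← himg]
      exact Subgroup.mem_map_of_mem _ hx
    obtain ⟨n, hn, hnx⟩ := hxmap
    have hc : n⁻¹ * x ∈ C := QuotientGroup.eq.1 hnx
    have hcR : n⁻¹ * x ∈ R := mul_mem (inv_mem (Subgroup.commutator_le_left _ _ hn)) hx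
    have hq : q x = q (n⁻¹ * x) := by
      rw [map_mul, map_inv, (show q n = 1 from (QuotientGroup.eq_one_iff n).2 (Subgroup.mem_sup_left hn)), inv_one, one_mul]
    rw [hq, ← commutatorElement_eq_one_iff_mul_comm, ← map_commutatorElement]
    refine (QuotientGroup.eq_one_iff _).2 (Subgroup.mem_sup_right (Subgroup.mem_inf.2 ⟨?_, ?_⟩))
    · exact Subgroup.commutator_le_left R ⊤ (Subgroup.commutator_mem_commutator hcR (Subgroup.mem_top y))
    · refine hWC ?_
      rw [Subgroup.commutator_comm]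
      exact Subgroup.commutator_mem_commutator hc hy
  have hp : IsPGroup p ↥(W.map q) := by
    refine isPGroup_of_central ?_ ?_
    · refine (Subgroup.map_mono hgen).trans ?_
      rw [MonoidHom.map_closure, Subgroup.closure_le]
      rintro _ ⟨y, ⟨hy, k, hk⟩, rfl⟩
      obtain ⟨j, -, hj⟩ := (Nat.dvd_prime_pow (Fact.out : p.Prime)).1 (hk ▸ orderOf_map_dvd q y)
      exact Subgroup.subset_closure ⟨Subgroup.mem_map_of_mem q hy, j, hj⟩
    · intro x hx hxc y hy
      have hxR : x ∈ (R.map q) := by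
        rw [hR, LEJoin.map_res]; exact LEJoin.mem_res hx hxc
      obtain ⟨a, ha, rfl⟩ := hxR
      obtain ⟨b, hb, rfl⟩ := hy
      exact hcen a ha b hb
  refine (Subgroup.closure_le _).2 fun x hx => (QuotientGroup.eq_one_iff x).1 ?_
  exact PBasic.eq_one_of_isPGroup_of_coprime hp (Subgroup.mem_map_of_mem q hx.1)
    (Nat.Coprime.coprime_dvd_left (orderOf_map_dvd q x) hx.2)

include hred hqs hgen hWC hW1 in
/-- A subgroup of `O^p(W)` normalized by it that covers the image is everything. -/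
theorem res_le_of_covers {N : Subgroup E} (hNR : N ≤ LEJoin.res p W)
    (hn : LEJoin.res p W ≤ Subgroup.normalizer (N : Set E))
    (hcov : Cfsg.pResidual p (E ⧸ C) ≤ N.map (QuotientGroup.mk' C)) : LEJoin.res p W ≤ N := by
  set R := LEJoin.res p W with hR
  haveI := Cfsg.pCore_normal p E
  refine res_le_of_le_sup W hn ?_
  set D := R ⊓ Cfsg.pCore p E with hD
  set M := N ⊔ D with hM
  haveI : D.Normal := Subgroup.normal_inf_normal _ _
  have hMn : R ≤ Subgroup.normalizer (M : Set E) := by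
    refine LEAmalgam.le_normalizer_of_conj fun g hg => ?_
    rw [hM, Subgroup.map_sup, map_conj_eq_iff_mem_normalizer.2 (hn hg),
      map_conj_eq_iff_mem_normalizer.2 (Subgroup.le_normalizer_of_normal (H := D) (K := ⊤) (Subgroup.mem_top g))]
  refine (res_commutator C W hred hqs hgen hWC hW1).ge.trans ?_
  rw [Subgroup.commutator_le]
  intro x hx y hy
  obtain ⟨n, hn', hnx⟩ := hcov ((image_res C W hred hqs hgen hW1).le (Subgroup.mem_map_of_mem _ hx))
  set c := n⁻¹ * x with hc
  have hcC : c ∈ C := QuotientGroup.eq.1 hnx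
  have h1 : ⁅c, y⁆ ∈ M := Subgroup.mem_sup_right (comm_mem C W hWC hcC hy)
  have e : ⁅x, y⁆ = n * ⁅c, y⁆ * n⁻¹ * ⁅n, y⁆ := by
    simp [hc, commutatorElement_def, mul_assoc]
  rw [e]
  refine mul_mem ((Subgroup.mem_normalizer_iff.1 (hMn (hNR hn')) _).1 h1) (Subgroup.mem_sup_left ?_)
  have h2 := (Subgroup.mem_normalizer_iff.1 (hn hy) n⁻¹).1 (inv_mem hn')
  rw [commutatorElement_def, mul_assoc n y, mul_assoc n]
  exact mul_mem hn' h2

include hred hqs hgen hWC hW1 in
theorem commutator_eq {Y : Subgroup E} (hY : IsPGroup p ↥Y) (hYC : ¬ Y ≤ C) :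
    ⁅LEJoin.res p W, Y⁆ = LEJoin.res p W := by
  set R := LEJoin.res p W with hR
  have hNR : ⁅R, Y⁆ ≤ R := Subgroup.commutator_le_left _ _
  have hn : R ≤ Subgroup.normalizer ((⁅R, Y⁆ : Subgroup E) : Set E) := by
    refine LEAmalgam.le_normalizer_of_conj fun g hg => ?_
    rw [Subgroup.map_le_iff_le_comap, Subgroup.commutator_le]
    intro a ha y hy
    show g * ⁅a, y⁆ * g⁻¹ ∈ ⁅R, Y⁆
    have e : g * ⁅a, y⁆ * g⁻¹ = ⁅g * a, y⁆ * ⁅g, y⁆⁻¹ := by simp [commutatorElement_def, mul_assoc]
    rw [e]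
    exact mul_mem (Subgroup.commutator_mem_commutator (mul_mem hg ha) hy)
      (inv_mem (Subgroup.commutator_mem_commutator hg hy))
  refine le_antisymm hNR (res_le_of_covers C W hred hqs hgen hWC hW1 hNR hn ?_)
  set π := QuotientGroup.mk' C
  have himg := image_res C W hred hqs hgen hW1
  have hmap := Subgroup.map_mono (f := π) hn
  rw [himg] at hmap
  rcases normal_dichotomy C hqs (N := (⁅R, Y⁆).map π) ((Subgroup.map_mono hNR).trans himg.le)
      (hmap.trans (Subgroup.le_normalizer_map _)) with h | h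
  · exact h
  · exfalso
    rw [Subgroup.map_commutator, himg] at h
    have h1 := centralizes_of_perfect (residual_perfect C hqs) (A := Y.map π)
      (by rw [Subgroup.commutator_comm (Y.map π)]; exact h)
    exact hYC (by
      have := eq_bot_of_centralizes C hred hqs (hY.map π) h1
      rwa [Subgroup.map_eq_bot_iff, QuotientGroup.ker_mk'] at this)

include hred hqs hgen hWC hW1 in
theorem quasisimple_quotient_pCore :
    Cfsg.IsQuasisimple (↥(LEJoin.res p W) ⧸ Cfsg.pCore p ↥(LEJoin.res p W)) := by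
  set R := LEJoin.res p W with hR
  haveI := Cfsg.pCore_normal p ↥R
  haveI := perfect_of_commutator (res_commutator C W hred hqs hgen hWC hW1)
  set π := QuotientGroup.mk' C
  set O := Cfsg.pCore p ↥R with hO
  let f : ↥R →* ↥(Cfsg.pResidual p (E ⧸ C)) := (π.comp R.subtype).codRestrict _ fun x =>
    (image_res C W hred hqs hgen hW1).le (Subgroup.mem_map_of_mem π x.2)
  have hf : Function.Surjective f := fun y => by
    obtain ⟨x, hx, e⟩ := (image_res C W hred hqs hgen hW1).ge y.2
    exact ⟨⟨x, hx⟩, Subtype.ext e⟩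
  have hOf : O ≤ f.ker := fun x hx => by
    refine Subtype.ext ((QuotientGroup.eq_one_iff (x : E)).2 (pCore_le C hred ?_))
    exact pCoreMap_le_pCore ⟨x, hx, rfl⟩
  haveI hp : Group.IsPerfect (↥R ⧸ O) := Group.IsPerfect.ofSurjective (f := QuotientGroup.mk' O) (QuotientGroup.mk'_surjective O)
  refine quasisimple_of_central hp hqs (QuotientGroup.lift O f hOf)
    (QuotientGroup.lift_surjective_of_surjective _ _ hf _) ?_
  intro x hx
  induction x using QuotientGroup.induction_on with
  | H a =>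
    rw [Subgroup.mem_center_iff]
    intro y
    induction y using QuotientGroup.induction_on with
    | H b =>
      have haC : (a : E) ∈ C := (QuotientGroup.eq_one_iff (a : E)).1 (congrArg Subtype.val hx)
      symm
      rw [← commutatorElement_eq_one_iff_mul_comm]
      show (QuotientGroup.mk' O) a * (QuotientGroup.mk' O) b * ((QuotientGroup.mk' O) a)⁻¹ *
        ((QuotientGroup.mk' O) b)⁻¹ = 1
      rw [← map_inv, ← map_inv, ← map_mul, ← map_mul, ← map_mul]
      refine (QuotientGroup.eq_one_iff _).2 ?_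
      have hD := comm_mem C W hWC haC b.2
      haveI := Cfsg.pCore_normal p E
      exact le_pCore ((Cfsg.pCore_normal p E).comap R.subtype)
        ((pCore_isPGroup (G := E) (p := p)).comap_of_injective R.subtype R.subtype_injective)
        (show (a * b * a⁻¹ * b⁻¹ : ↥R) ∈ (Cfsg.pCore p E).subgroupOf R from (Subgroup.mem_inf.1 hD).2)

end Main

end Cfsg.Agent.LELargeQS

namespace Cfsg.Agent.LELargeQS

open Cfsg.Agent.LEBasic
open scoped commutatorElement

variable {G : Type*} [Group G] [Finite G] {p : ℕ} [Fact p.Prime] {Q : Subgroup G}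

/-- The centralizer of a `Q`-invariant nontrivial `p`-group normalizes the large subgroup `Q`. -/
theorem centralizer_le_normalizer_large (hQp : IsPGroup p ↥Q) (hQ1 : Q ≠ ⊥) (hL : Cfsg.IsLarge Q)
    {U : Subgroup G} (hU : IsPGroup p ↥U) (hQU : Q ≤ Subgroup.normalizer (U : Set G)) (hU1 : U ≠ ⊥) :
    Subgroup.centralizer (U : Set G) ≤ Subgroup.normalizer (Q : Set G) := by
  obtain ⟨y, hy1, hy, -⟩ := LELarge.exists_y hQp hQ1 hL hU hQU hU1
  have hne : U ⊓ Subgroup.centralizer (Q : Set G) ≠ ⊥ := fun h => hy1 (by rwa [h, Subgroup.mem_bot] at hy)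
  refine le_trans ?_ (hL.2 _ inf_le_right hne)
  exact (Subgroup.centralizer_le (fun x hx => (Subgroup.mem_inf.1 hx).1)).trans
    (Subgroup.centralizer_le_normalizer _)

theorem transfer (hQp : IsPGroup p ↥Q) (hQ1 : Q ≠ ⊥) (hQ : Cfsg.IsLarge Q) {U : Subgroup G} (hU : IsPGroup p ↥U)
    (hU1 : U ≠ ⊥) {E : Subgroup G} (hQE : Q ≤ E) (hEU : E ≤ Subgroup.normalizer (U : Set G))
    (hQn : ¬ E ≤ Subgroup.normalizer (Q : Set G))
    [hn : ((Subgroup.centralizer (U : Set G)).subgroupOf E).Normal] :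
    ((Cfsg.weakClosure Q E).subgroupOf E).Normal ∧
    ((Cfsg.weakClosure Q E).subgroupOf E ≤ Subgroup.closure
        {y | y ∈ (Cfsg.weakClosure Q E).subgroupOf E ∧ ∃ k : ℕ, orderOf y = p ^ k}) ∧
    ⁅(Cfsg.weakClosure Q E).subgroupOf E, (Subgroup.centralizer (U : Set G)).subgroupOf E⁆ ≤ Cfsg.pCore p ↥E ∧
    ¬ (Cfsg.weakClosure Q E).subgroupOf E ≤ (Subgroup.centralizer (U : Set G)).subgroupOf E := by
  set C := Subgroup.centralizer (U : Set G) with hC
  set W := Cfsg.weakClosure Q E with hW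
  have hwc := LEWeakClosed.weaklyClosed_of_isLarge hQp hQ1 hQ
  have hQU : Q ≤ Subgroup.normalizer (U : Set G) := hQE.trans hEU
  haveI hWn : (W.subgroupOf E).Normal := (Subgroup.normal_subgroupOf_iff_le_normalizer
    (LEWeakClosed.weakClosure_le E)).2 (Subgroup.le_normalizer.trans (LEWeakClosed.le_normalizer_weakClosure E))
  set Q₀ := Q.subgroupOf E with hQ₀
  have hmin : ∀ N : Subgroup ↥E, N.Normal → Q₀ ≤ N → W.subgroupOf E ≤ N := by
    intro N hN hQN x hx
    have h1 : W ≤ N.map E.subtype := by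
      rw [hW, LEWeakClosed.weakClosure_eq_iSup hQp hwc hQE]
      refine iSup_le fun k => ?_
      rintro _ ⟨q, hq, rfl⟩
      exact ⟨k * ⟨q, hQE hq⟩ * k⁻¹, hN.conj_mem ⟨q, hQE hq⟩ (hQN (show (⟨q, hQE hq⟩ : ↥E) ∈ Q₀ from hq)) k, rfl⟩
    obtain ⟨y, hy, e⟩ := h1 hx
    rwa [← show y = x from E.subtype_injective e]
  have hQW : Q₀ ≤ W.subgroupOf E := fun x hx => LEWeakClosed.le_weakClosure hQE hx
  refine ⟨hWn, ?_, ?_, ?_⟩
  · refine hmin _ ⟨fun x hx g => ?_⟩ fun x hx => ?_
    · have h1 : (Subgroup.closure {y : ↥E | y ∈ W.subgroupOf E ∧ ∃ k : ℕ, orderOf y = p ^ k}).map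
          (MulAut.conj g).toMonoidHom ≤ Subgroup.closure {y : ↥E | y ∈ W.subgroupOf E ∧ ∃ k : ℕ, orderOf y = p ^ k} := by
        rw [MonoidHom.map_closure, Subgroup.closure_le]
        rintro _ ⟨y, ⟨hy, k, hk⟩, rfl⟩
        refine Subgroup.subset_closure ⟨hWn.conj_mem y hy g, k, ?_⟩
        rw [orderOf_injective (MulAut.conj g).toMonoidHom (MulAut.conj g).injective]
        exact hk
      exact h1 ⟨x, hx, rfl⟩
    · obtain ⟨k, hk⟩ := IsPGroup.iff_orderOf.1 (hQp.comap_of_injective E.subtype E.subtype_injective) ⟨x, hx⟩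
      exact Subgroup.subset_closure ⟨hQW hx, k, (Subgroup.orderOf_coe (⟨x, hx⟩ : ↥Q₀)).trans hk⟩
  · haveI := Cfsg.pCore_normal p ↥E
    let π := QuotientGroup.mk' (Cfsg.pCore p ↥E)
    haveI : ((C.subgroupOf E).map π).Normal := hn.map π (QuotientGroup.mk'_surjective _)
    have hnormC : C.subgroupOf E ≤ Subgroup.normalizer (Q₀ : Set ↥E) := fun c hc => by
      rw [← map_conj_eq_iff_mem_normalizer]
      refine Subgroup.eq_of_le_of_card_ge ?_ (card_map_conj _ c).ge
      rintro _ ⟨q, hq, rfl⟩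
      exact (Subgroup.mem_normalizer_iff.1
        (centralizer_le_normalizer_large hQp hQ1 hQ hU hQU hU1 hc) (q : G)).1 hq
    set X := (Subgroup.centralizer (((C.subgroupOf E).map π : Subgroup _) : Set (↥E ⧸ Cfsg.pCore p ↥E))).comap π
    have hQX : Q₀ ≤ X := by
      intro q hq
      rw [Subgroup.mem_comap, Subgroup.mem_centralizer_iff]
      rintro _ ⟨c, hc, rfl⟩
      rw [← commutatorElement_eq_one_iff_mul_comm, ← map_commutatorElement]
      refine (QuotientGroup.eq_one_iff _).2 ?_
      have hP : IsPGroup p ↥(Q₀ ⊓ C.subgroupOf E) :=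
        (hQp.comap_of_injective E.subtype E.subtype_injective).to_le inf_le_left
      refine pCoreMap_le_pCore (N := C.subgroupOf E) (le_pCoreMap inf_le_right
        ((le_inf hnormC Subgroup.le_normalizer).trans (LELarge.inf_normalizer_le _ _)) hP
        (Subgroup.mem_inf.2 ⟨?_, ?_⟩))
      · exact mul_mem ((Subgroup.mem_normalizer_iff.1 (hnormC hc) q).1 hq) (inv_mem hq)
      · have e : ⁅c, q⁆ = c * (q * c⁻¹ * q⁻¹) := by simp [commutatorElement_def, mul_assoc]
        rw [e]
        exact mul_mem hc (hn.conj_mem _ (inv_mem hc) q)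
    have hX : W.subgroupOf E ≤ X := hmin X inferInstance hQX
    rw [Subgroup.commutator_le]
    intro w hw c hc
    refine (QuotientGroup.eq_one_iff _).1 ?_
    show π ⁅w, c⁆ = 1
    rw [map_commutatorElement, commutatorElement_eq_one_iff_mul_comm]
    exact (Subgroup.mem_centralizer_iff.1 (hX hw) _ (Subgroup.mem_map_of_mem π hc)).symm
  · intro h
    have hQC : Q ≤ C := fun q hq => h (hQW (show (⟨q, hQE hq⟩ : ↥E) ∈ Q₀ from hq))
    have hUQ : U ≤ Subgroup.centralizer (Q : Set G) := fun u hu => Subgroup.mem_centralizer_iff.2 fun q hq =>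
      (Subgroup.mem_centralizer_iff.1 (hQC hq) u hu).symm
    exact hQn (hEU.trans (hQ.2 U hUQ hU1))

end Cfsg.Agent.LELargeQS
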