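/-
Kieler's lemma in a group of local characteristic `p`, and the point stabilizers of subnormal subgroups.
-/
import Cfsg.Prelude.Def_LocalEven
import Cfsg.Agent.Lib.LocalEven.Kieler
import Cfsg.Agent.Lib.LocalEven.JoinSylow
import Cfsg.Agent.Lib.LocalEven.Amalgam

set_option autoImplicit false
set_option linter.unusedSectionVars false
set_option linter.style.haveILetI false

namespace Cfsg.Agent.LEPointStab

open Cfsg.Agent.LEBasic Cfsg.Agent.LEKieler

variable {G : Type*} [Group G] [Finite G] {p : ℕ} [Fact p.Prime]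

theorem map_oz {X Z : Subgroup G} (hZ : Z ≤ X) : (oz p (Z.subgroupOf X)).map X.subtype = oz p Z := by
  rw [oz, Cfsg.omegaOne, MonoidHom.map_closure]
  congr 1
  ext x
  constructor
  · rintro ⟨y, ⟨hy, hyp⟩, rfl⟩
    obtain ⟨hy1, hy2⟩ := Subgroup.mem_inf.1 hy
    exact ⟨Subgroup.mem_inf.2 ⟨hy1, Subgroup.mem_centralizer_iff.2 fun z hz =>
      congrArg Subtype.val (Subgroup.mem_centralizer_iff.1 hy2 ⟨z, hZ hz⟩ hz)⟩, congrArg Subtype.val hyp⟩
  · rintro ⟨hx, hxp⟩
    obtain ⟨hx1, hx2⟩ := Subgroup.mem_inf.1 hx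
    exact ⟨⟨x, hZ hx1⟩, ⟨Subgroup.mem_inf.2 ⟨hx1, Subgroup.mem_centralizer_iff.2 fun z hz =>
      Subtype.ext (Subgroup.mem_centralizer_iff.1 hx2 z hz)⟩, Subtype.ext hxp⟩, rfl⟩

theorem inf_centralizer_iff {X A : Subgroup G} {A' : Subgroup ↥X} (h : A'.map X.subtype = A) (x : ↥X) :
    x ∈ Subgroup.centralizer (A' : Set ↥X) ↔ (x : G) ∈ Subgroup.centralizer (A : Set G) := by
  subst h
  rw [Subgroup.mem_centralizer_iff, Subgroup.mem_centralizer_iff]
  constructor
  · rintro h _ ⟨a, ha, rfl⟩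
    exact congrArg Subtype.val (h a ha)
  · exact fun h a ha => Subtype.ext (h _ ⟨a, ha, rfl⟩)

/-- Kieler's lemma inside a subgroup of characteristic `p` containing the Sylow subgroup. -/
theorem kieler_in {X : Subgroup G} (hX : CharP.IsCharP p ↥X) (T : Sylow p G) (hTX : (T : Subgroup G) ≤ X)
    {L : Subgroup G} (hL : L ≤ X) (hLsn : (L.subgroupOf X).IsSubnormal) :
    L ⊓ Subgroup.centralizer (oz p (T : Subgroup G) : Set G) =
      L ⊓ Subgroup.centralizer (oz p ((T : Subgroup G) ⊓ L) : Set G) := by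
  have h := kieler hX (T.subtype hTX) hLsn
  rw [Sylow.coe_subtype] at h
  have e1 := map_oz (p := p) hTX
  have e2 : (oz p ((T : Subgroup G).subgroupOf X ⊓ L.subgroupOf X)).map X.subtype =
      oz p ((T : Subgroup G) ⊓ L) := by
    rw [show (T : Subgroup G).subgroupOf X ⊓ L.subgroupOf X = ((T : Subgroup G) ⊓ L).subgroupOf X from rfl]
    exact map_oz (inf_le_right.trans hL)
  ext x
  simp only [Subgroup.mem_inf]
  refine and_congr_right fun hx => ?_
  rw [← inf_centralizer_iff e1 ⟨x, hL hx⟩, ← inf_centralizer_iff e2 ⟨x, hL hx⟩]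
  constructor
  · intro hc; exact (Subgroup.mem_inf.1 (h.le (Subgroup.mem_inf.2 ⟨hx, hc⟩))).2
  · intro hc; exact (Subgroup.mem_inf.1 (h.ge (Subgroup.mem_inf.2 ⟨hx, hc⟩))).2

variable (hH : Cfsg.IsOfLocalCharacteristic p G)
include hH

theorem charP_centralizer {B : Subgroup G} (hB : IsPGroup p ↥B) (hB1 : B ≠ ⊥) :
    CharP.IsCharP p ↥(Subgroup.centralizer (B : Set G)) :=
  CharP.isCharP_of_normalized (hH.2 B hB hB1) (Subgroup.centralizer_le_normalizer _)
    (LELarge.normalizer_le_normalizer_centralizer B)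

theorem kieler_normal (T : Sylow p G) {L : Subgroup G} [hLn : L.Normal]
    (hTL : (T : Subgroup G) ⊓ L ≠ ⊥) :
    L ⊓ Subgroup.centralizer (oz p (T : Subgroup G) : Set G) =
      L ⊓ Subgroup.centralizer (oz p ((T : Subgroup G) ⊓ L) : Set G) := by
  have hL : L.IsSubnormal := Subgroup.Normal.isSubnormal hLn
  set A := oz p (T : Subgroup G) with hA
  set B := oz p ((T : Subgroup G) ⊓ L) with hB
  have hne : ∀ S : Subgroup G, IsPGroup p ↥S → S ≠ ⊥ → oz p S ≠ ⊥ := by
    intro S hS hS1 h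
    obtain ⟨z, hz, hzp, hzc⟩ := LESylow.exists_central_orderOf hS hS1
    have h1 : z ∈ oz p S := mem_oz hz (fun t ht => by rw [hzc t ht, mul_inv_cancel_right])
      (by rw [← hzp, pow_orderOf_eq_one])
    rw [h, Subgroup.mem_bot] at h1
    rw [h1, orderOf_one] at hzp
    exact (Fact.out : p.Prime).one_lt.ne hzp
  have hT1 : (T : Subgroup G) ≠ ⊥ := fun h => hTL (by rw [h, bot_inf_eq])
  have hA1 : A ≠ ⊥ := hne _ T.2 hT1
  have hB1 : B ≠ ⊥ := hne _ (T.2.to_le inf_le_left) hTL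
  have hAp : IsPGroup p ↥A := T.2.to_le ((oz_le _).trans inf_le_left)
  have hBp : IsPGroup p ↥B := T.2.to_le ((oz_le _).trans (inf_le_left.trans inf_le_left))
  refine le_antisymm ?_ ?_
  · -- inside `C(A)`
    set X := Subgroup.centralizer (A : Set G) with hX
    have hTX : (T : Subgroup G) ≤ X := Subgroup.le_centralizer_iff.1 ((oz_le _).trans inf_le_right)
    have h := kieler_in (charP_centralizer hH hAp hA1) T hTX (inf_le_right : L ⊓ X ≤ X)
      (by rw [Subgroup.inf_subgroupOf_right]; exact hL.subgroupOf)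
    have e : (T : Subgroup G) ⊓ (L ⊓ X) = (T : Subgroup G) ⊓ L :=
      le_antisymm (inf_le_inf_left _ inf_le_left) (le_inf inf_le_left (le_inf inf_le_right (inf_le_left.trans hTX)))
    rw [e] at h
    refine le_inf inf_le_left fun x hx => ?_
    exact (Subgroup.mem_inf.1 (h.le (Subgroup.mem_inf.2 ⟨hx, (Subgroup.mem_inf.1 hx).2⟩))).2
  · -- inside `N(B)`
    set Y := Subgroup.normalizer (B : Set G) with hY
    have hTn : ∀ L : Subgroup G, L.IsSubnormal → L ⊓ Subgroup.centralizer (B : Set G) ≤ Y :=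
      fun L _ => inf_le_right.trans (Subgroup.centralizer_le_normalizer _)
    have hTY : (T : Subgroup G) ≤ Y := by
      refine le_trans ?_ le_normalizer_oz
      exact (le_inf Subgroup.le_normalizer Subgroup.le_normalizer_of_normal).trans
        Subgroup.inf_normalizer_le_normalizer_inf
    have h := kieler_in (hH.2 B hBp hB1) T hTY (inf_le_right : L ⊓ Y ≤ Y)
      (by rw [Subgroup.inf_subgroupOf_right]; exact hL.subgroupOf)
    have e : (T : Subgroup G) ⊓ (L ⊓ Y) = (T : Subgroup G) ⊓ L :=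
      le_antisymm (inf_le_inf_left _ inf_le_left) (le_inf inf_le_left (le_inf inf_le_right (inf_le_left.trans hTY)))
    rw [e] at h
    refine le_inf inf_le_left fun x hx => ?_
    exact (Subgroup.mem_inf.1 (h.ge (Subgroup.mem_inf.2
      ⟨Subgroup.mem_inf.2 ⟨(Subgroup.mem_inf.1 hx).1, hTn L hL hx⟩, (Subgroup.mem_inf.1 hx).2⟩))).2

theorem localChar_subnormal {B : Subgroup G} (hB : B.IsSubnormal) (hd : p ∣ Nat.card ↥B) :
    Cfsg.IsOfLocalCharacteristic p ↥B := by
  refine ⟨hd, fun P hP hP1 => ?_⟩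
  set P' := P.map B.subtype with hP'
  have hP'1 : P' ≠ ⊥ := fun h => hP1 ((Subgroup.map_eq_bot_iff_of_injective _ B.subtype_injective).1 h)
  set N := Subgroup.normalizer (P' : Set G) with hN
  have hN' : CharP.IsCharP p ↥N := hH.2 P' (hP.map _) hP'1
  have h1 : CharP.IsCharP p ↥(B.subgroupOf N) := CharP.isCharP_of_isSubnormal hN' hB.subgroupOf
  have hmap : (Subgroup.normalizer (P : Set ↥B)).map B.subtype = B ⊓ N := by
    ext x
    constructor
    · intro hx
      exact Subgroup.mem_inf.2 ⟨Subgroup.map_subtype_le _ hx, Subgroup.le_normalizer_map _ hx⟩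
    · intro hx
      obtain ⟨hxB, hxN⟩ := Subgroup.mem_inf.1 hx
      refine ⟨⟨x, hxB⟩, Subgroup.mem_normalizer_iff.2 fun y => ?_, rfl⟩
      have := Subgroup.mem_normalizer_iff.1 hxN (y : G)
      constructor
      · intro hy
        obtain ⟨z, hz, hzy⟩ := this.1 ⟨y, hy, rfl⟩
        rwa [show (⟨x, hxB⟩ : ↥B) * y * (⟨x, hxB⟩ : ↥B)⁻¹ = z from Subtype.ext hzy.symm]
      · intro hy
        obtain ⟨z, hz, hzy⟩ := this.2 ⟨_, hy, rfl⟩
        rwa [show y = z from Subtype.ext hzy.symm]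
  have e1 : ↥(B.subgroupOf N) ≃* ↥(B ⊓ N) :=
    (Subgroup.equivMapOfInjective _ N.subtype N.subtype_injective).trans
      (MulEquiv.subgroupCongr (by rw [Subgroup.subgroupOf_map_subtype]))
  have e2 : ↥(Subgroup.normalizer (P : Set ↥B)) ≃* ↥(B ⊓ N) :=
    (Subgroup.equivMapOfInjective _ B.subtype B.subtype_injective).trans (MulEquiv.subgroupCongr hmap)
  exact CharP.isCharP_congr (e1.trans e2.symm) h1

theorem kieler_local (T : Sylow p G) {L : Subgroup G} (hL : L.IsSubnormal)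
    (hTL : (T : Subgroup G) ⊓ L ≠ ⊥) :
    L ⊓ Subgroup.centralizer (oz p (T : Subgroup G) : Set G) =
      L ⊓ Subgroup.centralizer (oz p ((T : Subgroup G) ⊓ L) : Set G) := by
  induction hL with
  | top => rw [inf_top_eq]
  | step A B hAB hB hn ih =>
    have hTB : (T : Subgroup G) ⊓ B ≠ ⊥ := fun h => hTL (eq_bot_iff.2 (h ▸ inf_le_inf_left _ hAB))
    have hdB : p ∣ Nat.card ↥B :=
      (LESylow.dvd_card_of_ne_bot (T.2.to_le inf_le_left) hTB).trans (Subgroup.card_dvd_of_le inf_le_right)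
    obtain ⟨P, hP⟩ := (LEJoin.isSyl_inf T hB).toSylow
    haveI := hn
    have eP : (P : Subgroup ↥B) ⊓ A.subgroupOf B = ((T : Subgroup G) ⊓ A).subgroupOf B := by
      rw [hP]
      ext x
      simp only [Subgroup.mem_inf, Subgroup.mem_subgroupOf]
      exact ⟨fun h => ⟨h.1.1, h.2⟩, fun h => ⟨⟨h.1, x.2⟩, h.2⟩⟩
    have hne : (P : Subgroup ↥B) ⊓ A.subgroupOf B ≠ ⊥ := by
      rw [eP]
      intro h
      apply hTL
      rw [← Subgroup.map_subgroupOf_eq_of_le (inf_le_right.trans hAB : (T : Subgroup G) ⊓ A ≤ B), h, Subgroup.map_bot]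
    have hk := kieler_normal (localChar_subnormal hH hB hdB) P (L := A.subgroupOf B) hne
    rw [hP] at hk
    have e1 := map_oz (p := p) (inf_le_right : (T : Subgroup G) ⊓ B ≤ B)
    have e2 := map_oz (p := p) (inf_le_right.trans hAB : (T : Subgroup G) ⊓ A ≤ B)
    rw [hP] at eP
    rw [eP] at hk
    have hAeq : A ⊓ Subgroup.centralizer (oz p ((T : Subgroup G) ⊓ B) : Set G) =
        A ⊓ Subgroup.centralizer (oz p ((T : Subgroup G) ⊓ A) : Set G) := by
      ext x
      simp only [Subgroup.mem_inf]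
      refine and_congr_right fun hx => ?_
      rw [← inf_centralizer_iff e1 ⟨x, hAB hx⟩, ← inf_centralizer_iff e2 ⟨x, hAB hx⟩]
      constructor
      · intro hc; exact (Subgroup.mem_inf.1 (hk.le (Subgroup.mem_inf.2 ⟨hx, hc⟩))).2
      · intro hc; exact (Subgroup.mem_inf.1 (hk.ge (Subgroup.mem_inf.2 ⟨hx, hc⟩))).2
    rw [← hAeq]
    calc A ⊓ Subgroup.centralizer (oz p (T : Subgroup G) : Set G)
        = A ⊓ (B ⊓ Subgroup.centralizer (oz p (T : Subgroup G) : Set G)) := by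
          rw [← inf_assoc, inf_eq_left.2 hAB]
      _ = _ := by rw [ih hTB, ← inf_assoc, inf_eq_left.2 hAB]

omit hH in
/-- A subnormal subgroup containing a Sylow subgroup contains every `p`-element. -/
theorem mem_of_subnormal {M : Subgroup G} (hM : M.IsSubnormal) (T : Sylow p G) (hT : (T : Subgroup G) ≤ M)
    {x : G} {k : ℕ} (hx : orderOf x = p ^ k) : x ∈ M := by
  induction hM with
  | top => exact Subgroup.mem_top x
  | step A B hAB _ hn ih =>
    have hxB : x ∈ B := ih (hT.trans hAB)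
    haveI := hn
    have h1 : orderOf ((⟨x, hxB⟩ : ↥B) : ↥B ⧸ A.subgroupOf B) ∣ p ^ k := by
      rw [← hx, ← Subgroup.orderOf_mk x hxB]
      exact orderOf_map_dvd (QuotientGroup.mk' (A.subgroupOf B)) _
    have h2 : orderOf ((⟨x, hxB⟩ : ↥B) : ↥B ⧸ A.subgroupOf B) ∣ A.relIndex B := orderOf_dvd_natCard _
    have h3 : ¬ p ∣ A.relIndex B := fun hd => T.not_dvd_index
      (hd.trans ((Dvd.intro _ (Subgroup.relIndex_mul_index hAB)).trans (Subgroup.index_dvd_of_le hT)))
    have h4 := Nat.eq_one_of_dvd_coprimes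
      (Nat.Coprime.pow_left k ((Fact.out : p.Prime).coprime_iff_not_dvd.2 h3)) h1 h2
    exact ((QuotientGroup.eq_one_iff _).1 (orderOf_eq_one_iff.1 h4) : (⟨x, hxB⟩ : ↥B) ∈ A.subgroupOf B)

/-- The point stabilizer of a subnormal subgroup. -/
theorem pointStabilizer_eq (T : Sylow p G) {L : Subgroup G} (hL : L.IsSubnormal) :
    Cfsg.pointStabilizer p L ((T : Subgroup G) ⊓ L) =
      Cfsg.pElementClosure p (L ⊓ Subgroup.centralizer (oz p (T : Subgroup G) : Set G)) := by
  rcases eq_or_ne ((T : Subgroup G) ⊓ L) ⊥ with h | h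
  · have hno : ∀ x ∈ L, (∃ k : ℕ, orderOf x = p ^ k) → x = 1 := by
      rintro x hx ⟨k, hk⟩
      obtain ⟨P, hP⟩ := (LEJoin.isSyl_inf T hL).toSylow
      obtain ⟨m, hm, hle⟩ := LESylow.exists_conj_le_of_le (Subgroup.zpowers_le.2 hx) (LESylow.isPGroup_zpowers hk) P
      rw [hP, Subgroup.map_subgroupOf_eq_of_le inf_le_right, h] at hle
      have h1 := hle ⟨x, Subgroup.mem_zpowers x, rfl⟩
      rw [Subgroup.mem_bot] at h1
      exact (MulAut.conj m).injective (h1.trans (map_one (MulAut.conj m)).symm)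
    have h1 : Cfsg.pointStabilizer p L ((T : Subgroup G) ⊓ L) = ⊥ :=
      Subgroup.closure_eq_bot_iff.2 fun x hx => hno x (Subgroup.mem_inf.1 hx.1).1 hx.2
    have h2 : Cfsg.pElementClosure p (L ⊓ Subgroup.centralizer (oz p (T : Subgroup G) : Set G)) = ⊥ :=
      Subgroup.closure_eq_bot_iff.2 fun x hx => hno x (Subgroup.mem_inf.1 hx.1).1 hx.2
    rw [h1, h2]
  · rw [kieler_local hH T hL h]
    rfl

theorem pointStabilizer_sup (T : Sylow p G) {L₁ L₂ : Subgroup G} (h₁ : L₁.IsSubnormal) (h₂ : L₂.IsSubnormal) :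
    Cfsg.pointStabilizer p (L₁ ⊔ L₂) ((T : Subgroup G) ⊓ (L₁ ⊔ L₂)) =
      Cfsg.pointStabilizer p L₁ ((T : Subgroup G) ⊓ L₁) ⊔ Cfsg.pointStabilizer p L₂ ((T : Subgroup G) ⊓ L₂) := by
  have hL := LEWielandt.sup h₁ h₂
  rw [pointStabilizer_eq hH T hL, pointStabilizer_eq hH T h₁, pointStabilizer_eq hH T h₂]
  set C := Subgroup.centralizer (oz p (T : Subgroup G) : Set G) with hC
  set K := (L₁ ⊔ L₂) ⊓ C with hK
  set X := Cfsg.pElementClosure p (L₁ ⊓ C) ⊔ Cfsg.pElementClosure p (L₂ ⊓ C) with hX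
  have hmono : ∀ {L : Subgroup G}, L ≤ L₁ ⊔ L₂ →
      Cfsg.pElementClosure p (L ⊓ C) ≤ Cfsg.pElementClosure p K := fun hle =>
    Subgroup.closure_mono fun x hx => ⟨inf_le_inf_right C hle hx.1, hx.2⟩
  refine le_antisymm ?_ (sup_le (hmono le_sup_left) (hmono le_sup_right))
  have hle : ∀ L : Subgroup G, Cfsg.pElementClosure p L ≤ L := fun L => (Subgroup.closure_le _).2 fun _ hx => hx.1
  have hXK : X ≤ K := sup_le ((hle _).trans (inf_le_inf_right C le_sup_left)) ((hle _).trans (inf_le_inf_right C le_sup_right))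
  have hsn : ∀ L : Subgroup G, L.IsSubnormal → L ≤ L₁ ⊔ L₂ → ((Cfsg.pElementClosure p (L ⊓ C)).subgroupOf K).IsSubnormal := by
    intro L hLs hle'
    have hLC : L ⊓ C ≤ K := inf_le_inf_right C hle'
    have h1 : ((L ⊓ C).subgroupOf K).IsSubnormal := by
      have : (L ⊓ C).subgroupOf K = L.subgroupOf K := by
        ext x
        simp only [Subgroup.mem_subgroupOf, Subgroup.mem_inf]
        exact ⟨fun h => h.1, fun h => ⟨h, (Subgroup.mem_inf.1 x.2).2⟩⟩
      rw [this]; exact hLs.subgroupOf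
    refine Subgroup.IsSubnormal.step _ _ (Subgroup.comap_mono (hle _)) h1 ?_
    have hn := LEAmalgam.le_normalizer_pElementClosure (p := p) (L ⊓ C)
    constructor
    intro x hx g
    exact (Subgroup.mem_normalizer_iff.1 (hn g.2) _).1 hx
  have hXsn : (X.subgroupOf K).IsSubnormal := by
    rw [hX, Subgroup.subgroupOf_sup ((hle _).trans (inf_le_inf_right C le_sup_left))
      ((hle _).trans (inf_le_inf_right C le_sup_right))]
    exact LEWielandt.sup (hsn L₁ h₁ le_sup_left) (hsn L₂ h₂ le_sup_right)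
  have hTC : (T : Subgroup G) ≤ C := Subgroup.le_centralizer_iff.1 ((oz_le _).trans inf_le_right)
  have hTX : (T : Subgroup G) ⊓ (L₁ ⊔ L₂) ≤ X := (LEJoin.inf_sup_le T h₁ h₂).trans (sup_le_sup
    (LEAmalgam.le_pElementClosure (T.2.to_le inf_le_left) (le_inf inf_le_right (inf_le_left.trans hTC)))
    (LEAmalgam.le_pElementClosure (T.2.to_le inf_le_left) (le_inf inf_le_right (inf_le_left.trans hTC))))
  have hsyl : FusionSys.IsSyl p ((T : Subgroup G) ⊓ (L₁ ⊔ L₂)) K := by
    refine ⟨le_inf inf_le_right (inf_le_left.trans hTC), T.2.to_le inf_le_left, fun hd => (LEJoin.isSyl_inf T hL).2.2 ?_⟩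
    exact hd.trans (Subgroup.relIndex_mul_relIndex _ K (L₁ ⊔ L₂)
      (le_inf inf_le_right (inf_le_left.trans hTC)) inf_le_left ▸ Dvd.intro _ rfl)
  obtain ⟨P, hP⟩ := hsyl.toSylow
  rw [Cfsg.pElementClosure, Subgroup.closure_le]
  rintro x ⟨hx, k, hk⟩
  have h1 := mem_of_subnormal hXsn P (hP ▸ Subgroup.comap_mono hTX) (x := ⟨x, hx⟩) (k := k)
    (by rw [Subgroup.orderOf_mk]; exact hk)
  exact h1

end Cfsg.Agent.LEPointStab
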