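/-
Certificate: a Sylow 2-subgroup of the group of the Golay code is self-normalizing.
-/

import Mathlib.Data.Nat.Notation

set_option autoImplicit false

namespace Cfsg.Agent.LEM24

/-- Levels: base point, invariant sets with their stabilizer sizes, deciding sets, orbit, witnesses. -/
def steps : List (ℕ × List (ℕ × ℕ) × List ℕ × ℕ × List ℕ) :=
  [(0, [(64, 15392651), (128, 1384564)], [15392651, 1384564], 15392651, [0, 3, 34, 52, 10, 8, 15, 28, 2, 35, 29, 16, 9, 30, 4, 14]),
    (1, [(8, 16213372), (16, 557186), (32, 4608), (64, 2049)], [15392651, 1384564, 16213372, 557186, 4608, 2049], 557186, [0, 309, 106, 33]),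
    (2, [(2, 16213372), (8, 561664), (16, 2179)], [15392651, 1384564, 16213372, 557186, 4608, 2049, 561664, 2179], 1384564, [0, 755, 374, 397, 766, 543, 566, 1]),
    (3, [(1, 15660888), (2, 1116327)], [622863, 14254209], 264, [0, 188])]

/-- The rigid tail. -/
def tail : List (ℕ × List ℕ) :=
  [(4, [5279, 396116]),
    (5, [786999, 8391797]),
    (6, [2162811, 8391797]),
    (7, [2179, 8391797]),
    (8, [262637, 2101096]),
    (9, [525274, 4196943]),
    (10, [1050548, 8391797]),
    (11, [2049]),
    (12, [5279]),
    (13, [10558]),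
    (14, [18147]),
    (15, [36294]),
    (16, [69395]),
    (17, [133817]),
    (18, [262637]),
    (19, [525274]),
    (20, [14682450]),
    (21, [12584506]),
    (22, [8391797]),
    (23, [])]

end Cfsg.Agent.LEM24
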