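/-
The Sylow 2-subgroups of the group of the Golay code are self-normalizing.
-/
import Cfsg.Agent.Lib.Golay.Constrained
import Cfsg.Agent.Lib.LocalEven.M24SylowData

set_option autoImplicit false
set_option maxRecDepth 20000

namespace Cfsg.Agent.LEM24

open Cfsg Cfsg.Agent.PermCert Cfsg.Agent.Golay Cfsg.Agent.Golay.SB
open scoped Pointwise

local notation "Pm" => Equiv.Perm GolayPt

/-- The listed element fixes the points of `B`. -/
def keepB (B : List ℕ) (i : ℕ) : Bool := B.all fun b => Nat.beq (get 5 (sylElt i).1 b) b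

/-- The number of listed elements fixing `B` and `q`. -/
def cntFix (B : List ℕ) (q : ℕ) : ℕ :=
  ((List.range 1024).filter fun i => keepB (q :: B) i).length

/-- The points with a given stabilizer size. -/
def setAt (B : List ℕ) (d : ℕ) : ℕ := mkMask (fun q => Nat.beq (cntFix B q) d) 24

/-- The whole certificate. -/
def goOK : List ℕ → ℕ → List ℕ → List (ℕ × List (ℕ × ℕ) × List ℕ × ℕ × List ℕ) → Bool
  | _, F, inv, [] => rigidOK inv F tail
  | B, F, inv, (b, new, os, target, wit) :: rest =>
    new.all (fun x => Nat.beq (setAt B x.1) x.2) &&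
      (stepOK (new.map (fun x => x.2) ++ inv) F b os target && !(F.testBit b) &&
        (allBelow (fun q => !(target.testBit q) || wit.any fun i =>
            Nat.blt i 1024 && keepB B i && Nat.beq (get 5 (sylElt i).1 b) q) 24 &&
          goOK (b :: B) (F ||| (1 <<< b)) (new.map (fun x => x.2) ++ inv) rest))

theorem go_true : goOK [] 0 [] steps = true := by decide +kernel

theorem syl_bijective : Function.Bijective
    (fun i : Fin 1024 => (⟨permOf (sylElt i), list_mem_sylS i i.2⟩ : sylS)) := by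
  rw [Nat.bijective_iff_surjective_and_card, Nat.card_fin, card_sylS]
  exact ⟨fun σ => by
    obtain ⟨i, hi, he⟩ := sylS_mem_list σ.2
    exact ⟨⟨i, hi⟩, Subtype.ext he.symm⟩, rfl⟩

theorem keepB_iff {B : List ℕ} (hB : ∀ b ∈ B, b < 24) {i : ℕ} (hi : i < 1024) :
    keepB B i = true ↔ ∀ p : GolayPt, idx p ∈ B → permOf (sylElt i) p = p := by
  simp only [keepB, List.all_eq_true, Nat.beq_eq]
  constructor
  · intro h p hp
    exact idx_injective ((idx_permOf (sylElt_spec hi).1 p).trans (h _ hp))
  · intro h b hb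
    have h1 := congrArg idx (h (pt ⟨b, hB b hb⟩) (by rw [idx_pt]; exact hb))
    rwa [idx_permOf (sylElt_spec hi).1, idx_pt] at h1

theorem setAt_invariant {n : Pm} (hn : n ∈ Subgroup.normalizer (sylS : Set Pm)) {B : List ℕ}
    (hB : ∀ b ∈ B, b < 24) (hfix : ∀ p : GolayPt, idx p ∈ B → n p = p) (d : ℕ) :
    n • maskSet (setAt B d) = maskSet (setAt B d) := by
  classical
  have hcnt : ∀ p : GolayPt, cntFix B (idx p) =
      Nat.card {σ : sylS // (σ : Pm) p = p ∧ ∀ x : GolayPt, idx x ∈ B → (σ : Pm) x = x} := by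
    intro p
    have h1 : cntFix B (idx p) = Nat.card {i : Fin 1024 // keepB (idx p :: B) i = true} := by
      rw [cntFix, Nat.card_eq_fintype_card, Fintype.card_subtype, ← List.toFinset_card_of_nodup
        (List.nodup_range.filter _)]
      refine Finset.card_bij' (fun i hi => ⟨i, by simp at hi; exact hi.1⟩) (fun i _ => i.1) ?_ ?_ ?_ ?_
      · intro i hi; simp at hi ⊢; exact hi.2
      · intro i hi; simp at hi ⊢; exact hi
      · intro i hi; rfl
      · intro i hi; rfl
    rw [h1]
    refine Nat.card_congr (Equiv.subtypeEquiv (Equiv.ofBijective _ syl_bijective) fun i => ?_)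
    rw [keepB_iff (fun b hb => ?_) i.2]
    · simp only [Equiv.ofBijective_apply, List.mem_cons]
      exact ⟨fun h => ⟨h p (Or.inl rfl), fun x hx => h x (Or.inr hx)⟩,
        fun h x hx => hx.elim (fun e => by rw [idx_injective e]; exact h.1) (h.2 x)⟩
    · rcases List.mem_cons.1 hb with rfl | hb
      · exact idx_lt p
      · exact hB b hb
  have hinv : ∀ x : GolayPt, idx x ∈ B → n⁻¹ x = x := fun x hx => by
    conv_lhs => rw [← hfix x hx]
    exact n.symm_apply_apply x
  have hpres : ∀ p : GolayPt, cntFix B (idx (n p)) = cntFix B (idx p) := by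
    intro p
    rw [hcnt, hcnt]
    let e : sylS ≃ sylS :=
      { toFun := fun σ => ⟨n⁻¹ * σ * n, (Subgroup.mem_normalizer_iff''.1 hn _).1 σ.2⟩
        invFun := fun σ => ⟨n * σ * n⁻¹, (Subgroup.mem_normalizer_iff.1 hn _).1 σ.2⟩
        left_inv := fun σ => by ext1; simp [mul_assoc]
        right_inv := fun σ => by ext1; simp [mul_assoc] }
    refine Nat.card_congr (Equiv.subtypeEquiv e fun σ => ?_)
    show _ ↔ (n⁻¹ * (σ : Pm) * n) p = p ∧ ∀ x : GolayPt, idx x ∈ B → (n⁻¹ * (σ : Pm) * n) x = x
    simp only [Equiv.Perm.mul_apply]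
    constructor
    · rintro ⟨h1, h2⟩
      refine ⟨by rw [h1]; exact n.symm_apply_apply p, fun x hx => ?_⟩
      rw [hfix x hx, h2 x hx, hinv x hx]
    · rintro ⟨h1, h2⟩
      refine ⟨by simpa using congrArg n h1, fun x hx => ?_⟩
      have := congrArg n (h2 x hx)
      rw [hfix x hx] at this
      simpa [hfix x hx] using this
  ext p
  rw [Finset.mem_smul_finset]
  simp only [mem_maskSet, setAt, testBit_mkMask, idx_lt, decide_true, Bool.true_and, Equiv.Perm.smul_def]
  constructor
  · rintro ⟨q, hq, rfl⟩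
    rw [hpres]; exact hq
  · intro hp
    refine ⟨n⁻¹ p, ?_, n.apply_symm_apply p⟩
    rw [← hpres, Equiv.Perm.inv_def, n.apply_symm_apply]; exact hp

theorem go_spec : ∀ (rest : List (ℕ × List (ℕ × ℕ) × List ℕ × ℕ × List ℕ)) (B : List ℕ) (F : ℕ) (inv : List ℕ),
    goOK B F inv rest = true → (∀ b ∈ B, b < 24) → (∀ p : GolayPt, p ∈ maskSet F ↔ idx p ∈ B) →
    (∀ o ∈ inv, ∃ B' d, (∀ b ∈ B', b ∈ B) ∧ o = setAt B' d) →
    ∀ n ∈ M24, n ∈ Subgroup.normalizer (sylS : Set Pm) → (∀ p ∈ maskSet F, n p = p) → n ∈ sylS := by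
  intro rest
  induction rest with
  | nil =>
    intro B F inv h hB hF hinv n hnM hn hfix
    simp only [goOK] at h
    have hstab : n ∈ stabIn inv := ⟨hnM, fun o ho => by
      obtain ⟨B', d, hB', rfl⟩ := hinv o ho
      exact setAt_invariant hn (fun b hb => hB b (hB' b hb)) (fun p hp => hfix p ((hF p).2 (hB' _ hp))) d⟩
    rw [rigidOK_spec tail F h n hstab hfix]
    exact one_mem _
  | cons st rest ih =>
    obtain ⟨b, new, os, target, wit⟩ := st
    intro B F inv h hB hF hinv n hnM hn hfix
    simp only [goOK, Bool.and_eq_true, List.all_eq_true, Nat.beq_eq, Bool.not_eq_true'] at h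
    obtain ⟨hnew, ⟨hstep, hbF⟩, hwit, hrest⟩ := h
    set inv' := new.map (fun x => x.2) ++ inv with hinv'
    have hi' : ∀ o ∈ inv', ∃ B' d, (∀ c ∈ B', c ∈ B) ∧ o = setAt B' d := by
      intro o ho
      rcases List.mem_append.1 ho with ho | ho
      · obtain ⟨x, hx, rfl⟩ := List.mem_map.1 ho
        exact ⟨B, x.1, fun c hc => hc, (hnew x hx).symm⟩
      · exact hinv o ho
    have hstab : n ∈ stabIn inv' := ⟨hnM, fun o ho => by
      obtain ⟨B', d, hB', rfl⟩ := hi' o ho
      exact setAt_invariant hn (fun c hc => hB c (hB' c hc)) (fun p hp => hfix p ((hF p).2 (hB' _ hp))) d⟩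
    have hb : b < 24 := by
      have h' := hstep
      simp [stepOK, Bool.and_eq_true] at h'
      exact h'.1.1
    have ht := stepOK_spec hstab hfix hstep hb hbF
    have hw := allBelow_spec _ _ hwit _ (idx_lt (n (pt ⟨b, hb⟩)))
    simp only [ht, Bool.not_true, Bool.false_or, List.any_eq_true, Bool.and_eq_true, Nat.blt_eq, Nat.beq_eq] at hw
    obtain ⟨i, -, ⟨hi, hkeep⟩, himg⟩ := hw
    set s := permOf (sylElt i) with hs
    have hsS : s ∈ sylS := list_mem_sylS i hi
    have hsb : s (pt ⟨b, hb⟩) = n (pt ⟨b, hb⟩) := by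
      apply idx_injective
      rw [idx_permOf (sylElt_spec hi).1, idx_pt]
      exact himg
    have hsfix : ∀ p ∈ maskSet F, s p = p := fun p hp => (keepB_iff hB hi).1 hkeep p ((hF p).1 hp)
    have hmem := ih (b :: B) (F ||| (1 <<< b)) inv' hrest
      (fun c hc => by
        rcases List.mem_cons.1 hc with rfl | hc
        · exact hb
        · exact hB c hc)
      (fun p => by
        rw [maskSet_insert hb, Finset.mem_insert, List.mem_cons, hF]
        refine or_congr_left ⟨fun e => by rw [e, idx_pt], fun e => ?_⟩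
        apply idx_injective
        rw [e, idx_pt])
      (fun o ho => by
        obtain ⟨B', d, hB', e⟩ := hi' o ho
        exact ⟨B', d, fun c hc => List.mem_cons_of_mem _ (hB' c hc), e⟩)
      (s⁻¹ * n) (mul_mem (inv_mem (sylS_le hsS)) hnM)
      (mul_mem (inv_mem (Subgroup.le_normalizer hsS)) hn)
      (fun p hp => by
        rw [maskSet_insert hb, Finset.mem_insert] at hp
        rcases hp with rfl | hp
        · rw [Equiv.Perm.mul_apply, ← hsb]; exact s.symm_apply_apply _
        · rw [Equiv.Perm.mul_apply, hfix p hp]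
          conv_lhs => rw [← hsfix p hp]
          exact s.symm_apply_apply _)
    have := mul_mem hsS hmem
    rwa [mul_inv_cancel_left] at this

theorem normalizer_sylS {n : Pm} (hM : n ∈ M24) (hn : n ∈ Subgroup.normalizer (sylS : Set Pm)) :
    n ∈ sylS :=
  go_spec steps [] 0 [] go_true (by simp) (fun p => by simp [mem_maskSet]) (by simp) n hM hn
    (fun p hp => by simp [mem_maskSet] at hp)

theorem main (S : Sylow 2 ↥M24) :
    Subgroup.normalizer ((S : Subgroup ↥M24) : Set ↥M24) = (S : Subgroup ↥M24) := by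
  haveI : Fact (Nat.Prime 2) := ⟨Nat.prime_two⟩
  let S₀ : Sylow 2 M24 := Sylow.ofCard (sylS.subgroupOf M24) (by
    rw [Nat.card_congr (Subgroup.subgroupOfEquivOfLe sylS_le).toEquiv, card_sylS, card_M24]
    rw [show (244823040 : ℕ) = 2 ^ 10 * 239085 by norm_num,
      Nat.factorization_mul (by norm_num) (by norm_num), Nat.prime_two.factorization_pow]
    simp only [Finsupp.coe_add, Pi.add_apply, Finsupp.single_eq_same]
    rw [Nat.factorization_eq_zero_of_not_dvd (by norm_num : ¬ 2 ∣ 239085)]
    norm_num)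
  have h0 : Subgroup.normalizer ((S₀ : Subgroup ↥M24) : Set ↥M24) = (S₀ : Subgroup ↥M24) := by
    refine le_antisymm (fun n hn => ?_) Subgroup.le_normalizer
    rw [Sylow.coe_ofCard] at hn ⊢
    rw [Subgroup.mem_subgroupOf]
    refine normalizer_sylS n.2 (Subgroup.mem_normalizer_iff.2 fun σ => ?_)
    constructor
    · intro hσ
      exact (Subgroup.mem_normalizer_iff.1 hn ⟨σ, sylS_le hσ⟩).1 hσ
    · intro hσ
      have hσM : σ ∈ M24 := by
        have := mul_mem (mul_mem (inv_mem n.2) (sylS_le hσ)) n.2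
        simpa [mul_assoc] using this
      exact (Subgroup.mem_normalizer_iff.1 hn ⟨σ, hσM⟩).2 hσ
  obtain ⟨g, rfl⟩ := MulAction.exists_smul_eq ↥M24 S₀ S
  rw [Sylow.coe_subgroup_smul]
  show Subgroup.normalizer (((S₀ : Subgroup ↥M24).map (MulAut.conj g).toMonoidHom : Subgroup ↥M24) : Set ↥M24) =
    (S₀ : Subgroup ↥M24).map (MulAut.conj g).toMonoidHom
  rw [← Subgroup.map_equiv_normalizer_eq, h0]

end Cfsg.Agent.LEM24
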