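/-
Components of `p`-minimal groups.
-/
import Cfsg.Agent.Lib.LocalEven.PMinimal
import Cfsg.Agent.Lib.Components.Local
import Cfsg.Agent.Lib.Components.FStar
import Cfsg.Agent.Lib.Components.Fitting
import Cfsg.Agent.Lib.Solvable.Coprime
import Cfsg.Agent.Lib.LocalEven.FStarAction
import Cfsg.Agent.Lib.Components.PComponent

set_option autoImplicit false
set_option linter.unusedSectionVars false
set_option linter.style.haveILetI false

namespace Cfsg.Agent.LEPMinComp

open Cfsg.Agent
open scoped commutatorElement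

variable {P : Type*} [Group P] [Finite P] {p : ℕ} [Fact p.Prime]

theorem relIndex_sup_eq {K X : Subgroup P} (h : X ≤ Subgroup.normalizer (K : Set P)) :
    X.relIndex (K ⊔ X) = (X ⊓ K).relIndex K := by
  have h1 := SolvBasic.card_sup_mul_card_inf h
  have h2 := PBasic.card_mul_relIndex (le_sup_right : X ≤ K ⊔ X)
  have h3 := PBasic.card_mul_relIndex (inf_le_right : X ⊓ K ≤ K)
  rw [← h2, ← h3, inf_comm K X] at h1
  refine Nat.eq_of_mul_eq_mul_left (Nat.mul_pos (Nat.card_pos (α := ↥X)) (Nat.card_pos (α := ↥(X ⊓ K : Subgroup P)))) ?_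
  linarith

theorem not_dvd_relIndex_inf {K X Y : Subgroup P} (h : X ≤ Subgroup.normalizer (K : Set P)) (hK : K ≤ Y)
    (hX : X ≤ Y) (hd : ¬ p ∣ X.relIndex Y) : ¬ p ∣ (X ⊓ K).relIndex K := by
  rw [← relIndex_sup_eq h]
  exact fun h1 => hd (h1.trans ⟨_, (Subgroup.relIndex_mul_relIndex _ _ _ le_sup_right (sup_le hK hX)).symm⟩)

variable (hP : Cfsg.IsPMinimal p P) (hOp : Cfsg.pCore p P = ⊥) (S : Sylow p P)

include hP in
/-- The unique maximal subgroup over `S`. -/
theorem exists_max : ∃ M : Subgroup P, M ≠ ⊤ ∧ (S : Subgroup P) ≤ M ∧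
    ∀ U : Subgroup P, (S : Subgroup P) ≤ U → U ≠ ⊤ → U ≤ M := by
  obtain ⟨-, M, ⟨hM, hSM⟩, hu⟩ := hP S
  refine ⟨M, hM.1, hSM, fun U hSU hU => ?_⟩
  obtain ⟨M', hM', hUM'⟩ := (eq_top_or_exists_le_coatom U).resolve_left hU
  exact hu M' ⟨hM', hSU.trans hUM'⟩ ▸ hUM'

include hP hOp in
/-- A normal subgroup generates with `S` the whole group or is a `p'`-group. -/
theorem sup_eq_top_or (N : Subgroup P) [N.Normal] : N ⊔ (S : Subgroup P) = ⊤ ∨ ¬ p ∣ Nat.card N := by
  refine or_iff_not_imp_left.2 fun hne => ?_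
  obtain ⟨M, hM, hSM, hu⟩ := exists_max hP S
  have hNM : N ≤ M := le_sup_left.trans (hu _ le_sup_right hne)
  have hidx : ¬ p ∣ ((S : Subgroup P) ⊓ N).relIndex N :=
    not_dvd_relIndex_inf (Subgroup.le_normalizer_of_normal (H := N)) le_top le_top
      (by rw [Subgroup.relIndex_top_right]; exact S.not_dvd_index)
  set Q := (S : Subgroup P) ⊓ N with hQ
  have hnQ : (S : Subgroup P) ≤ Subgroup.normalizer (Q : Set P) := fun x hx =>
    Subgroup.inf_normalizer_le_normalizer_inf (Subgroup.mem_inf.2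
      ⟨Subgroup.le_normalizer hx, Subgroup.le_normalizer_of_normal (H := N) (K := ⊤) (Subgroup.mem_top x)⟩)
  have hQn : Subgroup.normalizer (Q : Set P) = ⊤ := by
    by_contra h
    have h1 := hu _ hnQ h
    let R : Sylow p ↥N := ((S.2.to_le inf_le_left : IsPGroup p ↥Q).comap_subtype (K := N)).toSylow hidx
    have hR : (R : Subgroup ↥N).map N.subtype = Q := by
      exact Subgroup.map_subgroupOf_eq_of_le inf_le_right
    have h2 := Sylow.normalizer_sup_eq_top R
    rw [hR] at h2
    exact hM (top_le_iff.1 (h2 ▸ sup_le h1 hNM))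
  haveI : Q.Normal := Subgroup.normalizer_eq_top_iff.1 hQn
  have hQ1 : Q = ⊥ := le_bot_iff.1 (hOp ▸ LEBasic.le_pCore inferInstance (S.2.to_le inf_le_left))
  intro hd
  rw [hQ1, Subgroup.relIndex_bot_left] at hidx
  exact hidx hd

include hP hOp S in
/-- Nontrivial perfect normal subgroups of the layer are not `p'`-groups. -/
theorem dvd_card_of_perfect (N : Subgroup P) [N.Normal] (hNE : N ≤ Cfsg.layer P) (hperf : ⁅N, N⁆ = N)
    (hne : N ≠ ⊥) : p ∣ Nat.card N := by
  by_contra hp'
  obtain ⟨M, hM, hSM, hu⟩ := exists_max hP S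
  have hcop : (Nat.card (S : Subgroup P)).Coprime (Nat.card N) := by
    obtain ⟨k, hk⟩ := IsPGroup.iff_card.1 S.2
    rw [hk]
    exact Nat.Coprime.pow_left k ((Fact.out : p.Prime).coprime_iff_not_dvd.2 hp')
  haveI := S.2.isNilpotent
  have hsolv : Group.IsSolvable ↥(S : Subgroup P) := inferInstance
  haveI := Components.fittingSubgroup_normal (G := P)
  set W := (N ⊓ M) ⊔ (N ⊓ Cfsg.fittingSubgroup P) with hW
  have hle : N ≤ W := by
    have hdv : Nat.card N ∣ Nat.card W := by
      refine (Nat.factorization_prime_le_iff_dvd Nat.card_pos.ne' Nat.card_pos.ne').1 fun q hq => ?_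
      haveI : Fact q.Prime := ⟨hq⟩
      obtain ⟨Q, hQ⟩ := CoprimeAct.exists_invariant_sylow (A := (S : Subgroup P)) (K := N)
        (Subgroup.le_normalizer_of_normal (H := N)) hcop (Or.inl hsolv) q
      set Q' := (Q : Subgroup ↥N).map N.subtype with hQ'
      have hQN : Q' ≤ N := Subgroup.map_subtype_le _
      have hQW : Q' ≤ W := by
        by_cases h : Subgroup.normalizer (Q' : Set P) = ⊤
        · haveI : Q'.Normal := Subgroup.normalizer_eq_top_iff.1 h
          have hnil : Group.IsNilpotent ↥Q' := (Q.2.map N.subtype).isNilpotent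
          exact le_sup_of_le_right (le_inf hQN (Components.le_fittingSubgroup inferInstance hnil))
        · exact le_sup_of_le_left (le_inf hQN (Subgroup.le_normalizer.trans (hu _ hQ h)))
      have h1 : Nat.card ↥Q' = q ^ (Nat.card N).factorization q := by
        rw [hQ', Subgroup.card_map_of_injective N.subtype_injective]; exact Q.card_eq_multiplicity
      exact (hq.pow_dvd_iff_le_factorization Nat.card_pos.ne').1 (h1 ▸ Subgroup.card_dvd_of_le hQW)
    have hWN : W ≤ N := sup_le inf_le_left inf_le_left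
    exact (Subgroup.eq_of_le_of_card_ge hWN (Nat.le_of_dvd Nat.card_pos hdv)).ge
  have hc : N ⊓ Cfsg.fittingSubgroup P ≤ Subgroup.centralizer (N : Set P) :=
    inf_le_right.trans (Components.fitting_le_centralizer_layer.trans (Subgroup.centralizer_le hNE))
  have hNM : N ≤ M := by
    rw [← hperf, Subgroup.commutator_le]
    intro x hx y hy
    have key : ∀ z ∈ N, ∃ a ∈ N ⊓ M, ∃ c ∈ N ⊓ Cfsg.fittingSubgroup P, z = a * c := fun z hz => by
      have hnM : (N ⊓ M : Subgroup P) ≤ Subgroup.normalizer ((N ⊓ Cfsg.fittingSubgroup P : Subgroup P) : Set P) :=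
        Subgroup.le_normalizer_of_normal
      obtain ⟨c, hc', a, ha, rfl⟩ := (SolvBasic.mem_sup_iff_of_le_normalizer hnM).1
        (show z ∈ (N ⊓ Cfsg.fittingSubgroup P) ⊔ (N ⊓ M) by rw [sup_comm]; exact hle hz)
      refine ⟨a, ha, a⁻¹ * c * a, ?_, by group⟩
      exact (inferInstance : (N ⊓ Cfsg.fittingSubgroup P).Normal).conj_mem' c hc' a
    obtain ⟨a, ha, c, hc', rfl⟩ := key x hx
    obtain ⟨b, hb, d, hd, rfl⟩ := key y hy
    have e1 : ∀ u ∈ N, c * u = u * c := fun u hu => (Subgroup.mem_centralizer_iff.1 (hc hc') u hu).symm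
    have e2 : ∀ u ∈ N, d * u = u * d := fun u hu => (Subgroup.mem_centralizer_iff.1 (hc hd) u hu).symm
    have haN := (Subgroup.mem_inf.1 ha).1
    have hbN := (Subgroup.mem_inf.1 hb).1
    have hdN := (Subgroup.mem_inf.1 hd).1
    have : ⁅a * c, b * d⁆ = ⁅a, b⁆ := by
      simp only [commutatorElement_def]
      calc a * c * (b * d) * (a * c)⁻¹ * (b * d)⁻¹
          = a * (c * (b * d)) * c⁻¹ * a⁻¹ * (d⁻¹ * b⁻¹) := by group
        _ = a * b * (d * a⁻¹) * d⁻¹ * b⁻¹ := by rw [e1 _ (mul_mem hbN hdN)]; group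
        _ = a * b * a⁻¹ * b⁻¹ := by rw [e2 _ (inv_mem haN)]; group
    rw [this, commutatorElement_def]
    exact mul_mem (mul_mem (mul_mem (Subgroup.mem_inf.1 ha).2 (Subgroup.mem_inf.1 hb).2)
      (inv_mem (Subgroup.mem_inf.1 ha).2)) (inv_mem (Subgroup.mem_inf.1 hb).2)
  -- so every Sylow subgroup of the layer is normal
  have hnil : N ≤ Cfsg.fittingSubgroup P := by
    have hdv : Nat.card N ∣ Nat.card ↥(N ⊓ Cfsg.fittingSubgroup P : Subgroup P) := by
      refine (Nat.factorization_prime_le_iff_dvd Nat.card_pos.ne' Nat.card_pos.ne').1 fun q hq => ?_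
      haveI : Fact q.Prime := ⟨hq⟩
      obtain ⟨Q, hQ⟩ := CoprimeAct.exists_invariant_sylow (A := (S : Subgroup P)) (K := N)
        (Subgroup.le_normalizer_of_normal (H := N)) hcop (Or.inl hsolv) q
      set Q' := (Q : Subgroup ↥N).map N.subtype with hQ'
      have hn : Subgroup.normalizer (Q' : Set P) = ⊤ := by
        by_contra h
        exact hM (top_le_iff.1 ((Sylow.normalizer_sup_eq_top Q).ge.trans (sup_le (hu _ hQ h) hNM)))
      haveI : Q'.Normal := Subgroup.normalizer_eq_top_iff.1 hn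
      have hQF : Q' ≤ N ⊓ Cfsg.fittingSubgroup P := le_inf (Subgroup.map_subtype_le _)
        (Components.le_fittingSubgroup inferInstance (Q.2.map N.subtype).isNilpotent)
      have h1 : Nat.card ↥Q' = q ^ (Nat.card N).factorization q := by
        rw [hQ', Subgroup.card_map_of_injective N.subtype_injective]; exact Q.card_eq_multiplicity
      exact (hq.pow_dvd_iff_le_factorization Nat.card_pos.ne').1 (h1 ▸ Subgroup.card_dvd_of_le hQF)
    exact (Subgroup.eq_of_le_of_card_ge inf_le_left (Nat.le_of_dvd Nat.card_pos hdv)).ge.trans inf_le_right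
  refine hne (le_bot_iff.1 ?_)
  rw [← hperf, Subgroup.commutator_le]
  intro x hx y hy
  rw [Subgroup.mem_bot, commutatorElement_eq_one_iff_mul_comm]
  exact (Subgroup.mem_centralizer_iff.1 ((Components.fitting_le_centralizer_layer.trans (Subgroup.centralizer_le hNE)) (hnil hx)) y hy).symm

include hP hOp in
theorem main (K : Subgroup P) (hK : Cfsg.IsComponent K) :
    Cfsg.pResidual p P = Cfsg.generalizedFittingSubgroup P ∧
      Cfsg.generalizedFittingSubgroup P = Cfsg.layer P ∧
      Cfsg.layer P = ⨆ s : ↥(S : Subgroup P), K.map (MulAut.conj (s : P)).toMonoidHom ∧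
      Cfsg.IsPMinimal p ↥(K ⊔ ((S : Subgroup P) ⊓ Subgroup.normalizer (K : Set P))) := by
  classical
  haveI := Components.layer_normal (G := P)
  set E := Cfsg.layer P with hE
  have hE1 : E ≠ ⊥ := fun h => Components.component_ne_bot hK (le_bot_iff.1 (h ▸ Components.component_le_layer hK))
  have hES : E ⊔ (S : Subgroup P) = ⊤ := (sup_eq_top_or hP hOp S E).resolve_right
    (not_not.2 (dvd_card_of_perfect hP hOp S E le_rfl Components.layer_commutator_eq hE1))
  set J := ⨆ s : ↥(S : Subgroup P), K.map (MulAut.conj (s : P)).toMonoidHom with hJ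
  have hcomp : ∀ s : P, Cfsg.IsComponent (K.map (MulAut.conj s).toMonoidHom) := Components.component_conj hK
  have hJE : J ≤ E := iSup_le fun s => Components.component_le_layer (hcomp s)
  have hKJ : K ≤ J := by
    refine le_trans (le_of_eq ?_) (le_iSup (fun s : ↥(S : Subgroup P) => K.map (MulAut.conj (s : P)).toMonoidHom) 1)
    rw [OneMemClass.coe_one, LEBasic.map_conj_one]
  haveI hJn : J.Normal := by
    rw [← Subgroup.normalizer_eq_top_iff, ← top_le_iff, ← hES, sup_le_iff]
    constructor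
    · refine LEAmalgam.le_normalizer_of_conj fun g hg => ?_
      rw [hJ, Subgroup.map_iSup]
      exact iSup_mono fun s => (LEBasic.map_conj_eq_iff_mem_normalizer.2
        (Components.layer_le_normalizer_component (hcomp s) hg)).le
    · refine LEAmalgam.le_normalizer_of_conj fun g hg => ?_
      rw [hJ, Subgroup.map_iSup]
      refine iSup_le fun s => ?_
      rw [LEBasic.map_conj_map_conj]
      exact le_iSup (fun t : ↥(S : Subgroup P) => K.map (MulAut.conj (t : P)).toMonoidHom) ⟨g * s, mul_mem hg s.2⟩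
  have hKnE : E ≤ Subgroup.normalizer (K : Set P) := Components.layer_le_normalizer_component hK
  have hEres : E ≤ Cfsg.pResidual p P := by
    haveI := Components.layer_isPerfect (G := P)
    have h1 := PBasic.map_pResidual_le (p := p) E.subtype
    rw [Components.pResidual_eq_top_of_perfect, ← MonoidHom.range_eq_map, Subgroup.range_subtype] at h1
    exact h1
  have hNres : ∀ N : Subgroup P, N.Normal → N ⊔ (S : Subgroup P) = ⊤ → Cfsg.pResidual p P ≤ N := by
    intro N hN h
    haveI := hN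
    refine PBasic.pResidual_le ?_
    refine IsPGroup.of_surjective S.2 ((QuotientGroup.mk' N).comp (S : Subgroup P).subtype) fun x => ?_
    obtain ⟨g, rfl⟩ := QuotientGroup.mk'_surjective N x
    obtain ⟨n, hn, s, hs, rfl⟩ := Subgroup.mem_sup_of_normal_left.1 (h ▸ Subgroup.mem_top g)
    refine ⟨⟨s, hs⟩, ?_⟩
    show QuotientGroup.mk' N s = QuotientGroup.mk' N (n * s)
    rw [map_mul, QuotientGroup.mk'_apply N n, (QuotientGroup.eq_one_iff n).2 hn, one_mul]
  have hJperf : ⁅J, J⁆ = J := by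
    refine le_antisymm (Subgroup.commutator_le_self J) (iSup_le fun s => ?_)
    rw [← Components.component_commutator_eq (hcomp s)]
    exact Subgroup.commutator_mono (le_iSup (fun t : ↥(S : Subgroup P) => K.map (MulAut.conj (t : P)).toMonoidHom) s)
      (le_iSup (fun t : ↥(S : Subgroup P) => K.map (MulAut.conj (t : P)).toMonoidHom) s)
  have hJd : p ∣ Nat.card J := dvd_card_of_perfect hP hOp S J hJE hJperf
    (fun h => Components.component_ne_bot hK (le_bot_iff.1 (h ▸ hKJ)))
  have hJS : J ⊔ (S : Subgroup P) = ⊤ := (sup_eq_top_or hP hOp S J).resolve_right (not_not.2 hJd)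
  have hres : Cfsg.pResidual p P = J := le_antisymm (hNres J hJn hJS) (hJE.trans hEres)
  have hEJ : E = J := le_antisymm (hEres.trans hres.le) hJE
  have hKd : p ∣ Nat.card K := by
    by_contra hd
    have hJp : J ≤ Cfsg.pPrimeCore p P := iSup_le fun s => Components.subnormal_le_pPrimeCore (hcomp s).1
      (Nat.Coprime.symm ((Fact.out : p.Prime).coprime_iff_not_dvd.2 (by rw [LEBasic.card_map_conj]; exact hd)))
    exact (Fact.out : p.Prime).ne_one (Nat.eq_one_of_dvd_coprimes (PBasic.pPrimeCore_coprime p P)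
      (hJd.trans (Subgroup.card_dvd_of_le hJp)) dvd_rfl)
  have hF : Cfsg.generalizedFittingSubgroup P = E := by
    refine le_antisymm (sup_le le_rfl ?_) le_sup_left
    set F := Cfsg.fittingSubgroup P with hFdef
    haveI := Components.fittingSubgroup_normal (G := P)
    haveI := Components.fittingSubgroup_nilpotent (G := P)
    have hFp : ¬ p ∣ Nat.card F := LEFStar.not_dvd_fitting hOp
    intro f hf
    rw [hEJ, ← hres]
    refine PBasic.mem_pResidual (Nat.Coprime.symm ((Fact.out : p.Prime).coprime_iff_not_dvd.2 fun h => hFp ?_))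
    exact h.trans (Subgroup.orderOf_dvd_natCard _ hf)
  refine ⟨by rw [hF, hEJ, hres], hF, hEJ, ?_⟩
  -- the subgroup `K N_S(K)`
  set NS := (S : Subgroup P) ⊓ Subgroup.normalizer (K : Set P) with hNS
  set H := K ⊔ NS with hH
  have hNSn : NS ≤ Subgroup.normalizer (K : Set P) := inf_le_right
  -- `S ∩ K` is Sylow in `K`
  have hSJ : ¬ p ∣ ((S : Subgroup P) ⊓ J).relIndex J :=
    not_dvd_relIndex_inf (Subgroup.le_normalizer_of_normal (H := J)) le_top le_top
      (by rw [Subgroup.relIndex_top_right]; exact S.not_dvd_index)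
  have hSK : ¬ p ∣ ((S : Subgroup P) ⊓ K).relIndex K := by
    have h1 := not_dvd_relIndex_inf (K := K) (X := (S : Subgroup P) ⊓ J) (Y := J)
      ((inf_le_right.trans hJE).trans hKnE) hKJ inf_le_right hSJ
    rwa [inf_assoc, inf_eq_right.2 hKJ] at h1
  have hSKNS : (S : Subgroup P) ⊓ K ≤ NS := inf_le_inf_left _ Subgroup.le_normalizer
  have hNSK : NS ⊓ K = (S : Subgroup P) ⊓ K := by
    rw [hNS, inf_assoc, inf_eq_right.2 (Subgroup.le_normalizer (H := K))]
  have hidx : ¬ p ∣ NS.relIndex H := by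
    rw [hH, relIndex_sup_eq hNSn, hNSK]; exact hSK
  have hNSp : IsPGroup p ↥NS := S.2.to_le inf_le_left
  let T : Sylow p ↥H := (hNSp.comap_subtype (K := H)).toSylow hidx
  have hT : (T : Subgroup ↥H).map H.subtype = NS := by
    exact Subgroup.map_subgroupOf_eq_of_le le_sup_right
  have hnn : ¬ (T : Subgroup ↥H).Normal := by
    intro hn
    have h1 : H ≤ Subgroup.normalizer (NS : Set P) := by
      have h2 : (NS.subgroupOf H).Normal := hn
      exact (Subgroup.normal_subgroupOf_iff_le_normalizer le_sup_right).1 h2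
    set X := (S : Subgroup P) ⊓ K with hX
    have hKX : K ≤ Subgroup.normalizer (X : Set P) := fun k hk => by
      rw [← hNSK]
      exact Subgroup.inf_normalizer_le_normalizer_inf
        (Subgroup.mem_inf.2 ⟨h1 (Subgroup.mem_sup_left hk), Subgroup.le_normalizer hk⟩)
    haveI : (X.subgroupOf K).Normal := (Subgroup.normal_subgroupOf_iff_le_normalizer inf_le_right).2 hKX
    have hXs : X.IsSubnormal := by
      have h2 := (this.isSubnormal).trans' hK.1
      rwa [Subgroup.map_subgroupOf_eq_of_le inf_le_right] at h2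
    have hXn : Group.IsNilpotent ↥X := (S.2.to_le inf_le_left).isNilpotent
    have hXF : X ≤ Cfsg.fittingSubgroup P := Components.subnormal_nilpotent_le_fitting hXs hXn
    have hX1 : X = ⊥ := by
      by_contra hne
      exact LEFStar.not_dvd_fitting (p := p) hOp
        ((LESylow.dvd_card_of_ne_bot (S.2.to_le inf_le_left) hne).trans (Subgroup.card_dvd_of_le hXF))
    rw [hX1, Subgroup.relIndex_bot_left] at hSK
    exact hSK hKd
  obtain ⟨M, hM, hSM, hu⟩ := exists_max hP S
  set D := sSup {L : Subgroup P | Cfsg.IsComponent L ∧ L ≠ K} with hD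
  have hDK : D ≤ Subgroup.centralizer (K : Set P) := sSup_le fun L ⟨hL, hne⟩ =>
    Subgroup.commutator_eq_bot_iff_le_centralizer.1 (Components.components_commute hL hK hne)
  have hnKM : ¬ K ≤ M := by
    intro h
    refine hM (top_le_iff.1 (hJS ▸ sup_le (iSup_le fun s => ?_) hSM))
    rintro _ ⟨k, hk, rfl⟩
    exact mul_mem (mul_mem (hSM s.2) (h hk)) (inv_mem (hSM s.2))
  have hperfK := Components.component_commutator_eq hK
  -- invariant proper subgroups of `K` lie in `M`
  have key : ∀ R : Subgroup P, R ≤ K → NS ≤ Subgroup.normalizer (R : Set P) → (S : Subgroup P) ⊓ K ≤ R →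
      R ≠ K → R ≤ M := by
    intro R hRK hRn hXR hRne
    set R' := ⨆ s : ↥(S : Subgroup P), R.map (MulAut.conj (s : P)).toMonoidHom with hR'
    have hRR' : R ≤ R' := by
      refine le_trans (le_of_eq ?_) (le_iSup (fun s : ↥(S : Subgroup P) => R.map (MulAut.conj (s : P)).toMonoidHom) 1)
      rw [OneMemClass.coe_one, LEBasic.map_conj_one]
    have hSn : (S : Subgroup P) ≤ Subgroup.normalizer (R' : Set P) := by
      refine LEAmalgam.le_normalizer_of_conj fun g hg => ?_
      rw [hR', Subgroup.map_iSup]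
      refine iSup_le fun s => ?_
      rw [LEBasic.map_conj_map_conj]
      exact le_iSup (fun t : ↥(S : Subgroup P) => R.map (MulAut.conj (t : P)).toMonoidHom) ⟨g * s, mul_mem hg s.2⟩
    have hR'RD : R' ≤ R ⊔ D := by
      refine iSup_le fun s => ?_
      by_cases hs : K.map (MulAut.conj (s : P)).toMonoidHom = K
      · rw [LEBasic.map_conj_eq_iff_mem_normalizer.2 (hRn (Subgroup.mem_inf.2
          ⟨s.2, LEBasic.map_conj_eq_iff_mem_normalizer.1 hs⟩))]
        exact le_sup_left
      · exact le_sup_of_le_right ((LEBasic.map_conj_mono _ hRK).trans (le_sSup (show _ ∈ _ from ⟨hcomp s, hs⟩)))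
    have hDR : D ≤ Subgroup.normalizer (R : Set P) :=
      (hDK.trans (Subgroup.centralizer_le hRK)).trans (Subgroup.centralizer_le_normalizer _)
    have hSJD : (S : Subgroup P) ⊓ J ≤ R ⊔ D := by
      intro x hx
      have hxp : ∃ k, orderOf x = p ^ k := by
        obtain ⟨k, hk⟩ := IsPGroup.iff_orderOf.1 S.2 ⟨x, (Subgroup.mem_inf.1 hx).1⟩
        exact ⟨k, by rw [← hk, Subgroup.orderOf_mk]⟩
      have hJKD : J ≤ K ⊔ D := by
        refine iSup_le fun s => ?_
        by_cases hs : K.map (MulAut.conj (s : P)).toMonoidHom = K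
        · rw [hs]; exact le_sup_left
        · exact le_sup_of_le_right (le_sSup (show _ ∈ _ from ⟨hcomp s, hs⟩))
      have hDnK : D ≤ Subgroup.normalizer (K : Set P) := hDK.trans (Subgroup.centralizer_le_normalizer _)
      obtain ⟨k, hk, d, hd, rfl⟩ := (SolvBasic.mem_sup_iff_of_le_normalizer hDnK).1 (hJKD (Subgroup.mem_inf.1 hx).2)
      -- `k` is, modulo `D`, a `p`-element
      have hkn : k ∈ Subgroup.normalizer ((R : Subgroup P) : Set P) := by
        by_cases hkR : k ∈ R
        · exact Subgroup.le_normalizer hkR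
        have hk1 : k * d ∈ Subgroup.normalizer (R : Set P) := hRn (Subgroup.mem_inf.2
          ⟨(Subgroup.mem_inf.1 hx).1, mul_mem (Subgroup.le_normalizer hk) (hDnK hd)⟩)
        simpa using mul_mem hk1 (inv_mem (hDR hd))
      obtain ⟨l, hl⟩ := hxp
      have hcomm : Commute k d := (Subgroup.mem_centralizer_iff.1 (hDK hd) k hk)
      by_contra hnot
      have hkR : k ∉ R ⊔ (D ⊓ K) := fun h => hnot (by
        refine mul_mem ?_ (Subgroup.mem_sup_right hd)
        exact (sup_le le_sup_left (inf_le_left.trans le_sup_right) : R ⊔ (D ⊓ K) ≤ R ⊔ D) h)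
      set B := R ⊔ (D ⊓ K) with hB
      have hBK : B ≤ K := sup_le hRK inf_le_right
      have hkB : k ∈ Subgroup.normalizer (B : Set P) := by
        have h0 : ∀ a b : Subgroup P, k ∈ Subgroup.normalizer (a : Set P) → k ∈ Subgroup.normalizer (b : Set P) →
            k ∈ Subgroup.normalizer ((a ⊔ b : Subgroup P) : Set P) := fun a b h1 h2 => by
          rw [← LEBasic.map_conj_eq_iff_mem_normalizer] at h1 h2 ⊢
          rw [Subgroup.map_sup, h1, h2]
        refine h0 _ _ hkn (Subgroup.centralizer_le_normalizer _ (Subgroup.mem_centralizer_iff.2 fun z hz => ?_))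
        exact (Subgroup.mem_centralizer_iff.1 (hDK (Subgroup.mem_inf.1 hz).1) k hk).symm
      have hkp : k ^ p ^ l ∈ B := by
        refine Subgroup.mem_sup_right (Subgroup.mem_inf.2 ⟨?_, pow_mem hk _⟩)
        have h1 : k ^ p ^ l * d ^ p ^ l = 1 := by rw [← hcomm.mul_pow, ← hl, pow_orderOf_eq_one]
        rw [eq_inv_of_mul_eq_one_left h1]
        exact inv_mem (pow_mem hd _)
      set Y := B ⊔ Subgroup.zpowers k with hY
      have hYK : Y ≤ K := sup_le hBK (Subgroup.zpowers_le.2 hk)
      have hkY : k ∈ Y := Subgroup.mem_sup_right (Subgroup.mem_zpowers k)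
      haveI : (B.subgroupOf Y).Normal := (Subgroup.normal_subgroupOf_iff_le_normalizer le_sup_left).2
        (sup_le Subgroup.le_normalizer (Subgroup.zpowers_le.2 hkB))
      let kk := QuotientGroup.mk' (B.subgroupOf Y) ⟨k, hkY⟩
      have hkk1 : orderOf kk ∣ B.relIndex K := by
        refine dvd_trans (orderOf_dvd_natCard kk) ?_
        rw [← Subgroup.index_eq_card, ← Subgroup.relIndex]
        exact ⟨_, (Subgroup.relIndex_mul_relIndex B Y K le_sup_left hYK).symm⟩
      have hkk2 : orderOf kk ∣ p ^ l := by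
        refine orderOf_dvd_of_pow_eq_one ?_
        show QuotientGroup.mk' (B.subgroupOf Y) ⟨k, hkY⟩ ^ p ^ l = 1
        rw [← map_pow]
        exact (QuotientGroup.eq_one_iff _).2 hkp
      have hd' : ¬ p ∣ B.relIndex K := fun h => hSK (h.trans
        (Subgroup.relIndex_dvd_of_le_left K (hXR.trans le_sup_left)))
      have h1 : kk = 1 := orderOf_eq_one_iff.1 (Nat.eq_one_of_dvd_coprimes
        (Nat.Coprime.pow_left l ((Fact.out : p.Prime).coprime_iff_not_dvd.2 hd')) hkk2 hkk1)
      exact hkR ((QuotientGroup.eq_one_iff (⟨k, hkY⟩ : ↥Y)).1 h1)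
    have hne : R' ⊔ (S : Subgroup P) ≠ ⊤ := by
      intro htop
      refine hRne (le_antisymm hRK ?_)
      have hKRD : K ≤ R ⊔ D := by
        intro k hk
        obtain ⟨a, ha, s, hs, hks⟩ := (SolvBasic.mem_sup_iff_of_le_normalizer hSn).1 (htop ▸ Subgroup.mem_top k)
        have hsJ : s ∈ J := by
          have h1 : a ∈ J := (iSup_mono fun s => LEBasic.map_conj_mono _ hRK : R' ≤ J) ha
          have : s = a⁻¹ * k := by rw [hks]; group
          rw [this]; exact mul_mem (inv_mem h1) (hKJ hk)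
        rw [hks]
        exact mul_mem (hR'RD ha) (hSJD (Subgroup.mem_inf.2 ⟨hs, hsJ⟩))
      rw [← hperfK, Subgroup.commutator_le]
      intro x hx y hy
      obtain ⟨a, ha, d, hd, hxd⟩ := (SolvBasic.mem_sup_iff_of_le_normalizer hDR).1 (hKRD hx)
      obtain ⟨b, hb, e, he, hye⟩ := (SolvBasic.mem_sup_iff_of_le_normalizer hDR).1 (hKRD hy)
      have c1 : ∀ u ∈ K, d * u = u * d := fun u hu => (Subgroup.mem_centralizer_iff.1 (hDK hd) u hu).symm
      have c2 : ∀ u ∈ K, e * u = u * e := fun u hu => (Subgroup.mem_centralizer_iff.1 (hDK he) u hu).symm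
      have : ⁅x, y⁆ = ⁅a, b⁆ := by
        rw [hxd, commutatorElement_def, commutatorElement_def]
        calc a * d * y * (a * d)⁻¹ * y⁻¹ = a * (d * y) * d⁻¹ * a⁻¹ * y⁻¹ := by group
          _ = a * y * a⁻¹ * y⁻¹ := by rw [c1 y hy]; group
          _ = a * b * (e * a⁻¹) * e⁻¹ * b⁻¹ := by rw [hye]; group
          _ = a * b * a⁻¹ * b⁻¹ := by rw [c2 _ (inv_mem (hRK ha))]; group
      rw [this, commutatorElement_def]
      exact mul_mem (mul_mem (mul_mem ha hb) (inv_mem ha)) (inv_mem hb)
    exact hRR'.trans (le_sup_left.trans (hu _ le_sup_right hne))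
  refine LEPMinimal.isPMinimal_of_sylow T hnn fun M₁ M₂ hM₁ hM₂ h₁ h₂ => ?_
  have huniq : ∀ M₁ : Subgroup ↥H, IsCoatom M₁ → (T : Subgroup ↥H) ≤ M₁ →
      M₁.map H.subtype = (M ⊓ K) ⊔ NS := by
    intro M₁ hM₁ h₁
    set A := M₁.map H.subtype with hA
    have hAH : A ≤ H := Subgroup.map_subtype_le _
    have hNA : NS ≤ A := hT ▸ Subgroup.map_mono h₁
    have hAK : A ⊓ K ≠ K := by
      intro h
      refine hM₁.1 (top_le_iff.1 fun x _ => ?_)
      obtain ⟨y, hy, hyx⟩ := (sup_le (h ▸ inf_le_left) hNA : H ≤ A) x.2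
      exact (Subtype.ext hyx : y = x) ▸ hy
    have hle : A ⊓ K ≤ M ⊓ K := le_inf (key _ inf_le_right (fun n hn => Subgroup.inf_normalizer_le_normalizer_inf
      (Subgroup.mem_inf.2 ⟨Subgroup.le_normalizer (hNA hn), hNSn hn⟩)) (le_inf (hSKNS.trans hNA) inf_le_right) hAK) inf_le_right
    have hAeq : A ≤ (M ⊓ K) ⊔ NS := by
      intro x hx
      obtain ⟨k, hk, n, hn, rfl⟩ := (SolvBasic.mem_sup_iff_of_le_normalizer hNSn).1 (hAH hx)
      refine mul_mem (Subgroup.mem_sup_left (hle (Subgroup.mem_inf.2 ⟨?_, hk⟩))) (Subgroup.mem_sup_right hn)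
      simpa using mul_mem hx (inv_mem (hNA hn))
    have hBH : (M ⊓ K) ⊔ NS ≤ H := sup_le_sup_right inf_le_right _
    refine le_antisymm hAeq ?_
    by_contra hc
    have h3 : M₁ < ((M ⊓ K) ⊔ NS).subgroupOf H := by
      refine lt_of_le_not_ge (fun x hx => hAeq ⟨x, hx, rfl⟩) fun h => hc ?_
      rw [hA, ← Subgroup.map_subgroupOf_eq_of_le hBH]
      exact Subgroup.map_mono h
    have h4 := Subgroup.subgroupOf_eq_top.1 (hM₁.2 _ h3)
    refine hnKM fun k hk => ?_
    exact (sup_le inf_le_left (inf_le_left.trans hSM) : (M ⊓ K) ⊔ NS ≤ M) (h4 (Subgroup.mem_sup_left hk))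
  exact Subgroup.map_injective H.subtype_injective ((huniq M₁ hM₁ h₁).trans (huniq M₂ hM₂ h₂).symm)

end Cfsg.Agent.LEPMinComp
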