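/-
Structure of the groups `qdOver F`.
-/
import Cfsg.Agent.Lib.LocalEven.SL2Nat
import Cfsg.Prelude.Def_PLocal
import Cfsg.Agent.Lib.LocalEven.Basic

set_option autoImplicit false
set_option linter.unusedSectionVars false
set_option linter.style.haveILetI false

namespace Cfsg.Agent.LEQd

open Matrix

variable {F : Type*} [Field F]

local notation "SL2" => Matrix.SpecialLinearGroup (Fin 2) F
local notation "M2" => Matrix (Fin 2) (Fin 2) F
local notation "SL3" => Matrix.SpecialLinearGroup (Fin 3) F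

theorem row {M : SL3} (hM : M ∈ Cfsg.qdOver F) :
    M.1 2 0 = 0 ∧ M.1 2 1 = 0 ∧ M.1 2 2 = 1 := by
  induction hM using Subgroup.closure_induction with
  | mem M hM => exact hM
  | one => simp
  | mul a b _ _ ha hb =>
    obtain ⟨a0, a1, a2⟩ := ha
    obtain ⟨b0, b1, b2⟩ := hb
    simp [Matrix.mul_apply, Fin.sum_univ_three, *]
  | inv a _ ha =>
    obtain ⟨a0, a1, a2⟩ := ha
    have h : ∀ j, (a * a⁻¹).1 2 j = (1 : Matrix (Fin 3) (Fin 3) F) 2 j := by
      intro j; rw [mul_inv_cancel]; rfl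
    simp only [Matrix.SpecialLinearGroup.coe_mul, Matrix.mul_apply, Fin.sum_univ_three, a0, a1, a2,
      zero_mul, zero_add, one_mul] at h
    exact ⟨by simpa using h 0, by simpa using h 1, by simpa using h 2⟩

theorem mem_iff {M : SL3} : M ∈ Cfsg.qdOver F ↔ M.1 2 0 = 0 ∧ M.1 2 1 = 0 ∧ M.1 2 2 = 1 :=
  ⟨row, fun h => Subgroup.subset_closure h⟩

/-- The upper left block. -/
def blk (M : ↥(Cfsg.qdOver F)) : SL2 :=
  ⟨!![(M : SL3).1 0 0, (M : SL3).1 0 1; (M : SL3).1 1 0, (M : SL3).1 1 1], by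
    obtain ⟨h0, h1, h2⟩ := row M.2
    have hd := (M : SL3).2
    rw [Matrix.det_fin_three, h0, h1, h2] at hd
    rw [Matrix.det_fin_two]
    simp
    linear_combination hd⟩

/-- The block homomorphism onto `SL₂`. -/
def π : ↥(Cfsg.qdOver F) →* SL2 :=
  MonoidHom.mk' blk (fun M N => by
    obtain ⟨m0, m1, m2⟩ := row M.2
    obtain ⟨n0, n1, n2⟩ := row N.2
    apply Subtype.ext
    show (blk (M * N) : M2) = (blk M : M2) * (blk N : M2)
    ext i j
    fin_cases i <;> fin_cases j <;>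
      simp [blk, Matrix.mul_apply, Fin.sum_univ_two, Fin.sum_univ_three, n0, n1])

theorem π_apply (M : ↥(Cfsg.qdOver F)) :
    (π M : M2) = !![(M : SL3).1 0 0, (M : SL3).1 0 1; (M : SL3).1 1 0, (M : SL3).1 1 1] := rfl

/-- An element with given block and translation part. -/
def mk (g : SL2) (v : Fin 2 → F) : ↥(Cfsg.qdOver F) :=
  ⟨⟨!![(g : M2) 0 0, (g : M2) 0 1, v 0; (g : M2) 1 0, (g : M2) 1 1, v 1; 0, 0, 1], by
      have hd := g.2
      rw [Matrix.det_fin_two] at hd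
      rw [Matrix.det_fin_three]
      simp
      linear_combination hd⟩, mem_iff.2 ⟨rfl, rfl, rfl⟩⟩

/-- The translation part. -/
def tr (M : ↥(Cfsg.qdOver F)) : Fin 2 → F := ![(M : SL3).1 0 2, (M : SL3).1 1 2]

theorem π_mk (g : SL2) (v : Fin 2 → F) : π (mk g v) = g := by
  apply Subtype.ext
  ext i j
  fin_cases i <;> fin_cases j <;> rfl

theorem tr_mk (g : SL2) (v : Fin 2 → F) : tr (mk g v) = v := by
  funext i; fin_cases i <;> rfl

theorem ext' {M N : ↥(Cfsg.qdOver F)} (h : π M = π N) (h' : tr M = tr N) : M = N := by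
  obtain ⟨m0, m1, m2⟩ := row M.2
  obtain ⟨n0, n1, n2⟩ := row N.2
  have e := congrArg (fun g : SL2 => (g : M2)) h
  simp only [π_apply] at e
  have e00 := congrFun (congrFun e 0) 0
  have e01 := congrFun (congrFun e 0) 1
  have e10 := congrFun (congrFun e 1) 0
  have e11 := congrFun (congrFun e 1) 1
  have t0 := congrFun h' 0
  have t1 := congrFun h' 1
  apply Subtype.ext
  apply Subtype.ext
  ext i j
  fin_cases i <;> fin_cases j <;>
    simp_all [tr]

theorem tr_mul (M N : ↥(Cfsg.qdOver F)) : tr (M * N) = (π M : M2) *ᵥ tr N + tr M := by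
  obtain ⟨n0, n1, n2⟩ := row N.2
  funext i
  fin_cases i <;> simp [tr, π_apply, Matrix.mul_apply, Fin.sum_univ_three, n2] <;> ring

theorem tr_one : tr (1 : ↥(Cfsg.qdOver F)) = 0 := by
  funext i; fin_cases i <;> simp [tr]

theorem π_surjective : Function.Surjective (π (F := F)) := fun g => ⟨mk g 0, π_mk g 0⟩

theorem mem_ker_iff {M : ↥(Cfsg.qdOver F)} : M ∈ (π (F := F)).ker ↔
    (M : SL3).1 0 0 = 1 ∧ (M : SL3).1 0 1 = 0 ∧ (M : SL3).1 1 0 = 0 ∧ (M : SL3).1 1 1 = 1 := by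
  rw [MonoidHom.mem_ker]
  constructor
  · intro h
    have e := congrArg (fun g : SL2 => (g : M2)) h
    simp only [π_apply] at e
    exact ⟨by simpa using congrFun (congrFun e 0) 0, by simpa using congrFun (congrFun e 0) 1,
      by simpa using congrFun (congrFun e 1) 0, by simpa using congrFun (congrFun e 1) 1⟩
  · rintro ⟨h00, h01, h10, h11⟩
    apply Subtype.ext
    ext i j
    fin_cases i <;> fin_cases j <;> simp [π_apply, h00, h01, h10, h11]

/-- Translations as vectors. -/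
def kerEquiv : Additive ↥(π (F := F)).ker ≃+ (Fin 2 → F) where
  toFun x := tr (x.toMul : ↥(Cfsg.qdOver F))
  invFun v := Additive.ofMul ⟨mk 1 v, MonoidHom.mem_ker.2 (π_mk 1 v)⟩
  left_inv x := by
    apply Additive.toMul.injective
    exact Subtype.ext (ext' ((π_mk 1 _).trans (MonoidHom.mem_ker.1 x.toMul.2).symm) (tr_mk 1 _))
  right_inv v := tr_mk 1 v
  map_add' x y := by
    show tr ((x.toMul : ↥(Cfsg.qdOver F)) * (y.toMul : ↥(Cfsg.qdOver F))) = _
    rw [tr_mul, MonoidHom.mem_ker.1 x.toMul.2, Matrix.SpecialLinearGroup.coe_one, Matrix.one_mulVec, add_comm]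

theorem tr_conj (l v : ↥(Cfsg.qdOver F)) (hv : π v = 1) :
    tr (l * v * l⁻¹) = (π l : M2) *ᵥ tr v := by
  have h : tr (l * v * l⁻¹ * l) = tr (l * v) := by rw [inv_mul_cancel_right]
  rw [tr_mul, map_mul, map_mul, hv, mul_one, map_inv, mul_inv_cancel, Matrix.SpecialLinearGroup.coe_one,
    Matrix.one_mulVec, tr_mul l v] at h
  exact add_left_cancel (a := tr l) (h.trans (add_comm _ _))

section Fin

variable [Fintype F] {p : ℕ} [Fact p.Prime] [CharP F p]

theorem isPGroup_ker : IsPGroup p ↥(π (F := F)).ker := fun x => ⟨1, by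
  apply Additive.ofMul.injective
  apply kerEquiv.injective
  rw [pow_one, ofMul_pow, ofMul_one, map_nsmul, map_zero]
  funext i
  simp [nsmul_eq_mul, CharP.cast_eq_zero]⟩

theorem pCore_eq : Cfsg.pCore p ↥(Cfsg.qdOver F) = (π (F := F)).ker := by
  refine le_antisymm (fun M hM => ?_) (LEBasic.le_pCore inferInstance isPGroup_ker)
  haveI : (Cfsg.pCore p ↥(Cfsg.qdOver F)).Normal := Cfsg.pCore_normal p _
  haveI := Subgroup.Normal.map (inferInstance : (Cfsg.pCore p ↥(Cfsg.qdOver F)).Normal) π π_surjective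
  have h := LENat.eq_bot_of_normal ((LEBasic.pCore_isPGroup (p := p) (G := ↥(Cfsg.qdOver F))).map (π (F := F)))
  rw [MonoidHom.mem_ker, ← Subgroup.mem_bot, ← h]
  exact ⟨M, hM, rfl⟩

end Fin

/-- The block diagonal complement. -/
def Kc : Subgroup ↥(Cfsg.qdOver F) where
  carrier := {M | (M : SL3).1 0 2 = 0 ∧ (M : SL3).1 1 2 = 0}
  one_mem' := by simp
  mul_mem' := by
    intro a b ha hb
    obtain ⟨-, -, n2⟩ := row b.2
    have e := tr_mul a b
    have hb' : tr b = 0 := funext fun i => by fin_cases i; exacts [hb.1, hb.2]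
    have ha' : tr a = 0 := funext fun i => by fin_cases i; exacts [ha.1, ha.2]
    rw [hb', ha', Matrix.mulVec_zero, add_zero] at e
    exact ⟨congrFun e 0, congrFun e 1⟩
  inv_mem' := by
    intro a ha
    have ha' : tr a = 0 := funext fun i => by fin_cases i; exacts [ha.1, ha.2]
    have e := tr_mul a a⁻¹
    rw [mul_inv_cancel, tr_one, ha', add_zero] at e
    have e' : tr a⁻¹ = 0 := by
      have h2 := LENat.mulVec_injective (π a) (a₁ := tr a⁻¹) (a₂ := 0) (by simp [← e])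
      exact h2
    exact ⟨congrFun e' 0, congrFun e' 1⟩

theorem mem_Kc {M : ↥(Cfsg.qdOver F)} : M ∈ Kc ↔ tr M = 0 :=
  ⟨fun h => funext fun i => by fin_cases i; exacts [h.1, h.2], fun h => ⟨congrFun h 0, congrFun h 1⟩⟩

/-- The complement is isomorphic to `SL₂`. -/
noncomputable def KcEquiv : ↥(Kc (F := F)) ≃* SL2 :=
  MulEquiv.ofBijective (π.comp Kc.subtype)
    ⟨fun a b h => Subtype.ext (ext' h ((mem_Kc.1 a.2).trans (mem_Kc.1 b.2).symm)),
      fun g => ⟨⟨mk g 0, mem_Kc.2 (tr_mk g 0)⟩, π_mk g 0⟩⟩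

theorem Kc_inf : Kc ⊓ (π (F := F)).ker = ⊥ := by
  rw [eq_bot_iff]
  rintro M ⟨h1, h2⟩
  rw [Subgroup.mem_bot]
  exact ext' ((MonoidHom.mem_ker.1 h2).trans (map_one π).symm) ((mem_Kc.1 h1).trans tr_one.symm)

theorem Kc_sup : Kc ⊔ (π (F := F)).ker = ⊤ := by
  rw [eq_top_iff]
  intro M _
  have h : M = mk 1 (tr M) * mk (π M) 0 := ext' (by rw [map_mul, π_mk, π_mk, one_mul])
    (by rw [tr_mul, tr_mk, tr_mk, Matrix.mulVec_zero, zero_add])
  rw [h]
  exact mul_mem (Subgroup.mem_sup_right (MonoidHom.mem_ker.2 (π_mk 1 _)))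
    (Subgroup.mem_sup_left (mem_Kc.2 (tr_mk _ 0)))

theorem natural : Cfsg.IsNaturalSL2Module F (π (F := F)).ker (Kc (F := F)) := by
  refine ⟨by rw [Subgroup.normalizer_eq_top]; exact le_top, π.comp Kc.subtype, kerEquiv,
    KcEquiv.surjective, ?_, fun l v => ⟨⟨(l : ↥(Cfsg.qdOver F)) * v * (l : ↥(Cfsg.qdOver F))⁻¹,
      (inferInstance : (π (F := F)).ker.Normal).conj_mem _ v.2 _⟩, rfl, tr_conj _ _ (MonoidHom.mem_ker.1 v.2)⟩⟩
  ext l
  rw [MonoidHom.mem_ker, Subgroup.mem_subgroupOf, Subgroup.mem_centralizer_iff]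
  constructor
  · intro h v hv
    have hl : (l : ↥(Cfsg.qdOver F)) = 1 := congrArg Subtype.val (KcEquiv.injective (a₁ := l) (a₂ := 1) (h.trans (map_one KcEquiv).symm))
    rw [hl, mul_one, one_mul]
  · intro h
    have hfix : ∀ v : Fin 2 → F, ((π (l : ↥(Cfsg.qdOver F)) : SL2) : M2) *ᵥ v = v := fun v => by
      have h1 := h (mk 1 v) (MonoidHom.mem_ker.2 (π_mk 1 v))
      have h2 := tr_conj (l : ↥(Cfsg.qdOver F)) (mk 1 v) (π_mk 1 v)
      rw [← h1, mul_inv_cancel_right, tr_mk] at h2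
      exact h2.symm
    apply Subtype.ext
    show ((π (l : ↥(Cfsg.qdOver F)) : SL2) : M2) = 1
    refine Matrix.ext_of_mulVec_single fun i => ?_
    rw [hfix, Matrix.one_mulVec]

end Cfsg.Agent.LEQd
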