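/-
Pairs of quadratic operators satisfying relations of `PSL₂(q)` or of `PSL₂(8)`.
-/
import Cfsg.Agent.Lib.Classical.SL2Classes
import Cfsg.Agent.Lib.LocalEven.SL2Nat
import Cfsg.Agent.Lib.Recog.SL2Orders
import Cfsg.Prelude.Def_Classical
import Mathlib.Tactic.NoncommRing
import Mathlib.Tactic.LinearCombination

set_option autoImplicit false
set_option linter.unusedSectionVars false

namespace Cfsg.Agent.QuadPair

section Ring

variable {R : Type*} [Ring R] {u v : R}

/-- The braid relation with an involution forces equality. -/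
theorem braid (hu : u * u = 0) (hv : v * v = 0) (h2 : ∀ x : R, 2 * x = 0 → x = 0)
    (hbr : (1 + u) * (1 + v) * (1 + u) = (1 + v) * (1 + u) * (1 + v))
    (hsq : ((1 + u) * (1 + v) * (1 + u)) * ((1 + u) * (1 + v) * (1 + u)) = 1) : u = v := by
  have hu' : ∀ a, u * (u * a) = 0 := fun a => by rw [← mul_assoc, hu, zero_mul]
  have hv' : ∀ a, v * (v * a) = 0 := fun a => by rw [← mul_assoc, hv, zero_mul]
  have e1 : u + u * (v * u) = v + v * (u * v) := by
    have h1 : (1 + u) * (1 + v) * (1 + u) = 1 + (u + u) + v + u * v + v * u + u * (v * u) := by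
      simp only [add_mul, mul_add, one_mul, mul_one, mul_assoc, hu]; abel
    have h3 : (1 + v) * (1 + u) * (1 + v) = 1 + (v + v) + u + v * u + u * v + v * (u * v) := by
      simp only [add_mul, mul_add, one_mul, mul_one, mul_assoc, hv]; abel
    rw [h1, h3, ← sub_eq_zero] at hbr
    rw [← sub_eq_zero, ← hbr]; abel
  have e2 : u * v + u * (v * (u * v)) = 0 := by
    have := congrArg (u * ·) e1
    simp only [mul_add, hu, hu', add_zero, zero_add] at this
    exact this.symm
  have e3 : v * u + v * (u * (v * u)) = 0 := by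
    have := congrArg (v * ·) e1
    simp only [mul_add, hv, hv', add_zero] at this
    exact this
  have e4 : u * (v * u) + u * (v * (u * (v * u))) = 0 := by
    have := congrArg (· * u) e2
    simpa only [add_mul, zero_mul, mul_assoc] using this
  obtain ⟨X, hX⟩ : ∃ X, X = (1 + u) * (1 + v) * (1 + u) := ⟨_, rfl⟩
  rw [← hX] at hsq
  have hXu : X * u = u + v * u + u * (v * u) := by
    rw [hX]; simp only [add_mul, mul_add, one_mul, mul_one, mul_assoc, hu, hu', mul_zero, add_zero]; abel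
  have hXvu : X * (v * u) = v * u + u * (v * u) + u * (v * u) + u * (v * (u * (v * u))) +
      v * (u * (v * u)) + u * (v * (u * (v * u))) + u * (v * (u * (v * u))) - u * (v * (u * (v * u))) - u * (v * (u * (v * u))) := by
    rw [hX]; simp only [add_mul, mul_add, one_mul, mul_one, mul_assoc, hu, hu', hv', mul_zero, add_zero]; abel
  have hXuvu : X * (u * (v * u)) = u * (v * u) + v * (u * (v * u)) + u * (v * (u * (v * u))) := by
    rw [hX]; simp only [add_mul, mul_add, one_mul, mul_one, mul_assoc, hu, hu', mul_zero, add_zero]; abel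
  have hXXu : u = X * (X * u) := by rw [← mul_assoc, hsq, one_mul]
  rw [hXu, mul_add, mul_add, hXu, hXvu, hXuvu] at hXXu
  have h5 : 2 * (u * (v * u)) = 0 := by
    have h6 : v * (u * (v * u)) = -(v * u) := eq_neg_of_add_eq_zero_right e3
    have h7 : u * (v * (u * (v * u))) = -(u * (v * u)) := eq_neg_of_add_eq_zero_right e4
    rw [h7, h6, ← sub_eq_zero] at hXXu
    rw [two_mul, ← neg_eq_zero, ← hXXu]; abel
  have h8 : u * (v * u) = 0 := h2 _ h5
  have h9 : u * v = 0 := by
    have : u * (v * (u * v)) = 0 := by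
      rw [show u * (v * (u * v)) = u * (v * u) * v by simp only [mul_assoc], h8, zero_mul]
    rwa [this, add_zero] at e2
  rw [h8, h9, mul_zero, add_zero, add_zero] at e1
  exact e1

/-- Relations of orders `7` and `9` for a quadratic pair in characteristic three. -/
theorem seven_nine [CharP R 3] (hu : u * u = 0) (hv : v * v = 0)
    (h7 : ((1 + u) * (1 + v)) ^ 7 = 1) (h9 : ((1 + u) * (1 - v)) ^ 9 = 1) : (1 + u) * (1 + v) = 1 := by
  haveI : Fact (Nat.Prime 3) := ⟨Nat.prime_three⟩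
  have hu' : ∀ a, u * (u * a) = 0 := fun a => by rw [← mul_assoc, hu, zero_mul]
  have hv' : ∀ a, v * (v * a) = 0 := fun a => by rw [← mul_assoc, hv, zero_mul]
  obtain ⟨W, hW⟩ : ∃ W, W = (1 + u) * (1 + v) := ⟨_, rfl⟩
  obtain ⟨W', hW'⟩ : ∃ W', W' = (1 + u) * (1 - v) := ⟨_, rfl⟩
  obtain ⟨z, hz⟩ : ∃ z, z = u * v + v * u := ⟨_, rfl⟩
  rw [← hW] at h7 ⊢
  rw [← hW'] at h9
  have hc : Commute z W ∧ Commute z W' := by
    constructor <;> (show _ * _ = _ * _; rw [hz]; first | rw [hW] | rw [hW']) <;>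
      simp only [add_mul, mul_add, sub_mul, mul_sub, one_mul, mul_one, mul_assoc, hu, hu', hv, hv', mul_zero] <;> abel
  have s1 : (W - 1) ^ 2 = z * W := by
    rw [pow_two, hW, hz]
    simp only [add_mul, mul_add, sub_mul, mul_sub, one_mul, mul_one, mul_assoc, hu, hu', hv, hv', mul_zero]; abel
  have s2 : (W' - 1) ^ 2 = -z * W' := by
    rw [pow_two, hW', hz]
    simp only [add_mul, mul_add, sub_mul, mul_sub, neg_mul, mul_neg, neg_neg, one_mul, mul_one, mul_assoc, hu, hu', hv,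
      hv', mul_zero]
    abel
  have h3 : (W' - 1) ^ 9 = 0 := by
    rw [show (9 : ℕ) = 3 ^ 2 by norm_num, sub_pow_char_pow_of_commute 3 2 (Commute.one_right _), one_pow,
      show (3 : ℕ) ^ 2 = 9 by norm_num, h9, sub_self]
  have hz9 : z ^ 9 = 0 := by
    have h4 : ((W' - 1) ^ 2) ^ 9 = 0 := by rw [← pow_mul, mul_comm, pow_mul, h3, zero_pow two_ne_zero]
    rw [s2, hc.2.neg_left.mul_pow, h9, mul_one, Odd.neg_pow (by decide), neg_eq_zero] at h4
    exact h4
  have h18 : (W - 1) ^ 18 = 0 := by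
    rw [show 18 = 2 * 9 by norm_num, pow_mul, s1, hc.1.mul_pow, hz9, zero_mul]
  have h27 : W ^ 27 = 1 := by
    have h5 : (W - 1) ^ 3 ^ 3 = 0 := pow_eq_zero_of_le (by norm_num) h18
    rw [sub_pow_char_pow_of_commute 3 3 (Commute.one_right _), one_pow, sub_eq_zero] at h5
    exact h5
  have h28 : W ^ 28 = 1 := by rw [show 28 = 7 * 4 by norm_num, pow_mul, h7, one_pow]
  rwa [pow_succ W 27, h27, one_mul] at h28

/-- A quadratic operator has order dividing `p`. -/
theorem pow_prime {p : ℕ} (hp : p.Prime) (h0 : (p : R) = 0) {x : R} (hx : (x - 1) * (x - 1) = 0) : x ^ p = 1 := by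
  have key : ∀ n : ℕ, x ^ n = 1 + (n : R) * (x - 1) := by
    intro n
    induction n with
    | zero => simp
    | succ n ih =>
      have e : x ^ n * x = (1 + (n : R) * (x - 1)) * (1 + (x - 1)) := by rw [← ih, add_sub_cancel]
      rw [pow_succ, e, mul_add, mul_one, add_mul, one_mul, mul_assoc, hx, mul_zero, add_zero, Nat.cast_succ,
        add_mul, one_mul]
      abel
  rw [key, h0, zero_mul, add_zero]

end Ring

/-! ### The pair in `PSL₂` -/

section PSL

open Matrix

variable {F : Type*} [Field F]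

local notation "SL2" => Matrix.SpecialLinearGroup (Fin 2) F
local notation "M2" => Matrix (Fin 2) (Fin 2) F

/-- The braid pair of a unipotent element. -/
theorem exists_pair_sl2 (b : F) (hb : b ≠ 0) :
    ∃ K : SL2, K * LENat.upp b * K⁻¹ = LENat.low (-b⁻¹) ∧
      LENat.upp b * LENat.low (-b⁻¹) * LENat.upp b = LENat.low (-b⁻¹) * LENat.upp b * LENat.low (-b⁻¹) ∧
      ((LENat.upp b * LENat.low (-b⁻¹) * LENat.upp b * (LENat.upp b * LENat.low (-b⁻¹) * LENat.upp b) : SL2) : M2) =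
        (-1 : F) • (1 : M2) := by
  obtain ⟨K, hKv⟩ : ∃ K : SL2, (K : M2) = !![0, -b; b⁻¹, 0] :=
    ⟨⟨!![0, -b; b⁻¹, 0], by simp [Matrix.det_fin_two, hb]⟩, rfl⟩
  refine ⟨K, ?_, ?_, ?_⟩
  · rw [mul_inv_eq_iff_eq_mul]
    apply Subtype.ext
    simp only [Matrix.SpecialLinearGroup.coe_mul, hKv, LENat.upp_val, LENat.low_val]
    ext i j
    fin_cases i <;> fin_cases j <;> simp [Matrix.mul_apply, Fin.sum_univ_two, hb]
  · apply Subtype.ext
    simp only [Matrix.SpecialLinearGroup.coe_mul, LENat.upp_val, LENat.low_val]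
    ext i j
    fin_cases i <;> fin_cases j <;> simp [Matrix.mul_apply, Fin.sum_univ_two, hb]
  · simp only [Matrix.SpecialLinearGroup.coe_mul, LENat.upp_val, LENat.low_val]
    ext i j
    fin_cases i <;> fin_cases j <;> simp [Matrix.mul_apply, Fin.sum_univ_two, hb]

/-- The pair in the image under a map killing the centre. -/
theorem exists_pair_map {Q : Type*} [Group Q] (φ : SL2 →* Q)
    (hφ : ∀ g : SL2, (g : M2) = (-1 : F) • (1 : M2) → φ g = 1) (b : F) (hb : b ≠ 0) :
    ∃ g : Q, let a := φ (LENat.upp b); let c := g * a * g⁻¹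
      c = φ (LENat.low (-b⁻¹)) ∧ a * c * a = c * a * c ∧ (a * c * a) * (a * c * a) = 1 := by
  obtain ⟨K, h1, h2, h3⟩ := exists_pair_sl2 b hb
  refine ⟨φ K, ?_⟩
  have e : φ K * φ (LENat.upp b) * (φ K)⁻¹ = φ (LENat.low (-b⁻¹)) := by rw [← map_inv, ← map_mul, ← map_mul, h1]
  simp only [e]
  refine ⟨trivial, ?_, ?_⟩
  · simp only [← map_mul, h2]
  · simp only [← map_mul]
    exact hφ _ h3

/-- An element of order `p` of `PSL₂` has a braid partner different from it. -/
theorem exists_pair_psl [Fintype F] (p : ℕ) [Fact p.Prime] [CharP F p] (hp : p ≠ 2)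
    (a : Matrix.ProjectiveSpecialLinearGroup (Fin 2) F) (ha : orderOf a = p) :
    ∃ g : Matrix.ProjectiveSpecialLinearGroup (Fin 2) F, a ≠ g * a * g⁻¹ ∧
      a * (g * a * g⁻¹) * a = g * a * g⁻¹ * a * (g * a * g⁻¹) ∧
      (a * (g * a * g⁻¹) * a) * (a * (g * a * g⁻¹) * a) = 1 := by
  obtain ⟨σ₀, hσ₀⟩ := QuotientGroup.mk_surjective a
  have hc : σ₀ ^ p ∈ Subgroup.center SL2 := by
    rw [← QuotientGroup.eq_one_iff, QuotientGroup.mk_pow, hσ₀, ← ha, pow_orderOf_eq_one]
  obtain ⟨σ, hσ, hσp⟩ : ∃ σ : SL2, (QuotientGroup.mk σ : Matrix.ProjectiveSpecialLinearGroup (Fin 2) F) = a ∧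
      σ ^ p = 1 := by
    refine ⟨σ₀ ^ (p + 1), ?_, ?_⟩
    · rw [QuotientGroup.mk_pow, hσ₀, pow_succ, ← ha, pow_orderOf_eq_one, one_mul]
    · rw [← pow_mul, mul_comm, pow_mul]
      obtain ⟨c, hc2, hcv⟩ := SL2Orders.exists_scalar_of_mem_center _ hc
      apply Subtype.ext
      rw [Matrix.SpecialLinearGroup.coe_pow, hcv, smul_pow, one_pow, Matrix.SpecialLinearGroup.coe_one]
      obtain ⟨d, hd⟩ := (Fact.out : p.Prime).odd_of_ne_two hp
      rw [hd, show 2 * d + 1 + 1 = 2 * (d + 1) by ring, pow_mul, pow_two, hc2, one_pow, one_smul]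
  have hσne : σ ≠ 1 := fun h => by
    rw [h, QuotientGroup.mk_one] at hσ
    rw [← hσ, orderOf_one] at ha
    exact (Fact.out : p.Prime).ne_one ha.symm
  obtain ⟨b, hb, hbc⟩ := SL2Classes.exists_conj_upper p σ (orderOf_eq_prime hσp hσne)
  obtain ⟨k, hk⟩ := isConj_iff.1 hbc
  obtain ⟨φ, hφ⟩ : ∃ φ : SL2 →* Matrix.ProjectiveSpecialLinearGroup (Fin 2) F, φ = QuotientGroup.mk' _ := ⟨_, rfl⟩
  have hku : φ k * a * (φ k)⁻¹ = φ (LENat.upp b) := by
    rw [← hσ, hφ, ← map_inv]
    show (QuotientGroup.mk (k * σ * k⁻¹) : Matrix.ProjectiveSpecialLinearGroup (Fin 2) F) = _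
    rw [hk]; rfl
  obtain ⟨g, h1, h2, h3⟩ := exists_pair_map φ (fun z hz => by
    rw [hφ, QuotientGroup.mk'_apply, QuotientGroup.eq_one_iff]
    exact SL2Orders.mem_center_of_scalar _ _ hz) b hb
  have ea : a = (φ k)⁻¹ * φ (LENat.upp b) * φ k := by rw [← hku]; group
  refine ⟨(φ k)⁻¹ * g * φ k, ?_, ?_, ?_⟩
  · have e : (φ k)⁻¹ * g * φ k * a * ((φ k)⁻¹ * g * φ k)⁻¹ = (φ k)⁻¹ * φ (LENat.low (-b⁻¹)) * φ k := by
      rw [ea, ← h1]; group
    rw [e]
    nth_rewrite 1 [ea]
    intro h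
    have h' := mul_left_cancel (mul_right_cancel h)
    rw [hφ, QuotientGroup.mk'_apply, QuotientGroup.mk'_apply, QuotientGroup.eq] at h'
    obtain ⟨c, -, hc'⟩ := SL2Orders.exists_scalar_of_mem_center _ h'
    rw [Matrix.SpecialLinearGroup.coe_mul, Matrix.SpecialLinearGroup.coe_inv, LENat.upp_val, LENat.low_val] at hc'
    have := congrFun (congrFun hc' 0) 1
    simp [Matrix.mul_apply, Fin.sum_univ_two, Matrix.adjugate_fin_two] at this
    exact hb this
  · rw [ea]
    calc _ = (φ k)⁻¹ * (φ (LENat.upp b) * (g * φ (LENat.upp b) * g⁻¹) * φ (LENat.upp b)) * φ k := by group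
      _ = (φ k)⁻¹ * (g * φ (LENat.upp b) * g⁻¹ * φ (LENat.upp b) * (g * φ (LENat.upp b) * g⁻¹)) * φ k := by
          rw [h2]
      _ = _ := by group
  · rw [ea]
    calc _ = (φ k)⁻¹ * ((φ (LENat.upp b) * (g * φ (LENat.upp b) * g⁻¹) * φ (LENat.upp b)) *
          (φ (LENat.upp b) * (g * φ (LENat.upp b) * g⁻¹) * φ (LENat.upp b))) * φ k := by group
      _ = 1 := by rw [h3]; group

end PSL

end Cfsg.Agent.QuadPair
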