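/-
Every element of order three of a small Ree group has a conjugate forming a pair with relations of `PSL₂(q)`
(the class outside the centre of a Sylow subgroup) or of `PSL₂(8)` (the central class).
-/
import Cfsg.Agent.Lib.Lie.Ree2
import Cfsg.Agent.Lib.LocalEven.QuadPair

set_option autoImplicit false
set_option maxRecDepth 20000
set_option linter.unusedSectionVars false

namespace Cfsg.Agent.ReeQuad

open Cfsg.Lie Cfsg.Agent.Chev Cfsg.Agent.Chev.Tab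
open Cfsg.Agent.Chev.TwG2 (tw g0 uP wd)
open Cfsg.Agent.Chev.Ree (uF)
open Matrix (SpecialLinearGroup)

/-- A partner with the braid relation or with products of orders `7` and `9`. -/
def Pair {G : Type*} [Group G] (x : G) : Prop :=
  ∃ g : G, (x ≠ g * x * g⁻¹ ∧ x * (g * x * g⁻¹) * x = g * x * g⁻¹ * x * (g * x * g⁻¹) ∧
      (x * (g * x * g⁻¹) * x) * (x * (g * x * g⁻¹) * x) = 1) ∨
    ((x * (g * x * g⁻¹)) ^ 7 = 1 ∧ (x * (g * x * g⁻¹)⁻¹) ^ 9 = 1 ∧ x * (g * x * g⁻¹) ≠ 1)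

theorem pair_map {G H : Type*} [Group G] [Group H] (e : G ≃* H) {x : G} (h : Pair x) : Pair (e x) := by
  obtain ⟨g, h | h⟩ := h <;> refine ⟨e g, ?_⟩
  · obtain ⟨h1, h2, h3⟩ := h
    left
    simp only [← map_inv, ← map_mul]
    exact ⟨fun e' => h1 (e.injective e'), by rw [h2], by rw [h3, map_one]⟩
  · obtain ⟨h1, h2, h3⟩ := h
    right
    simp only [← map_inv, ← map_mul, ← map_pow]
    exact ⟨by rw [h1, map_one], by rw [h2, map_one], fun e' => h3 (e.injective (e'.trans (map_one e).symm))⟩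

theorem pair_of_conj {G : Type*} [Group G] {x x' g : G} (hx : g * x * g⁻¹ = x') (h : Pair x') : Pair x := by
  have := pair_map (MulAut.conj g⁻¹) h
  rwa [show MulAut.conj g⁻¹ x' = x by rw [MulAut.conj_apply, ← hx]; group] at this

theorem eq_one_of_inverted {G : Type*} [Group G] {C X : G} (hC : C ^ 3 = 1) (hX : X ^ 3 = 1)
    (h : C * X * C⁻¹ = X⁻¹) : X = 1 := by
  have h6 : X = X⁻¹ := by
    calc X = C ^ 3 * X * (C ^ 3)⁻¹ := by rw [hC, inv_one, mul_one, one_mul]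
      _ = C * (C * (C * X * C⁻¹) * C⁻¹) * C⁻¹ := by
          rw [pow_succ, pow_two, _root_.mul_inv_rev, _root_.mul_inv_rev]; simp only [mul_assoc]
      _ = C * (C * X⁻¹ * C⁻¹) * C⁻¹ := by rw [h]
      _ = C * (C * X * C⁻¹)⁻¹ * C⁻¹ := by group
      _ = C * X * C⁻¹ := by rw [h, inv_inv]; exact h
      _ = X⁻¹ := h
  have : X * X = 1 := by nth_rewrite 2 [h6]; exact mul_inv_cancel X
  rwa [pow_succ, pow_two, this, one_mul] at hX

/-- The central root element. -/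
def wX : List (ℕ × ℤ) := [(9, 1), (11, 1)]

/-- Its inverse. -/
def wXi : List (ℕ × ℤ) := [(11, -1), (9, -1)]

/-- The conjugator. -/
def wC : List (ℕ × ℤ) := [(3, -1), (1, -1)]

/-- Its inverse. -/
def wCi : List (ℕ × ℤ) := [(1, 1), (3, 1)]

/-- The partner. -/
def wY : List (ℕ × ℤ) := wC ++ wX ++ wCi

/-- The inverse of the partner. -/
def wYi : List (ℕ × ℤ) := wC ++ wXi ++ wCi

/-- A power of a word. -/
def wPow (w : List (ℕ × ℤ)) : ℕ → List (ℕ × ℤ)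
  | 0 => []
  | n + 1 => w ++ wPow w n

theorem relsOK : G2Data.tab.checkWordP 3 (wPow (wX ++ wY) 7) [] = true ∧
    G2Data.tab.checkWordP 3 (wPow (wX ++ wYi) 9) [] = true ∧
    G2Data.tab.checkWordP 3 (wX ++ wXi) [] = true ∧ G2Data.tab.checkWordP 3 (wC ++ wCi) [] = true ∧
    G2Data.tab.checkWordP 3 (wPow wC 3) [] = true := by
  decide +kernel

variable {F : Type*} [Field F] [CharP F 3] [Fintype F] {m : ℕ}

theorem cWordVal_wPow (w : List (ℕ × ℤ)) : ∀ n, cWordVal g0 F (wPow w n) = cWordVal g0 F w ^ n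
  | 0 => by simp [wPow, cWordVal]
  | n + 1 => by rw [wPow, cWordVal_append, cWordVal_wPow w n, pow_succ']

variable (hK : Fintype.card F = 3 ^ (2 * m + 1))
include hK

theorem uF_mem (t u v : F) : uF m t u v ∈ tw F (3 ^ m) := ((Ree.mem_U1_iff hK).2 ⟨t, u, v, rfl⟩).2

theorem nWd_mem : nWd g0 F (wd 0) ∈ tw F (3 ^ m) := (TwG2.X hK).n_mem 0 Nat.one_pos

theorem pair_noncentral (u : F) (hu : u ≠ 0) : Pair (⟨uF m 0 u 0, uF_mem hK 0 u 0⟩ : ↥(tw F (3 ^ m))) := by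
  obtain ⟨ψ, hX, hY, -, hneg⟩ := Ree.exists_psi hK
  have hmem : ∀ g, ψ g ∈ tw F (3 ^ m) := by
    intro g
    have hle : Subgroup.closure (Set.range (SL2Pres.up (K := F)) ∪ Set.range (SL2Pres.low (K := F))) ≤
        (tw F (3 ^ m)).comap ψ := by
      rw [Subgroup.closure_le]
      rintro z (⟨b, rfl⟩ | ⟨b, rfl⟩) <;> rw [SetLike.mem_coe, Subgroup.mem_comap]
      · rw [hX]; exact uF_mem hK _ _ _
      · rw [hY]; exact mul_mem (mul_mem (nWd_mem hK) (uF_mem hK _ _ _)) (inv_mem (nWd_mem hK))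
    exact hle (SL2Pres.closure_up_low (K := F) ▸ Subgroup.mem_top g)
  have hu' : LENat.upp u = SL2Pres.up u := Subtype.ext (by rw [LENat.upp_val, SL2Pres.up_val])
  have hl' : LENat.low (-u⁻¹) = SL2Pres.low (-u⁻¹) := Subtype.ext (by rw [LENat.low_val, SL2Pres.low_val])
  obtain ⟨φ, hφ⟩ : ∃ φ : SpecialLinearGroup (Fin 2) F →* ↥(tw F (3 ^ m)), φ = ψ.codRestrict _ hmem := ⟨_, rfl⟩
  obtain ⟨g, h1, h2, h3⟩ := QuadPair.exists_pair_map φ (fun z hz => by
    apply Subtype.ext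
    rw [hφ]
    show ψ z = 1
    have hz' : z = SL2Pres.wS F * SL2Pres.wS F := by
      rw [SL2Pres.wS_sq]
      apply Subtype.ext
      rw [hz]
      ext i j
      fin_cases i <;> fin_cases j <;> simp [SL2Pres.diagS_val]
    rw [hz', SL2Pres.wS_sq]
    exact hneg) u hu
  have hxe : φ (LENat.upp u) = ⟨uF m 0 u 0, uF_mem hK 0 u 0⟩ := by
    apply Subtype.ext
    rw [hφ]
    show ψ (LENat.upp u) = uF m 0 u 0
    rw [hu', hX]
  rw [hxe] at h1 h2 h3
  refine ⟨g, Or.inl ⟨fun he => ?_, h2, h3⟩⟩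
  rw [h1] at he
  have he' : uF m 0 u 0 = nWd g0 F (wd 0) * uF m 0 (-(-u⁻¹)) 0 * (nWd g0 F (wd 0))⁻¹ := by
    have := congrArg Subtype.val he
    rw [hφ] at this
    rw [← hY, ← hl']
    exact this
  have h0 := Ree.U1_conj_eq_one hK (z := uF m 0 (-(-u⁻¹)) 0) ((Ree.mem_U1_iff hK).2 ⟨_, _, _, rfl⟩) (by
    rw [Ree.mRep, inv_inv, ← he']
    exact Subgroup.mem_sup_left ((Ree.mem_U1_iff hK).2 ⟨_, _, _, rfl⟩).1)
  have h4 := (Ree.uF_inj (h0.trans (Ree.uF_zero (m := m)).symm)).2.1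
  rw [_root_.neg_neg, inv_eq_zero] at h4
  exact hu h4

theorem pair_central : Pair (⟨uF m 0 0 1, uF_mem hK 0 0 1⟩ : ↥(tw F (3 ^ m))) := by
  have h0 : (0 : F) ^ 3 ^ m = 0 := zero_pow (by positivity)
  have hx : cWordVal g0 F wX = uF m 0 0 1 := by
    simp [cWordVal, wX, uF, uP, h0]
  have hc : cWordVal g0 F wC = nWd g0 F (wd 0) * uF m 0 1 0 * (nWd g0 F (wd 0))⁻¹ := by
    have e : uF m (0 : F) 1 0 = xg g0 8 1 * xg g0 10 1 := by simp [uF, uP, h0]
    have e2 : nWd g0 F (wd 0) * (xg g0 8 1 * xg g0 10 1) * (nWd g0 F (wd 0))⁻¹ =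
        xg g0 (G2Data.tab.neg 8) (-1) * xg g0 (G2Data.tab.neg 10) (-1) := by
      rw [← TwG2.nWd_neg (by simp), ← TwG2.nWd_neg (by simp)]
      group
    have hn : G2Data.tab.neg 8 = 3 ∧ G2Data.tab.neg 10 = 1 := by decide +kernel
    rw [e, e2, hn.1, hn.2]
    simp [cWordVal, wC]
  obtain ⟨r7, r9, rx, rc, rc3⟩ := relsOK
  have hxi : cWordVal g0 F wXi = (cWordVal g0 F wX)⁻¹ := by
    refine eq_inv_of_mul_eq_one_right ?_
    rw [← cWordVal_append, word_eq_modP g0 3 rx]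
    simp [cWordVal]
  have hci : cWordVal g0 F wCi = (cWordVal g0 F wC)⁻¹ := by
    refine eq_inv_of_mul_eq_one_right ?_
    rw [← cWordVal_append, word_eq_modP g0 3 rc]
    simp [cWordVal]
  have e7 := word_eq_modP (F := F) g0 3 r7
  have e9 := word_eq_modP (F := F) g0 3 r9
  have e3 := word_eq_modP (F := F) g0 3 rc3
  rw [cWordVal_wPow, cWordVal_append] at e7 e9
  rw [cWordVal_wPow] at e3
  simp only [wY, wYi, cWordVal_append, hxi, hci] at e7 e9
  rw [show cWordVal g0 F [] = 1 by simp [cWordVal]] at e7 e9 e3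
  rw [hx] at e7 e9
  refine ⟨⟨cWordVal g0 F wC, hc ▸ mul_mem (mul_mem (nWd_mem hK) (uF_mem hK _ _ _)) (inv_mem (nWd_mem hK))⟩,
    Or.inr ⟨Subtype.ext ?_, Subtype.ext ?_, fun he => ?_⟩⟩
  · rw [SubmonoidClass.coe_pow]; exact e7
  · rw [SubmonoidClass.coe_pow]
    refine Eq.trans ?_ e9
    simp [mul_assoc]
  · -- the conjugator would invert `x`, having order three
    have he' : uF m 0 0 1 * (cWordVal g0 F wC * uF m 0 0 1 * (cWordVal g0 F wC)⁻¹) = 1 := congrArg Subtype.val he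
    obtain ⟨C, hC⟩ : ∃ C, C = cWordVal g0 F wC := ⟨_, rfl⟩
    obtain ⟨X, hXd⟩ : ∃ X, X = uF m (0 : F) 0 1 := ⟨_, rfl⟩
    rw [← hC, ← hXd] at he'
    rw [← hC] at e3
    have hinv : C * X * C⁻¹ = X⁻¹ := eq_inv_of_mul_eq_one_right he'
    have hX3 : X ^ 3 = 1 := by
      have e : uF m (0 : F) 0 1 = uP 0 0 0 1 0 1 := by
        rw [uF, h0, one_pow]
        congr 1 <;> simp
      rw [hXd, e]
      exact Ree.cube_low _ _ _ _
    have h7 : X = 1 := eq_one_of_inverted e3 hX3 hinv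
    rw [hXd] at h7
    exact one_ne_zero (Ree.uF_inj (h7.trans (Ree.uF_zero (m := m)).symm)).2.2

/-- Every element of order three has a partner. -/
theorem pair_of_order_three (x : ↥(tw F (3 ^ m))) (hx : orderOf x = 3) : Pair x := by
  haveI : Fact (Nat.Prime 3) := ⟨Nat.prime_three⟩
  obtain ⟨S, hS⟩ := Ree.sylow_three hK (m := m)
  obtain ⟨P, hP⟩ := (IsPGroup.of_card (p := 3) (n := 1)
    (by rw [Nat.card_zpowers, hx, pow_one]) : IsPGroup 3 (Subgroup.zpowers x)).exists_le_sylow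
  obtain ⟨g, hg⟩ := MulAction.exists_smul_eq ↥(tw F (3 ^ m)) P S
  have hgx : g * x * g⁻¹ ∈ (S : Subgroup ↥(tw F (3 ^ m))) := by
    rw [← hg, Sylow.coe_subgroup_smul, Subgroup.mem_pointwise_smul_iff_inv_smul_mem]
    simp only [MulAut.smul_def, ← map_inv, MulAut.conj_apply, inv_inv]
    rw [show g⁻¹ * (g * x * g⁻¹) * g = x by group]
    exact hP (Subgroup.mem_zpowers x)
  obtain ⟨x', hx'⟩ : ∃ x', x' = g * x * g⁻¹ := ⟨_, rfl⟩
  refine pair_of_conj hx'.symm ?_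
  rw [← hx', hS, Subgroup.mem_subgroupOf] at hgx
  obtain ⟨t, u, v, htuv⟩ := (Ree.mem_U1_iff hK).1 hgx
  have ho : orderOf (x' : GL G2Data.tab.D.Idx F) = 3 := by
    rw [Subgroup.orderOf_coe, hx']
    exact (MulEquiv.orderOf_eq (MulAut.conj g) x).trans hx
  rw [htuv] at ho
  have ht : t = 0 := by
    by_contra ht
    exact Ree.cube_high ht (pow_ne_zero (3 ^ m) ht) (u ^ 3 ^ m) (v ^ 3 ^ m) (t * (t ^ 3 ^ m) ^ 3 + u)
      (t ^ 2 * (t ^ 3 ^ m) ^ 3 + v) (orderOf_dvd_iff_pow_eq_one.1 (dvd_of_eq ho))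
  subst ht
  have h0 : (0 : F) ^ 3 ^ m = 0 := zero_pow (by positivity)
  rcases eq_or_ne u 0 with rfl | hu
  · have hv : v ≠ 0 := fun h => by rw [h, Ree.uF_zero, orderOf_one] at ho; omega
    obtain ⟨s, hs⟩ : ∃ s : Fˣ, (s : F) = v⁻¹ := ⟨Units.mk0 v⁻¹ (inv_ne_zero hv), rfl⟩
    obtain ⟨T, hT⟩ : ∃ T, T = tor G2Data.tab F (TwG2.par m s) := ⟨_, rfl⟩
    have hA : G2Data.tab.A 0 9 = 1 ∧ G2Data.tab.A 1 9 = 0 ∧ G2Data.tab.A 0 11 = 0 ∧ G2Data.tab.A 1 11 = 1 := by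
      decide +kernel
    have e9 : wt G2Data.tab F (TwG2.par m s) 9 = s ^ 3 ^ m := by
      rw [Ree.wt_par, hA.1, hA.2.1, mul_one, add_zero, zpow_natCast]
    have e11 : wt G2Data.tab F (TwG2.par m s) 11 = s := by
      rw [Ree.wt_par, hA.2.2.1, hA.2.2.2, mul_zero, zero_add, zpow_one]
    have hconj : T * uF m 0 0 v * T⁻¹ = uF m 0 0 1 := by
      rw [hT, Ree.tor_uF, e9, e11, uF, Units.val_pow_eq_pow_val, hs]
      simp only [h0, mul_zero, add_zero, zero_add, zero_mul, ← mul_pow, inv_mul_cancel₀ hv]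
      simp [hs, inv_mul_cancel₀ hv]
    refine pair_of_conj (g := (⟨T, hT ▸ TwG2.par_mem hK s⟩ : ↥(tw F (3 ^ m)))) ?_ (pair_central hK)
    apply Subtype.ext
    simp only [Subgroup.coe_mul, Subgroup.coe_inv, htuv]
    exact hconj
  · obtain ⟨h, hh⟩ : ∃ h, h = uF m (v / u) (0 : F) 0 := ⟨_, rfl⟩
    have hzh : uF m 0 u v * h = h * uF m 0 u 0 := by
      rw [hh]
      simp only [uF, Ree.uP_mul, h0, mul_zero, add_zero, zero_add, zero_mul]
      congr 1 <;> (try simp [mul_pow, div_pow]) <;> field_simp <;> ring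
    refine pair_of_conj (g := (⟨h, hh ▸ uF_mem hK _ _ _⟩ : ↥(tw F (3 ^ m)))⁻¹) ?_ (pair_noncentral hK u hu)
    apply Subtype.ext
    simp only [Subgroup.coe_mul, Subgroup.coe_inv, htuv, inv_inv]
    rw [mul_assoc, hzh, inv_mul_cancel_left]

end Cfsg.Agent.ReeQuad
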