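/-
Modules of `SL₂(2ⁿ)`, `n ≥ 2`, on which an element of order three acts without fixed points, after Higman:
they are elementary abelian sums of natural modules and carry no nonzero equivariant alternating pairing.
-/
import Cfsg.Agent.Lib.LocalEven.SL2Quad
import Mathlib.Algebra.CharP.Two
import Mathlib.LinearAlgebra.Dimension.Free
import Mathlib.LinearAlgebra.FreeModule.Finite.Basic
import Mathlib.Algebra.Module.Torsion.Free

set_option autoImplicit false
set_option linter.unusedSectionVars false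

namespace Cfsg.Agent.SL2Fpf

open Matrix Cfsg.Agent.LENat Cfsg.Agent.SL2Quad

variable {F : Type*} [Field F] [CharP F 2] {A : Type*} [AddCommGroup A]

local notation "SL2" => Matrix.SpecialLinearGroup (Fin 2) F
local notation "M2" => Matrix (Fin 2) (Fin 2) F

theorem upp_sq (b : F) : (upp b : SL2) * upp b = 1 := by
  rw [upp_mul, CharTwo.add_self_eq_zero, upp_zero]

theorem low_mul (a b : F) : (low a : SL2) * low b = low (a + b) := by
  apply Subtype.ext
  simp [low_val]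

theorem low_zero : (low 0 : SL2) = 1 := by
  apply Subtype.ext
  simp [low_val, Matrix.one_fin_two]

theorem low_sq (b : F) : (low b : SL2) * low b = 1 := by
  rw [low_mul, CharTwo.add_self_eq_zero, low_zero]

theorem mono_one_sq : (mono 1 : SL2) * mono 1 = 1 := by
  rw [mono_sq]
  apply Subtype.ext
  simp [dia_val, CharTwo.neg_eq, Matrix.one_fin_two]

theorem upp_mono' {c : F} (hc : c ≠ 0) (b : F) : (upp b : SL2) * mono c = mono c * low (b * c⁻¹ * c⁻¹) := by
  apply Subtype.ext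
  simp only [Matrix.SpecialLinearGroup.coe_mul, upp_val, low_val, mono_val hc]
  ext i j
  fin_cases i <;> fin_cases j <;> simp [Matrix.mul_apply, Fin.sum_univ_two, CharTwo.neg_eq]
  all_goals field_simp

theorem dia_mono {b : F} (hb : b ≠ 0) : (dia b hb : SL2) * mono 1 = mono 1 * dia b⁻¹ (inv_ne_zero hb) := by
  apply Subtype.ext
  simp only [Matrix.SpecialLinearGroup.coe_mul, dia_val, mono_val one_ne_zero]
  ext i j
  fin_cases i <;> fin_cases j <;> simp [Matrix.mul_apply, Fin.sum_univ_two]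

/-- An element of order three is conjugate to `upp 1 * low 1`. -/
theorem exists_conj [Finite F] {g : SL2} (hg : orderOf g = 3) : ∃ h : SL2, g = h * (upp 1 * low 1) * h⁻¹ := by
  obtain ⟨a, b, c, d, hval⟩ : ∃ a b c d : F, (g : M2) = !![a, b; c, d] :=
    ⟨_, _, _, _, Matrix.eta_fin_two _⟩
  have hdet : a * d + b * c = 1 := by
    have := g.2
    rw [hval, Matrix.det_fin_two_of, CharTwo.sub_eq_add] at this
    exact this
  have h3 : (g : M2) * (g : M2) * (g : M2) = 1 := by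
    rw [← Matrix.SpecialLinearGroup.coe_mul, ← Matrix.SpecialLinearGroup.coe_mul, ← Matrix.SpecialLinearGroup.coe_one]
    congr 1
    have h := pow_orderOf_eq_one g
    rw [hg, pow_succ, pow_two] at h
    exact h
  have h2 : (2 : F) = 0 := CharTwo.two_eq_zero
  have hcol : ∃ v : Fin 2 → F, v 0 * (c * v 0 + d * v 1) + v 1 * (a * v 0 + b * v 1) ≠ 0 := by
    by_contra hall
    push Not at hall
    have hc : c = 0 := by simpa using hall ![1, 0]
    have hb : b = 0 := by simpa using hall ![0, 1]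
    have had : d = a := by
      have := hall ![1, 1]
      simp [hb, hc] at this
      exact CharTwo.add_eq_zero.1 this
    rw [hb, hc, had] at hdet
    have ha : a = 1 := by
      have h1 : (a + 1) ^ 2 = 0 := by linear_combination hdet + (a + 1) * h2
      exact CharTwo.add_eq_zero.1 (sq_eq_zero_iff.1 h1)
    have h1 : g = 1 := Subtype.ext (by rw [hval, hb, hc, had, ha]; simp [Matrix.one_fin_two])
    rw [h1, orderOf_one] at hg
    omega
  obtain ⟨v, hv⟩ := hcol
  have ht : a + d = 1 := by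
    rw [hval] at h3
    have e00 := congrFun (congrFun h3 0) 0
    have e01 := congrFun (congrFun h3 0) 1
    have e10 := congrFun (congrFun h3 1) 0
    have e11 := congrFun (congrFun h3 1) 1
    simp [Matrix.mul_apply, Fin.sum_univ_two] at e00 e01 e10 e11
    have hb' : b * ((a + d) ^ 2 + 1) = 0 := by linear_combination e01 + b * hdet + (b - b ^ 2 * c) * h2
    have hc' : c * ((a + d) ^ 2 + 1) = 0 := by linear_combination e10 + c * hdet + (c - b * c ^ 2) * h2
    have had : (a + d) * ((a + d) ^ 2 + 1) = 0 := by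
      linear_combination e00 + e11 + (a + d) * hdet + (2 * a ^ 2 * d + 2 * a * d ^ 2 - b * c * a - b * c * d - a * (a * d) - d * (a * d) + 1 + (a - a * b * c + d - d * b * c)) * h2
    by_contra hne
    have hsq : (a + d) ^ 2 + 1 ≠ 0 := fun h => hne (CharTwo.add_eq_zero.1 (sq_eq_zero_iff.1
      (show (a + d + 1) ^ 2 = 0 by linear_combination h + (a + d) * h2)))
    have hb := (mul_eq_zero.1 hb').resolve_right hsq
    have hc := (mul_eq_zero.1 hc').resolve_right hsq
    have hd := CharTwo.add_eq_zero.1 ((mul_eq_zero.1 had).resolve_right hsq)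
    apply hv
    subst hb hc
    subst hd
    linear_combination (a * v 0 * v 1) * h2
  obtain ⟨μ, hμ⟩ := FiniteField.isSquare_of_char_two (F := F) (ringChar.eq F 2)
    (v 0 * (c * v 0 + d * v 1) + v 1 * (a * v 0 + b * v 1))⁻¹
  obtain ⟨h, hh⟩ : ∃ h : SL2, (h : M2) = !![μ * v 0, μ * (a * v 0 + b * v 1); μ * v 1, μ * (c * v 0 + d * v 1)] := by
    refine ⟨⟨_, ?_⟩, rfl⟩
    rw [Matrix.det_fin_two_of, CharTwo.sub_eq_add]
    calc μ * v 0 * (μ * (c * v 0 + d * v 1)) + μ * (a * v 0 + b * v 1) * (μ * v 1)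
        = μ * μ * (v 0 * (c * v 0 + d * v 1) + v 1 * (a * v 0 + b * v 1)) := by ring
      _ = 1 := by rw [← hμ, inv_mul_cancel₀ hv]
  refine ⟨h, eq_mul_inv_iff_mul_eq.2 ?_⟩
  · apply Subtype.ext
    simp only [Matrix.SpecialLinearGroup.coe_mul, hval, hh, upp_val, low_val]
    ext i j
    fin_cases i <;> fin_cases j <;> simp [Matrix.mul_apply, Fin.sum_univ_two, CharTwo.add_self_eq_zero]
    · linear_combination (a * (μ * (a * v 0 + b * v 1))) * 0
    · linear_combination μ * (a * v 0 + b * v 1) * ht + μ * v 0 * hdet + (-μ * (a * d * v 0)) * h2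
    · linear_combination (a * (μ * (a * v 0 + b * v 1))) * 0
    · linear_combination μ * (c * v 0 + d * v 1) * ht + μ * v 1 * hdet + (-μ * (a * d * v 1)) * h2

variable (σ : Matrix.SpecialLinearGroup (Fin 2) F →* AddMonoid.End A)

/-- The hypothesis: some element of order three fixes only zero. -/
def Fpf : Prop := ∀ a : A, σ (upp 1 * low 1) a = a → a = 0

theorem mono_mono (a : A) : σ (mono 1) (σ (mono 1) a) = a := by
  rw [← act_mul, mono_one_sq, act_one]

theorem mono_low' (b : F) (a : A) : σ (low b) (σ (mono 1) a) = σ (mono 1) (σ (upp b) a) := by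
  rw [← act_mul, low_mono, act_mul, CharTwo.neg_eq]

/-- Higman's relation. -/
theorem rel [Finite F] (hf : Fpf σ) {b : F} (hb : b ≠ 0) (a : A) :
    σ (mono b) a + σ (upp b) a + σ (low b⁻¹) a = 0 := by
  obtain ⟨t, rfl⟩ := FiniteField.isSquare_of_char_two (F := F) (ringChar.eq F 2) b
  have ht : t ≠ 0 := fun h => hb (by simp [h])
  let h : SL2 := dia t ht
  obtain ⟨X, hX⟩ : ∃ X : SL2, X = upp (t * t) * low (t * t)⁻¹ := ⟨_, rfl⟩
  have hXh : X * h = h * (upp 1 * low 1) := by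
    rw [hX]
    apply Subtype.ext
    simp only [h, Matrix.SpecialLinearGroup.coe_mul, upp_val, low_val, dia_val]
    ext i j
    fin_cases i <;> fin_cases j <;> simp [Matrix.mul_apply, Fin.sum_univ_two]
    all_goals field_simp
  have hfix : ∀ z : A, σ X z = z → z = 0 := by
    intro z hz
    have h1 : σ (upp 1 * low 1) (σ h⁻¹ z) = σ h⁻¹ z := by
      rw [← act_mul, eq_inv_mul_of_mul_eq hXh.symm, mul_assoc, mul_assoc, mul_inv_cancel, mul_one, act_mul, hz]
    have h2 := hf _ h1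
    calc z = σ h (σ h⁻¹ z) := by rw [← act_mul, mul_inv_cancel, act_one]
      _ = 0 := by rw [h2, map_zero]
  have hX2 : X * X = low (t * t)⁻¹ * upp (t * t) := by
    rw [hX]
    generalize t * t = e at hb ⊢
    apply Subtype.ext
    simp only [Matrix.SpecialLinearGroup.coe_mul, upp_val, low_val]
    ext i j
    fin_cases i <;> fin_cases j <;> simp [Matrix.mul_apply, Fin.sum_univ_two, mul_inv_cancel₀ hb, inv_mul_cancel₀ hb,
      CharTwo.add_self_eq_zero]
  have hX3 : X * X * X = 1 := by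
    rw [hX2, hX, mul_assoc, ← mul_assoc (upp (t * t)) (upp (t * t)), upp_sq, one_mul, low_sq]
  have hsum : ∀ z, z + σ X z + σ (X * X) z = 0 := fun z => hfix _ (by
    rw [map_add, map_add, ← act_mul, ← act_mul, ← mul_assoc, hX3, act_one]; abel)
  have h1 := hsum (σ (low (t * t)⁻¹) a)
  rw [← act_mul, ← act_mul] at h1
  have e1 : X * low (t * t)⁻¹ = upp (t * t) := by rw [hX, mul_assoc, low_sq, mul_one]
  have e2 : X * X * low (t * t)⁻¹ = mono (t * t) := by
    rw [mul_assoc, e1, hX, mono, CharTwo.neg_eq]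
  rw [e1, e2] at h1
  rw [← h1]; abel

/-- Fixed points of order two of the upper unitriangular subgroup. -/
def Wo : AddSubgroup A where
  carrier := {a | a ∈ fixU σ ∧ a + a = 0}
  zero_mem' := ⟨(fixU σ).zero_mem, add_zero 0⟩
  add_mem' := fun {x y} hx hy => ⟨(fixU σ).add_mem hx.1 hy.1, by rw [add_add_add_comm, hx.2, hy.2, add_zero]⟩
  neg_mem' := fun {x} hx => ⟨(fixU σ).neg_mem hx.1, by rw [← neg_add, hx.2, neg_zero]⟩

theorem neg_Wo {w : A} (hw : w ∈ Wo σ) : -w = w := neg_eq_of_add_eq_zero_right hw.2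

/-- The scalar multiplication. -/
def sm (b : F) (w : A) : A := σ (upp b) (σ (mono 1) w) - σ (mono 1) w

theorem upp_low_pt [Finite F] (hf : Fpf σ) {b : F} (hb : b ≠ 0) {w : A} (hw : w ∈ Wo σ) :
    σ (upp b) (σ (mono 1) w) = σ (mono 1) w + σ (dia b hb) w := by
  have h := rel σ hf hb (σ (mono 1) w)
  rw [mono_low_fix σ hw.1] at h
  have e : σ (mono b) (σ (mono 1) w) = σ (dia b hb) w := by rw [mono_eq hb, act_mul, mono_mono]
  rw [e] at h
  have e2 : ∀ (T : AddMonoid.End A), -(T w) = T w := fun T => by rw [← map_neg, neg_Wo σ hw]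
  calc σ (upp b) (σ (mono 1) w)
      = -(σ (mono 1) w) - σ (dia b hb) w := by
        rw [eq_sub_iff_add_eq, eq_neg_iff_add_eq_zero, ← h]; abel
    _ = _ := by rw [sub_eq_add_neg, e2, e2]

theorem sm_eq [Finite F] (hf : Fpf σ) {b : F} (hb : b ≠ 0) {w : A} (hw : w ∈ Wo σ) :
    sm σ b w = σ (dia b hb) w := by
  rw [sm, upp_low_pt σ hf hb hw, add_sub_cancel_left]

theorem sm_zero (w : A) : sm σ (0 : F) w = 0 := by rw [sm, upp_zero, act_one, sub_self]

theorem sm_mem [Finite F] (hf : Fpf σ) (b : F) {w : A} (hw : w ∈ Wo σ) : sm σ b w ∈ Wo σ := by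
  rcases eq_or_ne b 0 with rfl | hb
  · rw [sm_zero]; exact (Wo σ).zero_mem
  · rw [sm_eq σ hf hb hw]
    exact ⟨dia_fix σ hb hw.1, by rw [← map_add, hw.2, map_zero]⟩

theorem upp_eq_sm (b : F) (w : A) : σ (upp b) (σ (mono 1) w) = σ (mono 1) w + sm σ b w := by
  rw [sm]; abel

theorem low_eq_sm (b : F) (w : A) : σ (low b) w = w + σ (mono 1) (sm σ b w) := by
  conv_lhs => rw [← mono_mono σ w]
  rw [mono_low', upp_eq_sm, map_add, mono_mono]

theorem sm_add_left [Finite F] (hf : Fpf σ) (b c : F) {w : A} (hw : w ∈ Wo σ) :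
    sm σ (b + c) w = sm σ b w + sm σ c w := by
  have h : σ (upp (b + c)) (σ (mono 1) w) = σ (mono 1) w + sm σ b w + sm σ c w := by
    rw [← upp_mul, act_mul, upp_eq_sm, map_add, upp_eq_sm, (sm_mem σ hf c hw).1 b]
  rw [sm, h]; abel

theorem sm_add_right (b : F) (v w : A) : sm σ b (v + w) = sm σ b v + sm σ b w := by
  simp only [sm, map_add]; abel

theorem sm_map_zero (b : F) : sm σ b (0 : A) = 0 := by simp only [sm, map_zero, sub_self]

theorem sm_mul [Finite F] (hf : Fpf σ) (b c : F) {w : A} (hw : w ∈ Wo σ) :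
    sm σ (b * c) w = sm σ b (sm σ c w) := by
  rcases eq_or_ne b 0 with rfl | hb
  · rw [zero_mul, sm_zero, sm_zero]
  rcases eq_or_ne c 0 with rfl | hc
  · rw [mul_zero, sm_zero, sm_map_zero]
  rw [sm_eq σ hf hb (sm_mem σ hf c hw), sm_eq σ hf hc hw, sm_eq σ hf (mul_ne_zero hb hc) hw, ← act_mul, dia_mul]

theorem sm_one [Finite F] (hf : Fpf σ) {w : A} (hw : w ∈ Wo σ) : sm σ (1 : F) w = w := by
  rw [sm_eq σ hf one_ne_zero hw, dia_one, act_one]

theorem sm_eq_zero [Finite F] (hf : Fpf σ) {b : F} (hb : b ≠ 0) {w : A} (hw : w ∈ Wo σ)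
    (h : sm σ b w = 0) : w = 0 := by
  have := sm_mul σ hf b⁻¹ b hw
  rwa [h, inv_mul_cancel₀ hb, sm_one σ hf hw, sm_map_zero] at this

/-- Nothing nonzero is fixed by everything. -/
theorem cap (hf : Fpf σ) {a : A} (h : a ∈ fixU σ) (hl : ∀ c, σ (low c) a = a) : a = 0 :=
  hf a (by rw [act_mul, hl, h])

theorem direct (hf : Fpf σ) {w v : A} (hw : w ∈ fixU σ) (hv : v ∈ fixU σ) (h : w + σ (mono 1) v = 0) :
    w = 0 ∧ v = 0 := by
  have hw' : w = -(σ (mono 1) v) := eq_neg_of_add_eq_zero_left h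
  have h0 : w = 0 := cap σ hf hw fun c => by rw [hw', map_neg, mono_low_fix σ hv]
  refine ⟨h0, mono_inj σ v 0 ?_⟩
  rw [h0, zero_add] at h
  rw [h, map_zero]

/-- The sum of the two fixed point groups of exponent two. -/
def M0 : AddSubgroup A where
  carrier := {a | ∃ w ∈ Wo σ, ∃ v ∈ Wo σ, w + σ (mono 1) v = a}
  zero_mem' := ⟨0, (Wo σ).zero_mem, 0, (Wo σ).zero_mem, by rw [map_zero, add_zero]⟩
  add_mem' := by
    rintro _ _ ⟨w, hw, v, hv, rfl⟩ ⟨x, hx, y, hy, rfl⟩
    exact ⟨w + x, (Wo σ).add_mem hw hx, v + y, (Wo σ).add_mem hv hy, by rw [map_add]; abel⟩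
  neg_mem' := by
    rintro _ ⟨w, hw, v, hv, rfl⟩
    exact ⟨-w, (Wo σ).neg_mem hw, -v, (Wo σ).neg_mem hv, by rw [map_neg]; abel⟩

theorem M0_upp [Finite F] (hf : Fpf σ) (b : F) : ∀ a ∈ M0 σ, σ (upp b) a ∈ M0 σ := by
  rintro _ ⟨w, hw, v, hv, rfl⟩
  exact ⟨w + sm σ b v, (Wo σ).add_mem hw (sm_mem σ hf b hv), v, hv, by
    rw [map_add (σ (upp b)), hw.1 b, upp_eq_sm]; abel⟩

theorem M0_low [Finite F] (hf : Fpf σ) (b : F) : ∀ a ∈ M0 σ, σ (low b) a ∈ M0 σ := by
  rintro _ ⟨w, hw, v, hv, rfl⟩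
  exact ⟨w, hw, v + sm σ b w, (Wo σ).add_mem hv (sm_mem σ hf b hw), by
    rw [map_add (σ (low b)), low_eq_sm, mono_low_fix σ hv.1, map_add (σ (mono 1))]; abel⟩

theorem two_M0 {a : A} (ha : a ∈ M0 σ) : a + a = 0 := by
  obtain ⟨w, hw, v, hv, rfl⟩ := ha
  rw [add_add_add_comm, hw.2, ← map_add, hv.2, map_zero, add_zero]

/-- The key step. -/
theorem key [Finite F] (hf : Fpf σ) (s₀ : F) (h0 : s₀ ≠ 0) (h1 : s₀ ≠ 1) {y : A}
    (hl : ∀ d, σ (low d) y - y ∈ M0 σ) (h2y : y + y ∈ M0 σ) : y ∈ M0 σ := by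
  -- the components
  have hfix : ∀ {d : F}, d ≠ 0 → ∀ {a : A}, a ∈ M0 σ → σ (low d) a = a → ∃ v ∈ Wo σ, σ (mono 1) v = a := by
    intro d hd a ha hda
    obtain ⟨w, hw, v, hv, rfl⟩ := ha
    rw [map_add (σ (low d)), low_eq_sm, mono_low_fix σ hv.1] at hda
    have h3 : σ (mono 1) (sm σ d w) = 0 := by
      have := sub_eq_zero.2 hda
      rw [← this]; abel
    have h4 : w = 0 := sm_eq_zero σ hf hd hw (mono_inj σ _ 0 (by rw [h3, map_zero]))
    exact ⟨v, hv, by rw [h4, zero_add]⟩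
  have hg : ∀ d, ∃ v ∈ Wo σ, σ (low d) y = y + σ (mono 1) v := by
    intro d
    rcases eq_or_ne d 0 with rfl | hd
    · exact ⟨0, (Wo σ).zero_mem, by rw [low_zero, act_one, map_zero, add_zero]⟩
    have h3 : σ (low d) (σ (low d) y - y) = σ (low d) y - y := by
      rw [map_sub, ← act_mul, low_sq, act_one, ← neg_sub, neg_eq_of_add_eq_zero_right (two_M0 σ (hl d))]
    obtain ⟨v, hv, hveq⟩ := hfix hd (hl d) h3
    exact ⟨v, hv, by rw [hveq]; abel⟩
  choose g hgW hgy using hg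
  have hgadd : ∀ d e, g (d + e) = g d + g e := by
    intro d e
    apply mono_inj σ
    have h3 : σ (low (d + e)) y = y + σ (mono 1) (g d) + σ (mono 1) (g e) := by
      rw [← low_mul, act_mul, hgy e, map_add (σ (low d)), hgy d, mono_low_fix σ (hgW e).1]
    rw [hgy] at h3
    rw [map_add]
    rw [add_assoc] at h3
    exact add_left_cancel h3
  obtain ⟨k, hk, hky⟩ := hfix one_ne_zero h2y (by
    rw [map_add, hgy 1]
    have := (congrArg (σ (mono 1)) (hgW 1).2).trans (map_zero _)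
    rw [map_add] at this
    rw [add_add_add_comm, this, add_zero])
  have hmk : ∀ {b : F} (hb : b ≠ 0), σ (mono b) y + σ (mono b) y = sm σ b k := by
    intro b hb
    rw [← map_add, ← hky, mono_eq hb, act_mul, mono_mono, sm_eq σ hf hb hk]
  have humono : ∀ (b : F) {c : F} (hc : c ≠ 0),
      σ (upp b) (σ (mono c) y) = σ (mono c) y + sm σ c (g (b * c⁻¹ * c⁻¹)) := by
    intro b c hc
    rw [← act_mul, upp_mono' hc, act_mul, hgy, map_add]
    congr 1
    rw [mono_eq hc, act_mul, mono_mono, sm_eq σ hf hc (hgW _)]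
  have hsym : ∀ b c : F, b ≠ 0 → c ≠ 0 →
      sm σ b k + sm σ c k + sm σ c (g (b * c⁻¹ * c⁻¹)) + sm σ b (g c⁻¹) +
        (sm σ b (g (c * b⁻¹ * b⁻¹)) + sm σ c (g b⁻¹)) = 0 := by
    have hu : ∀ {c : F}, c ≠ 0 → σ (upp c) y = -(σ (mono c) y) - y - σ (mono 1) (g c⁻¹) := by
      intro c hc
      have := rel σ hf hc y
      rw [hgy] at this
      rw [eq_sub_iff_add_eq, eq_sub_iff_add_eq, eq_neg_iff_add_eq_zero, ← this]; abel
    have hbc : ∀ b c : F, b ≠ 0 → c ≠ 0 → σ (upp (b + c)) y =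
        -(σ (mono c) y) + σ (mono b) y + y - sm σ c (g (b * c⁻¹ * c⁻¹)) - sm σ b (g c⁻¹) +
          σ (mono 1) (g b⁻¹) - σ (mono 1) (g c⁻¹) := by
      intro b c hb hc
      rw [← upp_mul, act_mul, hu hc, map_sub, map_sub, map_neg, humono b hc, hu hb, upp_eq_sm]
      abel
    intro b c hb hc
    have h3 := hbc b c hb hc
    rw [add_comm b c, hbc c b hc hb] at h3
    have hm : ∀ d, σ (mono 1) (g d) + σ (mono 1) (g d) = 0 := fun d => by rw [← map_add, (hgW d).2, map_zero]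
    have hn : ∀ {z : A}, z ∈ Wo σ → -z = z := fun hz => neg_Wo σ hz
    rw [← hmk hb, ← hmk hc]
    have h4 := sub_eq_zero.2 h3.symm
    have e1 := hn (sm_mem σ hf c (hgW (b * c⁻¹ * c⁻¹)))
    have e2 := hn (sm_mem σ hf b (hgW c⁻¹))
    have e4 : -(σ (mono c) y + σ (mono c) y) = σ (mono c) y + σ (mono c) y := by
      rw [hmk hc]; exact hn (sm_mem σ hf c hk)
    calc σ (mono b) y + σ (mono b) y + (σ (mono c) y + σ (mono c) y) + sm σ c (g (b * c⁻¹ * c⁻¹)) +
          sm σ b (g c⁻¹) + (sm σ b (g (c * b⁻¹ * b⁻¹)) + sm σ c (g b⁻¹))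
        = σ (mono b) y + σ (mono b) y - (σ (mono c) y + σ (mono c) y) - sm σ c (g (b * c⁻¹ * c⁻¹)) -
          sm σ b (g c⁻¹) + (sm σ b (g (c * b⁻¹ * b⁻¹)) + sm σ c (g b⁻¹)) +
          (σ (mono 1) (g b⁻¹) + σ (mono 1) (g b⁻¹)) - (σ (mono 1) (g c⁻¹) + σ (mono 1) (g c⁻¹)) := by
          rw [hm, hm, add_zero, sub_zero, sub_eq_add_neg _ (σ (mono c) y + σ (mono c) y), e4,
            sub_eq_add_neg _ (sm σ c (g (b * c⁻¹ * c⁻¹))), e1, sub_eq_add_neg _ (sm σ b (g c⁻¹)), e2]
      _ = 0 := by rw [← h4]; abel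
  -- linearity
  letI : Module F ↥(Wo σ) :=
    { smul := fun b w => ⟨sm σ b w, sm_mem σ hf b w.2⟩
      one_smul := fun w => Subtype.ext (sm_one σ hf w.2)
      mul_smul := fun b c w => Subtype.ext (sm_mul σ hf b c w.2)
      smul_zero := fun b => Subtype.ext (sm_map_zero σ b)
      smul_add := fun b v w => Subtype.ext (sm_add_right σ b v w)
      add_smul := fun b c w => Subtype.ext (sm_add_left σ hf b c w.2)
      zero_smul := fun w => Subtype.ext (sm_zero σ w) }
  obtain ⟨G, hG⟩ : ∃ G : F →+ ↥(Wo σ), ∀ d, ((G d : ↥(Wo σ)) : A) = g d :=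
    ⟨AddMonoidHom.mk' (fun d => ⟨g d, hgW d⟩) (fun d e => Subtype.ext (hgadd d e)), fun d => rfl⟩
  obtain ⟨K, hK⟩ : ∃ K : ↥(Wo σ), (K : A) = k := ⟨⟨k, hk⟩, rfl⟩
  have htwo : ∀ z : ↥(Wo σ), z + z = 0 := fun z => Subtype.ext z.2.2
  have hE : ∀ r d : F, r ≠ 0 → d ≠ 0 →
      (r + 1) • K + G (r * d) + r • G d + r • G (d * r⁻¹ * r⁻¹) + G (d * r⁻¹) = 0 := by
    intro r d hr hd
    have hsA := hsym (r * d⁻¹) d⁻¹ (mul_ne_zero hr (inv_ne_zero hd)) (inv_ne_zero hd)
    have hs : (r * d⁻¹) • K + d⁻¹ • K + d⁻¹ • G (r * d⁻¹ * d * d) + (r * d⁻¹) • G d +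
        ((r * d⁻¹) • G (d⁻¹ * (r⁻¹ * d) * (r⁻¹ * d)) + d⁻¹ • G (r⁻¹ * d)) = 0 := by
      apply Subtype.ext
      simp only [AddSubgroup.coe_add, AddSubgroup.coe_zero]
      refine Eq.trans ?_ hsA
      show sm σ _ (K : A) + sm σ _ (K : A) + sm σ _ (G _ : A) + sm σ _ (G _ : A) +
        (sm σ _ (G _ : A) + sm σ _ (G _ : A)) = _
      simp only [hG, hK, inv_inv, mul_inv]
    have h3 := congrArg (fun z => d • z) hs
    simp only [smul_add, smul_smul, smul_zero] at h3
    rw [← h3]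
    have a1 : d * (r * d⁻¹) = r := by field_simp
    have a2 : d * d⁻¹ = 1 := mul_inv_cancel₀ hd
    have a3 : r * d⁻¹ * d * d = r * d := by field_simp
    have a4 : d⁻¹ * (r⁻¹ * d) * (r⁻¹ * d) = d * r⁻¹ * r⁻¹ := by field_simp
    have a5 : r⁻¹ * d = d * r⁻¹ := mul_comm _ _
    rw [a1, a2, a3, a4, a5, one_smul, one_smul, one_smul, add_smul, one_smul]
    abel
  have hS : ∀ s d : F, s ≠ 0 → d ≠ 0 →
      (s + 1) • K + s • G (s * d) + s • G d + G (s * d) + G (s * (s * d)) = 0 := by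
    intro s d hs hd
    obtain ⟨r, rfl⟩ := FiniteField.isSquare_of_char_two (F := F) (ringChar.eq F 2) s
    have hr : r ≠ 0 := fun h => hs (by simp [h])
    have hd' : r * r * d ≠ 0 := mul_ne_zero hs hd
    have e1 := hE r (r * r * d) hr hd'
    have e2 := congrArg (fun z => r • z) (hE r⁻¹ (r * r * d) (inv_ne_zero hr) hd')
    simp only [smul_add, smul_zero, smul_smul, mul_add, mul_one, mul_inv_cancel₀ hr, inv_inv] at e2
    have e1' := congrArg (fun z => r • z) e1
    simp only [smul_add, smul_zero, smul_smul, mul_add, mul_one] at e1'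
    have a1 : r * r * d * r⁻¹ * r⁻¹ = d := by field_simp
    have a2 : r⁻¹ * (r * r * d) = r * r * d * r⁻¹ := mul_comm _ _
    have a3 : r * r * d * r * r = r * r * (r * r * d) := by ring
    have a4 : r * r * d * r = r * (r * r * d) := by ring
    rw [a1] at e1'
    rw [a2, a3, a4, add_smul, one_smul, one_smul] at e2
    rw [add_smul] at e1'
    have h5 := congrArg₂ (· - ·) (congrArg₂ (· + ·) e1' e2)
      (congrArg₂ (· + ·) (congrArg₂ (· + ·) (htwo (r • K)) (htwo (r • G (r * (r * r * d)))))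
        (htwo (r • G (r * r * d * r⁻¹))))
    simp only [add_zero, sub_zero] at h5
    rw [← h5]
    simp only [add_smul, one_smul]
    abel
  -- conclusion
  let u : F → F → ↥(Wo σ) := fun s d => G (s * d) + s • G d
  have hu : ∀ s e : F, s ≠ 0 → s ≠ 1 → e ≠ 0 → u s e = (s + 1) • K := by
    intro s e hs hs1 he
    have hs2 : s + 1 ≠ 0 := fun h => hs1 (CharTwo.add_eq_zero.1 h)
    obtain ⟨d, rfl⟩ : ∃ d, (s + 1) * d = e := ⟨(s + 1)⁻¹ * e, by field_simp⟩
    have hd : d ≠ 0 := right_ne_zero_of_mul he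
    have h3 := hS s d hs hd
    have e : u s ((s + 1) * d) = G (s * (s * d)) + G (s * d) + s • G (s * d) + s • G d := by
      simp only [u, add_mul, one_mul, mul_add, map_add, smul_add]; abel
    rw [e]
    calc G (s * (s * d)) + G (s * d) + s • G (s * d) + s • G d
        = (s + 1) • K + ((s + 1) • K + s • G (s * d) + s • G d + G (s * d) + G (s * (s * d))) -
          ((s + 1) • K + (s + 1) • K) + 0 := by rw [add_zero]; abel
      _ = (s + 1) • K := by rw [h3, htwo]; abel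
  have hu0 : ∀ s : F, s ≠ 0 → s ≠ 1 → (s + 1) • K = 0 := by
    intro s hs hs1
    have hs2 : s + 1 ≠ 0 := fun h => hs1 (CharTwo.add_eq_zero.1 h)
    have h3 : u s (1 + s) = u s 1 + u s s := by
      simp only [u, mul_add, map_add, smul_add]; abel
    rw [hu s _ hs hs1 (by rwa [add_comm]), hu s 1 hs hs1 one_ne_zero, hu s s hs hs1 hs, htwo] at h3
    exact h3
  have hK0 : K = 0 := by
    have hs2 : s₀ + 1 ≠ 0 := fun h => h1 (CharTwo.add_eq_zero.1 h)
    rw [← one_smul F K, ← inv_mul_cancel₀ hs2, mul_smul, hu0 s₀ h0 h1, smul_zero]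
  have hlin : ∀ d, G d = d • G 1 := by
    intro d
    rcases eq_or_ne d 0 with rfl | hd
    · rw [map_zero, zero_smul]
    rcases eq_or_ne d 1 with rfl | hd1
    · rw [one_smul]
    have h3 := hu d 1 hd hd1 one_ne_zero
    rw [hK0, smul_zero] at h3
    simp only [u, mul_one] at h3
    exact (eq_neg_of_add_eq_zero_left h3).trans (neg_eq_of_add_eq_zero_right (htwo _))
  obtain ⟨w, hw, hw'⟩ : ∃ w ∈ Wo σ, ∀ d, g d = sm σ d w :=
    ⟨g 1, hgW 1, fun d => by
      have := congrArg Subtype.val (hlin d)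
      rw [hG] at this
      rw [this]
      show sm σ d (G 1 : A) = _
      rw [hG]⟩
  have hy2 : y + y = 0 := by rw [← hky, ← hK, hK0]; simp
  have hmem : σ (mono 1) (y + w) ∈ fixU σ := by
    refine (low_fix_iff σ).1 fun d => ?_
    rw [map_add (σ (low d)), hgy d, hw' d, low_eq_sm]
    have h3 : σ (mono 1) (sm σ d w) + σ (mono 1) (sm σ d w) = 0 := by
      rw [← map_add, (sm_mem σ hf d hw).2, map_zero]
    calc y + σ (mono 1) (sm σ d w) + (w + σ (mono 1) (sm σ d w))
        = y + w + (σ (mono 1) (sm σ d w) + σ (mono 1) (sm σ d w)) := by abel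
      _ = y + w := by rw [h3, add_zero]
  have hyw : σ (mono 1) (y + w) ∈ Wo σ := ⟨hmem, by rw [← map_add, add_add_add_comm, hy2, hw.2, add_zero, map_zero]⟩
  refine ⟨w, hw, σ (mono 1) (y + w), hyw, ?_⟩
  rw [mono_mono, add_left_comm, hw.2, add_zero]

/-- Everything lies in the sum of the two fixed point groups. -/
theorem top [Finite F] [Finite A] (hf : Fpf σ) (s₀ : F) (h0 : s₀ ≠ 0) (h1 : s₀ ≠ 1)
    (hA : ∀ a : A, ∃ m : ℕ, (2 ^ m : ℕ) • a = 0) (a : A) : a ∈ M0 σ := by
  classical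
  by_contra ha
  obtain ⟨m, hm⟩ := hA a
  have : ∃ z, z ∉ M0 σ ∧ z + z ∈ M0 σ := by
    induction m generalizing a with
    | zero => rw [pow_zero, one_smul] at hm; exact absurd (hm ▸ (M0 σ).zero_mem) ha
    | succ m ih =>
      by_cases h : a + a ∈ M0 σ
      · exact ⟨a, ha, h⟩
      · exact ih (a + a) h (by rw [← two_nsmul, ← mul_nsmul', ← pow_succ]; exact hm)
  obtain ⟨z, hz, hz2⟩ := this
  let S : AddSubgroup (A ⧸ M0 σ) :=
    { carrier := {x | x + x = 0}
      zero_mem' := add_zero 0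
      add_mem' := fun {x y} hx hy => by show x + y + (x + y) = 0; rw [add_add_add_comm, hx, hy, add_zero]
      neg_mem' := fun {x} hx => by show -x + -x = 0; rw [← neg_add, hx, neg_zero] }
  let T : F → (A ⧸ M0 σ →+ A ⧸ M0 σ) := fun b => QuotientAddGroup.map _ _ (σ (low b) : A →+ A) (M0_low σ hf b)
  have hT : ∀ b, ∀ x ∈ S, T b x ∈ S := fun b x hx => by
    show T b x + T b x = 0
    rw [← map_add, show x + x = 0 from hx, map_zero]
  letI : MulAction (Multiplicative F) ↥S :=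
    { smul := fun b x => ⟨T b.toAdd x, hT _ _ x.2⟩
      one_smul := fun x => by
        obtain ⟨x, hx⟩ := x
        refine Subtype.ext ?_
        obtain ⟨a, rfl⟩ := QuotientAddGroup.mk_surjective x
        show ((σ (low 0) a : A) : A ⧸ M0 σ) = (a : A ⧸ M0 σ)
        rw [low_zero, act_one]
      mul_smul := fun b c x => by
        obtain ⟨x, hx⟩ := x
        refine Subtype.ext ?_
        obtain ⟨a, rfl⟩ := QuotientAddGroup.mk_surjective x
        show ((σ (low (b.toAdd + c.toAdd)) a : A) : A ⧸ M0 σ) =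
          ((σ (low b.toAdd) (σ (low c.toAdd) a) : A) : A ⧸ M0 σ)
        rw [← low_mul, act_mul] }
  have hpF : IsPGroup 2 (Multiplicative F) := fun b => ⟨1, by
    apply Multiplicative.toAdd.injective
    rw [pow_one, toAdd_pow, toAdd_one, two_nsmul, CharTwo.add_self_eq_zero]⟩
  have hzS : ((z : A) : A ⧸ M0 σ) ∈ S := by
    show ((z : A) : A ⧸ M0 σ) + _ = 0
    rw [← QuotientAddGroup.mk_add]
    exact (QuotientAddGroup.eq_zero_iff _).2 hz2
  have hne : (⟨_, hzS⟩ : ↥S) ≠ 0 := fun h => hz ((QuotientAddGroup.eq_zero_iff _).1 (congrArg Subtype.val h))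
  have hdvd : 2 ∣ Nat.card ↥S := by
    have h2 : addOrderOf (⟨_, hzS⟩ : ↥S) = 2 := addOrderOf_eq_prime (by rw [two_nsmul]; exact Subtype.ext hzS) hne
    rw [← h2]
    exact addOrderOf_dvd_natCard _
  obtain ⟨x, hx, hx0⟩ := hpF.exists_fixed_point_of_prime_dvd_card_of_fixed_point ↥S hdvd (a := 0)
    (fun b => Subtype.ext (map_zero (T b.toAdd)))
  obtain ⟨x, hxS⟩ := x
  obtain ⟨y, rfl⟩ := QuotientAddGroup.mk_surjective x
  refine hx0 (Subtype.ext ((QuotientAddGroup.eq_zero_iff _).2 (key σ hf s₀ h0 h1 (y := y) (fun d => ?_) ?_)).symm)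
  · have := congrArg Subtype.val (hx (Multiplicative.ofAdd d))
    exact (QuotientAddGroup.eq_iff_sub_mem).1 this
  · exact (QuotientAddGroup.eq_zero_iff _).1 hxS

/-- Coordinates: a direct sum of natural modules. -/
theorem natural_sum [Fintype F] [Finite A] (hf : Fpf σ) (s₀ : F) (h0 : s₀ ≠ 0) (h1 : s₀ ≠ 1)
    (hA : ∀ a : A, ∃ m : ℕ, (2 ^ m : ℕ) • a = 0) :
    (∀ a : A, a + a = 0) ∧ ∃ (k : ℕ) (Ψ : (Fin k → Fin 2 → F) ≃+ A),
      ∀ g v, σ g (Ψ v) = Ψ fun i => (g : M2) *ᵥ v i := by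
  classical
  have htop := top σ hf s₀ h0 h1 hA
  refine ⟨fun a => two_M0 σ (htop a), ?_⟩
  letI : Module F ↥(Wo σ) :=
    { smul := fun b w => ⟨sm σ b w, sm_mem σ hf b w.2⟩
      one_smul := fun w => Subtype.ext (sm_one σ hf w.2)
      mul_smul := fun b c w => Subtype.ext (sm_mul σ hf b c w.2)
      smul_zero := fun b => Subtype.ext (sm_map_zero σ b)
      smul_add := fun b v w => Subtype.ext (sm_add_right σ b v w)
      add_smul := fun b c w => Subtype.ext (sm_add_left σ hf b c w.2)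
      zero_smul := fun w => Subtype.ext (sm_zero σ w) }
  haveI : Module.Finite F ↥(Wo σ) := Module.Finite.of_finite
  let B := Module.finBasis F ↥(Wo σ)
  let c : (Fin (Module.finrank F ↥(Wo σ)) → F) ≃+ ↥(Wo σ) := B.equivFun.symm.toAddEquiv
  let Ψ : (Fin (Module.finrank F ↥(Wo σ)) → Fin 2 → F) →+ A :=
    { toFun := fun v => (c fun i => v i 0 : A) + σ (mono 1) (c fun i => v i 1 : A)
      map_zero' := by
        have : c (0 : Fin (Module.finrank F ↥(Wo σ)) → F) = 0 := map_zero c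
        simp only [Pi.zero_apply]
        erw [this]
        simp
      map_add' := fun u v => by
        have h : ∀ j : Fin 2, (c fun i => (u + v) i j) = (c fun i => u i j) + c fun i => v i j := fun j => by
          rw [← map_add]; rfl
        simp only [h, AddSubgroup.coe_add, map_add]; abel }
  have hsmul : ∀ (b : F) (v : Fin (Module.finrank F ↥(Wo σ)) → F), (c fun i => b * v i : A) = sm σ b (c v : A) := by
    intro b v
    have h : (c fun i => b * v i) = b • c v := (map_smul B.equivFun.symm b v)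
    rw [h]; rfl
  have hgen : ∀ g v, σ g (Ψ v) = Ψ fun i => (g : M2) *ᵥ v i := by
    let S : Submonoid SL2 :=
      { carrier := {g | ∀ v, σ g (Ψ v) = Ψ fun i => (g : M2) *ᵥ v i}
        one_mem' := fun v => by rw [act_one]; simp
        mul_mem' := fun {x y} hx hy v => by
          rw [act_mul, hy, hx]; congr 1; funext i; rw [← mul_mulVec] }
    refine gen S (fun b v => ?_) (fun b v => ?_)
    · show σ (upp b) ((c fun i => v i 0 : A) + σ (mono 1) (c fun i => v i 1 : A)) = (_ : A) + _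
      rw [map_add (σ (upp b)), (c fun i => v i 0).2.1 b, upp_eq_sm, ← hsmul]
      simp only [upp_mulVec]
      have : (c fun i => v i 0 + b * v i 1) = (c fun i => v i 0) + c fun i => b * v i 1 := by rw [← map_add]; rfl
      simp only [Matrix.cons_val_zero, Matrix.cons_val_one, this, AddSubgroup.coe_add]
      abel
    · show σ (low b) ((c fun i => v i 0 : A) + σ (mono 1) (c fun i => v i 1 : A)) = (_ : A) + _
      rw [map_add (σ (low b)), low_eq_sm, ← hsmul, mono_low_fix σ (c fun i => v i 1).2.1]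
      simp only [low_mulVec]
      have : (c fun i => b * v i 0 + v i 1) = (c fun i => b * v i 0) + c fun i => v i 1 := by rw [← map_add]; rfl
      simp only [Matrix.cons_val_zero, Matrix.cons_val_one, this, AddSubgroup.coe_add, map_add]
      abel
  have hbij : Function.Bijective Ψ := by
    refine ⟨(injective_iff_map_eq_zero Ψ).2 fun v hv => ?_, fun a => ?_⟩
    · obtain ⟨e0, e1⟩ := direct σ hf (c fun i => v i 0).2.1 (c fun i => v i 1).2.1 hv
      have g0 : (fun i => v i 0) = (0 : Fin (Module.finrank F ↥(Wo σ)) → F) :=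
        c.injective ((Subtype.ext e0 : (c fun i => v i 0) = 0).trans (map_zero c).symm)
      have g1 : (fun i => v i 1) = (0 : Fin (Module.finrank F ↥(Wo σ)) → F) :=
        c.injective ((Subtype.ext e1 : (c fun i => v i 1) = 0).trans (map_zero c).symm)
      funext i j
      fin_cases j
      · exact congrFun g0 i
      · exact congrFun g1 i
    · obtain ⟨w, hw, v, hv, rfl⟩ := htop a
      refine ⟨fun i => ![c.symm ⟨w, hw⟩ i, c.symm ⟨v, hv⟩ i], ?_⟩
      show (c (fun i => c.symm ⟨w, hw⟩ i) : A) + σ (mono 1) (c (fun i => c.symm ⟨v, hv⟩ i) : A) = _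
      rw [c.apply_symm_apply, c.apply_symm_apply]
  exact ⟨_, AddEquiv.ofBijective Ψ hbij, hgen⟩

/-- No equivariant alternating pairing between such modules. -/
theorem pairing_eq_zero [Finite F] {C : Type*} [AddCommGroup C]
    (τ : Matrix.SpecialLinearGroup (Fin 2) F →* AddMonoid.End C)
    (hf : Fpf σ) (hg : Fpf τ) (htop : ∀ a, a ∈ M0 σ) (htopC : ∀ a, a ∈ M0 τ)
    (s₀ : F) (h0 : s₀ ≠ 0) (h1 : s₀ ≠ 1) (B : A →+ A →+ C) (halt : ∀ a, B a a = 0)
    (heq : ∀ g a b, τ g (B a b) = B (σ g a) (σ g b)) : ∀ a b, B a b = 0 := by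
  have hC2 : ∀ z : C, -z = z := fun z => neg_eq_of_add_eq_zero_right (two_M0 τ (htopC z))
  have hskew : ∀ a b, B b a = B a b := by
    intro a b
    have h := halt (a + b)
    simp only [map_add, AddMonoidHom.add_apply, halt, add_zero, zero_add] at h
    exact (eq_neg_of_add_eq_zero_left h).trans (hC2 _)
  have hfix : ∀ w ∈ Wo σ, ∀ v ∈ Wo σ, B w v ∈ Wo τ := fun w hw v hv =>
    ⟨fun b => by rw [heq, hw.1 b, hv.1 b], two_M0 τ (htopC _)⟩
  have hsplit : ∀ w ∈ Wo σ, ∀ v ∈ Wo σ, ∃ r ∈ Wo τ, ∃ t ∈ Wo τ,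
      r + τ (mono 1) t = B w (σ (mono 1) v) ∧ ∀ b, B w (sm σ b v) = sm τ b t := by
    intro w hw v hv
    obtain ⟨r, hr, t, ht, hrt⟩ := htopC (B w (σ (mono 1) v))
    refine ⟨r, hr, t, ht, hrt, fun b => ?_⟩
    have h := heq (upp b) w (σ (mono 1) v)
    rw [← hrt, map_add (τ (upp b)), hr.1 b, upp_eq_sm, hw.1 b, upp_eq_sm, map_add, ← hrt, ← add_assoc] at h
    exact (add_left_cancel h).symm
  have hP : ∀ w ∈ Wo σ, ∀ v ∈ Wo σ, ∀ b, B w (sm σ b v) = sm τ b (B w v) := by
    intro w hw v hv b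
    obtain ⟨r, -, t, ht, -, hb⟩ := hsplit w hw v hv
    have h := hb 1
    rw [sm_one σ hf hv, sm_one τ hg ht] at h
    rw [hb b, h]
  have hP0 : ∀ w ∈ Wo σ, ∀ v ∈ Wo σ, B w v = 0 := by
    intro w hw v hv
    obtain ⟨hsm, hfw⟩ : sm σ s₀ w ∈ Wo σ ∧ B w v ∈ Wo τ := ⟨sm_mem σ hf _ hw, hfix w hw v hv⟩
    have e1 : B (sm σ s₀ w) (sm σ s₀ v) = sm τ (s₀ * s₀) (B w v) := by
      rw [hP _ hsm v hv, hskew, hP v hv w hw, hskew v w, ← hskew, ← sm_mul τ hg _ _ hfw]
    have e2 : B (sm σ s₀ w) (sm σ s₀ v) = sm τ s₀ (B w v) := by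
      rw [sm_eq σ hf h0 hw, sm_eq σ hf h0 hv, ← heq, ← sm_eq τ hg h0 hfw]
    have e3 : sm τ (s₀ * s₀ + s₀) (B w v) = 0 := by
      rw [sm_add_left τ hg _ _ hfw, ← e1, ← e2]
      exact two_M0 τ (htopC _)
    refine sm_eq_zero τ hg (fun h => ?_) hfw e3
    have : s₀ * (s₀ + 1) = 0 := by rw [mul_add, mul_one, h]
    exact h1 (CharTwo.add_eq_zero.1 ((mul_eq_zero.1 this).resolve_left h0))
  have hQ : ∀ w ∈ Wo σ, ∀ v ∈ Wo σ, B (σ (mono 1) w) (σ (mono 1) v) = 0 := fun w hw v hv => by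
    rw [← heq, hP0 w hw v hv, map_zero]
  have hR : ∀ w ∈ Wo σ, ∀ v ∈ Wo σ, B w (σ (mono 1) v) = 0 := by
    intro w hw v hv
    obtain ⟨r, hr, t, ht, hrt, hb⟩ := hsplit w hw v hv
    have ht0 : t = 0 := by
      have h := hb 1
      rw [sm_one σ hf hv, sm_one τ hg ht, hP0 w hw v hv] at h
      exact h.symm
    rw [ht0, map_zero, add_zero] at hrt
    have h := heq (low (1 : F)) w (σ (mono 1) v)
    rw [← hrt, low_eq_sm, low_eq_sm, mono_low_fix σ hv.1, map_add, AddMonoidHom.add_apply,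
      hQ _ (sm_mem σ hf 1 hw) v hv, add_zero, ← hrt, sm_one τ hg hr, add_eq_left] at h
    rw [← hrt]
    exact mono_inj τ r 0 (by rw [h, map_zero])
  intro a b
  obtain ⟨w, hw, v, hv, rfl⟩ := htop a
  obtain ⟨x, hx, y, hy, rfl⟩ := htop b
  simp only [map_add, AddMonoidHom.add_apply, hP0 w hw x hx, hR w hw y hy, hQ v hv y hy,
    hskew x (σ (mono 1) v), hR x hx v hv, add_zero]

end Cfsg.Agent.SL2Fpf
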