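/-
Overgroups of `SL₂(F)` on its natural module whose Sylow `p`-subgroups normalise it (`|F| ≠ 4`).
-/
import Cfsg.Agent.Lib.LocalEven.SL2Nat
import Cfsg.Agent.Lib.LocalEven.Basic
import Cfsg.Agent.Lib.SpAmalgam.Stage
import Cfsg.Agent.Lib.LocalEven.SylowAux

set_option autoImplicit false
set_option linter.unusedSectionVars false
set_option linter.style.haveILetI false

namespace Cfsg.Agent.LESL2Over

open Matrix Cfsg.Agent.LENat
open scoped Pointwise

variable {F : Type*} [Field F]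

/-- A group acting faithfully and additively on `F²`, with a subgroup inducing `SL₂(F)`. -/
structure Act (Γ : Type*) [Group Γ] (F : Type*) [Field F] where
  act : Γ → (Fin 2 → F) → (Fin 2 → F)
  act_one : ∀ w, act 1 w = w
  act_mul : ∀ g h w, act (g * h) w = act g (act h w)
  act_add : ∀ g v w, act g (v + w) = act g v + act g w
  faith : ∀ g, (∀ w, act g w = w) → g = 1
  L : Subgroup Γ
  e : ↥L ≃* Matrix.SpecialLinearGroup (Fin 2) F
  hL : ∀ (l : ↥L) w, act l w = ((e l : Matrix.SpecialLinearGroup (Fin 2) F) : Matrix (Fin 2) (Fin 2) F) *ᵥ w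

variable {Γ : Type*} [Group Γ] (D : Act Γ F)

namespace Act

/-- The action of a group element as an additive map. -/
def hom (g : Γ) : (Fin 2 → F) →+ (Fin 2 → F) :=
  AddMonoidHom.mk' (D.act g) (D.act_add g)

theorem act_zero (g : Γ) : D.act g 0 = 0 := (D.hom g).map_zero

theorem act_sub (g : Γ) (v w : Fin 2 → F) : D.act g (v - w) = D.act g v - D.act g w := (D.hom g).map_sub v w

theorem act_inv_act (g : Γ) (w : Fin 2 → F) : D.act g⁻¹ (D.act g w) = w := by
  rw [← D.act_mul, inv_mul_cancel, D.act_one]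

theorem act_act_inv (g : Γ) (w : Fin 2 → F) : D.act g (D.act g⁻¹ w) = w := by
  rw [← D.act_mul, mul_inv_cancel, D.act_one]

theorem act_injective (g : Γ) : Function.Injective (D.act g) :=
  Function.LeftInverse.injective (D.act_inv_act g)

theorem eq_of_act {g h : Γ} (H : ∀ w, D.act g w = D.act h w) : g = h := by
  refine inv_mul_eq_one.1 (D.faith (g⁻¹ * h) fun w => ?_)
  rw [D.act_mul, ← H, D.act_inv_act]

theorem act_symm (s : Matrix.SpecialLinearGroup (Fin 2) F) (w : Fin 2 → F) :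
    D.act (D.e.symm s : Γ) w = (s : Matrix (Fin 2) (Fin 2) F) *ᵥ w := by
  rw [D.hL, MulEquiv.apply_symm_apply]

/-- The fixed line of the upper unitriangular group. -/
def OnA (w : Fin 2 → F) : Prop := w 1 = 0

/-- The element acting as an upper unitriangular matrix. -/
def up (b : F) : Γ := (D.e.symm (upp b) : Γ)

theorem act_up (b : F) (w : Fin 2 → F) : D.act (D.up b) w = ![w 0 + b * w 1, w 1] := by
  rw [up, D.act_symm, upp_mulVec]

theorem up_mem (b : F) : D.up b ∈ D.L := (D.e.symm (upp b)).2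

theorem up_injective : Function.Injective D.up := fun a b h => by
  have := congrFun (congrArg (fun g => D.act g ![0, 1]) h) 0
  simpa [D.act_up] using this

/-- The Sylow subgroup of `L`. -/
def U₀ : Subgroup Γ := ((U : Subgroup (Matrix.SpecialLinearGroup (Fin 2) F)).map D.e.symm.toMonoidHom).map D.L.subtype

theorem mem_U₀ {g : Γ} : g ∈ D.U₀ ↔ ∃ b, D.up b = g := by
  constructor
  · rintro ⟨_, ⟨_, ⟨b, rfl⟩, rfl⟩, rfl⟩
    exact ⟨b, rfl⟩
  · rintro ⟨b, rfl⟩
    exact ⟨_, ⟨_, upp_mem b, rfl⟩, rfl⟩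

theorem U₀_le : D.U₀ ≤ D.L := Subgroup.map_subtype_le _

theorem card_U₀ : Nat.card ↥D.U₀ = Nat.card F :=
  (Nat.card_congr (Equiv.ofBijective (fun b => (⟨D.up b, D.mem_U₀.2 ⟨b, rfl⟩⟩ : ↥D.U₀))
    ⟨fun a b h => D.up_injective (congrArg Subtype.val h :), fun ⟨g, hg⟩ => by
      obtain ⟨b, rfl⟩ := D.mem_U₀.1 hg
      exact ⟨b, rfl⟩⟩)).symm

theorem fix_U₀ {y : Γ} (hy : y ∈ D.U₀) {w : Fin 2 → F} (hw : OnA w) : D.act y w = w := by
  obtain ⟨b, rfl⟩ := D.mem_U₀.1 hy
  rw [D.act_up]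
  funext i
  fin_cases i <;> simp [OnA] at hw <;> simp [hw]

theorem onA_of_fix {y : Γ} (hy : y ∈ D.U₀) (hy1 : y ≠ 1) {w : Fin 2 → F} (hw : D.act y w = w) : OnA w := by
  obtain ⟨b, rfl⟩ := D.mem_U₀.1 hy
  have hb : b ≠ 0 := fun hb => hy1 (D.faith _ fun v => by
    rw [D.act_up, hb]
    funext i
    fin_cases i <;> simp)
  have := congrFun hw 0
  rw [D.act_up] at this
  simpa [OnA, hb] using this

theorem sub_U₀ {y : Γ} (hy : y ∈ D.U₀) (w : Fin 2 → F) : OnA (D.act y w - w) := by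
  obtain ⟨b, rfl⟩ := D.mem_U₀.1 hy
  simp [OnA, D.act_up]

/-- The stabiliser of the series `0 < A < F²`. -/
def K : Subgroup Γ where
  carrier := {g | (∀ w, OnA w → D.act g w = w) ∧ ∀ w, OnA (D.act g w - w)}
  one_mem' := ⟨fun w _ => D.act_one w, fun w => by simp [OnA, D.act_one]⟩
  mul_mem' := fun {a b} ha hb => ⟨fun w hw => by rw [D.act_mul, hb.1 w hw, ha.1 w hw], fun w => by
    rw [D.act_mul]
    have e : D.act a (D.act b w) - w = (D.act a (D.act b w) - D.act b w) + (D.act b w - w) := by abel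
    rw [e]
    have h1 := ha.2 (D.act b w)
    have h2 := hb.2 w
    simp only [OnA, Pi.add_apply] at *
    rw [h1, h2, add_zero]⟩
  inv_mem' := fun {a} ha => ⟨fun w hw => by conv_lhs => rw [← ha.1 w hw, D.act_inv_act], fun w => by
    have e : D.act a⁻¹ w - w = -(D.act a (D.act a⁻¹ w) - D.act a⁻¹ w) := by
      rw [D.act_act_inv]; abel
    rw [e]
    have h1 := ha.2 (D.act a⁻¹ w)
    simp only [OnA, Pi.neg_apply] at *
    rw [h1, neg_zero]⟩

theorem mem_K {g : Γ} : g ∈ D.K ↔ (∀ w, OnA w → D.act g w = w) ∧ ∀ w, OnA (D.act g w - w) := Iff.rfl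

theorem U₀_le_K : D.U₀ ≤ D.K := fun _ hy => D.mem_K.2 ⟨fun _ => D.fix_U₀ hy, D.sub_U₀ hy⟩

theorem K_mul {a b : Γ} (ha : a ∈ D.K) (hb : b ∈ D.K) (w : Fin 2 → F) :
    D.act (a * b) w = D.act a w + D.act b w - w := by
  rw [D.act_mul]
  have h := (D.mem_K.1 ha).1 _ ((D.mem_K.1 hb).2 w)
  rw [D.act_sub] at h
  linear_combination (norm := abel) h

theorem K_quadratic {a : Γ} (ha : a ∈ D.K) (w : Fin 2 → F) : D.act a (D.act a w - w) = D.act a w - w :=
  (D.mem_K.1 ha).1 _ ((D.mem_K.1 ha).2 w)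

theorem K_comm {a b : Γ} (ha : a ∈ D.K) (hb : b ∈ D.K) : a * b = b * a :=
  D.eq_of_act fun w => by rw [D.K_mul ha hb, D.K_mul hb ha, add_comm]

theorem K_pow {a : Γ} (ha : a ∈ D.K) (n : ℕ) (w : Fin 2 → F) :
    D.act (a ^ n) w = w + n • (D.act a w - w) := by
  induction n with
  | zero => simp [D.act_one]
  | succ n ih =>
    rw [pow_succ, D.K_mul (pow_mem ha n) ha, ih, succ_nsmul]
    abel

/-! ### Semilinearity of the normaliser -/

theorem exists_sigma {n : Γ} (hn : n ∈ Subgroup.normalizer (D.L : Set Γ)) :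
    ∀ c : F, ∃ d : F, ∀ w, D.act n (c • w) = d • D.act n w := by
  intro c
  let cj : ↥D.L → ↥D.L := fun l => ⟨n * l * n⁻¹, (Subgroup.mem_normalizer_iff.1 hn _).1 l.2⟩
  have hcj : ∀ (l : ↥D.L) w, D.act n (D.act (l : Γ) w) = D.act (cj l : Γ) (D.act n w) := fun l w => by
    show _ = D.act (n * l * n⁻¹) (D.act n w)
    rw [← D.act_mul, ← D.act_mul, inv_mul_cancel_right]
  let a : ↥D.L := D.e.symm (upp c)
  let b : ↥D.L := D.e.symm (low 1)
  set A : Matrix (Fin 2) (Fin 2) F := ((D.e (cj a) : Matrix.SpecialLinearGroup (Fin 2) F) : Matrix _ _ F) - 1 with hA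
  set B : Matrix (Fin 2) (Fin 2) F := ((D.e (cj b) : Matrix.SpecialLinearGroup (Fin 2) F) : Matrix _ _ F) - 1 with hB
  set M : Matrix (Fin 2) (Fin 2) F := A * B + B * A with hM
  have hAv : ∀ w, D.act n (D.act (a : Γ) w - w) = A *ᵥ D.act n w := fun w => by
    rw [D.act_sub, hcj, D.hL, hA, Matrix.sub_mulVec, Matrix.one_mulVec]
  have hBv : ∀ w, D.act n (D.act (b : Γ) w - w) = B *ᵥ D.act n w := fun w => by
    rw [D.act_sub, hcj, D.hL, hB, Matrix.sub_mulVec, Matrix.one_mulVec]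
  have hid : ∀ w : Fin 2 → F, (D.act (a : Γ) (D.act (b : Γ) w - w) - (D.act (b : Γ) w - w)) +
      (D.act (b : Γ) (D.act (a : Γ) w - w) - (D.act (a : Γ) w - w)) = c • w := fun w => by
    simp only [a, b, D.act_symm, upp_mulVec, low_mulVec]
    funext i
    fin_cases i <;> simp [Matrix.vecHead, Matrix.vecTail] <;> ring
  have hMv : ∀ w, D.act n (c • w) = M *ᵥ D.act n w := fun w => by
    rw [← hid w, D.act_add, hAv, hBv, hBv, hAv, Matrix.mulVec_mulVec, Matrix.mulVec_mulVec, hM, Matrix.add_mulVec]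
  -- `M` commutes with `SL₂(F)`
  have hcomm : ∀ (s : Matrix.SpecialLinearGroup (Fin 2) F) v,
      M *ᵥ ((s : Matrix _ _ F) *ᵥ v) = (s : Matrix _ _ F) *ᵥ (M *ᵥ v) := by
    intro s v
    obtain ⟨w, rfl⟩ : ∃ w, D.act n w = v := ⟨_, D.act_act_inv n v⟩
    obtain ⟨l, hl⟩ : ∃ l : ↥D.L, cj l = D.e.symm s := by
      refine ⟨⟨n⁻¹ * (D.e.symm s : Γ) * n, (Subgroup.mem_normalizer_iff''.1 hn _).1 (D.e.symm s).2⟩, ?_⟩
      exact Subtype.ext (by show n * (n⁻¹ * (D.e.symm s : Γ) * n) * n⁻¹ = _; group)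
    rw [← D.act_symm, ← D.act_symm, ← hl, ← hcj, ← hMv, ← hMv, ← hcj]
    congr 1
    rw [D.hL, D.hL, Matrix.mulVec_smul]
  have e1 := hcomm (upp 1) ![0, 1]
  have e2 := hcomm (low 1) ![1, 0]
  have e3 := hcomm (upp 1) ![1, 0]
  rw [upp_mulVec, upp_mulVec, mulVec_two, mulVec_two] at e1
  rw [low_mulVec, low_mulVec, mulVec_two, mulVec_two] at e2
  rw [upp_mulVec, upp_mulVec, mulVec_two] at e3
  have h10 : M 1 0 = 0 := by simpa using congrFun e3 0
  have h00 : M 0 0 = M 1 1 := by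
    have := congrFun e1 0
    simp at this
    linear_combination this
  have h01 : M 0 1 = 0 := by
    have := congrFun e2 0
    simp at this
    linear_combination this
  refine ⟨M 0 0, fun w => ?_⟩
  rw [hMv, mulVec_two, h01, h10, ← h00]
  funext i
  fin_cases i <;> simp

/-- The field automorphism of a normalising element. -/
noncomputable def sigma {n : Γ} (hn : n ∈ Subgroup.normalizer (D.L : Set Γ)) (c : F) : F :=
  (D.exists_sigma hn c).choose

theorem act_smul {n : Γ} (hn : n ∈ Subgroup.normalizer (D.L : Set Γ)) (c : F) (w : Fin 2 → F) :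
    D.act n (c • w) = D.sigma hn c • D.act n w :=
  (D.exists_sigma hn c).choose_spec w

theorem sigma_eq {n : Γ} (hn : n ∈ Subgroup.normalizer (D.L : Set Γ)) {c d : F} {w : Fin 2 → F} (hw : w ≠ 0)
    (h : D.act n (c • w) = d • D.act n w) : D.sigma hn c = d := by
  rw [D.act_smul hn] at h
  exact smul_left_injective F (fun e => hw (D.act_injective n (e.trans (D.act_zero n).symm))) h

theorem exists_aut [Finite F] {n : Γ} (hn : n ∈ Subgroup.normalizer (D.L : Set Γ)) :
    ∃ τ : F ≃+* F, ∀ c w, D.act n (c • w) = τ c • D.act n w := by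
  have hw : (![1, 0] : Fin 2 → F) ≠ 0 := fun h => one_ne_zero (congrFun h 0)
  let f : F →+* F :=
    { toFun := D.sigma hn
      map_one' := D.sigma_eq hn hw (by rw [one_smul, one_smul])
      map_mul' := fun a b => D.sigma_eq hn hw (by rw [mul_smul, D.act_smul hn, D.act_smul hn, ← mul_smul])
      map_zero' := D.sigma_eq hn hw (by rw [zero_smul, zero_smul, D.act_zero])
      map_add' := fun a b => D.sigma_eq hn hw (by rw [add_smul, D.act_add, D.act_smul hn, D.act_smul hn, add_smul]) }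
  exact ⟨RingEquiv.ofBijective f (Finite.injective_iff_bijective.1 f.injective), D.act_smul hn⟩

/-- A linear `p`-element normalising `L` lies in `L`. -/
theorem mem_L_of_linear {p : ℕ} [Fact p.Prime] [CharP F p] {n : Γ}
    (hlin : ∀ (c : F) w, D.act n (c • w) = c • D.act n w) {k : ℕ} (hk : n ^ p ^ k = 1) : n ∈ D.L := by
  let f : (Fin 2 → F) →ₗ[F] (Fin 2 → F) := { toFun := D.act n, map_add' := D.act_add n, map_smul' := hlin }
  have hpow : ∀ m : ℕ, ∀ w, D.act (n ^ m) w = (f ^ m) w := by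
    intro m
    induction m with
    | zero => intro w; rw [pow_zero, D.act_one, pow_zero, Module.End.one_apply]
    | succ m ih => intro w; rw [pow_succ, D.act_mul, ih, pow_succ, Module.End.mul_apply]; rfl
  have hf : f ^ p ^ k = 1 := LinearMap.ext fun w => by rw [← hpow, hk, D.act_one]; rfl
  set A := LinearMap.toMatrix' f with hA
  have hdet : A.det = 1 := by
    have h1 : A.det ^ p ^ k = 1 := by
      rw [hA, LinearMap.det_toMatrix', ← map_pow, hf, map_one]
    refine sub_eq_zero.1 (eq_zero_of_pow_eq_zero (n := p ^ k) ?_)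
    rw [sub_pow_char_pow, h1, one_pow, sub_self]
  have : n = (D.e.symm ⟨A, hdet⟩ : Γ) := D.eq_of_act fun w => by
    refine Eq.trans ?_ (D.act_symm ⟨A, hdet⟩ w).symm
    show D.act n w = A *ᵥ w
    rw [hA, LinearMap.toMatrix'_mulVec]
    rfl
  rw [this]
  exact (D.e.symm ⟨A, hdet⟩).2

end Act

/-- Two field automorphisms of order two of a finite field coincide. -/
theorem aut_two_unique [Finite F] {p : ℕ} [Fact p.Prime] [CharP F p] {s t : F ≃+* F}
    (hs : ∀ c, s (s c) = c) (hs1 : ∃ c, s c ≠ c) (ht : ∀ c, t (t c) = c) (ht1 : ∃ c, t c ≠ c) : s = t := by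
  letI : Algebra (ZMod p) F := ZMod.algebra F p
  have hcomm : ∀ (u : F ≃+* F) (a : ZMod p), u (algebraMap (ZMod p) F a) = algebraMap (ZMod p) F a := by
    intro u a
    obtain ⟨m, rfl⟩ := ZMod.natCast_zmod_surjective a
    rw [map_natCast, map_natCast]
  let s' : Gal(F/ZMod p) := AlgEquiv.ofRingEquiv (f := s) (hcomm s)
  let t' : Gal(F/ZMod p) := AlgEquiv.ofRingEquiv (f := t) (hcomm t)
  haveI : Finite Gal(F/ZMod p) := Finite.of_injective (fun u => (u : F → F)) DFunLike.coe_injective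
  have hord : ∀ (u : Gal(F/ZMod p)), (∀ c, u (u c) = c) → (∃ c, u c ≠ c) → orderOf u = 2 := by
    intro u hu ⟨c, hc⟩
    refine orderOf_eq_prime (AlgEquiv.ext fun x => ?_) fun e => hc (by rw [e]; rfl)
    rw [pow_two, AlgEquiv.mul_apply]
    exact hu x
  classical
  haveI := Fintype.ofFinite Gal(F/ZMod p)
  have h2 : 2 ∣ Fintype.card Gal(F/ZMod p) := hord s' hs hs1 ▸ orderOf_dvd_card
  have h1 := IsCyclic.card_orderOf_eq_totient (α := Gal(F/ZMod p)) h2
  rw [Nat.totient_two, Finset.card_eq_one] at h1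
  obtain ⟨a, ha⟩ := h1
  have e1 : s' = a := Finset.mem_singleton.1 (ha ▸ Finset.mem_filter.2 ⟨Finset.mem_univ _, hord s' hs hs1⟩)
  have e2 : t' = a := Finset.mem_singleton.1 (ha ▸ Finset.mem_filter.2 ⟨Finset.mem_univ _, hord t' ht ht1⟩)
  exact RingEquiv.ext fun c => (congrArg (fun u : Gal(F/ZMod p) => u c) (e1.trans e2.symm) : _)

namespace Act

variable [Finite F] [Finite Γ] {p : ℕ} [hp : Fact p.Prime] [CharP F p]

theorem isPGroup_U₀ : IsPGroup p ↥D.U₀ := ((isPGroup_U (F := F) (p := p)).map _).map _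

theorem isPGroup_K : IsPGroup p ↥D.K := by
  rintro ⟨a, ha⟩
  refine ⟨1, Subtype.ext (D.faith _ fun w => ?_)⟩
  rw [SubmonoidClass.coe_pow, pow_one, D.K_pow ha, nsmul_eq_mul, CharP.cast_eq_zero, zero_mul, add_zero]

/-- A `p`-group containing `U₀` meets `L` in `U₀`. -/
theorem inf_L_eq {P : Subgroup Γ} (hP : IsPGroup p ↥P) (h : D.U₀ ≤ P) : P ⊓ D.L = D.U₀ := by
  set P' := ((P ⊓ D.L).subgroupOf D.L).map D.e.toMonoidHom with hP'
  have h1 : IsPGroup p ↥P' :=
    ((hP.to_le inf_le_left).comap_of_injective D.L.subtype D.L.subtype_injective).map _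
  have h2 : (U : Subgroup (Matrix.SpecialLinearGroup (Fin 2) F)) ≤ P' := fun s hs => by
    refine ⟨D.e.symm s, ?_, D.e.apply_symm_apply s⟩
    exact ⟨h ⟨_, ⟨s, hs, rfl⟩, rfl⟩, (D.e.symm s).2⟩
  have h3 := eq_U_of_le h1 h2
  refine le_antisymm (fun x hx => ?_) (le_inf h D.U₀_le)
  have h4 : D.e ⟨x, hx.2⟩ ∈ (U : Subgroup (Matrix.SpecialLinearGroup (Fin 2) F)) := h3 ▸ ⟨⟨x, hx.2⟩, hx, rfl⟩
  exact ⟨⟨x, hx.2⟩, ⟨_, h4, D.e.symm_apply_apply _⟩, rfl⟩

/-- A Sylow subgroup as in the hypothesis. -/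
structure Good (T : Sylow p Γ) : Prop where
  hU : D.U₀ ≤ (T : Subgroup Γ)
  hN : (T : Subgroup Γ) ≤ Subgroup.normalizer (D.L : Set Γ)

variable {D} {T : Sylow p Γ}

theorem Good.le_normalizer_U₀ (hT : D.Good T) : (T : Subgroup Γ) ≤ Subgroup.normalizer (D.U₀ : Set Γ) := by
  rw [← D.inf_L_eq T.isPGroup' hT.hU]
  intro x hx
  exact Subgroup.inf_normalizer_le_normalizer_inf (Subgroup.mem_inf.2 ⟨Subgroup.le_normalizer hx, hT.hN hx⟩)

/-- Quadratic elements of order `p` outside `U₀`. -/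
theorem Good.quadratic (hT : D.Good T) {x : Γ} (hx : x ∈ (T : Subgroup Γ)) (hxU : x ∉ D.U₀)
    (hxp : x ^ p = 1) (hq : ∀ w, D.act x (D.act x w - w) = D.act x w - w) :
    p = 2 ∧ ∃ τ : F ≃+* F, (∀ c, τ (τ c) = c) ∧ (∃ c, τ c ≠ c) ∧ ∀ c w, D.act x (c • w) = τ c • D.act x w := by
  obtain ⟨τ, hτ⟩ := D.exists_aut (hT.hN hx)
  have hne : ∃ c, τ c ≠ c := by
    by_contra hall
    push Not at hall
    refine hxU (D.inf_L_eq T.isPGroup' hT.hU ▸ Subgroup.mem_inf.2 ⟨hx,
      D.mem_L_of_linear (k := 1) (fun c w => ?_) (by rwa [pow_one])⟩)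
    rw [hτ, hall]
  -- a fixed vector
  obtain ⟨v, hv0, hv⟩ : ∃ v : Fin 2 → F, v ≠ 0 ∧ D.act x v = v := by
    by_cases h : ∀ w, D.act x w = w
    · exact ⟨![1, 0], fun h0 => one_ne_zero (congrFun h0 0), h _⟩
    · push Not at h
      obtain ⟨w, hw⟩ := h
      exact ⟨_, sub_ne_zero.2 hw, hq w⟩
  have h2 : ∀ c, τ (τ c - c) = τ c - c := fun c => by
    have h := hq (c • v)
    rw [hτ, hv, ← sub_smul, hτ, hv] at h
    exact smul_left_injective F hv0 h
  have hp2 : (2 : F) = 0 := by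
    obtain ⟨c, hc⟩ := hne
    have h3 := h2 c
    have h4 := h2 (c * c)
    rw [map_sub] at h3 h4
    rw [map_mul, map_mul, show τ (τ c) = 2 * τ c - c by linear_combination h3] at h4
    have h5 : 2 * ((τ c - c) * (τ c - c)) = 0 := by linear_combination h4
    exact (mul_eq_zero.1 h5).resolve_right (mul_ne_zero (sub_ne_zero.2 hc) (sub_ne_zero.2 hc))
  have hp' : p = 2 := by
    have := (CharP.cast_eq_zero_iff F p 2).1 (by exact_mod_cast hp2)
    exact (Nat.prime_dvd_prime_iff_eq hp.out Nat.prime_two).1 this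
  refine ⟨hp', τ, fun c => ?_, hne, hτ⟩
  have h3 := h2 c
  rw [map_sub] at h3
  linear_combination h3 + (τ c - c) * hp2

variable (hq4 : Nat.card F ≠ 4)

/-- The number of solutions of `τ c * l = c` squared is at most `|F|`. -/
theorem card_fixed_sq_le {τ : F ≃+* F} (hne : ∃ c, τ c ≠ c) (l : F) :
    Nat.card {c : F // τ c * l = c} ^ 2 ≤ Nat.card F := by
  obtain ⟨c₀, hc₀⟩ := hne
  by_cases h : ∃ b : F, b ≠ 0 ∧ τ b * l = b
  · obtain ⟨b, hb0, hb⟩ := h
    have hfix : ∀ a : {c : F // τ c * l = c}, τ (a.1 / b) = a.1 / b := fun a => by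
      have hτb : τ b ≠ 0 := by simpa using hb0
      have hl : l ≠ 0 := fun e => hb0 (by rw [← hb, e, mul_zero])
      rw [map_div₀, div_eq_div_iff hτb hb0]
      refine mul_right_cancel₀ hl ?_
      calc τ a.1 * b * l = (τ a.1 * l) * b := by ring
        _ = a.1 * (τ b * l) := by rw [a.2, hb]
        _ = a.1 * τ b * l := by ring
    let f : {c : F // τ c * l = c} × {c : F // τ c * l = c} → F := fun x => x.1.1 / b + x.2.1 / b * c₀
    have hf : Function.Injective f := by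
      rintro ⟨a₁, a₂⟩ ⟨b₁, b₂⟩ e
      have e' := congrArg τ e
      simp only [f, map_add, map_mul, hfix] at e e'
      have h2 : (a₂.1 / b - b₂.1 / b) * (τ c₀ - c₀) = 0 := by linear_combination e' - e
      have h3 : a₂.1 / b = b₂.1 / b :=
        sub_eq_zero.1 ((mul_eq_zero.1 h2).resolve_right (sub_ne_zero.2 hc₀))
      have h4 : a₁.1 / b = b₁.1 / b := by rw [h3] at e; exact add_right_cancel e
      exact Prod.ext (Subtype.ext ((div_left_inj' hb0).1 h4)) (Subtype.ext ((div_left_inj' hb0).1 h3))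
    have := Nat.card_le_card_of_injective f hf
    rwa [Nat.card_prod, ← pow_two] at this
  · push Not at h
    haveI : Subsingleton {c : F // τ c * l = c} := ⟨fun a b => Subtype.ext (by
      have ha : a.1 = 0 := by by_contra e; exact h _ e a.2
      have hb : b.1 = 0 := by by_contra e; exact h _ e b.2
      rw [ha, hb])⟩
    have h1 : Nat.card {c : F // τ c * l = c} ≤ 1 := Finite.card_le_one_iff_subsingleton.2 inferInstance
    exact (Nat.pow_le_pow_left h1 2).trans (by rw [one_pow]; exact Nat.card_pos)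

theorem Good.small (hT : D.Good T) {E : Subgroup Γ} (hE : E ≤ (T : Subgroup Γ)) (hEp : ∀ x ∈ E, x ^ p = 1)
    (hEq : ∀ x ∈ E, ∀ w, D.act x (D.act x w - w) = D.act x w - w) :
    ∀ x ∈ E, x ∉ D.U₀ → ∀ y ∈ E, y ∉ D.U₀ → x⁻¹ * y ∈ D.U₀ := by
  intro x hx hxU y hy hyU
  obtain ⟨-, s, hs, hs1, hsx⟩ := hT.quadratic (hE hx) hxU (hEp x hx) (hEq x hx)
  obtain ⟨-, t, ht, ht1, hty⟩ := hT.quadratic (hE hy) hyU (hEp y hy) (hEq y hy)
  have hst := aut_two_unique (p := p) hs hs1 ht ht1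
  have hxy := mul_mem (inv_mem hx) hy
  refine D.inf_L_eq T.isPGroup' hT.hU ▸ Subgroup.mem_inf.2 ⟨hE hxy,
    D.mem_L_of_linear (k := 1) (fun c w => ?_) (by rw [pow_one]; exact hEp _ hxy)⟩
  rw [D.act_mul, hty, ← hst, ← hs c, hs (s c)]
  refine D.act_injective x ?_
  rw [D.act_act_inv, hs c, hsx, ← D.act_mul x, mul_inv_cancel_left]

theorem Good.card_le_two_mul (hT : D.Good T) {E : Subgroup Γ} (hE : E ≤ (T : Subgroup Γ))
    (hEp : ∀ x ∈ E, x ^ p = 1) (hEq : ∀ x ∈ E, ∀ w, D.act x (D.act x w - w) = D.act x w - w) :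
    Nat.card ↥E ≤ 2 * Nat.card ↥(E ⊓ D.U₀ : Subgroup Γ) := by
  classical
  by_cases hall : E ≤ D.U₀
  · rw [inf_eq_left.2 hall]; omega
  obtain ⟨x, hx, hxU⟩ := SetLike.not_le_iff_exists.1 hall
  let f : ↥E → ↥(E ⊓ D.U₀ : Subgroup Γ) × Bool := fun y =>
    if h : (y : Γ) ∈ D.U₀ then (⟨y, Subgroup.mem_inf.2 ⟨y.2, h⟩⟩, true)
    else (⟨x⁻¹ * y, Subgroup.mem_inf.2 ⟨mul_mem (inv_mem hx) y.2, hT.small hE hEp hEq x hx hxU y y.2 h⟩⟩, false)
  have hf : Function.Injective f := fun a b e => by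
    simp only [f] at e
    by_cases ha : (a : Γ) ∈ D.U₀ <;> by_cases hb : (b : Γ) ∈ D.U₀ <;> simp [ha, hb] at e
    · exact Subtype.ext (congrArg Subtype.val e :)
    · exact Subtype.ext (congrArg Subtype.val e :)
  refine (Nat.card_le_card_of_injective f hf).trans ?_
  rw [Nat.card_prod, Nat.card_eq_fintype_card (α := Bool), Fintype.card_bool, mul_comm]

theorem Good.preserves (hT : D.Good T) {x : Γ} (hx : x ∈ (T : Subgroup Γ)) {w : Fin 2 → F} (hw : OnA w) :
    OnA (D.act x w) := by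
  obtain ⟨y, hy, hy1⟩ : ∃ y ∈ D.U₀, y ≠ 1 := ⟨D.up 1, D.mem_U₀.2 ⟨1, rfl⟩, fun e => by
    have := congrFun (congrArg (fun g => D.act g ![0, 1]) e) 0
    simp [D.act_up, D.act_one] at this⟩
  refine D.onA_of_fix ((Subgroup.mem_normalizer_iff.1 (hT.le_normalizer_U₀ hx) y).1 hy) ?_ ?_
  · simpa [conj_eq_one_iff] using hy1
  · rw [← D.act_mul, inv_mul_cancel_right, D.act_mul, D.fix_U₀ hy hw]

theorem Good.exists_scalar (hT : D.Good T) {x : Γ} (hx : x ∈ (T : Subgroup Γ)) {τ : F ≃+* F}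
    (hτ : ∀ c w, D.act x (c • w) = τ c • D.act x w) :
    ∃ l : F, l ≠ 0 ∧ ∀ c : F, D.act x ![c, 0] = ![τ c * l, 0] := by
  have h1 := hT.preserves hx (w := ![1, 0]) (by simp [OnA])
  refine ⟨D.act x ![1, 0] 0, fun e => ?_, fun c => ?_⟩
  · have h0 : D.act x ![1, 0] = 0 := funext fun i => by fin_cases i <;> simp [e]; exact h1
    exact one_ne_zero (congrFun (D.act_injective x (h0.trans (D.act_zero x).symm)) 0)
  · have e : (![c, 0] : Fin 2 → F) = c • ![1, 0] := by simp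
    rw [e, hτ]
    funext i
    fin_cases i <;> simp
    exact Or.inr h1

include hq4 in
/-- An abelian quadratic group of exponent `p` and order at least `|F|` in `T` lies in `U₀`. -/
theorem Good.key (hT : D.Good T) {E : Subgroup Γ} (hE : E ≤ (T : Subgroup Γ)) (hEp : ∀ x ∈ E, x ^ p = 1)
    (hEc : ∀ x ∈ E, ∀ y ∈ E, x * y = y * x)
    (hEq : ∀ x ∈ E, ∀ w, D.act x (D.act x w - w) = D.act x w - w) (hcard : Nat.card F ≤ Nat.card ↥E) :
    E ≤ D.U₀ := by
  by_contra hall
  obtain ⟨x, hx, hxU⟩ := SetLike.not_le_iff_exists.1 hall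
  obtain ⟨hp2, τ, hτ2, hne, hτ⟩ := hT.quadratic (hE hx) hxU (hEp x hx) (hEq x hx)
  obtain ⟨l, hl, hxl⟩ := hT.exists_scalar (hE hx) hτ
  set w₀ : Fin 2 → F := ![0, 1] with hw₀
  -- the part of `U₀` centralising `x` is small
  obtain ⟨m, -, hm⟩ : ∃ m : F, True ∧ ∀ b : F, D.up b ∈ E → τ b * l = b * m := by
    refine ⟨D.act x w₀ 1, trivial, fun b hb => ?_⟩
    have h1 := congrArg (fun g => D.act g w₀) (hEc x hx _ hb)
    simp only [D.act_mul, D.act_up, hw₀] at h1
    have e : (![0 + b * 1, 1] : Fin 2 → F) = ![b, 0] + ![0, 1] := by simp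
    simp only [cons_val_zero, cons_val_one] at h1
    rw [e, D.act_add, hxl] at h1
    have := congrFun h1 0
    simp at this
    linear_combination this
  have hsm : Nat.card ↥(E ⊓ D.U₀ : Subgroup Γ) ^ 2 ≤ Nat.card F := by
    by_cases hm0 : m = 0
    · have hsub : Subsingleton ↥(E ⊓ D.U₀ : Subgroup Γ) := ⟨fun a b => by
        have key : ∀ a : ↥(E ⊓ D.U₀ : Subgroup Γ), (a : Γ) = D.up 0 := fun a => by
          obtain ⟨c, hc⟩ := D.mem_U₀.1 a.2.2
          have h := hm c (hc ▸ a.2.1)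
          rw [hm0, mul_zero] at h
          have hc0 : c = 0 := by simpa [hl] using h
          rw [← hc, hc0]
        exact Subtype.ext ((key a).trans (key b).symm)⟩
      have h1 : Nat.card ↥(E ⊓ D.U₀ : Subgroup Γ) ≤ 1 := Finite.card_le_one_iff_subsingleton.2 hsub
      exact (Nat.pow_le_pow_left h1 2).trans (by rw [one_pow]; exact Nat.card_pos)
    refine le_trans (Nat.pow_le_pow_left ?_ 2) (card_fixed_sq_le hne (l / m))
    let g : ↥(E ⊓ D.U₀ : Subgroup Γ) → {c : F // τ c * (l / m) = c} := fun a =>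
      ⟨(D.mem_U₀.1 a.2.2).choose, by
        have h := hm _ ((D.mem_U₀.1 a.2.2).choose_spec.symm ▸ a.2.1)
        field_simp
        linear_combination h⟩
    refine Nat.card_le_card_of_injective g fun a b e => Subtype.ext ?_
    have := congrArg (fun c : {c : F // τ c * (l / m) = c} => D.up c.1) e
    simpa [g, (D.mem_U₀.1 a.2.2).choose_spec, (D.mem_U₀.1 b.2.2).choose_spec] using this
  have h2 := hT.card_le_two_mul hE hEp hEq
  subst hp2
  haveI := Fintype.ofFinite F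
  obtain ⟨n, -, hn⟩ := FiniteField.card F 2
  rw [← Nat.card_eq_fintype_card] at hn
  have h3 : Nat.card F * Nat.card F ≤ 4 * Nat.card F := by
    calc Nat.card F * Nat.card F ≤ (2 * Nat.card ↥(E ⊓ D.U₀ : Subgroup Γ)) * (2 * Nat.card ↥(E ⊓ D.U₀ : Subgroup Γ)) :=
          Nat.mul_le_mul (hcard.trans h2) (hcard.trans h2)
      _ = 4 * Nat.card ↥(E ⊓ D.U₀ : Subgroup Γ) ^ 2 := by ring
      _ ≤ 4 * Nat.card F := Nat.mul_le_mul_left 4 hsm
  have h4 : Nat.card F ≤ 4 := Nat.le_of_mul_le_mul_right h3 Nat.card_pos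
  obtain ⟨c, hc⟩ := hne
  have h5 : 3 ≤ Nat.card F := by
    have hc0 : c ≠ 0 := fun e => hc (by rw [e, map_zero])
    have hc1 : c ≠ 1 := fun e => hc (by rw [e, map_one])
    have := Nat.card_le_card_of_injective (![0, 1, c] : Fin 3 → F) (by
      intro i j
      fin_cases i <;> fin_cases j <;> simp [hc0, hc1, hc0.symm, hc1.symm])
    simpa using this
  have hn2 : (n : ℕ) ≤ 2 := by
    by_contra h6
    have : 2 ^ 3 ≤ 2 ^ (n : ℕ) := Nat.pow_le_pow_right two_pos (by omega)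
    omega
  interval_cases hnn : (n : ℕ) <;> omega

include hq4 in
theorem Good.K_eq (hT : D.Good T) : D.K = D.U₀ := by
  obtain ⟨P, hP⟩ := (D.isPGroup_K (p := p)).exists_le_sylow
  obtain ⟨g, hg⟩ := LESylow.exists_conj_eq P T
  have hle : D.K.map (MulAut.conj g).toMonoidHom ≤ (T : Subgroup Γ) := hg ▸ LEBasic.map_conj_mono g hP
  have h1 : D.K.map (MulAut.conj g).toMonoidHom ≤ D.U₀ := by
    refine hT.key hq4 hle ?_ ?_ ?_ ?_
    · rintro _ ⟨a, ha, rfl⟩
      rw [← map_pow]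
      rw [show a ^ p = 1 from D.faith _ fun w => by
        rw [D.K_pow ha, nsmul_eq_mul, CharP.cast_eq_zero, zero_mul, add_zero], map_one]
    · rintro _ ⟨a, ha, rfl⟩ _ ⟨b, hb, rfl⟩
      rw [← map_mul, ← map_mul, D.K_comm ha hb]
    · rintro _ ⟨a, ha, rfl⟩ w
      show D.act (g * a * g⁻¹) (D.act (g * a * g⁻¹) w - w) = D.act (g * a * g⁻¹) w - w
      obtain ⟨v, rfl⟩ : ∃ v, D.act g v = w := ⟨_, D.act_act_inv g w⟩
      simp only [D.act_mul, D.act_inv_act, ← D.act_sub, D.K_quadratic ha]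
    · rw [Nat.card_congr (D.K.equivMapOfInjective (MulAut.conj g).toMonoidHom (MulAut.conj g).injective).toEquiv.symm, ← D.card_U₀]
      exact Subgroup.card_le_of_le D.U₀_le_K
  refine (Subgroup.eq_of_le_of_card_ge D.U₀_le_K ?_).symm
  rw [← Nat.card_congr (D.K.equivMapOfInjective (MulAut.conj g).toMonoidHom (MulAut.conj g).injective).toEquiv.symm]
  exact Subgroup.card_le_of_le h1

include hq4 in
/-- An element fixing the line of `U₀` setwise normalises `U₀`. -/
theorem Good.mem_normalizer_of_preserves (hT : D.Good T) {g : Γ} (h : ∀ w, OnA w ↔ OnA (D.act g w)) :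
    g ∈ Subgroup.normalizer (D.U₀ : Set Γ) := by
  rw [← hT.K_eq hq4]
  have key : ∀ g : Γ, (∀ w, OnA w ↔ OnA (D.act g w)) → ∀ a ∈ D.K, g * a * g⁻¹ ∈ D.K := by
    intro g h a ha
    refine D.mem_K.2 ⟨fun w hw => ?_, fun w => ?_⟩
    · have h1 : OnA (D.act g⁻¹ w) := (h _).2 (by rwa [D.act_act_inv])
      rw [D.act_mul, D.act_mul, (D.mem_K.1 ha).1 _ h1, D.act_act_inv]
    · obtain ⟨v, rfl⟩ : ∃ v, D.act g v = w := ⟨_, D.act_act_inv g w⟩
      rw [← D.act_mul (g * a * g⁻¹), inv_mul_cancel_right, D.act_mul, ← D.act_sub]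
      exact (h _).1 ((D.mem_K.1 ha).2 v)
  refine Subgroup.mem_normalizer_iff.2 fun a => ⟨key g h a, fun ha => ?_⟩
  have h' : ∀ w, OnA w ↔ OnA (D.act g⁻¹ w) := fun w => by
    rw [h (D.act g⁻¹ w), D.act_act_inv]
  simpa [mul_assoc] using key g⁻¹ h' _ ha

include hq4 in
/-- Conjugates of the fixed line are equal or disjoint. -/
theorem Good.disjoint (hT : D.Good T) : ∀ g : Γ, (∃ w, w ≠ 0 ∧ OnA w ∧ OnA (D.act g w)) →
    ∀ w, OnA w ↔ OnA (D.act g w) := by
  classical
  by_contra hall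
  push Not at hall
  obtain ⟨g₀, hg₀, hne₀⟩ := hall
  let cnt : Γ → ℕ := fun g => Nat.card {w : Fin 2 → F // OnA w ∧ OnA (D.act g w)}
  let P : Γ → Prop := fun g => (∃ w, w ≠ 0 ∧ OnA w ∧ OnA (D.act g w)) ∧ ¬ ∀ w, OnA w ↔ OnA (D.act g w)
  have hP₀ : P g₀ := ⟨hg₀, fun h => by obtain ⟨w, hw⟩ := hne₀; have := h w; tauto⟩
  haveI := Fintype.ofFinite Γ
  obtain ⟨g, hgmem, hmax⟩ := (Finset.univ.filter P).exists_max_image cnt ⟨g₀, Finset.mem_filter.2 ⟨Finset.mem_univ _, hP₀⟩⟩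
  obtain ⟨⟨z, hz0, hzA, hzB⟩, hgne⟩ := (Finset.mem_filter.1 hgmem).2
  -- a vector of `g⁻¹ A` outside `A`
  obtain ⟨a, haB, haA⟩ : ∃ a, OnA (D.act g a) ∧ ¬ OnA a := by
    by_contra hh
    push Not at hh
    have hinj : Function.Injective (fun w : {w : Fin 2 → F // OnA (D.act g w)} =>
        (⟨w.1, hh _ w.2⟩ : {w : Fin 2 → F // OnA w})) := fun u v e => Subtype.ext (congrArg (fun x => x.1) e)
    have hcard : Nat.card {w : Fin 2 → F // OnA (D.act g w)} = Nat.card {w : Fin 2 → F // OnA w} :=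
      Nat.card_congr ((Equiv.ofBijective (D.act g)
        ⟨D.act_injective g, fun w => ⟨_, D.act_act_inv g w⟩⟩).subtypeEquiv fun w => Iff.rfl)
    have hs := ((Nat.bijective_iff_injective_and_card _).2 ⟨hinj, hcard⟩).2
    refine hgne fun w => ⟨fun hw => ?_, hh w⟩
    obtain ⟨u, hu⟩ := hs ⟨w, hw⟩
    have : u.1 = w := congrArg Subtype.val hu
    exact this ▸ u.2
  set d₀ : F := a 1 with hd₀
  have hd0 : d₀ ≠ 0 := haA
  -- for each `d` in the intersection the element moving `a` to `a + d`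
  let y : (Fin 2 → F) → Γ := fun d => D.up (d 0 / d₀)
  have hya : ∀ d, OnA d → D.act (y d) a = a + d := fun d hd => by
    rw [D.act_up]
    funext i
    fin_cases i
    · simp [← hd₀, hd0]
    · have : d 1 = 0 := hd
      simp [this]
  have hyU : ∀ d, y d ∈ D.U₀ := fun d => D.mem_U₀.2 ⟨_, rfl⟩
  -- these elements normalise the conjugate of `U₀`
  have hyN : ∀ d, OnA d → OnA (D.act g d) →
      g * y d * g⁻¹ ∈ Subgroup.normalizer (D.U₀ : Set Γ) := by
    intro d hdA hdB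
    set k := g * y d * g⁻¹ with hk
    refine hT.mem_normalizer_of_preserves hq4 ?_
    by_contra hkne
    have hinter : ∀ w, OnA w ∧ OnA (D.act g w) →
        OnA (D.act g w) ∧ OnA (D.act k (D.act g w)) := fun w hw => ⟨hw.2, by
      rw [hk, ← D.act_mul, inv_mul_cancel_right, D.act_mul, D.fix_U₀ (hyU d) hw.1]
      exact hw.2⟩
    let f : Option {w : Fin 2 → F // OnA w ∧ OnA (D.act g w)} → {w : Fin 2 → F // OnA w ∧ OnA (D.act k w)} :=
      fun o => match o with
        | some w => ⟨D.act g w.1, hinter w.1 w.2⟩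
        | none => ⟨D.act g a, haB, by
            rw [hk, ← D.act_mul, inv_mul_cancel_right, D.act_mul, hya d hdA, D.act_add]
            show (D.act g a + D.act g d) 1 = 0
            rw [Pi.add_apply, show D.act g a 1 = 0 from haB, show D.act g d 1 = 0 from hdB, add_zero]⟩
    have hf : Function.Injective f := by
      rintro (_ | u) (_ | v) e
      · rfl
      · exact absurd (D.act_injective g (congrArg Subtype.val e) ▸ v.2.1) haA
      · exact absurd ((D.act_injective g (congrArg Subtype.val e)).symm ▸ u.2.1) haA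
      · exact congrArg some (Subtype.ext (D.act_injective g (congrArg Subtype.val e)))
    have hlt : cnt g < cnt k := by
      have := Nat.card_le_card_of_injective f hf
      rw [Finite.card_option] at this
      exact this
    refine (hlt.trans_le (hmax k (Finset.mem_filter.2 ⟨Finset.mem_univ _, ⟨D.act g z, ?_, hzB, ?_⟩, hkne⟩))).false
    · exact fun e => hz0 (D.act_injective g (e.trans (D.act_zero g).symm))
    · exact (hinter z ⟨hzA, hzB⟩).2
  -- move the group they generate into `T`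
  set E' := (D.U₀ ⊓ Subgroup.comap (MulAut.conj g).toMonoidHom (Subgroup.normalizer (D.U₀ : Set Γ))).map
    (MulAut.conj g).toMonoidHom with hE'
  have hE'N : E' ≤ Subgroup.normalizer (D.U₀ : Set Γ) := by
    rintro _ ⟨x, hx, rfl⟩; exact hx.2
  have hpg : IsPGroup p ↥(D.U₀ ⊔ E' : Subgroup Γ) :=
    IsPGroup.to_sup_of_normal_left' D.isPGroup_U₀
      ((D.isPGroup_U₀.to_le inf_le_left).map _) hE'N
  obtain ⟨R, hR⟩ := hpg.exists_le_sylow
  obtain ⟨h, hh⟩ := LESylow.exists_conj_eq R T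
  have hRT : (D.U₀ ⊔ E').map (MulAut.conj h).toMonoidHom ≤ (T : Subgroup Γ) := hh ▸ LEBasic.map_conj_mono h hR
  have hUh : D.U₀.map (MulAut.conj h).toMonoidHom = D.U₀ := by
    refine Subgroup.eq_of_le_of_card_ge (hT.key hq4 ((LEBasic.map_conj_mono h le_sup_left).trans hRT) ?_ ?_ ?_ ?_)
      (by rw [LEBasic.card_map_conj])
    · rintro _ ⟨u, hu, rfl⟩
      rw [← map_pow, show u ^ p = 1 from D.faith _ fun w => by
        rw [D.K_pow (D.U₀_le_K hu), nsmul_eq_mul, CharP.cast_eq_zero, zero_mul, add_zero], map_one]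
    · rintro _ ⟨u, hu, rfl⟩ _ ⟨v, hv, rfl⟩
      rw [← map_mul, ← map_mul, D.K_comm (D.U₀_le_K hu) (D.U₀_le_K hv)]
    · rintro _ ⟨u, hu, rfl⟩ w
      show D.act (h * u * h⁻¹) (D.act (h * u * h⁻¹) w - w) = D.act (h * u * h⁻¹) w - w
      obtain ⟨v, rfl⟩ : ∃ v, D.act h v = w := ⟨_, D.act_act_inv h w⟩
      simp only [D.act_mul, D.act_inv_act, ← D.act_sub, D.K_quadratic (D.U₀_le_K hu)]
    · rw [LEBasic.card_map_conj, D.card_U₀]
  -- elements `hg u (hg)⁻¹` for the `u` above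
  set E'' := E'.map (MulAut.conj h).toMonoidHom with hE''
  have hE''T : E'' ≤ (T : Subgroup Γ) := (LEBasic.map_conj_mono h le_sup_right).trans hRT
  have hmem'' : ∀ x ∈ E'', ∃ u ∈ D.U₀, x = (h * g) * u * (h * g)⁻¹ := by
    rintro _ ⟨_, ⟨u, hu, rfl⟩, rfl⟩
    exact ⟨u, hu.1, by simp [mul_assoc]⟩
  have hpow'' : ∀ x ∈ E'', x ^ p = 1 := by
    intro x hx
    obtain ⟨u, hu, rfl⟩ := hmem'' x hx
    rw [conj_pow, show u ^ p = 1 from D.faith _ fun w => by
      rw [D.K_pow (D.U₀_le_K hu), nsmul_eq_mul, CharP.cast_eq_zero, zero_mul, add_zero]]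
    simp
  have hquad'' : ∀ x ∈ E'', ∀ w, D.act x (D.act x w - w) = D.act x w - w := by
    intro x hx w
    obtain ⟨u, hu, rfl⟩ := hmem'' x hx
    obtain ⟨v, rfl⟩ : ∃ v, D.act (h * g) v = w := ⟨_, D.act_act_inv _ w⟩
    have hk : ∀ v, D.act (h * g * u * (h * g)⁻¹) (D.act (h * g) v) = D.act (h * g) (D.act u v) := fun v => by
      rw [← D.act_mul, inv_mul_cancel_right, D.act_mul]
    rw [hk, ← D.act_sub, hk, D.K_quadratic (D.U₀_le_K hu)]
  have htriv : ∀ x ∈ E'', x ∈ D.U₀ → x = 1 := by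
    intro x hx hxU
    obtain ⟨_, ⟨u, hu, rfl⟩, rfl⟩ := hx
    have h1 : g * u * g⁻¹ ∈ D.U₀ := by
      rw [← hUh] at hxU
      exact (Subgroup.mem_map_iff_mem (MulAut.conj h).injective).1 hxU
    by_contra hne
    have hu1 : u ≠ 1 := fun e => hne (by simp [e])
    refine haA (D.onA_of_fix hu.1 hu1 (D.act_injective g ?_))
    have h2 := D.fix_U₀ h1 haB
    rwa [← D.act_mul, inv_mul_cancel_right, D.act_mul] at h2
  -- pick the element for `z`
  set x := h * (g * y z * g⁻¹) * h⁻¹ with hx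
  have hyE : ∀ d, OnA d → OnA (D.act g d) → h * (g * y d * g⁻¹) * h⁻¹ ∈ E'' := fun d hdA hdB =>
    ⟨_, ⟨y d, ⟨hyU d, hyN d hdA hdB⟩, rfl⟩, rfl⟩
  have hxU : x ∉ D.U₀ := fun hxU => by
    have e := htriv x (hyE z hzA hzB) hxU
    have e1 : y z = 1 := by simpa [hx, conj_eq_one_iff] using e
    have e2 := hya z hzA
    rw [e1, D.act_one] at e2
    exact hz0 (by simpa using e2)
  obtain ⟨hp2, τ, hτ2, hne, hτ⟩ := hT.quadratic (hE''T (hyE z hzA hzB)) hxU (hpow'' _ (hyE z hzA hzB))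
    (hquad'' _ (hyE z hzA hzB))
  -- every nonzero `d` gives the same element
  have honly : ∀ d, OnA d → OnA (D.act g d) → d ≠ 0 → d = z := by
    intro d hdA hdB hd0'
    have hxd : h * (g * y d * g⁻¹) * h⁻¹ ∉ D.U₀ := fun hU => by
      have e := htriv _ (hyE d hdA hdB) hU
      have e1 : y d = 1 := by simpa [conj_eq_one_iff] using e
      have e2 := hya d hdA
      rw [e1, D.act_one] at e2
      exact hd0' (by simpa using e2)
    have hsm := hT.small hE''T hpow'' hquad'' x (hyE z hzA hzB) hxU _ (hyE d hdA hdB) hxd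
    have e := htriv _ (mul_mem (inv_mem (hyE z hzA hzB)) (hyE d hdA hdB)) hsm
    rw [inv_mul_eq_one] at e
    have e1 : y z = y d := mul_left_cancel (mul_right_cancel (mul_left_cancel (mul_right_cancel e)))
    have e2 := hya z hzA
    rw [e1, hya d hdA] at e2
    exact add_left_cancel e2
  -- the image of `x - 1` on `A` is small
  obtain ⟨l, hl, hxl⟩ := hT.exists_scalar (hE''T (hyE z hzA hzB)) hτ
  have hgy : ∀ w, OnA (D.act g w) → OnA (D.act g (D.act (y z) w - w)) := by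
    intro w hw
    have h1 := hyN z hzA hzB
    have hw' : D.act (g * y z * g⁻¹) (D.act g w) = D.act g (D.act (y z) w) := by
      rw [← D.act_mul, inv_mul_cancel_right, D.act_mul]
    have h2 : OnA (D.act (g * y z * g⁻¹) (D.act g w)) := by
      refine D.onA_of_fix ((Subgroup.mem_normalizer_iff.1 h1 (D.up 1)).1 (D.mem_U₀.2 ⟨1, rfl⟩)) ?_ ?_
      · simp only [ne_eq, conj_eq_one_iff]
        intro e
        have := congrFun (congrArg (fun g => D.act g ![0, 1]) e) 0
        simp [D.act_up, D.act_one] at this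
      · rw [← D.act_mul, inv_mul_cancel_right, D.act_mul, D.fix_U₀ (D.mem_U₀.2 ⟨1, rfl⟩) hw]
    rw [hw'] at h2
    rw [D.act_sub]
    show (D.act g (D.act (y z) w) - D.act g w) 1 = 0
    rw [Pi.sub_apply, show D.act g (D.act (y z) w) 1 = 0 from h2, show D.act g w 1 = 0 from hw, sub_zero]
  have himg : ∀ c : F, τ c * l - c = 0 ∨ τ c * l - c = D.act (h * g) z 0 := by
    intro c
    set v := D.act h⁻¹ ![c, 0] with hv
    have hvA : OnA v := by
      have h1 : D.act (D.up 1) (D.act h⁻¹ ![c, 0]) = D.act h⁻¹ ![c, 0] := by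
        have h0 : h * D.up 1 * h⁻¹ ∈ D.U₀ := hUh ▸ ⟨_, D.mem_U₀.2 ⟨1, rfl⟩, rfl⟩
        refine D.act_injective h ?_
        rw [D.act_act_inv]
        conv_rhs => rw [← D.fix_U₀ h0 (show OnA ![c, 0] by simp [OnA])]
        rw [D.act_mul, D.act_mul]
      refine D.onA_of_fix (D.mem_U₀.2 ⟨1, rfl⟩) ?_ h1
      intro e
      have := congrFun (congrArg (fun g => D.act g ![0, 1]) e) 0
      simp [D.act_up, D.act_one] at this
    set w := D.act g⁻¹ v with hw
    have hwB : OnA (D.act g w) := by rw [hw, D.act_act_inv]; exact hvA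
    have hd : OnA (D.act (y z) w - w) ∧ OnA (D.act g (D.act (y z) w - w)) := ⟨D.sub_U₀ (hyU z) w, hgy w hwB⟩
    have hcomp : D.act x ![c, 0] - ![c, 0] = D.act (h * g) (D.act (y z) w - w) := by
      rw [hw, hv, D.act_sub, hx]
      simp only [D.act_mul, D.act_act_inv]
    rw [hxl] at hcomp
    rcases eq_or_ne (D.act (y z) w - w) 0 with e | e
    · left
      rw [e, D.act_zero] at hcomp
      simpa using congrFun hcomp 0
    · right
      rw [honly _ hd.1 hd.2 e] at hcomp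
      simpa using congrFun hcomp 0
  subst hp2
  have hq2 : Nat.card F ≤ 2 * Nat.card {c : F // τ c * l = c} := by
    by_cases hsome : ∃ c₁ : F, τ c₁ * l - c₁ = D.act (h * g) z 0
    · obtain ⟨c₁, hc₁⟩ := hsome
      let f : F → {c : F // τ c * l = c} × Bool := fun c =>
        if e : τ c * l - c = 0 then (⟨c, sub_eq_zero.1 e⟩, true)
        else (⟨c - c₁, by rw [map_sub, sub_mul]; linear_combination ((himg c).resolve_left e) - hc₁⟩, false)
      have hf : Function.Injective f := fun u v e => by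
        simp only [f] at e
        by_cases hu : τ u * l - u = 0 <;> by_cases hv : τ v * l - v = 0 <;> simp [hu, hv] at e <;> exact e
      refine (Nat.card_le_card_of_injective f hf).trans ?_
      rw [Nat.card_prod, Nat.card_eq_fintype_card (α := Bool), Fintype.card_bool, mul_comm]
    · push Not at hsome
      let f : F → {c : F // τ c * l = c} := fun c => ⟨c, sub_eq_zero.1 ((himg c).resolve_right (hsome c))⟩
      have := Nat.card_le_card_of_injective f fun u v e => congrArg Subtype.val e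
      omega
  have hsq := card_fixed_sq_le hne l
  haveI := Fintype.ofFinite F
  obtain ⟨n, -, hn⟩ := FiniteField.card F 2
  rw [← Nat.card_eq_fintype_card] at hn
  have h3 : Nat.card F * Nat.card F ≤ 4 * Nat.card F := by
    calc Nat.card F * Nat.card F ≤ (2 * Nat.card {c : F // τ c * l = c}) * (2 * Nat.card {c : F // τ c * l = c}) :=
          Nat.mul_le_mul hq2 hq2
      _ = 4 * Nat.card {c : F // τ c * l = c} ^ 2 := by ring
      _ ≤ 4 * Nat.card F := Nat.mul_le_mul_left 4 hsq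
  have h4 : Nat.card F ≤ 4 := Nat.le_of_mul_le_mul_right h3 Nat.card_pos
  obtain ⟨c, hc⟩ := hne
  have h5 : 3 ≤ Nat.card F := by
    have hc0 : c ≠ 0 := fun e => hc (by rw [e, map_zero])
    have hc1 : c ≠ 1 := fun e => hc (by rw [e, map_one])
    have := Nat.card_le_card_of_injective (![0, 1, c] : Fin 3 → F) (by
      intro i j
      fin_cases i <;> fin_cases j <;> simp [hc0, hc1, hc0.symm, hc1.symm])
    simpa using this
  have hn2 : (n : ℕ) ≤ 2 := by
    by_contra h6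
    have : 2 ^ 3 ≤ 2 ^ (n : ℕ) := Nat.pow_le_pow_right two_pos (by omega)
    omega
  interval_cases hnn : (n : ℕ) <;> omega

include hq4 in
theorem Good.L_normal (hT : D.Good T) : D.L.Normal := by
  -- every conjugate of `U₀` lies in `L`
  have hconj : ∀ g : Γ, ∀ u ∈ D.U₀, g * u * g⁻¹ ∈ D.L := by
    intro g u hu
    set v := D.act g ![1, 0] with hv
    have hv0 : v ≠ 0 := fun e => one_ne_zero (congrFun (D.act_injective g (e.trans (D.act_zero g).symm)) 0)
    obtain ⟨s, hs⟩ : ∃ s : Matrix.SpecialLinearGroup (Fin 2) F, (s : Matrix _ _ F) *ᵥ ![1, 0] = v := by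
      by_cases h0 : v 0 = 0
      · have h1 : v 1 ≠ 0 := fun h1 => hv0 (funext fun i => by fin_cases i <;> simp [h0, h1])
        refine ⟨⟨!![0, -(v 1)⁻¹; v 1, 0], by simp [Matrix.det_fin_two, h1]⟩, ?_⟩
        rw [mulVec_two]
        funext i
        fin_cases i <;> simp [h0]
      · refine ⟨⟨!![v 0, 0; v 1, (v 0)⁻¹], by simp [Matrix.det_fin_two, h0]⟩, ?_⟩
        rw [mulVec_two]
        funext i
        fin_cases i <;> simp
    set l : Γ := (D.e.symm s : Γ) with hl
    have hlL : l ∈ D.L := (D.e.symm s).2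
    have hlv : D.act (l⁻¹ * g) ![1, 0] = ![1, 0] := by
      rw [D.act_mul, ← hv, ← hs, ← D.act_symm, ← hl, D.act_inv_act]
    have hpres := hT.disjoint hq4 (l⁻¹ * g) ⟨![1, 0], fun e => one_ne_zero (congrFun e 0), by simp [OnA],
      by rw [hlv]; simp [OnA]⟩
    have hN := hT.mem_normalizer_of_preserves hq4 hpres
    have h1 := D.U₀_le ((Subgroup.mem_normalizer_iff.1 hN u).1 hu)
    have e : g * u * g⁻¹ = l * (l⁻¹ * g * u * (l⁻¹ * g)⁻¹) * l⁻¹ := by group
    rw [e]
    exact mul_mem (mul_mem hlL h1) (inv_mem hlL)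
  refine ⟨fun x hx g => ?_⟩
  let C : Subgroup ↥D.L := D.L.comap ((MulAut.conj g).toMonoidHom.comp D.L.subtype)
  let p' : Matrix.SpecialLinearGroup (Fin 2) F → Prop := fun s => D.e.symm s ∈ C
  have hu' : ∀ a : F, p' (SpAmalgam.uu a) := fun a => hconj g _ ⟨_, ⟨_, upp_mem a, rfl⟩, rfl⟩
  have hll' : ∀ a : F, p' (SpAmalgam.ll a) := fun a => by
    have hs : SpAmalgam.ll a = SpAmalgam.ss * SpAmalgam.uu (-a) * (SpAmalgam.ss : Matrix.SpecialLinearGroup (Fin 2) F)⁻¹ := by
      rw [SpAmalgam.ss_uu, neg_neg, mul_inv_cancel_right]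
    show g * (D.e.symm (SpAmalgam.ll a) : Γ) * g⁻¹ ∈ D.L
    set w : Γ := (D.e.symm SpAmalgam.ss : Γ) with hw
    have h1 := hconj (g * w) (D.e.symm (SpAmalgam.uu (-a)) : Γ) ⟨_, ⟨_, upp_mem (-a), rfl⟩, rfl⟩
    rw [hs, map_mul, map_mul, map_inv]
    simpa [Subgroup.coe_mul, Subgroup.coe_inv, ← hw, mul_assoc] using h1
  have hall : ∀ s, p' s := SpAmalgam.sl2_induction hu' hll'
    (fun a b ha hb => show D.e.symm (a * b) ∈ C by rw [map_mul]; exact mul_mem ha hb)
  have h := hall (D.e ⟨x, hx⟩)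
  simp only [p', MulEquiv.symm_apply_apply] at h
  exact h

end Act

end Cfsg.Agent.LESL2Over
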