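/-
Overgroups of `SL₂(4)` on its natural module whose Sylow `2`-subgroups normalise it.
-/
import Cfsg.Agent.Lib.LocalEven.SL2Over
import Cfsg.Agent.Lib.GLFourTwo.Heptads
import Cfsg.Agent.Lib.Recog.AltSub
import Cfsg.Agent.Lib.Classical.TwoByTwo

set_option autoImplicit false
set_option linter.unusedSectionVars false
set_option linter.style.haveILetI false

namespace Cfsg.Agent.LESL2Four

open Equiv Equiv.Perm AltSub
open scoped Pointwise

/-! ### `SL₂(4)` is simple of order 60 -/

section SL

variable {F : Type*} [Field F] [Finite F] [CharP F 2]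

theorem isSimple_sl (hF : Nat.card F = 4) : IsSimpleGroup (Matrix.SpecialLinearGroup (Fin 2) F) := by
  have hc : Subgroup.center (Matrix.SpecialLinearGroup (Fin 2) F) = ⊥ := by
    rw [eq_bot_iff]
    intro z hz
    obtain ⟨l, hl, hz'⟩ := Matrix.SpecialLinearGroup.mem_center_iff.1 hz
    simp only [Fintype.card_fin] at hl
    have : l = 1 := by
      rcases sq_eq_one_iff.1 hl with rfl | rfl
      · rfl
      · exact CharTwo.neg_eq 1
    subst this
    exact Subgroup.mem_bot.2 (Subtype.ext (by rw [← hz']; simp))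
  haveI := Matrix.ProjectiveSpecialLinearGroup.rank_two_simple (F := F) (by omega)
  let e : Matrix.ProjectiveSpecialLinearGroup (Fin 2) F ≃* Matrix.SpecialLinearGroup (Fin 2) F :=
    (QuotientGroup.quotientMulEquivOfEq hc).trans QuotientGroup.quotientBot
  haveI := e.symm.toEquiv.nontrivial
  exact IsSimpleGroup.isSimpleGroup_of_surjective e.toMonoidHom e.surjective

theorem card_sl (hF : Nat.card F = 4) : Nat.card (Matrix.SpecialLinearGroup (Fin 2) F) = 60 := by
  rw [TwoByTwo.card_sl_two, hF]; norm_num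

end SL

/-! ### Small actions of a simple group of order 60 -/

theorem eq_top_of_index_le {K : Type*} [Group K] [Finite K] [IsSimpleGroup K] (hK : Nat.card K = 60)
    {M : Subgroup K} (hM : M.index ≤ 4) : M = ⊤ := by
  rcases (M.normalCore_normal).eq_bot_or_eq_top with h | h
  · exfalso
    have hi : Function.Injective (MulAction.toPermHom K (K ⧸ M)) := by
      rw [← MonoidHom.ker_eq_bot_iff, ← Subgroup.normalCore_eq_ker, h]
    have h1 := Nat.card_le_card_of_injective _ hi
    rw [Nat.card_perm, hK, ← Subgroup.index_eq_card] at h1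
    have h2 := Nat.factorial_le hM
    norm_num [Nat.factorial] at h2
    omega
  · exact top_le_iff.1 (h ▸ M.normalCore_le)

/-- Permutations commuting with an element `z` of order three and forming a group of order 60. -/
theorem fix_moved {L' : Subgroup (Perm (Fin 8))} [IsSimpleGroup ↥L'] (hL : Nat.card ↥L' = 60)
    {z : Perm (Fin 8)} (hz : z ^ 3 = 1) (hcomm : ∀ l ∈ L', l * z = z * l) :
    ∀ l ∈ L', ∀ x, z x ≠ x → l x = x := by
  classical
  intro l hl x hx
  let O : Fin 8 → Finset (Fin 8) := fun y => {y, z y, z (z y)}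
  have h3 : ∀ y, z (z (z y)) = y := fun y => by
    have := congrArg (fun σ : Perm (Fin 8) => σ y) hz
    simpa [pow_succ, Perm.mul_apply] using this
  let S : Finset (Fin 8) := Finset.univ.filter fun y => z y ≠ y
  have hO3 : ∀ y ∈ S, (O y).card = 3 := fun y hy => by
    have hy' : z y ≠ y := (Finset.mem_filter.1 hy).2
    have a : y ≠ z y := fun e => hy' e.symm
    have b : y ≠ z (z y) := fun e => hy' (by conv_lhs => rw [e]; rw [h3])
    have c : z y ≠ z (z y) := fun e => a (z.injective e)
    simp [O, a, b, c]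
  let Q : Finset (Finset (Fin 8)) := S.image O
  have hQ : Q.card ≤ 2 := by
    have h1 : 3 * Q.card ≤ S.card := by
      rw [Finset.card_eq_sum_card_image O S, mul_comm, ← smul_eq_mul, ← Finset.sum_const]
      refine Finset.sum_le_sum fun o ho => ?_
      obtain ⟨y, hy, rfl⟩ := Finset.mem_image.1 ho
      rw [← hO3 y hy]
      refine Finset.card_le_card fun w hw => Finset.mem_filter.2 ?_
      have hy' : z y ≠ y := (Finset.mem_filter.1 hy).2
      have hS : ∀ v, z v ≠ v → v ∈ S := fun v hv => Finset.mem_filter.2 ⟨Finset.mem_univ v, hv⟩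
      simp only [O, Finset.mem_insert, Finset.mem_singleton] at hw
      rcases hw with rfl | rfl | rfl
      · exact ⟨hy, rfl⟩
      · refine ⟨hS _ fun e => hy' (z.injective e), ?_⟩
        ext v
        simp only [O, h3, Finset.mem_insert, Finset.mem_singleton]
        tauto
      · refine ⟨hS _ fun e => hy' (z.injective (z.injective e)), ?_⟩
        ext v
        simp only [O, h3, Finset.mem_insert, Finset.mem_singleton]
        tauto
    have h2 : S.card ≤ 8 := S.card_le_univ
    omega
  have hxS : x ∈ S := Finset.mem_filter.2 ⟨Finset.mem_univ x, hx⟩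
  have hsub : MulAction.orbit ↥L' (O x) ⊆ (Q : Set (Finset (Fin 8))) := by
    rintro _ ⟨m, rfl⟩
    have hm := hcomm m m.2
    have hmz : ∀ v, (m : Perm (Fin 8)) (z v) = z ((m : Perm (Fin 8)) v) := fun v =>
      congrArg (fun σ : Perm (Fin 8) => σ v) hm
    refine Finset.mem_image.2 ⟨(m : Perm (Fin 8)) x, Finset.mem_filter.2 ⟨Finset.mem_univ _, fun e => ?_⟩, ?_⟩
    · exact hx ((m : Perm (Fin 8)).injective ((hmz x).trans e))
    · show _ = (O x).image ((m : Perm (Fin 8)) : Fin 8 → Fin 8)
      simp [O, Finset.image_insert, hmz]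
  have hK : MulAction.stabilizer ↥L' (O x) = ⊤ := eq_top_of_index_le hL (by
    rw [MulAction.index_stabilizer]
    refine (Set.ncard_le_ncard hsub Q.finite_toSet).trans ?_
    rw [Set.ncard_coe_finset]; omega)
  have hsub' : MulAction.orbit ↥L' x ⊆ (O x : Set (Fin 8)) := by
    rintro _ ⟨m, rfl⟩
    have hm : m • O x = O x := MulAction.mem_stabilizer_iff.1 (hK ▸ Subgroup.mem_top m)
    rw [Finset.mem_coe, ← hm]
    exact Finset.smul_mem_smul_finset (by simp [O])
  have hK' : MulAction.stabilizer ↥L' x = ⊤ := eq_top_of_index_le hL (by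
    rw [MulAction.index_stabilizer]
    refine (Set.ncard_le_ncard hsub' (O x).finite_toSet).trans ?_
    rw [Set.ncard_coe_finset, hO3 x hxS]; omega)
  exact (MulAction.mem_stabilizer_iff.1 (hK' ▸ Subgroup.mem_top (⟨l, hl⟩ : ↥L')) :)

/-! ### Orders -/

theorem card_altSub (Δ : Finset (Fin 8)) (h : 2 ≤ Δ.card) :
    2 * Nat.card ↥(altSub Δ) = Δ.card.factorial := by
  haveI : Nontrivial {x // x ∈ Δ} := Fintype.one_lt_card_iff_nontrivial.1 (by rw [Fintype.card_coe]; omega)
  rw [Nat.card_congr (altSubEquiv Δ).toEquiv, two_mul_nat_card_alternatingGroup, Nat.card_perm,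
    Nat.card_eq_fintype_card, Fintype.card_coe]

theorem altSub_eq_bot {Δ : Finset (Fin 8)} (h : Δ.card ≤ 2) : altSub Δ = ⊥ := by
  rcases Nat.lt_or_ge Δ.card 2 with h1 | h1
  · rw [eq_bot_iff]
    intro σ hσ
    haveI : Subsingleton {x // x ∈ Δ} := Fintype.card_le_one_iff_subsingleton.1 (by rw [Fintype.card_coe]; omega)
    exact Subgroup.mem_bot.2 (congrArg Subtype.val ((altSubEquiv Δ).injective
      (Subsingleton.elim (altSubEquiv Δ ⟨σ, hσ⟩) (altSubEquiv Δ 1))) :)
  · have e := card_altSub Δ h1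
    rw [show Δ.card = 2 by omega, Nat.factorial_two] at e
    exact Subgroup.eq_bot_of_card_eq _ (by omega)

theorem dvd_factorial {M : Subgroup (Perm (Fin 8))} {Δ : Finset (Fin 8)} (h : M ≤ setStab Δ)
    (hker : ∀ σ ∈ M, (∀ x ∈ Δ, σ x = x) → σ = 1) : Nat.card ↥M ∣ Δ.card.factorial := by
  let f : ↥M →* Perm {x // x ∈ Δ} :=
    MonoidHom.mk' (fun σ => (σ : Perm (Fin 8)).subtypePerm (fun x => h σ.2 x)) fun a b => Equiv.ext fun _ => rfl
  have hf : Function.Injective f := by
    rw [injective_iff_map_eq_one]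
    intro σ hσ
    exact Subtype.ext (hker σ σ.2 fun x hx => (congrArg Subtype.val (DFunLike.congr_fun hσ ⟨x, hx⟩) :))
  have e := Subgroup.card_dvd_of_injective f hf
  rwa [Nat.card_perm, Nat.card_eq_fintype_card (α := {x // x ∈ Δ}), Fintype.card_coe] at e

theorem mem_altSub_compl {σ : Perm (Fin 8)} (hs : σ ∈ alternatingGroup (Fin 8)) {Δ : Finset (Fin 8)}
    (h : ∀ x ∈ Δ, σ x = x) : σ ∈ altSub Δᶜ :=
  mem_altSub.2 ⟨mem_alternatingGroup.1 hs, fun x hx => h x (by simpa using hx)⟩

theorem altSub_univ : altSub (Finset.univ : Finset (Fin 8)) = alternatingGroup (Fin 8) :=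
  le_antisymm inf_le_left fun _ hσ => mem_altSub.2 ⟨mem_alternatingGroup.1 hσ, fun x hx => absurd (Finset.mem_univ x) hx⟩

/-- The group-theoretic core inside `A₈`. -/
theorem core {H L' T : Subgroup (Perm (Fin 8))} (hH : H ≤ alternatingGroup (Fin 8)) (hLH : L' ≤ H) (hTH : T ≤ H)
    [IsSimpleGroup ↥L'] (hL : Nat.card ↥L' = 60)
    {z : Perm (Fin 8)} (hz : z ^ 3 = 1) (hz1 : z ≠ 1) (hcomm : ∀ l ∈ L', l * z = z * l)
    (hT2 : IsPGroup 2 ↥T) (hTn : T ≤ Subgroup.normalizer (L' : Set (Perm (Fin 8))))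
    (hTmax : ∀ k, 2 ^ k ∣ Nat.card ↥H → 2 ^ k ∣ Nat.card ↥T) :
    H ≤ Subgroup.normalizer (L' : Set (Perm (Fin 8))) ∨ Nonempty (↥H ≃* ↥(alternatingGroup (Fin 7))) := by
  classical
  obtain ⟨x₀, hx₀⟩ : ∃ x, z x ≠ x := by
    by_contra! h
    exact hz1 (Equiv.ext h)
  let P : Finset (Fin 8) := {x₀, z x₀, z (z x₀)}
  have h3 : z (z (z x₀)) = x₀ := by
    have := congrArg (fun σ : Perm (Fin 8) => σ x₀) hz
    simpa [pow_succ, Perm.mul_apply] using this
  have hP : P.card = 3 := by
    have a : x₀ ≠ z x₀ := fun e => hx₀ e.symm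
    have b : x₀ ≠ z (z x₀) := fun e => hx₀ (by conv_lhs => rw [e]; rw [h3])
    have c : z x₀ ≠ z (z x₀) := fun e => a (z.injective e)
    simp [P, a, b, c]
  set B : Finset (Fin 8) := Pᶜ with hB
  have hB5 : B.card = 5 := by rw [hB, Finset.card_compl, hP, Fintype.card_fin]
  have hPfix : ∀ l ∈ L', ∀ x ∈ P, l x = x := fun l hl x hx => by
    refine fix_moved hL hz hcomm l hl x ?_
    simp only [P, Finset.mem_insert, Finset.mem_singleton] at hx
    rcases hx with rfl | rfl | rfl
    · exact hx₀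
    · exact fun e => hx₀ (z.injective e)
    · exact fun e => hx₀ (z.injective (z.injective e))
  have hLB : L' = altSub B := by
    refine Subgroup.eq_of_le_of_card_ge (fun l hl => mem_altSub_compl (hH (hLH hl)) (hPfix l hl)) ?_
    have e := card_altSub B (by omega)
    rw [hB5, show Nat.factorial 5 = 120 from rfl] at e
    omega
  -- normalisers preserve `B`
  have hnorm : ∀ g, g ∈ Subgroup.normalizer (L' : Set (Perm (Fin 8))) → g ∈ setStab B := by
    intro g hg
    have hle : altSub (B.image g) ≤ altSub B := by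
      intro σ hσ
      have h1 : g⁻¹ * σ * g ∈ altSub B := by
        refine mem_altSub.2 ⟨?_, fun x hx => ?_⟩
        · have := (mem_altSub.1 hσ).1
          simp [this, mul_comm]
        · rw [Perm.mul_apply, Perm.mul_apply, (mem_altSub.1 hσ).2 (g x) (fun hc => ?_), Perm.coe_inv, Equiv.symm_apply_apply]
          obtain ⟨y, hy, e⟩ := Finset.mem_image.1 hc
          exact hx (g.injective e ▸ hy)
      rw [← hLB] at h1 ⊢
      have h2 := (Subgroup.mem_normalizer_iff.1 hg _).1 h1
      simpa [mul_assoc] using h2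
    have hsub := altSub_inj (by rw [Finset.card_image_of_injective _ g.injective]; omega) hle
    exact mem_setStab_of_maps fun x hx => hsub (Finset.mem_image_of_mem _ hx)
  have hnorm' : ∀ g, g ∈ setStab B → g ∈ Subgroup.normalizer (L' : Set (Perm (Fin 8))) := by
    have key : ∀ g, g ∈ setStab B → ∀ l ∈ L', g * l * g⁻¹ ∈ L' := by
      intro g hg l hl
      rw [hLB] at hl ⊢
      refine mem_altSub.2 ⟨?_, fun x hx => ?_⟩
      · simp [(mem_altSub.1 hl).1, mul_comm]
      · rw [Perm.mul_apply, Perm.mul_apply, (mem_altSub.1 hl).2 (g⁻¹ x)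
          (fun hc => hx (((inv_mem hg : g⁻¹ ∈ setStab B) x).1 hc)), Perm.coe_inv, Equiv.apply_symm_apply]
    intro g hg
    rw [Subgroup.mem_normalizer_iff]
    refine fun l => ⟨fun hl => key g hg l hl, fun hl => ?_⟩
    have := key g⁻¹ (inv_mem hg) _ hl
    simpa [mul_assoc] using this
  have hTB : T ≤ setStab B := fun t ht => hnorm t (hTn ht)
  have hT120 : Nat.card ↥T ∣ 120 := by
    have := dvd_factorial hTB (fun σ hσ h => ?_)
    · rwa [hB5] at this
    · have h1 : σ ∈ T ⊓ altSub Bᶜ := ⟨hσ, mem_altSub_compl (hH (hTH hσ)) h⟩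
      have hc : Nat.Coprime (Nat.card ↥T) (Nat.card ↥(altSub Bᶜ)) := by
        obtain ⟨k, hk⟩ := hT2.exists_card_eq
        have e := card_altSub Bᶜ (by rw [Finset.card_compl, hB5, Fintype.card_fin]; norm_num)
        rw [Finset.card_compl, hB5, Fintype.card_fin, show Nat.factorial (8 - 5) = 6 from rfl] at e
        rw [hk, show Nat.card ↥(altSub Bᶜ) = 3 by omega]
        exact Nat.Coprime.pow_left k (by norm_num)
      rw [Subgroup.inf_eq_bot_of_coprime hc] at h1
      exact Subgroup.mem_bot.1 h1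
  -- a maximal alternating subgroup
  let 𝒞 : Finset (Finset (Fin 8)) := Finset.univ.filter fun C => B ⊆ C ∧ altSub C ≤ H
  obtain ⟨C, hC, hCmax⟩ := 𝒞.exists_max_image Finset.card
    ⟨B, Finset.mem_filter.2 ⟨Finset.mem_univ B, subset_refl B, hLB ▸ hLH⟩⟩
  obtain ⟨-, hBC, hCH⟩ := Finset.mem_filter.1 hC
  have hC5 : 5 ≤ C.card := hB5 ▸ Finset.card_le_card hBC
  have hstab : H ≤ setStab C := by
    intro h hh
    refine mem_setStab_of_maps fun x hx => ?_
    have hle : altSub (C.image h) ≤ H := by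
      intro σ hσ
      have h1 : h⁻¹ * σ * h ∈ altSub C := by
        refine mem_altSub.2 ⟨?_, fun y hy => ?_⟩
        · simp [(mem_altSub.1 hσ).1, mul_comm]
        · rw [Perm.mul_apply, Perm.mul_apply, (mem_altSub.1 hσ).2 (h y) (fun hc => ?_), Perm.coe_inv, Equiv.symm_apply_apply]
          obtain ⟨v, hv, e⟩ := Finset.mem_image.1 hc
          exact hy (h.injective e ▸ hv)
      have := mul_mem (mul_mem hh (hCH h1)) (inv_mem hh)
      simpa [mul_assoc] using this
    obtain ⟨o, ho⟩ : (C ∩ C.image h).Nonempty := by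
      by_contra hne
      have hd : Disjoint C (C.image h) := Finset.disjoint_iff_inter_eq_empty.2 (Finset.not_nonempty_iff_eq_empty.1 hne)
      have := Finset.card_le_univ (C ∪ C.image h)
      rw [Finset.card_union_of_disjoint hd, Finset.card_image_of_injective _ h.injective, Fintype.card_fin] at this
      omega
    rw [Finset.mem_inter] at ho
    have hU := altSub_union hCH hle (by omega) (by rw [Finset.card_image_of_injective _ h.injective]; omega) ho.1 ho.2
    have := hCmax _ (Finset.mem_filter.2 ⟨Finset.mem_univ _, hBC.trans Finset.subset_union_left, hU⟩)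
    have e := Finset.eq_of_subset_of_card_le Finset.subset_union_left this
    rw [e]
    exact Finset.mem_union_right _ (Finset.mem_image_of_mem _ hx)
  have hC8 : C.card ≤ 8 := C.card_le_univ
  rcases (show C.card = 5 ∨ C.card = 6 ∨ C.card = 7 ∨ C.card = 8 by omega) with hc | hc | hc | hc
  · left
    have e : B = C := Finset.eq_of_subset_of_card_le hBC (by omega)
    exact fun h hh => hnorm' h (e ▸ hstab hh)
  · exfalso
    -- six points
    have hA : 2 * Nat.card ↥(altSub C) = 720 := by rw [card_altSub C (by omega), hc]; rfl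
    have hd6 : Nat.card ↥H ∣ 720 := by
      have := dvd_factorial hstab (fun σ hσ h => ?_)
      · rwa [hc] at this
      · have h1 := mem_altSub_compl (hH hσ) h
        rw [altSub_eq_bot (by rw [Finset.card_compl, hc, Fintype.card_fin])] at h1
        exact Subgroup.mem_bot.1 h1
    obtain ⟨k, hk⟩ := Subgroup.card_dvd_of_le hCH
    have hpos : 0 < Nat.card ↥H := Nat.card_pos
    have hA' : Nat.card ↥(altSub C) = 360 := by omega
    rw [hA'] at hk
    have hk2 : k = 1 ∨ k = 2 := by
      have := Nat.le_of_dvd (by norm_num) hd6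
      omega
    rcases hk2 with rfl | rfl
    · -- `H = A₆`, so `T ≤ A₅`
      have hHeq : altSub C = H := Subgroup.eq_of_le_of_card_ge hCH (by omega)
      have hTle : T ≤ altSub B := fun t ht => by
        have ht' := mem_altSub.1 (hHeq ▸ hTH ht : t ∈ altSub C)
        refine mem_altSub.2 ⟨ht'.1, fun x hx => ?_⟩
        by_cases hxC : x ∈ C
        · have hx1 : t x ∈ C := apply_mem_of_mem_supp (altSub_le_supp C (hHeq ▸ hTH ht)) hxC
          have hx2 : t x ∉ B := fun e => hx ((hTB ht x).1 e)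
          have hcard : (C \ B).card ≤ 1 := by rw [Finset.card_sdiff_of_subset hBC, hc, hB5]
          exact Finset.card_le_one.1 hcard _ (Finset.mem_sdiff.2 ⟨hx1, hx2⟩) _ (Finset.mem_sdiff.2 ⟨hxC, hx⟩)
        · exact ht'.2 x hxC
      have h60 := Subgroup.card_dvd_of_le hTle
      rw [← hLB, hL] at h60
      have h8 := hTmax 3 (by rw [← hHeq, hA']; norm_num)
      exact absurd (h8.trans h60) (by norm_num)
    · have h16 := hTmax 4 (by rw [hk]; norm_num)
      exact absurd (h16.trans hT120) (by norm_num)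
  · right
    have hHeq : H = altSub C := by
      refine le_antisymm (fun σ hσ => mem_altSub.2 ⟨mem_alternatingGroup.1 (hH hσ), fun x hx => ?_⟩) hCH
      have hcard : Cᶜ.card ≤ 1 := by rw [Finset.card_compl, hc, Fintype.card_fin]
      exact Finset.card_le_one.1 hcard _ (Finset.mem_compl.2 fun e => hx ((hstab hσ x).1 e)) _ (Finset.mem_compl.2 hx)
    exact ⟨(MulEquiv.subgroupCongr hHeq).trans ((altSubEquiv C).trans
      (Equiv.altCongrHom (Fintype.equivFinOfCardEq (by rw [Fintype.card_coe, hc]))))⟩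
  · exfalso
    have e : C = Finset.univ := Finset.eq_univ_of_card _ (by rw [hc, Fintype.card_fin])
    rw [e, altSub_univ] at hCH
    have h64 : 2 ^ 6 ∣ Nat.card ↥H := by
      have h2 := two_mul_nat_card_alternatingGroup (α := Fin 8)
      rw [Nat.card_perm, Nat.card_fin, show Nat.factorial 8 = 40320 from rfl] at h2
      rw [le_antisymm hH hCH]
      rw [show Nat.card ↥(alternatingGroup (Fin 8)) = 20160 by omega]; norm_num
    exact absurd ((hTmax 6 h64).trans hT120) (by norm_num)

/-! ### The transfer -/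

/-- The matrix over `ZMod 2` of an additive endomorphism. -/
noncomputable def mat {W : Type*} [AddCommGroup W] (b : W ≃+ (Fin 4 → ZMod 2)) (f : W →+ W) :
    Matrix (Fin 4) (Fin 4) (ZMod 2) :=
  LinearMap.toMatrix' (((b.toAddMonoidHom.comp f).comp b.symm.toAddMonoidHom).toZModLinearMap 2)

theorem mat_mulVec {W : Type*} [AddCommGroup W] (b : W ≃+ (Fin 4 → ZMod 2)) (f : W →+ W) (v : Fin 4 → ZMod 2) :
    (mat b f).mulVec v = b (f (b.symm v)) := by
  rw [mat, LinearMap.toMatrix'_mulVec]
  rfl

theorem mat_comp {W : Type*} [AddCommGroup W] (b : W ≃+ (Fin 4 → ZMod 2)) (f g : W →+ W) :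
    mat b (f.comp g) = mat b f * mat b g := by
  refine Matrix.ext_of_mulVec_single fun i => ?_
  rw [← Matrix.mulVec_mulVec, mat_mulVec, mat_mulVec, mat_mulVec, b.symm_apply_apply]
  rfl

theorem mat_id {W : Type*} [AddCommGroup W] (b : W ≃+ (Fin 4 → ZMod 2)) : mat b (AddMonoidHom.id W) = 1 := by
  refine Matrix.ext_of_mulVec_single fun i => ?_
  rw [mat_mulVec, Matrix.one_mulVec]
  exact b.apply_symm_apply _

theorem mat_injective {W : Type*} [AddCommGroup W] (b : W ≃+ (Fin 4 → ZMod 2)) : Function.Injective (mat b) := by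
  intro f g h
  ext w
  have := congrArg (fun M : Matrix (Fin 4) (Fin 4) (ZMod 2) => M.mulVec (b w)) h
  simpa [mat_mulVec] using this

theorem det_eq_one {M N : Matrix (Fin 4) (Fin 4) (ZMod 2)} (h : M * N = 1) : M.det = 1 := by
  have e : M.det * N.det = 1 := by rw [← Matrix.det_mul, h, Matrix.det_one]
  have : ∀ a b : ZMod 2, a * b = 1 → a = 1 := by decide
  exact this _ _ e

variable {F : Type*} [Field F] [Finite F] [CharP F 2] {Γ : Type*} [Group Γ] [Finite Γ]

/-- The case of four elements. -/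
theorem four (D : LESL2Over.Act Γ F) (hF : Nat.card F = 4) {T : Sylow 2 Γ}
    (hN : (T : Subgroup Γ) ≤ Subgroup.normalizer (D.L : Set Γ)) :
    D.L.Normal ∨ Nonempty (Γ ≃* ↥(alternatingGroup (Fin 7))) := by
  classical
  letI := ZMod.algebra F 2
  have hfin : Module.finrank (ZMod 2) (Fin 2 → F) = 4 := by
    have h1 := Module.natCard_eq_pow_finrank (K := ZMod 2) (V := Fin 2 → F)
    rw [Nat.card_fun, Nat.card_zmod, Nat.card_fin, hF] at h1
    exact (Nat.pow_right_injective (le_refl 2) (by rw [← h1]; norm_num :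
      2 ^ Module.finrank (ZMod 2) (Fin 2 → F) = 2 ^ 4))
  let b : (Fin 2 → F) ≃+ (Fin 4 → ZMod 2) :=
    (Module.finBasisOfFinrankEq (ZMod 2) (Fin 2 → F) hfin).equivFun.toAddEquiv
  let φ : Γ →* Matrix.SpecialLinearGroup (Fin 4) (ZMod 2) :=
    MonoidHom.mk' (fun g => ⟨mat b (D.hom g), det_eq_one (N := mat b (D.hom g⁻¹)) (by
      rw [← mat_comp, ← mat_id b]
      exact congrArg _ (AddMonoidHom.ext fun w => D.act_act_inv g w))⟩) fun g h => Subtype.ext (by
      show mat b (D.hom (g * h)) = mat b (D.hom g) * mat b (D.hom h)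
      rw [← mat_comp]
      exact congrArg _ (AddMonoidHom.ext fun w => D.act_mul g h w))
  let ι : Matrix.SpecialLinearGroup (Fin 4) (ZMod 2) →* Perm (Fin 8) :=
    (alternatingGroup (Fin 8)).subtype.comp GLFourTwo.slEquivAlt.toMonoidHom
  have hι : Function.Injective ι := fun x y e => GLFourTwo.slEquivAlt.injective (Subtype.ext e)
  let Θ : Γ →* Perm (Fin 8) := ι.comp φ
  have hΘ : Function.Injective Θ := hι.comp fun g h e => D.eq_of_act fun w =>
    DFunLike.congr_fun (mat_injective b (congrArg Subtype.val e)) w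
  -- the scalar of order three
  obtain ⟨ω, hω1, hω3⟩ : ∃ ω : F, ω ≠ 1 ∧ ω ^ 3 = 1 := by
    haveI := Fintype.ofFinite F
    obtain ⟨u, hu⟩ := exists_prime_orderOf_dvd_card' (G := Fˣ) 3 (by
      rw [Nat.card_units, hF])
    refine ⟨u, fun e => ?_, by rw [← Units.val_pow_eq_pow_val, ← hu, pow_orderOf_eq_one, Units.val_one]⟩
    rw [Units.val_eq_one.1 e, orderOf_one] at hu
    norm_num at hu
  let σ : (Fin 2 → F) →+ (Fin 2 → F) := AddMonoidHom.mk' (fun w => ω • w) fun v w => smul_add ω v w
  let σ' : (Fin 2 → F) →+ (Fin 2 → F) := AddMonoidHom.mk' (fun w => ω ^ 2 • w) fun v w => smul_add _ v w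
  let s : Matrix.SpecialLinearGroup (Fin 4) (ZMod 2) := ⟨mat b σ, det_eq_one (N := mat b σ') (by
    rw [← mat_comp, ← mat_id b]
    refine congrArg _ (AddMonoidHom.ext fun w => ?_)
    show ω • (ω ^ 2 • w) = w
    rw [smul_smul, ← pow_succ', hω3, one_smul])⟩
  haveI := isSimple_sl (F := F) hF
  have hL60 : Nat.card ↥D.L = 60 := by rw [Nat.card_congr D.e.toEquiv, card_sl hF]
  let eL : ↥(D.L.map Θ) ≃* Matrix.SpecialLinearGroup (Fin 2) F :=
    (D.L.equivMapOfInjective Θ hΘ).symm.trans D.e
  haveI : Nontrivial ↥(D.L.map Θ) := eL.toEquiv.nontrivial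
  haveI : IsSimpleGroup ↥(D.L.map Θ) := IsSimpleGroup.isSimpleGroup_of_surjective eL.symm.toMonoidHom eL.symm.surjective
  have hcore := core (H := Θ.range) (L' := D.L.map Θ) (T := (T : Subgroup Γ).map Θ) (z := ι s)
    (by rintro _ ⟨g, rfl⟩; exact (GLFourTwo.slEquivAlt (φ g)).2)
    (Subgroup.map_le_range _ _) (Subgroup.map_le_range _ _)
    (by rw [← Nat.card_congr (D.L.equivMapOfInjective Θ hΘ).toEquiv, hL60])
    (by
      rw [← map_pow]
      refine (congrArg ι (Subtype.ext ?_)).trans (map_one ι)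
      rw [Matrix.SpecialLinearGroup.coe_pow, pow_succ, pow_succ, pow_one, Matrix.SpecialLinearGroup.coe_one, ← mat_id b]
      show mat b σ * mat b σ * mat b σ = _
      rw [← mat_comp, ← mat_comp]
      refine congrArg _ (AddMonoidHom.ext fun w => ?_)
      show ω • (ω • (ω • w)) = w
      rw [smul_smul, smul_smul, ← pow_three' ω, hω3, one_smul])
    (by
      intro e
      have e1 : mat b σ = mat b (AddMonoidHom.id _) :=
        (congrArg Subtype.val (hι (e.trans (map_one ι).symm)) :).trans (mat_id b).symm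
      have := congrFun (DFunLike.congr_fun (mat_injective b e1) ![1, 0]) 0
      exact hω1 (by simpa [σ] using this))
    (by
      rintro _ ⟨l, hl, rfl⟩
      show ι (φ l) * ι s = ι s * ι (φ l)
      rw [← map_mul, ← map_mul]
      refine congrArg ι (Subtype.ext ?_)
      show mat b (D.hom l) * mat b σ = mat b σ * mat b (D.hom l)
      rw [← mat_comp, ← mat_comp]
      refine congrArg _ (AddMonoidHom.ext fun w => ?_)
      show D.act l (ω • w) = ω • D.act l w
      rw [D.hL ⟨l, hl⟩, D.hL ⟨l, hl⟩, Matrix.mulVec_smul])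
    (T.isPGroup'.map Θ)
    ((Subgroup.map_mono hN).trans (Subgroup.le_normalizer_map Θ))
    (fun k hk => by
      rw [← Nat.card_congr ((T : Subgroup Γ).equivMapOfInjective Θ hΘ).toEquiv]
      rw [← Nat.card_congr (MonoidHom.ofInjective hΘ).toEquiv] at hk
      exact T.pow_dvd_card_of_pow_dvd_card hk)
  rcases hcore with h | h
  · refine Or.inl ⟨fun l hl g => ?_⟩
    have h1 := (Subgroup.mem_normalizer_iff.1 (h ⟨g, rfl⟩) _).1 ⟨l, hl, rfl⟩
    rw [← map_inv, ← map_mul, ← map_mul] at h1
    exact (Subgroup.mem_map_iff_mem hΘ).1 h1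
  · exact Or.inr (h.map fun e => (MonoidHom.ofInjective hΘ).trans e)

end Cfsg.Agent.LESL2Four
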