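/-
`SU₃(q)` and `PSU₃(q)`: an element of order `p` centralising a Sylow `p`-subgroup is a transvection, and three
transvections generate elements of every non-real trace; so three conjugates of a central element generate a
subgroup with an element of primitive-divisor order.
-/
import Cfsg.Agent.Lib.Classical.HermSU
import Cfsg.Agent.Lib.Suzuki.Commutant
import Cfsg.Agent.Lib.LocalEven.Zsigmondy
import Cfsg.Agent.Lib.LinearBlock.PSU3Spectrum

set_option autoImplicit false
set_option linter.unusedSectionVars false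
set_option linter.unusedVariables false

namespace Cfsg.Agent.SU3Root

open Matrix Hermitian

variable {F : Type*} [Field F]

local notation "M3" => Matrix (Fin 3) (Fin 3) F

/-- The antidiagonal form. -/
def J : M3 := !![0, 0, 1; 0, 1, 0; 1, 0, 0]

/-- Preserving the antidiagonal form, with determinant one. -/
def Uni (σ : F →+* F) (M : M3) : Prop := Mᵀ * (J : M3) * M.map σ = J ∧ M.det = 1

theorem Uni.mul {σ : F →+* F} {M N : M3} (hM : Uni σ M) (hN : Uni σ N) : Uni σ (M * N) := by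
  refine ⟨?_, by rw [det_mul, hM.2, hN.2, one_mul]⟩
  rw [transpose_mul, Matrix.map_mul, show Nᵀ * Mᵀ * (J : M3) * (M.map σ * N.map σ) =
    Nᵀ * (Mᵀ * (J : M3) * M.map σ) * N.map σ by simp only [Matrix.mul_assoc], hM.1, hN.1]

/-- Root elements of the centre. -/
def rootE (c : F) : M3 := !![1, 0, c; 0, 1, 0; 0, 0, 1]

/-- Unipotent elements. -/
def uu (σ : F →+* F) (a b : F) : M3 := !![1, -σ a, b; 0, 1, a; 0, 0, 1]

/-- The swap. -/
def ww : M3 := !![0, 0, 1; 0, -1, 0; 1, 0, 0]

/-- The torus. -/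
def dd (σ : F →+* F) (l : F) : M3 := !![l, 0, 0; 0, σ l / l, 0; 0, 0, (σ l)⁻¹]

/-- A change of basis from the standard form to the antidiagonal one. -/
structure Frame (σ : F →+* F) where
  P : M3
  Q : M3
  hPQ : P * Q = 1
  hQP : Q * P = 1
  hform : Pᵀ * P.map σ = J

variable [Fintype F] {q : ℕ} {σ : F →+* F}

section

variable (hne : σ ≠ RingHom.id F) (hinv : ∀ a, σ (σ a) = a)
include hne hinv

theorem exists_skew : ∃ d : F, d ≠ 0 ∧ σ d = -d := by
  obtain ⟨μ, hμ⟩ : ∃ μ, σ μ ≠ μ := by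
    by_contra h
    push Not at h
    exact hne (RingHom.ext h)
  exact ⟨μ - σ μ, sub_ne_zero.2 (Ne.symm hμ), by rw [map_sub, hinv, neg_sub]⟩

theorem exists_frame : Nonempty (Frame σ) := by
  obtain ⟨η, hη⟩ := exists_norm hne hinv (x := -1) (by rw [map_neg, map_one])
  obtain ⟨ζ, hζ, hζ1⟩ : ∃ ζ : F, ζ * σ ζ = 1 ∧ ζ ≠ 1 := by
    by_contra! hall
    have h := card_norm_fibre hne hinv (map_one σ) one_ne_zero
    have hle : Nat.card {a : F // a * σ a = 1} ≤ 1 :=
      Finite.card_le_one_iff_subsingleton.2 ⟨fun a b => Subtype.ext ((hall a a.2).trans (hall b b.2).symm)⟩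
    have := Finite.one_lt_card (α := fixed σ)
    omega
  obtain ⟨x, hx⟩ : ∃ x : F, x = (1 - ζ)⁻¹ := ⟨_, rfl⟩
  have h1 : (1 - ζ) ≠ 0 := sub_ne_zero.2 (Ne.symm hζ1)
  have hx1 : x * (1 - ζ) = 1 := by rw [hx, inv_mul_cancel₀ h1]
  have hx2 : σ x * (1 - σ ζ) = 1 := by
    have := congrArg σ hx1
    rwa [map_mul, map_sub, map_one] at this
  obtain ⟨P, hP⟩ : ∃ P : M3, P = !![1, 0, x; η, 0, x * ζ * η; 0, 1, 0] := ⟨_, rfl⟩
  have hform : Pᵀ * P.map σ = J := by
    rw [hP]
    ext i j
    fin_cases i <;> fin_cases j <;> simp [J, Matrix.mul_apply, Fin.sum_univ_three]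
    · linear_combination hη
    · linear_combination σ x * σ ζ * hη + hx2
    · linear_combination x * ζ * hη + hx1
    · linear_combination (x * ζ * σ x * σ ζ) * hη - x * σ x * hζ
  have hdet : IsUnit P.det := by
    refine isUnit_iff_ne_zero.2 fun h0 => ?_
    have h := congrArg Matrix.det hform
    rw [det_mul, det_transpose, h0, zero_mul] at h
    simp [J, det_fin_three] at h
  exact ⟨⟨P, P⁻¹, Matrix.mul_nonsing_inv _ hdet, Matrix.nonsing_inv_mul _ hdet, hform⟩⟩

end

theorem uni_rootE {c : F} (hc : c + σ c = 0) : Uni σ (rootE c) := by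
  refine ⟨?_, by simp [rootE, det_fin_three]⟩
  ext i j
  fin_cases i <;> fin_cases j <;> simp [rootE, J, Matrix.mul_apply, Fin.sum_univ_three]
  linear_combination hc

theorem uni_uu (hinv : ∀ a, σ (σ a) = a) {a b : F} (h : b + σ b + a * σ a = 0) : Uni σ (uu σ a b) := by
  refine ⟨?_, by simp [uu, det_fin_three]⟩
  ext i j
  fin_cases i <;> fin_cases j <;> simp [uu, J, Matrix.mul_apply, Fin.sum_univ_three, hinv]
  linear_combination h

theorem uni_ww : Uni σ (ww : M3) := by
  refine ⟨?_, by simp [ww, det_fin_three]⟩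
  ext i j
  fin_cases i <;> fin_cases j <;> simp [ww, J, Matrix.mul_apply, Fin.sum_univ_three]

theorem uni_dd (hinv : ∀ a, σ (σ a) = a) {l : F} (hl : l ≠ 0) : Uni σ (dd σ l) := by
  have hl' : σ l ≠ 0 := (map_ne_zero σ).2 hl
  refine ⟨?_, by simp [dd, det_fin_three]; field_simp⟩
  ext i j
  fin_cases i <;> fin_cases j <;> simp [dd, J, Matrix.mul_apply, Fin.sum_univ_three, hinv, hl, hl']
  all_goals field_simp

variable (hσ : ∀ x, σ x = x ^ q) (fr : Frame σ)

/-- The element of `SU₃` of a matrix preserving the antidiagonal form. -/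
def su (M : M3) (h : Uni σ M) : Cfsg.SU 3 F q :=
  ⟨⟨fr.P * M * fr.Q, by
      rw [det_mul, det_mul, h.2, mul_one, ← det_mul, fr.hPQ, det_one]⟩,
    (HermSU.mem_SU_iff hσ _).2 (by
      show (fr.P * M * fr.Q)ᵀ * (fr.P * M * fr.Q).map σ = 1
      rw [transpose_mul, transpose_mul, Matrix.map_mul, Matrix.map_mul,
        show fr.Qᵀ * (Mᵀ * fr.Pᵀ) * (fr.P.map σ * M.map σ * fr.Q.map σ) =
          fr.Qᵀ * (Mᵀ * (fr.Pᵀ * fr.P.map σ) * M.map σ) * fr.Q.map σ by simp only [Matrix.mul_assoc],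
        fr.hform, h.1, ← fr.hform, show fr.Qᵀ * (fr.Pᵀ * fr.P.map σ) * fr.Q.map σ =
          (fr.Qᵀ * fr.Pᵀ) * (fr.P.map σ * fr.Q.map σ) by simp only [Matrix.mul_assoc],
        ← transpose_mul, ← Matrix.map_mul, fr.hPQ, transpose_one, Matrix.map_one _ (map_zero σ) (map_one σ),
        one_mul])⟩

theorem su_val (M : M3) (h : Uni σ M) :
    ((su hσ fr M h : Matrix.SpecialLinearGroup (Fin 3) F) : M3) = fr.P * M * fr.Q := rfl

theorem su_mul (M N : M3) (hM : Uni σ M) (hN : Uni σ N) :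
    su hσ fr M hM * su hσ fr N hN = su hσ fr (M * N) (hM.mul hN) := by
  apply Subtype.ext
  apply Subtype.ext
  show fr.P * M * fr.Q * (fr.P * N * fr.Q) = fr.P * (M * N) * fr.Q
  rw [show fr.P * M * fr.Q * (fr.P * N * fr.Q) = fr.P * M * (fr.Q * fr.P) * N * fr.Q by
    simp only [Matrix.mul_assoc], fr.hQP, Matrix.mul_one]
  simp only [Matrix.mul_assoc]

theorem su_congr {M N : M3} (hM : Uni σ M) (hN : Uni σ N) (e : M = N) :
    su hσ fr M hM = su hσ fr N hN := by subst e; rfl

theorem coe_mul_SU (x y : Cfsg.SU 3 F q) :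
    (((x * y : Cfsg.SU 3 F q) : Matrix.SpecialLinearGroup (Fin 3) F) : M3) =
      ((x : Matrix.SpecialLinearGroup (Fin 3) F) : M3) * ((y : Matrix.SpecialLinearGroup (Fin 3) F) : M3) := rfl

section

variable (hne : σ ≠ RingHom.id F) (hinv : ∀ a, σ (σ a) = a)
include hne hinv

/-- All root elements of the centre are conjugate. -/
theorem rootE_conj {c d : F} (hc : c + σ c = 0) (hd : d + σ d = 0) (hc0 : c ≠ 0) (hd0 : d ≠ 0) :
    ∃ g : Cfsg.SU 3 F q, g * su hσ fr _ (uni_rootE hd) * g⁻¹ = su hσ fr _ (uni_rootE hc) := by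
  obtain ⟨l, hl⟩ := exists_norm hne hinv (x := c / d) (by
    rw [map_div₀, eq_neg_of_add_eq_zero_right hc, eq_neg_of_add_eq_zero_right hd, neg_div_neg_eq])
  have hl0 : l ≠ 0 := fun h0 => div_ne_zero hc0 hd0 (by rw [← hl, h0, zero_mul])
  have hl' : σ l ≠ 0 := (map_ne_zero σ).2 hl0
  refine ⟨su hσ fr _ (uni_dd hinv hl0), mul_inv_eq_iff_eq_mul.2 ?_⟩
  rw [su_mul, su_mul]
  refine su_congr hσ fr _ _ ?_
  ext i j
  fin_cases i <;> fin_cases j <;> simp [dd, rootE, Matrix.mul_apply, Fin.sum_univ_three]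
  rw [eq_div_iff hd0] at hl
  field_simp
  linear_combination hl

/-- Parameters for a prescribed non-real trace. -/
theorem exists_params {x : F} (hx : σ x ≠ x) :
    ∃ a b k : F, σ a = a ∧ σ b = b ∧ σ k = k ∧ a ≠ 0 ∧ b ≠ 0 ∧
      (k - a - b) * a * b + (x - k) * (σ x - k) = 0 := by
  classical
  obtain ⟨T, hT⟩ : ∃ T : F, T = x + σ x := ⟨_, rfl⟩
  obtain ⟨N, hN⟩ : ∃ N : F, N = x * σ x := ⟨_, rfl⟩
  have hTf : σ T = T := by rw [hT, map_add, hinv, add_comm]
  have hNf : σ N = N := by rw [hN, map_mul, hinv, mul_comm]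
  by_cases h2 : (2 : F) = 0
  · haveI : CharP F 2 := by
      obtain ⟨r, hr⟩ := CharP.exists F
      have hr2 : r ∣ 2 := (CharP.cast_eq_zero_iff F r 2).1 (by exact_mod_cast h2)
      haveI := hr
      have hrp : r.Prime := (CharP.char_is_prime_or_zero F r).resolve_right fun h0 => by
        rw [h0] at hr2
        simp at hr2
      exact ((Nat.prime_dvd_prime_iff_eq hrp Nat.prime_two).1 hr2) ▸ hr
    have hT0 : T ≠ 0 := fun h0 => hx (by
      rw [hT] at h0
      rw [eq_neg_of_add_eq_zero_right h0, CharTwo.neg_eq])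
    obtain ⟨k, hk⟩ := FiniteField.isSquare_of_char_two (F := F) (ringChar.eq F 2) (T + T * T - N)
    have hk' : σ k * σ k = k * k := by
      rw [← map_mul, ← hk, map_sub, map_add, map_mul, hTf, hNf]
    have hkf : σ k = k := by
      rcases mul_self_eq_mul_self_iff.1 hk' with h | h
      · exact h
      · rw [h, CharTwo.neg_eq]
    refine ⟨1, T, k, map_one σ, hTf, hkf, one_ne_zero, hT0, ?_⟩
    rw [hT, hN] at hk
    rw [hT]
    linear_combination -hk
  · have h2K : (2 : fixed σ) ≠ 0 := fun h => h2 (congrArg Subtype.val h)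
    obtain ⟨C, hC⟩ : ∃ C : fixed σ, (C : F) = (1 - T) * (1 - T) - 4 * N :=
      ⟨⟨(1 - T) * (1 - T) - 4 * N, by
        show σ _ = _
        simp only [map_sub, map_mul, map_one, map_ofNat, hTf, hNf]⟩, rfl⟩
    haveI : Fintype (fixed σ) := Fintype.ofFinite _
    obtain ⟨a, ha, y, hy⟩ : ∃ a : fixed σ, a ≠ 0 ∧ ∃ y : fixed σ, y * y = C + 4 * (a + a⁻¹) := by
      by_contra! hno
      have hodd : Odd (Fintype.card (fixed σ)) := by
        rw [Nat.odd_iff]
        exact FiniteField.odd_card_of_char_ne_two fun h => h2K (by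
          haveI := ringChar.charP (fixed σ)
          have := (CharP.cast_eq_zero_iff (fixed σ) (ringChar (fixed σ)) 2).2 (by rw [h])
          exact_mod_cast this)
      obtain ⟨g, hg⟩ : ∃ g : fixed σ → fixed σ, g = fun a => C + 4 * (a + a⁻¹) := ⟨_, rfl⟩
      have h4 : (4 : fixed σ) ≠ 0 := by
        rw [show (4 : fixed σ) = 2 * 2 by norm_num]
        exact mul_ne_zero h2K h2K
      have hfib : ∀ a b : fixed σ, a ≠ 0 → b ≠ 0 → g a = g b → b = a ∨ b = a⁻¹ := by
        intro a b ha hb e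
        rw [hg] at e
        have e' : a + a⁻¹ = b + b⁻¹ := mul_left_cancel₀ h4 (add_left_cancel e)
        field_simp at e'
        have : (b - a) * (a * b - 1) = 0 := by linear_combination -e'
        rcases mul_eq_zero.1 this with h | h
        · exact Or.inl (sub_eq_zero.1 h)
        · exact Or.inr (eq_inv_of_mul_eq_one_right (sub_eq_zero.1 h))
      obtain ⟨A, hA⟩ : ∃ A : Finset (fixed σ), A = (Finset.univ.erase 0).erase 1 := ⟨_, rfl⟩
      have hAmem : ∀ a ∈ A, a ≠ 0 ∧ a ≠ 1 := fun a ha => by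
        rw [hA] at ha
        simp at ha
        exact ⟨ha.2, ha.1⟩
      have hAc : A.card + 2 = Fintype.card (fixed σ) := by
        rw [hA, Finset.card_erase_of_mem (by simp), Finset.card_erase_of_mem (by simp), Finset.card_univ]
        have := Fintype.one_lt_card (α := fixed σ)
        omega
      have h1 : A.card ≤ 2 * (A.image g).card := by
        refine Finset.card_le_mul_card_image _ 2 fun b hb => ?_
        obtain ⟨a, ha, rfl⟩ := Finset.mem_image.1 hb
        refine le_trans (Finset.card_le_card (t := {a, a⁻¹}) fun c hc => ?_) Finset.card_le_two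
        rw [Finset.mem_filter] at hc
        rcases hfib a c (hAmem a ha).1 (hAmem c hc.1).1 hc.2.symm with rfl | rfl <;> simp
      have h1' : g 1 ∉ A.image g := by
        intro h
        obtain ⟨a, ha, e⟩ := Finset.mem_image.1 h
        rcases hfib 1 a one_ne_zero (hAmem a ha).1 e.symm with rfl | rfl
        · exact (hAmem _ ha).2 rfl
        · exact (hAmem _ ha).2 inv_one
      obtain ⟨I, hI⟩ : ∃ I : Finset (fixed σ), I = Finset.univ.image fun y => y * y := ⟨_, rfl⟩
      have h3 : Fintype.card (fixed σ) ≤ 2 * I.card := by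
        rw [hI, ← Finset.card_univ]
        refine Finset.card_le_mul_card_image _ 2 fun b hb => ?_
        obtain ⟨a, -, rfl⟩ := Finset.mem_image.1 hb
        refine le_trans (Finset.card_le_card (t := {a, -a}) fun c hc => ?_) Finset.card_le_two
        rw [Finset.mem_filter] at hc
        rcases mul_self_eq_mul_self_iff.1 hc.2 with rfl | rfl <;> simp
      have hdisj : Disjoint (insert (g 1) (A.image g)) I := by
        rw [Finset.disjoint_left]
        intro v hv hvI
        rw [hI] at hvI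
        obtain ⟨y, -, rfl⟩ := Finset.mem_image.1 hvI
        rcases Finset.mem_insert.1 hv with h | h
        · exact hno 1 one_ne_zero y (by rw [h, hg])
        · obtain ⟨a, ha, e⟩ := Finset.mem_image.1 h
          exact hno a (hAmem a ha).1 y (by rw [← e, hg])
      have h5 := Finset.card_le_univ ((insert (g 1) (A.image g)).disjUnion I hdisj)
      rw [Finset.card_disjUnion, Finset.card_insert_of_notMem h1'] at h5
      obtain ⟨c, hc⟩ := hodd
      omega
    have haF : (a : F) ≠ 0 := fun h => ha (Subtype.ext h)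
    have hy' : (y : F) * y = (1 - T) * (1 - T) - 4 * N + 4 * ((a : F) + (a : F)⁻¹) := by
      have := congrArg Subtype.val hy
      simp only [MulMemClass.coe_mul, AddMemClass.coe_add] at this
      rw [this, hC]
      rfl
    have haf : σ (a : F) = a := a.2
    have hyf : σ (y : F) = y := y.2
    refine ⟨a, (a : F)⁻¹, ((y : F) - 1 + T) / 2, haf, by rw [map_inv₀, haf],
      by rw [map_div₀, map_add, map_sub, map_one, map_ofNat, hyf, hTf], haF, inv_ne_zero haF, ?_⟩
    rw [hT, hN] at hy'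
    rw [hT]
    field_simp
    field_simp at hy'
    linear_combination hy'

/-- Three conjugates of a root element generate an element of any non-real trace. -/
theorem exists_trace_prod {d : F} (hd : d + σ d = 0) (hd0 : d ≠ 0) {τ : F} (hτ : σ τ ≠ τ) :
    ∃ f : Fin 3 → Cfsg.SU 3 F q, ∃ y ∈ Subgroup.closure
        (Set.range fun i => f i * su hσ fr _ (uni_rootE hd) * (f i)⁻¹),
      ((y : Matrix.SpecialLinearGroup (Fin 3) F) : M3).trace = τ := by
  obtain ⟨A, B, k, hA, hB, hk, hA0, hB0, heq⟩ := exists_params hne hinv (x := τ - 3) (by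
    rw [map_sub, map_ofNat]
    exact fun h => hτ (sub_left_injective h))
  obtain ⟨b, hb⟩ : ∃ b : F, b = (τ - 3 - k) * d / (A * B) := ⟨_, rfl⟩
  obtain ⟨a, ha⟩ := exists_norm hne hinv (x := -(b + σ b)) (by rw [map_neg, map_add, hinv, add_comm])
  have hab : b + σ b + a * σ a = 0 := by rw [ha]; ring
  have hsd : σ d = -d := eq_neg_of_add_eq_zero_right hd
  have hc : A / d + σ (A / d) = 0 := by rw [map_div₀, hA, hsd, div_neg, add_neg_cancel]
  have hc' : B / d + σ (B / d) = 0 := by rw [map_div₀, hB, hsd, div_neg, add_neg_cancel]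
  have hab' : σ b + σ (σ b) + -a * σ (-a) = 0 := by rw [hinv, map_neg]; linear_combination hab
  obtain ⟨g₁, hg₁⟩ := rootE_conj hσ fr hne hinv hc hd (div_ne_zero hA0 hd0) hd0
  obtain ⟨g₂, hg₂⟩ := rootE_conj hσ fr hne hinv hc' hd (div_ne_zero hB0 hd0) hd0
  obtain ⟨W, hW⟩ : ∃ W, W = su hσ fr _ (uni_ww (σ := σ)) := ⟨_, rfl⟩
  obtain ⟨U, hU⟩ : ∃ U, U = su hσ fr _ (uni_uu hinv hab) := ⟨_, rfl⟩
  obtain ⟨U', hU'⟩ : ∃ U', U' = su hσ fr _ (uni_uu hinv hab') := ⟨_, rfl⟩
  have hWinv : W⁻¹ = W := by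
    refine inv_eq_of_mul_eq_one_left ?_
    rw [hW, su_mul]
    apply Subtype.ext
    apply Subtype.ext
    show fr.P * ((ww : M3) * ww) * fr.Q = 1
    rw [show (ww : M3) * ww = 1 by
      ext i j; fin_cases i <;> fin_cases j <;> simp [ww, Matrix.mul_apply, Fin.sum_univ_three],
      Matrix.mul_one, fr.hPQ]
  have hUinv : U⁻¹ = U' := by
    refine inv_eq_of_mul_eq_one_right ?_
    rw [hU, hU', su_mul]
    apply Subtype.ext
    apply Subtype.ext
    show fr.P * (uu σ a b * uu σ (-a) (σ b)) * fr.Q = 1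
    rw [show uu σ a b * uu σ (-a) (σ b) = 1 by
      ext i j
      fin_cases i <;> fin_cases j <;> simp [uu, Matrix.mul_apply, Fin.sum_univ_three]
      linear_combination hab,
      Matrix.mul_one, fr.hPQ]
  obtain ⟨T, hT⟩ : ∃ T, T = su hσ fr _ (uni_rootE hd) := ⟨_, rfl⟩
  rw [← hT] at hg₁ hg₂ ⊢
  refine ⟨![1, W * g₁, U * W * g₂], T * (W * g₁ * T * (W * g₁)⁻¹) * (U * W * g₂ * T * (U * W * g₂)⁻¹),
    mul_mem (mul_mem ?_ (Subgroup.subset_closure ⟨1, rfl⟩)) (Subgroup.subset_closure ⟨2, rfl⟩), ?_⟩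
  · exact Subgroup.subset_closure ⟨0, by simp⟩
  have h1 : W * g₁ * T * (W * g₁)⁻¹ = W * (g₁ * T * g₁⁻¹) * W := by
    rw [_root_.mul_inv_rev, hWinv]; simp only [mul_assoc]
  have h2 : U * W * g₂ * T * (U * W * g₂)⁻¹ = U * W * (g₂ * T * g₂⁻¹) * W * U' := by
    rw [_root_.mul_inv_rev, _root_.mul_inv_rev, hWinv, hUinv]; simp only [mul_assoc]
  rw [h1, h2, hg₁, hg₂, hT, hW, hU, hU']
  simp only [su_mul, su_val]
  rw [Matrix.trace_mul_cycle, fr.hQP, Matrix.one_mul]
  rw [map_sub, map_ofNat] at heq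
  have hAB : A * B ≠ 0 := mul_ne_zero hA0 hB0
  have hbb : A * B * b = (τ - 3 - k) * d := by rw [hb]; field_simp
  have hsb : A * B * σ b = -((σ τ - 3 - k) * d) := by
    have := congrArg σ hbb
    rw [map_mul, map_mul, map_mul, hA, hB, map_sub, map_sub, map_ofNat, hk, hsd] at this
    linear_combination this
  have hbsb : A * B * (b * σ b) = (k - A - B) * (d * d) := by
    refine mul_left_cancel₀ hAB ?_
    linear_combination (A * B * σ b) * hbb + ((τ - 3 - k) * d) * hsb - (d * d) * heq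
  simp [rootE, ww, uu, Matrix.mul_apply, Fin.sum_univ_three, Matrix.trace_fin_three, hinv]
  field_simp
  linear_combination (B * d + d * A) * hab + d * hbb + hbsb

end

theorem scalar_of_mem_center (hne : σ ≠ RingHom.id F) (hinv : ∀ a, σ (σ a) = a) (hσ : ∀ x, σ x = x ^ q)
    (hq : Nat.card (fixed σ) = q) {y : Cfsg.SU 3 F q} (hy : y ∈ Subgroup.center (Cfsg.SU 3 F q)) :
    ∃ c : F, ((y : Matrix.SpecialLinearGroup (Fin 3) F) : M3) = Matrix.diagonal fun _ => c := by
  refine HermSU.scalar_of_commute hne hinv hσ (by norm_num) hq _ fun A hA => ?_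
  exact (congrArg (fun z : Cfsg.SU 3 F q => ((z : Matrix.SpecialLinearGroup (Fin 3) F) : M3))
    (Subgroup.mem_center_iff.1 hy ⟨A, hA⟩)).symm

/-- The characteristic polynomial of an element of `SU₃`. -/
theorem charpoly_eq (hσ : ∀ x, σ x = x ^ q) (g : Cfsg.SU 3 F q) :
    ((g : Matrix.SpecialLinearGroup (Fin 3) F) : M3).charpoly =
      Polynomial.X ^ 3 - Polynomial.C ((g : Matrix.SpecialLinearGroup (Fin 3) F) : M3).trace * Polynomial.X ^ 2 +
        Polynomial.C (σ ((g : Matrix.SpecialLinearGroup (Fin 3) F) : M3).trace) * Polynomial.X - 1 := by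
  obtain ⟨M, hM⟩ : ∃ M : M3, M = ((g : Matrix.SpecialLinearGroup (Fin 3) F) : M3) := ⟨_, rfl⟩
  have h1 : Mᵀ * M.map σ = 1 := hM ▸ (HermSU.mem_SU_iff hσ _).1 g.2
  have hdet : M.det = 1 := hM ▸ (g : Matrix.SpecialLinearGroup (Fin 3) F).2
  have h2 : (M.map σ)ᵀ * M = 1 := by
    have := congrArg Matrix.transpose h1
    rwa [transpose_mul, transpose_transpose, transpose_one] at this
  have hadj : M.adjugate = (M.map σ)ᵀ := by
    calc M.adjugate = 1 * M.adjugate := (one_mul _).symm
      _ = (M.map σ)ᵀ * (M * M.adjugate) := by rw [← h2, Matrix.mul_assoc]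
      _ = (M.map σ)ᵀ := by rw [Matrix.mul_adjugate, hdet, one_smul, Matrix.mul_one]
  rw [← hM, LBPSU3.charpoly_three, hadj, trace_transpose, hdet, Polynomial.C_1]
  simp [Matrix.trace_fin_three]

/-- Three conjugates of a root element generate a subgroup with an element of order `r`. -/
theorem exists_order (hne : σ ≠ RingHom.id F) (hinv : ∀ a, σ (σ a) = a) (hσ : ∀ x, σ x = x ^ q)
    (fr : Frame σ) {r : ℕ} (hr : r.Prime) (hrq : ¬ r ∣ Fintype.card F)
    (hd2 : ∀ d, 0 < d → d < 3 → ¬ Fintype.card F ^ d ≡ 1 [MOD r]) (hq : Nat.card (fixed σ) = q) (hdvd : r ∣ Nat.card (Cfsg.SU 3 F q))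
    {d : F} (hd : d + σ d = 0) (hd0 : d ≠ 0) :
    ∃ f : Fin 3 → Cfsg.SU 3 F q, ∃ y ∈ Subgroup.closure
        (Set.range fun i => f i * su hσ fr _ (uni_rootE hd) * (f i)⁻¹),
      orderOf y = r ∧ y ∉ Subgroup.center (Cfsg.SU 3 F q) := by
  haveI : Fact r.Prime := ⟨hr⟩
  obtain ⟨g, hg⟩ := exists_prime_orderOf_dvd_card' r hdvd
  obtain ⟨M, hM⟩ : ∃ M : M3, M = ((g : Matrix.SpecialLinearGroup (Fin 3) F) : M3) := ⟨_, rfl⟩
  have hMr : M ^ r = 1 := by
    rw [hM, ← Matrix.SpecialLinearGroup.coe_pow, ← SubmonoidClass.coe_pow, ← hg, pow_orderOf_eq_one]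
    simp
  have hM1 : M ≠ 1 := fun e => hr.ne_one (by
    rw [← hg, show g = 1 from Subtype.ext (Subtype.ext (hM ▸ e))]; exact orderOf_one)
  have hirr := Suzuki.Commutant.irreducible hMr hM1 hrq (fun k h0 h3 => hd2 k h0 (by simpa using h3))
  have hroot : ∀ l : F, M.charpoly.eval l ≠ 0 := by
    intro l hl
    rw [Matrix.eval_charpoly, ← Matrix.exists_mulVec_eq_zero_iff] at hl
    obtain ⟨v, hv, hv0⟩ := hl
    rw [Matrix.sub_mulVec, sub_eq_zero, Matrix.scalar_apply] at hv0
    have hMv : M *ᵥ v = l • v := by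
      rw [← hv0]
      ext i
      simp [Matrix.mulVec_diagonal]
    rcases hirr (F ∙ v) (fun w hw => by
      obtain ⟨c, rfl⟩ := Submodule.mem_span_singleton.1 hw
      rw [Matrix.mulVec_smul, hMv, smul_smul]
      exact Submodule.smul_mem _ _ (Submodule.mem_span_singleton_self v)) with h | h
    · exact hv ((Submodule.span_singleton_eq_bot).1 h)
    · have := finrank_span_singleton (K := F) hv
      rw [h, finrank_top, Module.finrank_fintype_fun_eq_card, Fintype.card_fin] at this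
      omega
  have hcp : M.charpoly = Polynomial.X ^ 3 - Polynomial.C M.trace * Polynomial.X ^ 2 +
      Polynomial.C (σ M.trace) * Polynomial.X - 1 := hM ▸ charpoly_eq hσ g
  have htr : σ M.trace ≠ M.trace := fun e => hroot 1 (by rw [hcp, e]; simp)
  obtain ⟨f, y, hy, hytr⟩ := exists_trace_prod hσ fr hne hinv hd hd0 htr
  refine ⟨f, y, hy, ?_⟩
  obtain ⟨N, hN⟩ : ∃ N : M3, N = ((y : Matrix.SpecialLinearGroup (Fin 3) F) : M3) := ⟨_, rfl⟩
  rw [← hN] at hytr
  have hcpN : N.charpoly = M.charpoly := by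
    rw [hN, charpoly_eq hσ y, ← hN, hytr, hcp]
  have hdeg : M.charpoly.natDegree = 3 := by rw [Matrix.charpoly_natDegree_eq_dim, Fintype.card_fin]
  have hI : Irreducible M.charpoly := by
    rw [(Matrix.charpoly_monic M).irreducible_iff_roots_eq_zero_of_degree_le_three (by omega) (by omega)]
    refine Multiset.eq_zero_of_forall_notMem fun l hl => hroot l ?_
    exact Polynomial.isRoot_of_mem_roots hl
  have hdv : M.charpoly ∣ Polynomial.X ^ r - 1 := by
    by_contra hnd
    have hco := hI.coprime_iff_not_dvd.2 hnd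
    obtain ⟨u, v, huv⟩ := hco
    have := congrArg (Polynomial.aeval M) huv
    rw [map_add, map_mul, map_mul, Matrix.aeval_self_charpoly, map_sub, map_pow, Polynomial.aeval_X, hMr,
      map_one, sub_self, mul_zero, mul_zero, add_zero] at this
    exact zero_ne_one this
  have hNr : N ^ r = 1 := by
    obtain ⟨u, hu⟩ := hdv
    have := congrArg (Polynomial.aeval N) hu
    rw [map_mul, ← hcpN, Matrix.aeval_self_charpoly, zero_mul, map_sub, map_pow, Polynomial.aeval_X, map_one,
      sub_eq_zero] at this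
    exact this
  have hncent : y ∉ Subgroup.center (Cfsg.SU 3 F q) := by
    intro hc
    obtain ⟨c, hc'⟩ := scalar_of_mem_center hne hinv hσ hq hc
    rw [← hN] at hc'
    refine hroot c ?_
    rw [← hcpN, Matrix.eval_charpoly, hc', Matrix.scalar_apply, sub_self, Matrix.det_zero]
  refine ⟨orderOf_eq_prime ?_ (fun e => hncent (e ▸ one_mem _)), hncent⟩
  apply Subtype.ext
  apply Subtype.ext
  rw [SubmonoidClass.coe_pow, Matrix.SpecialLinearGroup.coe_pow, ← hN, hNr]
  simp

end Cfsg.Agent.SU3Root
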