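import Cfsg.Agent.Lib.Fusion.NoninnerLocal
import Cfsg.Agent.Lib.Fusion.BisetTransfer
import Cfsg.Agent.Lib.Fusion.SolvableChain
import Cfsg.Agent.Lib.Fusion.InnerCriteria
import Cfsg.Agent.Lib.Fusion.CentNormSystem
import Cfsg.Agent.Lib.Fusion.Abelian
import Cfsg.Agent.Lib.OddOrder.OmegaCentral

/-!
# Weakly embedded subgroups of one order force the inner system
-/

set_option autoImplicit false

namespace Cfsg.Agent.WeakEmbInner

open Cfsg Cfsg.FusionSystem Cfsg.Agent.FusionSys Cfsg.Agent.OddOrder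
open scoped commutatorElement

universe u

variable {Ω : Type u} [Group Ω] {S : Subgroup Ω} {p : ℕ} [hp : Fact p.Prime] [Finite S] {F : FusionSystem S}

/-- Every subgroup of order `p ^ d` is weakly embedded. -/
def WE (F : FusionSystem S) (p d : ℕ) : Prop :=
  ∀ Q : Subgroup Ω, Q ≤ S → Nat.card Q = p ^ d →
    ∃ P : Subgroup Ω, F.StronglyClosed P ∧ F.StronglyClosed (Q ⊔ P) ∧ F.StronglyClosed (Q ⊓ P)

/-- The normalizer maps of fully normalized subgroups of order `p ^ d` are conjugations. -/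
def NI (F : FusionSystem S) (p d : ℕ) : Prop :=
  ∀ H : Subgroup Ω, F.IsFullyNormalized H → Nat.card H = p ^ d →
    ∀ (P : Subgroup Ω) (φ : P →* Ω), φ ∈ F.normalizerHom H P →
      ∃ s ∈ normalizerIn S H, ∀ x : P, φ x = s * (x : Ω) * s⁻¹

/-- A minimal nontrivial strongly closed subgroup. -/
def MinSC (F : FusionSystem S) (M : Subgroup Ω) : Prop :=
  F.StronglyClosed M ∧ M ≠ ⊥ ∧ ∀ T : Subgroup Ω, F.StronglyClosed T → T ≤ M → T ≠ ⊥ → T = M

theorem hyperfocal_bot_of_inner (hS : IsPGroup p S)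
    (h : ∀ P : Subgroup Ω, F.Hom P = (innerFusionSystem S).Hom P) : F.hyperfocalSubgroup p = ⊥ := by
  obtain rfl := hom_ext F _ h
  rw [eq_bot_iff, hyperfocalSubgroup, Subgroup.closure_le]
  rintro _ ⟨P, a, x, hP, ha, rfl⟩
  haveI := finite_of_le (S := S) hP
  have hpg : IsPGroup p ((innerFusionSystem S).autGroup P) := by
    intro α
    obtain ⟨-, g, hg, hge⟩ := (mem_autGroup_iff _ hP _).1 α.2
    obtain ⟨k, hk⟩ := hS ⟨g, hg⟩
    refine ⟨k, Subtype.ext ?_⟩
    have hit : ∀ (i : ℕ) (y : P), ((((α : MulAut P) ^ i) y : P) : Ω) = g ^ i * y * (g ^ i)⁻¹ := by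
      intro i
      induction i with
      | zero => intro y; simp
      | succ i ih =>
        intro y
        rw [pow_succ, MulAut.mul_apply, ih]
        have : (((α : MulAut P) y : P) : Ω) = g * y * g⁻¹ := hge y
        rw [this]
        group
    refine MulEquiv.ext fun y => Subtype.ext ?_
    show ((((α ^ p ^ k : (innerFusionSystem S).autGroup P) : MulAut P) y : P) : Ω) = y
    rw [Subgroup.coe_pow, hit, show g ^ p ^ k = 1 from congrArg Subtype.val hk]
    simp
  have hbot : pResidual p ((innerFusionSystem S).autGroup P) = ⊥ := by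
    rw [eq_bot_iff, pResidual, Subgroup.closure_le]
    intro b hb
    obtain ⟨k, hk⟩ := hpg b
    exact orderOf_eq_one_iff.1 (Nat.eq_one_of_dvd_coprimes ((show (orderOf b).Coprime p from hb).pow_right k)
      dvd_rfl (orderOf_dvd_of_pow_eq_one hk))
  rw [hbot, Subgroup.mem_bot] at ha
  subst ha
  simp

theorem inner_of_hyperfocal_bot (hS : IsPGroup p S) (hF : F.IsSaturated p)
    (h : F.hyperfocalSubgroup p = ⊥) : F = innerFusionSystem S := by
  refine eq_inner_of_autGroup_isPGroup hS hF fun P hP => ?_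
  haveI := finite_of_le (S := S) hP
  refine isPGroup_of_coprime_trivial fun a ha => ?_
  have hmem : a ∈ pResidual p (F.autGroup P) := Subgroup.subset_closure ha
  refine Subtype.ext (MulEquiv.ext fun x => Subtype.ext ?_)
  have := hyperfocal_mem hP hmem x
  rw [h, Subgroup.mem_bot, inv_mul_eq_one] at this
  exact this.symm

omit hp in
theorem exists_minSC {T : Subgroup Ω} (hT : F.StronglyClosed T) (hne : T ≠ ⊥) :
    ∃ M ≤ T, MinSC F M := by
  have hfin : {U : Subgroup Ω | F.StronglyClosed U ∧ U ≠ ⊥ ∧ U ≤ T}.Finite :=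
    (setOf_le_finite (S := S)).subset fun U hU => hU.1.1
  obtain ⟨M, ⟨h1, h2, h3⟩, hmin⟩ :=
    Set.exists_min_image _ (fun U : Subgroup Ω => Nat.card U) hfin ⟨T, hT, hne, le_rfl⟩
  refine ⟨M, h3, h1, h2, fun U hU hle hUne => ?_⟩
  haveI := finite_of_le (S := S) h1.1
  exact Subgroup.eq_of_le_of_card_ge hle (hmin U ⟨hU, hUne, hle.trans h3⟩)

theorem exists_between {A W : Subgroup Ω} [Finite W] (hAW : A ≤ W) {a m w : ℕ} (hA : Nat.card A = p ^ a)
    (hW : Nat.card W = p ^ w) (ham : a ≤ m) (hmw : m ≤ w) :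
    ∃ K : Subgroup Ω, A ≤ K ∧ K ≤ W ∧ Nat.card K = p ^ m := by
  obtain ⟨K, hK, hle⟩ := Sylow.exists_subgroup_card_pow_prime_le (G := W) (p := p) (n := a) (m := m)
    (by rw [hW]; exact pow_dvd_pow p hmw) (A.subgroupOf W)
    ((Nat.card_congr (Subgroup.subgroupOfEquivOfLe hAW).toEquiv).trans hA) ham
  refine ⟨K.map W.subtype, fun x hx => ⟨⟨x, hAW hx⟩, hle hx, rfl⟩, Subgroup.map_subtype_le _, ?_⟩
  rw [Subgroup.card_map_of_injective W.subtype_injective, hK]

theorem card_eq_pow (hS : IsPGroup p S) {T : Subgroup Ω} (hT : T ≤ S) : ∃ k, Nat.card T = p ^ k :=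
  haveI := finite_of_le (S := S) hT
  IsPGroup.iff_card.1 (isPGroup_of_le hS hT)

omit hp [Finite S] in
theorem ne_bot_of_card {T : Subgroup Ω} [Fact p.Prime] {k : ℕ} (h : Nat.card T = p ^ k) (hk : 1 ≤ k) :
    T ≠ ⊥ := by
  rintro rfl
  rw [Subgroup.card_bot] at h
  exact absurd h (Nat.one_lt_pow (by omega) (Fact.out : p.Prime).one_lt).ne

omit hp in
theorem inf_eq_or {T : Subgroup Ω} (hT : F.StronglyClosed T) {M : Subgroup Ω} (hM : MinSC F M) : T ⊓ M = ⊥ ∨ M ≤ T :=
  (em (T ⊓ M = ⊥)).imp_right fun h => (hM.2.2 _ (stronglyClosed_inf hT hM.1) inf_le_right h).ge.trans inf_le_left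

omit hp [Finite S] in
/-- Normal subgroups with trivial intersection commute. -/
theorem comm_of_inf_bot {A B : Subgroup Ω} (hA : F.StronglyClosed A) (hB : F.StronglyClosed B) (h : A ⊓ B = ⊥)
    {a b : Ω} (ha : a ∈ A) (hb : b ∈ B) : a * b = b * a := by
  have h1 : a * b * a⁻¹ ∈ B :=
    (Subgroup.mem_normalizer_iff.1 (stronglyClosed_le_normalizer hB (hA.1 ha)) b).1 hb
  have h2 : b * a⁻¹ * b⁻¹ ∈ A :=
    (Subgroup.mem_normalizer_iff.1 (stronglyClosed_le_normalizer hA (hB.1 hb)) a⁻¹).1 (A.inv_mem ha)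
  have h3 : a * b * a⁻¹ * b⁻¹ ∈ A ⊓ B :=
    ⟨by simpa [mul_assoc] using A.mul_mem ha h2, B.mul_mem h1 (B.inv_mem hb)⟩
  rw [h, Subgroup.mem_bot] at h3
  calc a * b = a * b * a⁻¹ * b⁻¹ * (b * a) := by group
    _ = b * a := by rw [h3, one_mul]

/-- A minimal strongly closed subgroup has order at most `p ^ d`. -/
theorem card_min_le (hS : IsPGroup p S) {d : ℕ} (hd : 1 ≤ d) (hwe : WE F p d) {M : Subgroup Ω} (hM : MinSC F M)
    {k : ℕ} (hk : Nat.card M = p ^ k) : k ≤ d := by
  by_contra hlt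
  haveI := finite_of_le (S := S) hM.1.1
  obtain ⟨Q, -, hQM, hQ⟩ := exists_between (p := p) (A := ⊥) bot_le (a := 0) (by simp) hk (Nat.zero_le d)
    (by omega)
  have hQne := ne_bot_of_card hQ hd
  have hQneM : Q ≠ M := by
    rintro rfl
    exact hlt ((Nat.pow_le_pow_iff_right hp.out.one_lt).1 (hk.symm.trans hQ).le)
  obtain ⟨P, hP, hsup, hinf⟩ := hwe Q (hQM.trans hM.1.1) hQ
  rcases inf_eq_or hP hM with h | h
  · have : (Q ⊔ P) ⊓ M = Q := by
      refine le_antisymm (fun y hy => ?_) (le_inf le_sup_left hQM)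
      obtain ⟨q, hq, t, ht, rfl⟩ := exists_mul_of_mem_sup hP (hQM.trans hM.1.1) hy.1
      have : t ∈ P ⊓ M := ⟨ht, by simpa using M.mul_mem (M.inv_mem (hQM hq)) hy.2⟩
      rw [h, Subgroup.mem_bot] at this
      rwa [this, mul_one]
    exact hQneM (hM.2.2 Q (this ▸ stronglyClosed_inf hsup hM.1) hQM hQne)
  · rw [inf_eq_left.2 (hQM.trans h)] at hinf
    exact hQneM (hM.2.2 Q hinf hQM hQne)

/-- An extension stabilising a fully normalized subgroup of order `p ^ d` is a conjugation. -/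
theorem conj_of_ni {d : ℕ} (hni : NI F p d) {H A : Subgroup Ω} (hH : F.IsFullyNormalized H)
    (hc : Nat.card H = p ^ d) (hHA : H ≤ A) (hA : A ≤ normalizerIn S H) {ψ : A →* Ω} (hψ : ψ ∈ F.Hom A)
    (h : ∀ y : H, ψ (Subgroup.inclusion hHA y) ∈ H) :
    ∃ s ∈ normalizerIn S H, ∀ x : A, ψ x = s * (x : Ω) * s⁻¹ := by
  refine hni H hH hc A ψ ⟨hψ, hA, apply_mem_normalizerIn hH.1 hHA hA hψ h,
    ψ.comp (Subgroup.inclusion (sup_le le_rfl hHA)), restrict_mem F hψ _, fun x => rfl, ?_⟩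
  ext z
  rw [mem_map_subgroupOf]
  constructor
  · rintro ⟨x, hxA, hx, rfl⟩
    exact h ⟨x, hx⟩
  · intro hz
    obtain ⟨y, hy⟩ := mem_of_finite_image hH.1 hHA hψ h hz
    exact ⟨y, Subgroup.mem_sup_right y.2, y.2, hy⟩

theorem fullyNormalized_of_normal {H : Subgroup Ω} (hH : H ≤ S)
    (hn : S ≤ Subgroup.normalizer (H : Set Ω)) : F.IsFullyNormalized H := by
  refine ⟨hH, fun Q _ => ?_⟩
  haveI := finite_of_le (normalizerIn_le S H)
  exact Subgroup.card_le_of_le ((normalizerIn_le S Q).trans (le_inf le_rfl hn))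

/-- A strongly closed subgroup meets the centre. -/
theorem exists_central_mem (hS : IsPGroup p S) {T : Subgroup Ω} (hT : F.StronglyClosed T) (hne : T ≠ ⊥) :
    ∃ z ∈ T, z ≠ 1 ∧ ∀ s ∈ S, s * z = z * s := by
  haveI : (T.subgroupOf S).Normal :=
    (Subgroup.normal_subgroupOf_iff_le_normalizer hT.1).2 (stronglyClosed_le_normalizer hT)
  haveI := hS.isNilpotent
  obtain ⟨x, hxT, hx1, hx⟩ := Nilp.exists_mem_commutator_le (A := ⊥) (C := T.subgroupOf S) fun h =>
    hne (eq_bot_iff.2 fun y hy => Subgroup.mem_bot.2 (congrArg Subtype.val (Subgroup.mem_bot.1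
      (h (show (⟨y, hT.1 hy⟩ : S) ∈ T.subgroupOf S from hy)))))
  refine ⟨x, hxT, fun h => hx1 (Subgroup.mem_bot.2 (Subtype.ext h)), fun s hs => ?_⟩
  exact congrArg Subtype.val
    (commutatorElement_eq_one_iff_mul_comm.1 (Subgroup.mem_bot.1 (hx ⟨s, hs⟩))).symm

section factor

variable {M : Subgroup Ω} [hN : (M.subgroupOf S).Normal]

local notation "θ" => QuotientGroup.mk' (M.subgroupOf S)

theorem mem_pre {V : Subgroup (S ⧸ M.subgroupOf S)} {x : Ω} :
    x ∈ preimageAlong θ V ↔ ∃ hx : x ∈ S, θ ⟨x, hx⟩ ∈ V := mem_preimageAlong θ V x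

theorem pre_le (V : Subgroup (S ⧸ M.subgroupOf S)) : preimageAlong θ V ≤ S := Subgroup.map_subtype_le _

theorem le_pre (hM : M ≤ S) (V : Subgroup (S ⧸ M.subgroupOf S)) : M ≤ preimageAlong θ V := fun x hx =>
  mem_pre.2 ⟨hM hx, by
    rw [show θ ⟨x, hM hx⟩ = 1 from (QuotientGroup.eq_one_iff _).2 hx]
    exact V.one_mem⟩

theorem card_pre (hM : M ≤ S) (V : Subgroup (S ⧸ M.subgroupOf S)) :
    Nat.card (preimageAlong θ V) = Nat.card V * Nat.card M := by
  have h1 : Nat.card (preimageAlong θ V) = Nat.card (V.comap θ) :=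
    Subgroup.card_map_of_injective S.subtype_injective
  have h2 := (V.comap θ).card_mul_index
  have h3 := V.card_mul_index
  have h4 := Subgroup.card_eq_card_quotient_mul_card_subgroup (M.subgroupOf S)
  have h5 : Nat.card (M.subgroupOf S) = Nat.card M := Nat.card_congr (Subgroup.subgroupOfEquivOfLe hM).toEquiv
  rw [Subgroup.index_comap_of_surjective V (QuotientGroup.mk'_surjective _)] at h2
  rw [← h3, h5] at h4
  rw [h1]
  refine Nat.eq_of_mul_eq_mul_right (Nat.pos_of_ne_zero V.index_ne_zero_of_finite) ?_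
  rw [h2, h4]
  ring

theorem pre_normalizerIn (V : Subgroup (S ⧸ M.subgroupOf S)) :
    preimageAlong θ (normalizerIn ⊤ V) = normalizerIn S (preimageAlong θ V) := by
  ext x
  rw [mem_pre]
  constructor
  · rintro ⟨hx, -, hn⟩
    refine ⟨hx, Subgroup.mem_normalizer_iff.2 fun k => ?_⟩
    simp only [SetLike.mem_coe, mem_pre]
    constructor
    · rintro ⟨hk, hkV⟩
      refine ⟨S.mul_mem (S.mul_mem hx hk) (S.inv_mem hx), ?_⟩
      exact (Subgroup.mem_normalizer_iff.1 hn _).1 hkV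
    · rintro ⟨hk, hkV⟩
      have hkS : k ∈ S := by simpa [mul_assoc] using S.mul_mem (S.mul_mem (S.inv_mem hx) hk) hx
      exact ⟨hkS, (Subgroup.mem_normalizer_iff.1 hn _).2 hkV⟩
  · rintro ⟨hx, hn⟩
    refine ⟨hx, Subgroup.mem_top _, Subgroup.mem_normalizer_iff.2 fun v => ?_⟩
    obtain ⟨⟨k, hk⟩, rfl⟩ := QuotientGroup.mk'_surjective _ v
    have := Subgroup.mem_normalizer_iff.1 hn k
    simp only [SetLike.mem_coe, mem_pre] at this
    constructor
    · intro h
      obtain ⟨_, h'⟩ := this.1 ⟨hk, h⟩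
      exact h'
    · intro h
      obtain ⟨_, h'⟩ := this.2 ⟨S.mul_mem (S.mul_mem hx hk) (S.inv_mem hx), h⟩
      exact h'

/-- The hypotheses pass to the factor system. -/
theorem factor_hyps (hS : IsPGroup p S) (hF : F.IsSaturated p) (hMc : F.StronglyClosed M) {d k : ℕ}
    (hk : Nat.card M = p ^ k) (hkd : k ≤ d) {E : FusionSystem (⊤ : Subgroup (S ⧸ M.subgroupOf S))}
    (hE : F.IsFactorSystem M θ E) (hwe : WE F p d) (hni : NI F p d) : WE E p (d - k) ∧ NI E p (d - k) := by
  have hcard : ∀ V : Subgroup (S ⧸ M.subgroupOf S), Nat.card V = p ^ (d - k) →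
      Nat.card (preimageAlong θ V) = p ^ d := fun V hV => by
    rw [card_pre hMc.1, hV, hk, ← pow_add, Nat.sub_add_cancel hkd]
  constructor
  · intro V _ hV
    set Q := preimageAlong θ V with hQ
    obtain ⟨P, hP, hsup, hinf⟩ := hwe Q (pre_le V) (hcard V hV)
    have hPM := stronglyClosed_sup hS hF hP hMc
    have hQV : imageAlong θ Q = V := by
      ext v
      rw [mem_imageAlong]
      constructor
      · rintro ⟨x, hx, hxQ, rfl⟩
        exact (mem_pre.1 hxQ).2
      · intro hv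
        obtain ⟨⟨x, hx⟩, rfl⟩ := QuotientGroup.mk'_surjective _ v
        exact ⟨x, hx, mem_pre.2 ⟨hx, hv⟩, rfl⟩
    refine ⟨imageAlong θ (P ⊔ M), stronglyClosed_image hE hPM le_sup_right, ?_, ?_⟩
    · have hU : F.StronglyClosed (Q ⊔ (P ⊔ M)) := by
        rw [← sup_assoc]; exact stronglyClosed_sup hS hF hsup hMc
      have := stronglyClosed_image hE hU (le_sup_right.trans le_sup_right)
      rwa [imageAlong, Subgroup.subgroupOf_sup (pre_le V) hPM.1, Subgroup.map_sup, ← imageAlong, ← imageAlong,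
        hQV] at this
    · have hI : F.StronglyClosed (Q ⊓ (P ⊔ M)) := by
        have e : Q ⊓ (P ⊔ M) = Q ⊓ P ⊔ M := by
          refine le_antisymm (fun x hx => ?_)
            (sup_le (le_inf inf_le_left (inf_le_right.trans le_sup_left)) (le_inf (le_pre hMc.1 V) le_sup_right))
          obtain ⟨q, hq, t, ht, rfl⟩ := exists_mul_of_mem_sup hMc hP.1 hx.2
          refine Subgroup.mul_mem _ (Subgroup.mem_sup_left ⟨?_, hq⟩) (Subgroup.mem_sup_right ht)
          simpa using Q.mul_mem hx.1 (Q.inv_mem (le_pre hMc.1 V ht))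
        rw [e]; exact stronglyClosed_sup hS hF hinf hMc
      have := stronglyClosed_image hE hI (le_inf (le_pre hMc.1 V) le_sup_right)
      convert this using 1
      ext v
      simp only [Subgroup.mem_inf, mem_imageAlong]
      constructor
      · rintro ⟨hv, x, hx, hxP, rfl⟩
        exact ⟨x, hx, ⟨mem_pre.2 ⟨hx, hv⟩, hxP⟩, rfl⟩
      · rintro ⟨x, hx, ⟨hxQ, hxP⟩, rfl⟩
        exact ⟨(mem_pre.1 hxQ).2, x, hx, hxP, rfl⟩
  · intro V hV hVc P' φ' hφ'
    obtain ⟨-, hP', -, ψ', hψ', hext, hmap⟩ := hφ'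
    set H := preimageAlong θ V with hH
    have hHc := hcard V hVc
    haveI := finite_of_le (S := S) (pre_le V)
    have hfn : F.IsFullyNormalized H := by
      refine ⟨pre_le V, fun K hK => ?_⟩
      obtain ⟨φ, hφ, rfl⟩ := isConj_symm hK |> fun h => isConj_symm h
      have hMK : M ≤ φ.range := fun y hy => by
        obtain ⟨x, hx, e⟩ := exists_preimage_stronglyClosed hMc hφ (le_pre hMc.1 V) hy
        exact ⟨_, e⟩
      obtain ⟨φ₁, hφ₁, hind⟩ := exists_induced hS hF hMc hE hφ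
      have hKe : φ.range = preimageAlong θ φ₁.range := by
        obtain ⟨hHS, hφS, hm, he⟩ := hind
        refine le_antisymm ?_ ?_
        · rintro _ ⟨x, rfl⟩
          exact mem_pre.2 ⟨hφS x, _, he x⟩
        · intro z hz
          obtain ⟨hzS, ⟨v, hv⟩, hve⟩ := mem_pre.1 hz
          obtain ⟨x, hxS, hxH, hxe⟩ := mem_imageAlong.1 hv
          have hve' : (QuotientGroup.mk' (M.subgroupOf S)) ⟨φ ⟨x, hxH⟩, hφS _⟩ =
              (QuotientGroup.mk' (M.subgroupOf S)) ⟨z, hzS⟩ := by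
            rw [← hve, ← he ⟨x, hxH⟩]; exact congrArg φ₁ (Subtype.ext hxe)
          have hd : (φ ⟨x, hxH⟩)⁻¹ * z ∈ M := by
            have := (QuotientGroup.eq_one_iff _).1 (show θ (⟨_, hφS ⟨x, hxH⟩⟩⁻¹ * ⟨z, hzS⟩) = 1 by
              rw [map_mul, map_inv, hve', inv_mul_cancel])
            exact this
          simpa using φ.range.mul_mem ⟨⟨x, hxH⟩, rfl⟩ (hMK hd)
      have hV' : imageAlong θ H = V := by
        ext v
        rw [mem_imageAlong]
        constructor
        · rintro ⟨x, hx, hxQ, rfl⟩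
          exact (mem_pre.1 hxQ).2
        · intro hv
          obtain ⟨⟨x, hx⟩, rfl⟩ := QuotientGroup.mk'_surjective _ v
          exact ⟨x, hx, mem_pre.2 ⟨hx, hv⟩, rfl⟩
      have hle := hV.2 φ₁.range (hV' ▸ ⟨φ₁, hφ₁, rfl⟩)
      rw [hKe, ← pre_normalizerIn, ← pre_normalizerIn, card_pre hMc.1, card_pre hMc.1]
      exact Nat.mul_le_mul_right _ hle
    obtain ⟨-, ψ, hψ, hAS, hψS, hm, he⟩ := (hE.2.2.2 _ ψ').1 hψ'
    set A := preimageAlong θ (P' ⊔ V) with hA
    have hHA : H ≤ A := fun x hx => mem_pre.2 ⟨(mem_pre.1 hx).1, Subgroup.mem_sup_right (mem_pre.1 hx).2⟩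
    have hAN : A ≤ normalizerIn S H := by
      rw [← pre_normalizerIn]
      intro x hx
      exact mem_pre.2 ⟨(mem_pre.1 hx).1,
        (sup_le hP' (le_inf le_top Subgroup.le_normalizer) : P' ⊔ V ≤ normalizerIn ⊤ V) (mem_pre.1 hx).2⟩
    obtain ⟨s, hs, hse⟩ := conj_of_ni hni hfn hHc hHA hAN hψ fun y => by
      refine mem_pre.2 ⟨hψS _, ?_⟩
      rw [← he (Subgroup.inclusion hHA y)]
      exact hmap.le (Subgroup.mem_map_of_mem ψ' (Subgroup.mem_subgroupOf.2 (mem_pre.1 y.2).2))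
    rw [← pre_normalizerIn] at hs
    obtain ⟨hsS, hsV⟩ := mem_pre.1 hs
    refine ⟨θ ⟨s, hsS⟩, hsV, ?_⟩
    rintro ⟨v, hv⟩
    obtain ⟨⟨x, hx⟩, rfl⟩ := QuotientGroup.mk'_surjective _ v
    have hxA : x ∈ A := mem_pre.2 ⟨hx, Subgroup.mem_sup_left hv⟩
    rw [← hext]
    refine (he ⟨x, hxA⟩).trans ?_
    rw [← map_inv, ← map_mul, ← map_mul]
    exact congrArg θ (Subtype.ext (hse ⟨x, hxA⟩))

end factor

/-- Every minimal subgroup has order `p ^ d`: one of them is abelian. -/
theorem exists_abelian_min (hS : IsPGroup p S) {d n : ℕ} (hd : 1 ≤ d) (hdn : d < n)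
    (hn : Nat.card S = p ^ n) (hwe : WE F p d) (hall : ∀ M, MinSC F M → Nat.card M = p ^ d) {M : Subgroup Ω}
    (hM : MinSC F M) : ∃ N, MinSC F N ∧ ∀ x ∈ N, ∀ y ∈ N, x * y = y * x := by
  refine ⟨M, hM, ?_⟩
  haveI := finite_of_le (S := S) hM.1.1
  have hMc := hall M hM
  rcases Nat.lt_or_ge d 2 with hd1 | hd2
  · obtain rfl : d = 1 := by omega
    haveI : IsCyclic M := isCyclic_of_prime_card (hMc.trans (pow_one p))
    letI := IsCyclic.commGroup (α := M)
    exact fun x hx y hy => congrArg Subtype.val (mul_comm (⟨x, hx⟩ : M) ⟨y, hy⟩)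
  by_cases hu : ∀ M' : Subgroup Ω, MinSC F M' → M' = M
  · have hbelow : ∀ T : Subgroup Ω, F.StronglyClosed T → T ≠ ⊥ → M ≤ T := fun T hT hne => by
      obtain ⟨M', hle, hM'⟩ := exists_minSC hT hne
      exact hu M' hM' ▸ hle
    obtain ⟨K, hMK, hKS, hK⟩ := exists_between (p := p) hM.1.1 hMc hn (Nat.le_succ d) hdn
    haveI := finite_of_le (S := S) hKS
    have huniq : ∀ L ≤ K, Nat.card L = p ^ d → L = M := by
      intro L hLK hL
      haveI := finite_of_le (S := S) (hLK.trans hKS)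
      have hinf : L ⊓ M ≠ ⊥ := by
        intro h
        have hinj : Function.Injective fun a : L × M => (⟨a.1 * a.2, K.mul_mem (hLK a.1.2) (hMK a.2.2)⟩ : K) := by
          rintro ⟨⟨a, ha⟩, ⟨b, hb⟩⟩ ⟨⟨a', ha'⟩, ⟨b', hb'⟩⟩ e
          have e' : a * b = a' * b' := congrArg Subtype.val e
          have hm : a'⁻¹ * a ∈ L ⊓ M := ⟨L.mul_mem (L.inv_mem ha') ha, by
            rw [show a'⁻¹ * a = b' * b⁻¹ by
              rw [eq_mul_inv_iff_mul_eq, mul_assoc, e', inv_mul_cancel_left]]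
            exact M.mul_mem hb' (M.inv_mem hb)⟩
          rw [h, Subgroup.mem_bot, inv_mul_eq_one] at hm
          subst hm
          have := mul_left_cancel e'
          subst this
          rfl
        have := Nat.card_le_card_of_injective _ hinj
        rw [Nat.card_prod, hL, hMc, hK, ← pow_add, Nat.pow_le_pow_iff_right hp.out.one_lt] at this
        omega
      obtain ⟨P, hP, hsup, hinf'⟩ := hwe L (hLK.trans hKS) hL
      suffices M ≤ L from (Subgroup.eq_of_le_of_card_ge this (hL.trans hMc.symm).le).symm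
      by_cases hP0 : P = ⊥
      · subst hP0
        rw [sup_bot_eq] at hsup
        exact hbelow L hsup (ne_bot_of_card hL hd)
      · have hMP := hbelow P hP hP0
        have : L ⊓ P ≠ ⊥ := fun h => hinf (le_bot_iff.1 ((inf_le_inf_left L hMP).trans h.le))
        exact (hbelow _ hinf' this).trans inf_le_left
    obtain ⟨x, hxK, hxM⟩ : ∃ x ∈ K, x ∉ M := by
      by_contra h
      push Not at h
      have h1 := Subgroup.card_le_of_le (show K ≤ M from h)
      rw [hK, hMc, Nat.pow_le_pow_iff_right hp.out.one_lt] at h1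
      omega
    have hgen : K = Subgroup.zpowers x := by
      by_contra hne
      have hle : Subgroup.zpowers x ≤ K := Subgroup.zpowers_le.2 hxK
      obtain ⟨a, ha⟩ := card_eq_pow hS (hle.trans hKS)
      have had : a ≤ d := by
        by_contra hlt
        refine hne (Subgroup.eq_of_le_of_card_ge hle ?_).symm
        rw [ha, hK]
        exact Nat.pow_le_pow_right hp.out.pos (by omega)
      obtain ⟨L, hxL, hLK, hL⟩ := exists_between (p := p) hle ha hK had (Nat.le_succ d)
      exact hxM (huniq L hLK hL ▸ hxL (Subgroup.mem_zpowers x))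
    intro a ha b hb
    obtain ⟨i, rfl⟩ := Subgroup.mem_zpowers_iff.1 (hgen ▸ hMK ha)
    obtain ⟨j, rfl⟩ := Subgroup.mem_zpowers_iff.1 (hgen ▸ hMK hb)
    exact zpow_mul_comm x i j
  push Not at hu
  obtain ⟨M', hM', hne⟩ := hu
  haveI := finite_of_le (S := S) hM'.1.1
  have hM'c := hall M' hM'
  have hMM' : M ⊓ M' = ⊥ := by
    rcases inf_eq_or hM.1 hM' with h | h
    · exact h
    · exact absurd (hM.2.2 M' hM'.1 h hM'.2.1) hne
  have hcomm : ∀ a ∈ M, ∀ b ∈ M', a * b = b * a := fun a ha b hb => comm_of_inf_bot hM.1 hM'.1 hMM' ha hb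
  obtain ⟨Y, -, hYM, hY⟩ := exists_between (p := p) (A := ⊥) bot_le (a := 0) (by simp) hMc (Nat.zero_le (d - 1))
    (Nat.sub_le d 1)
  obtain ⟨Z, -, hZM, hZ⟩ := exists_between (p := p) (A := ⊥) bot_le (a := 0) (by simp) hM'c (Nat.zero_le 1) hd
  let f : Y × Z →* Ω := MonoidHom.noncommCoprod Y.subtype Z.subtype fun a b => hcomm a (hYM a.2) b (hZM b.2)
  have hfinj : Function.Injective f := by
    rw [injective_iff_map_eq_one]
    rintro ⟨⟨a, ha⟩, ⟨b, hb⟩⟩ h
    have h' : a * b = 1 := h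
    have : a ∈ M ⊓ M' := ⟨hYM ha, by rw [eq_inv_of_mul_eq_one_left h']; exact M'.inv_mem (hZM hb)⟩
    rw [hMM', Subgroup.mem_bot] at this
    subst this
    rw [one_mul] at h'
    subst h'
    rfl
  set Q := f.range with hQdef
  have hQc : Nat.card Q = p ^ d := by
    rw [← Nat.card_congr (MonoidHom.ofInjective hfinj).toEquiv, Nat.card_prod, hY, hZ, ← pow_add,
      Nat.sub_add_cancel hd]
  have hQ : Q ≤ M ⊔ M' := by
    rintro _ ⟨⟨a, b⟩, rfl⟩
    exact Subgroup.mul_mem _ (Subgroup.mem_sup_left (hYM a.2)) (Subgroup.mem_sup_right (hZM b.2))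
  have hQS : Q ≤ S := hQ.trans (sup_le hM.1.1 hM'.1.1)
  have hYQ : Y ≤ Q := fun a ha => ⟨(⟨a, ha⟩, 1), show a * 1 = a from mul_one a⟩
  have hZQ : Z ≤ Q := fun b hb => ⟨(1, ⟨b, hb⟩), show 1 * b = b from one_mul b⟩
  have hQM : Q ⊓ M ≤ Y := by
    rintro _ ⟨⟨⟨a, b⟩, rfl⟩, hm⟩
    change (a : Ω) * b ∈ M at hm
    have hb : (b : Ω) ∈ M ⊓ M' := ⟨by simpa using M.mul_mem (M.inv_mem (hYM a.2)) hm, hZM b.2⟩
    rw [hMM', Subgroup.mem_bot] at hb
    show (a : Ω) * b ∈ Y
    rw [hb, mul_one]; exact a.2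
  have hQM' : Q ⊓ M' ≤ Z := by
    rintro _ ⟨⟨⟨a, b⟩, rfl⟩, hm⟩
    change (a : Ω) * b ∈ M' at hm
    have ha : (a : Ω) ∈ M ⊓ M' := ⟨hYM a.2, by simpa using M'.mul_mem hm (M'.inv_mem (hZM b.2))⟩
    rw [hMM', Subgroup.mem_bot] at ha
    show (a : Ω) * b ∈ Z
    rw [ha, one_mul]; exact b.2
  obtain ⟨P, hP, hsup, hinf⟩ := hwe Q hQS hQc
  have hsmall : ∀ (N X : Subgroup Ω) (i : ℕ), MinSC F N → Nat.card X = p ^ i → 1 ≤ i → i < d → X ≤ N →
      X ≤ Q → Q ⊓ N ≤ X → P ⊓ N = ⊥ ∧ N ≤ Q ⊔ P := by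
    intro N X i hN hX hi hid hXN hXQ hQN
    have hXne := ne_bot_of_card hX hi
    constructor
    · rcases inf_eq_or hP hN with h | h
      · exact h
      exfalso
      have e : Q ⊓ P ⊓ N = X :=
        le_antisymm ((inf_le_inf_right N inf_le_left).trans hQN) (le_inf (le_inf hXQ (hXN.trans h)) hXN)
      have := hN.2.2 X (e ▸ stronglyClosed_inf hinf hN.1) hXN hXne
      rw [this, hall N hN] at hX
      exact absurd (Nat.pow_right_injective hp.out.two_le hX) (by omega)
    · rcases inf_eq_or hsup hN with h | h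
      · exact absurd (le_bot_iff.1 ((le_inf (hXQ.trans le_sup_left) hXN).trans h.le)) hXne
      · exact h
  obtain ⟨hPM, hMQP⟩ := hsmall M Y (d - 1) hM hY (by omega) (by omega) hYM hYQ hQM
  obtain ⟨hPM', hM'QP⟩ := hsmall M' Z 1 hM' hZ le_rfl hd2 hZM hZQ hQM'
  set R := P ⊓ (M ⊔ M') with hR
  haveI := finite_of_le (S := S) (sup_le hM.1.1 hM'.1.1)
  haveI := finite_of_le (S := S) hQS
  haveI := finite_of_le (S := S) ((inf_le_left : R ≤ P).trans hP.1)
  have h1 : Nat.card ↥(M ⊔ M') ≤ Nat.card Q * Nat.card R := by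
    rw [← Nat.card_prod]
    refine Nat.card_le_card_of_surjective
      (fun a : Q × R => (⟨a.1 * a.2, Subgroup.mul_mem _ (hQ a.1.2) (inf_le_right (a := P) a.2.2)⟩ : ↥(M ⊔ M')))
      fun z => ?_
    obtain ⟨q, hq, t, ht, e⟩ := exists_mul_of_mem_sup hP hQS (sup_le hMQP hM'QP z.2)
    have htm : t ∈ M ⊔ M' := by
      have := Subgroup.mul_mem _ (Subgroup.inv_mem _ (hQ hq)) z.2
      rwa [e, inv_mul_cancel_left] at this
    exact ⟨(⟨q, hq⟩, ⟨t, ht, htm⟩), Subtype.ext e.symm⟩
  let g : R × M' → ↥(M ⊔ M') := fun a => ⟨a.1 * a.2, Subgroup.mul_mem _ (inf_le_right (a := P) a.1.2)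
    (Subgroup.mem_sup_right a.2.2)⟩
  have hginj : Function.Injective g := by
    rintro ⟨⟨a, ha⟩, ⟨b, hb⟩⟩ ⟨⟨a', ha'⟩, ⟨b', hb'⟩⟩ e
    have e' : a * b = a' * b' := congrArg Subtype.val e
    have hm : a'⁻¹ * a ∈ P ⊓ M' := ⟨P.mul_mem (P.inv_mem ha'.1) ha.1, by
      rw [show a'⁻¹ * a = b' * b⁻¹ by rw [eq_mul_inv_iff_mul_eq, mul_assoc, e', inv_mul_cancel_left]]
      exact M'.mul_mem hb' (M'.inv_mem hb)⟩
    rw [hPM', Subgroup.mem_bot, inv_mul_eq_one] at hm
    subst hm
    have := mul_left_cancel e'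
    subst this
    rfl
  have hgbij := hginj.bijective_of_nat_card_le (by
    rw [Nat.card_prod, hM'c]
    calc Nat.card ↥(M ⊔ M') ≤ Nat.card Q * Nat.card R := h1
      _ = Nat.card R * p ^ d := by rw [hQc, mul_comm])
  intro x hx y hy
  obtain ⟨⟨r, b⟩, hrb⟩ := hgbij.2 ⟨x, Subgroup.mem_sup_left hx⟩
  have e : (r : Ω) * b = x := congrArg Subtype.val hrb
  rw [← e]
  calc (r : Ω) * b * y = r * (y * b) := by rw [mul_assoc, (hcomm y hy b b.2).symm]
    _ = y * (r * b) := by rw [← mul_assoc, comm_of_inf_bot hP hM.1 hPM r.2.1 hy, mul_assoc]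

/-- All minimal strongly closed subgroups of order `p ^ d`. -/
theorem hyperfocal_bot_of_all (hS : IsPGroup p S) (hF : F.IsSaturated p) {d n : ℕ} (hd : 1 ≤ d) (hdn : d < n)
    (hn : Nat.card S = p ^ n) (hwe : WE F p d) (hni : NI F p d)
    (hall : ∀ M, MinSC F M → Nat.card M = p ^ d) {M₀ : Subgroup Ω} (hM₀ : MinSC F M₀) :
    F.hyperfocalSubgroup p = ⊥ := by
  obtain ⟨M, hM, hab⟩ := exists_abelian_min hS hd hdn hn hwe hall hM₀
  have hnor := isNormal_of_abelian hS hF hM.1 hab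
  refine hyperfocal_bot_of_inner hS ((inner_iff F).2 fun P φ hφ => ?_)
  obtain ⟨ψ, hψ, hext, -⟩ := isNormal_extend hnor hφ
  have hnS := stronglyClosed_le_normalizer hM.1
  obtain ⟨s, hs, hse⟩ := conj_of_ni hni (fullyNormalized_of_normal hM.1.1 hnS) (hall M hM)
    le_sup_right ((hom_le F hψ).trans (le_inf le_rfl hnS)) hψ
    fun y => stronglyClosed_apply_mem hM.1 hψ _ y.2
  exact ⟨s, hs.1, fun x => by rw [← hext x x.2 (Subgroup.mem_sup_left x.2)]; exact hse _⟩

/-- A minimal subgroup of order `p` with inner factor system. -/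
theorem hyperfocal_bot_of_prime (hS : IsPGroup p S) (hF : F.IsSaturated p) {d n : ℕ} (hd : 1 < d) (hdn : d < n)
    (hn : Nat.card S = p ^ n) (hni : NI F p d) {M : Subgroup Ω} (hM : MinSC F M)
    (hk : Nat.card M = p) [(M.subgroupOf S).Normal] {E : FusionSystem (⊤ : Subgroup (S ⧸ M.subgroupOf S))}
    (hE : F.IsFactorSystem M (QuotientGroup.mk' (M.subgroupOf S)) E)
    (hEi : E = innerFusionSystem ⊤) : F.hyperfocalSubgroup p = ⊥ := by
  set θ := QuotientGroup.mk' (M.subgroupOf S) with hθ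
  haveI := finite_of_le (S := S) hM.1.1
  have hMS := hM.1.1
  haveI : IsCyclic M := isCyclic_of_prime_card hk
  letI := IsCyclic.commGroup (α := M)
  have hnor := isNormal_of_abelian hS hF hM.1 fun x hx y hy =>
    congrArg Subtype.val (mul_comm (⟨x, hx⟩ : M) ⟨y, hy⟩)
  have hcen : S ≤ centralizerIn S M := by
    obtain ⟨z, hzM, hz1, hz⟩ := exists_central_mem hS hM.1 hM.2.1
    have hgen : Subgroup.zpowers z = M := by
      refine Subgroup.eq_of_le_of_card_ge (Subgroup.zpowers_le.2 hzM) ?_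
      rw [hk, Nat.card_zpowers]
      have hd' : orderOf z ∣ p := by
        rw [← Nat.card_zpowers, ← hk]; exact Subgroup.card_dvd_of_le (Subgroup.zpowers_le.2 hzM)
      rcases (Nat.dvd_prime hp.out).1 hd' with h | h
      · exact absurd (orderOf_eq_one_iff.1 h) hz1
      · exact h.ge
    refine fun s hs => ⟨hs, Subgroup.mem_centralizer_iff.2 fun m hm => ?_⟩
    obtain ⟨i, rfl⟩ := Subgroup.mem_zpowers_iff.1 (hgen.ge hm)
    exact ((Commute.zpow_right (hz s hs) i).eq).symm
  obtain ⟨B, hB, -, hBc⟩ := OmegaCen.exists_normal_card (hS.to_quotient (M.subgroupOf S))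
    (⊤ : Subgroup (S ⧸ M.subgroupOf S)) (k := d - 1) (by
      rw [Subgroup.card_top]
      have h4 := Subgroup.card_eq_card_quotient_mul_card_subgroup (M.subgroupOf S)
      rw [Nat.card_congr (Subgroup.subgroupOfEquivOfLe hMS).toEquiv, hk, hn] at h4
      refine Nat.le_of_mul_le_mul_right ?_ hp.out.pos
      rw [← h4, ← pow_succ]
      exact Nat.pow_le_pow_right hp.out.pos (by omega))
  set Q := preimageAlong θ B with hQ
  have hQc : Nat.card Q = p ^ d := by
    rw [card_pre hMS, hBc, hk, ← pow_succ, Nat.sub_add_cancel (by omega)]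
  have hQn : S ≤ Subgroup.normalizer (Q : Set Ω) := fun s hs => by
    refine (show s ∈ normalizerIn S Q from ?_).2
    rw [← pre_normalizerIn]
    refine mem_pre.2 ⟨hs, Subgroup.mem_top _, ?_⟩
    rw [Subgroup.normalizer_eq_top (H := B)]
    exact Subgroup.mem_top _
  refine hyperfocal_bot_of_inner hS (inner_of_factor_inner hS hF hnor ?_ hE fun P => by rw [hEi])
  intro α
  refine ⟨0, ?_⟩
  rw [pow_zero, pow_one]
  obtain ⟨α, hα⟩ := α
  refine Subtype.ext ?_
  have hr : (M.subtype.comp α.toMonoidHom).range = M := by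
    rw [MonoidHom.range_comp, MonoidHom.range_eq_top.2 α.surjective, ← MonoidHom.range_eq_map, M.range_subtype]
  obtain ⟨ψ₀, hψ₀, hψe⟩ := (fullyNormalized_receptive hS hF
    (fullyNormalized_of_normal hMS (stronglyClosed_le_normalizer hM.1))).2 M _ ((mem_autGroup_iff F hMS α).1 hα) hr
  have hle : S ≤ extender S M (M.subtype.comp α.toMonoidHom) := hcen.trans (centralizerIn_le_extender _)
  set ψ := ψ₀.comp (Subgroup.inclusion hle) with hψdef
  have hψ : ψ ∈ F.Hom S := restrict_mem F hψ₀ hle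
  obtain ⟨ψ', hψ', hSS, hψS, hm, he⟩ := exists_induced hS hF hM.1 hE hψ
  rw [hEi] at hψ'
  obtain ⟨-, g', -, hge⟩ := hψ'
  obtain ⟨g, rfl⟩ := QuotientGroup.mk'_surjective (M.subgroupOf S) g'
  obtain ⟨t, ht, hte⟩ := conj_of_ni hni (fullyNormalized_of_normal (pre_le B) hQn) hQc (pre_le B)
    (le_inf le_rfl hQn) hψ fun y => by
      refine mem_pre.2 ⟨hψS _, ?_⟩
      rw [← he, hge]
      exact hB.conj_mem _ (mem_pre.1 y.2).2 _
  refine MulEquiv.ext fun x => Subtype.ext ?_
  have h1 : ψ ⟨x, hMS x.2⟩ = (α x : M) := hψe x x.2 _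
  have h2 := hte ⟨x, hMS x.2⟩
  rw [h1] at h2
  rw [h2]
  have := Subgroup.mem_centralizer_iff.1 (hcen ht.1).2 x x.2
  show t * (x : Ω) * t⁻¹ = x
  rw [← this, mul_inv_cancel_right]

/-- A small minimal subgroup that is the hyperfocal subgroup. -/
theorem not_hyperfocal_min (hS : IsPGroup p S) (hF : F.IsSaturated p) {d k n : ℕ} (hk2 : 2 ≤ k) (hkd : k < d)
    (hdn : d < n) (hn : Nat.card S = p ^ n) (hwe : WE F p d) {M : Subgroup Ω} (hM : MinSC F M)
    (hk : Nat.card M = p ^ k) (hhyp : F.hyperfocalSubgroup p = M)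
    (hsmall : ∀ (M' : Subgroup Ω) (j : ℕ), MinSC F M' → Nat.card M' = p ^ j → j < d → M' = M) : False := by
  haveI := finite_of_le (S := S) hM.1.1
  have hbelow : ∀ T : Subgroup Ω, F.StronglyClosed T → T ≠ ⊥ → M ≤ T := by
    intro T hT hne
    obtain ⟨M', hle, hM'⟩ := exists_minSC hT hne
    suffices M' = M from this ▸ hle
    obtain ⟨j, hj⟩ := card_eq_pow hS hM'.1.1
    rcases lt_or_eq_of_le (card_min_le hS (by omega) hwe hM' hj) with h | rfl
    · exact hsmall M' j hM' hj h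
    by_contra hMne
    haveI := finite_of_le (S := S) hM'.1.1
    obtain ⟨z, hzM, hz1, hzc⟩ := exists_central_mem hS hM'.1 hM'.2.1
    have hzS : z ∈ S := hM'.1.1 hzM
    obtain ⟨a, ha⟩ := card_eq_pow hS (T := Subgroup.zpowers (z : Ω)) (Subgroup.zpowers_le.2 hzS)
    have ha1 : 1 ≤ a := by
      by_contra h
      rw [show a = 0 by omega, pow_zero, Subgroup.card_eq_one, Subgroup.zpowers_eq_bot] at ha
      exact hz1 ha
    haveI := finite_of_le (S := S) (Subgroup.zpowers_le.2 hzS)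
    obtain ⟨Z, -, hZz, hZ⟩ := exists_between (p := p) (A := ⊥) bot_le (a := 0) (by simp) ha (Nat.zero_le 1) ha1
    have hZM' : Z ≤ M' := hZz.trans (Subgroup.zpowers_le.2 hzM)
    have hZc : F.StronglyClosed Z := by
      refine ⟨hZM'.trans hM'.1.1, fun R hR φ hφ x => ?_⟩
      obtain ⟨b, hb, hbe⟩ := conj_mod_hyperfocal hS hF hφ
      have hx : b * x * b⁻¹ = (x : Ω) := by
        obtain ⟨i, hi⟩ := Subgroup.mem_zpowers_iff.1 (hZz (hR x.2))
        have hc : Commute b z := hzc b hb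
        rw [← hi, (hc.zpow_right i).eq, mul_inv_cancel_right]
      have h1 := hbe x
      rw [hx, hhyp] at h1
      have h2 : (x : Ω)⁻¹ * φ x ∈ M ⊓ M' :=
        ⟨h1, M'.mul_mem (M'.inv_mem (hZM' (hR x.2))) (hM'.1.2 R (hR.trans hZM') φ hφ x)⟩
      have h0 : M ⊓ M' = ⊥ := by
        rcases inf_eq_or hM.1 hM' with h | h
        · exact h
        · exact absurd (hM.2.2 M' hM'.1 h hM'.2.1) hMne
      rw [h0, Subgroup.mem_bot, inv_mul_eq_one] at h2
      rw [← h2]
      exact hR x.2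
    rw [hM'.2.2 Z hZc hZM' (ne_bot_of_card hZ le_rfl), hj] at hZ
    have := Nat.pow_right_injective hp.out.two_le hZ
    omega
  have hMΦ : M ≤ (frattini S).map S.subtype := by
    suffices M.subgroupOf S ≤ frattini S by
      intro x hx
      exact ⟨⟨x, hM.1.1 hx⟩, this hx, rfl⟩
    rw [frattini, Order.radical]
    refine le_iInf₂ fun K hK => ?_
    by_contra hnot
    haveI : Group.IsNilpotent S := hS.isNilpotent
    haveI : (K : Subgroup S).Normal := Subgroup.NormalizerCondition.normal_of_coatom K Group.normalizerCondition_of_isNilpotent hK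
    set S1 := (K : Subgroup S).map S.subtype with hS1
    have hS1S : S1 ≤ S := Subgroup.map_subtype_le _
    obtain ⟨e, he⟩ := hS.index K
    have hidx : (K : Subgroup S).index = p := by
      rcases e with _ | e
      · exact absurd (Subgroup.index_eq_one.1 he) hK.1
      by_contra h
      have hq : IsPGroup p (S ⧸ (K : Subgroup S)) := hS.to_quotient _
      obtain ⟨w, hw⟩ := exists_prime_orderOf_dvd_card' (G := S ⧸ (K : Subgroup S)) p (by
        rw [← Subgroup.index_eq_card, he]; exact dvd_pow_self p (Nat.succ_ne_zero e))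
      have hlt : K < (Subgroup.zpowers w).comap (QuotientGroup.mk' K) := by
        refine lt_of_le_of_ne (fun x hx => ?_) fun heq => ?_
        · rw [Subgroup.mem_comap, show QuotientGroup.mk' (K : Subgroup S) x = 1 from (QuotientGroup.eq_one_iff x).2 hx]
          exact Subgroup.one_mem _
        · obtain ⟨x, rfl⟩ := QuotientGroup.mk'_surjective K w
          have hxK : x ∈ K := heq ▸ Subgroup.mem_comap.2 (Subgroup.mem_zpowers _)
          rw [show QuotientGroup.mk' K x = 1 from (QuotientGroup.eq_one_iff x).2 hxK, orderOf_one] at hw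
          exact hp.out.one_lt.ne hw
      have htop := hK.2 _ hlt
      apply h
      rw [Subgroup.index_eq_card, ← Subgroup.card_top, ← hw, ← Nat.card_zpowers]
      congr 1
      rw [← Subgroup.map_comap_eq_self_of_surjective (QuotientGroup.mk'_surjective K) (Subgroup.zpowers w), htop,
        Subgroup.map_top_of_surjective _ (QuotientGroup.mk'_surjective K)]
    have hS1c : Nat.card S1 = p ^ (n - 1) := by
      rw [hS1, Subgroup.card_map_of_injective S.subtype_injective]
      have h := (K : Subgroup S).card_mul_index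
      rw [hidx, hn, show n = n - 1 + 1 by omega, pow_succ] at h
      exact Nat.eq_of_mul_eq_mul_right hp.out.pos h
    have hMS1 : ¬ M ≤ S1 := fun h => hnot fun x hx => by
      obtain ⟨y, hy, hye⟩ := h (show (x : Ω) ∈ M from hx)
      rwa [← Subtype.ext hye]
    haveI := finite_of_le (S := S) hS1S
    obtain ⟨y, hy⟩ := card_eq_pow hS ((inf_le_left : S1 ⊓ M ≤ S1).trans hS1S)
    have hy1 : k - 1 ≤ y := by
      have hi : (S1 ⊓ M).relIndex M ∣ p := by
        rw [Subgroup.inf_relIndex_right, hS1]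
        have h := Subgroup.relIndex_dvd_index_of_normal (H := (K : Subgroup S)) (K := M.subgroupOf S)
        rw [hidx] at h
        convert h using 1
        rw [← Subgroup.relIndex_map_map_of_injective (K : Subgroup S) (M.subgroupOf S) S.subtype_injective,
          Subgroup.map_subgroupOf_eq_of_le hM.1.1]
      have hmul := Subgroup.card_mul_index ((S1 ⊓ M).subgroupOf M)
      rw [Nat.card_congr (Subgroup.subgroupOfEquivOfLe (inf_le_right : S1 ⊓ M ≤ M)).toEquiv, hk, hy] at hmul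
      have : p ^ k ≤ p ^ (y + 1) := by
        rw [← hmul, pow_succ]
        exact Nat.mul_le_mul_left _ (Nat.le_of_dvd hp.out.pos hi)
      rw [Nat.pow_le_pow_iff_right hp.out.one_lt] at this
      omega
    have hyk : y ≤ d := by
      have := Subgroup.card_le_of_le (inf_le_right : S1 ⊓ M ≤ M)
      rw [hy, hk, Nat.pow_le_pow_iff_right hp.out.one_lt] at this
      omega
    have hYne := ne_bot_of_card hy (by omega)
    obtain ⟨Q, hYQ, hQS1, hQc⟩ := exists_between (p := p) inf_le_left hy hS1c hyk (by omega)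
    obtain ⟨P, hP, hsup, hinf⟩ := hwe Q (hQS1.trans hS1S) hQc
    by_cases hP0 : P = ⊥
    · subst hP0
      rw [sup_bot_eq] at hsup
      exact hMS1 ((hbelow Q hsup (ne_bot_of_card hQc (by omega))).trans hQS1)
    · have hMP := hbelow P hP hP0
      have : S1 ⊓ M ≤ Q ⊓ P := le_inf hYQ (inf_le_right.trans hMP)
      have h' := hbelow _ hinf fun h => hYne (le_bot_iff.1 (this.trans h.le))
      exact hMS1 ((h'.trans inf_le_left).trans hQS1)
  have hEs := innerFusionSystem_saturated (p := p) hS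
  have hEh := hyperfocal_bot_of_inner (F := innerFusionSystem S) hS fun _ => rfl
  have hcΦ : ⁅S, S⁆ ≤ (frattini S).map S.subtype := by
    haveI : Group.IsNilpotent S := hS.isNilpotent
    rw [← Subgroup.map_subtype_commutator]
    exact Subgroup.map_mono (Cfsg.Agent.SolvStruct.commutator_le_frattini S)
  have ht := tate hS hF hEs (innerFusionSystem_le F)
  have := ht.2.1 (ht.1.1 (by
    rw [focal_eq hS hF, focal_eq hS hEs, hhyp, hEh, bot_sup_eq, sup_eq_left.2 hcΦ,
      sup_eq_left.2 (sup_le hMΦ hcΦ)]))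
  rw [hhyp, hEh] at this
  exact hM.2.1 this

theorem hyperfocal_bot_aux (m : ℕ) : ∀ {Ω : Type u} [Group Ω] {S : Subgroup Ω} [Finite S] (F : FusionSystem S),
    IsPGroup p S → F.IsSaturated p → ∀ (d n : ℕ), 1 ≤ d → d < n → Nat.card S = p ^ n → n ≤ m →
      WE F p d → NI F p d → F.hyperfocalSubgroup p = ⊥ := by
  induction m with
  | zero => intros; omega
  | succ m ih =>
    intro Ω _ S _ F hS hF d n hd hdn hn hnm hwe hni
    by_contra hne
    have hH := hyperfocal_stronglyClosed hS hF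
    have key : ∀ (M : Subgroup Ω) (k : ℕ), MinSC F M → Nat.card M = p ^ k → k < d →
        F.hyperfocalSubgroup p = M ∧ (k = 1 → False) := by
      intro M k hM hk hkd
      haveI : (M.subgroupOf S).Normal :=
        (Subgroup.normal_subgroupOf_iff_le_normalizer hM.1.1).2 (stronglyClosed_le_normalizer hM.1)
      obtain ⟨E, hE⟩ : ∃ E : FusionSystem (⊤ : Subgroup (S ⧸ M.subgroupOf S)),
          F.IsFactorSystem M (QuotientGroup.mk' (M.subgroupOf S)) E := by
        have hker : ∀ s : S, QuotientGroup.mk' (M.subgroupOf S) s = 1 ↔ (s : Ω) ∈ M := fun s =>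
          QuotientGroup.eq_one_iff s
        have hran : (QuotientGroup.mk' (M.subgroupOf S)).range = ⊤ :=
          MonoidHom.range_eq_top.2 (QuotientGroup.mk'_surjective _)
        exact ⟨factorSystem F hM.1 _ hker hran, hM.1.1, hker, hran, fun _ _ => Iff.rfl⟩
      have hk1 : 1 ≤ k := by
        by_contra h
        rw [show k = 0 by omega, pow_zero, Subgroup.card_eq_one] at hk
        exact hM.2.1 hk
      have hS' : IsPGroup p (⊤ : Subgroup (S ⧸ M.subgroupOf S)) := (hS.to_quotient _).to_subgroup _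
      have hEs := factor_top_saturated hS hF hM.1 hE
      obtain ⟨hwe', hni'⟩ := factor_hyps hS hF hM.1 hk hkd.le hE hwe hni
      have hcard : Nat.card (⊤ : Subgroup (S ⧸ M.subgroupOf S)) = p ^ (n - k) := by
        rw [Subgroup.card_top]
        have h4 := Subgroup.card_eq_card_quotient_mul_card_subgroup (M.subgroupOf S)
        rw [Nat.card_congr (Subgroup.subgroupOfEquivOfLe hM.1.1).toEquiv, hk, hn,
          show n = n - k + k by omega, pow_add] at h4
        exact (Nat.eq_of_mul_eq_mul_right (pow_pos hp.out.pos k) h4).symm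
      have hbot := ih E hS' hEs (d - k) (n - k) (by omega) (by omega) hcard (by omega) hwe' hni'
      have hle : F.hyperfocalSubgroup p ≤ M := fun x hx => by
        have h1 : QuotientGroup.mk' (M.subgroupOf S) ⟨x, hH.1 hx⟩ ∈ E.hyperfocalSubgroup p := by
          rw [factor_hyperfocal hS hF hM.1 hE]
          exact Subgroup.mem_map_of_mem _ (show (⟨x, hH.1 hx⟩ : S) ∈ (F.hyperfocalSubgroup p).subgroupOf S from hx)
        rw [hbot, Subgroup.mem_bot] at h1
        exact (QuotientGroup.eq_one_iff (N := M.subgroupOf S) ⟨x, hH.1 hx⟩).1 h1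
      refine ⟨hM.2.2 _ hH hle hne, fun h1 => hne ?_⟩
      subst h1
      exact hyperfocal_bot_of_prime hS hF hkd hdn hn hni hM (hk.trans (pow_one p)) hE
        (inner_of_hyperfocal_bot hS' hEs hbot)
    by_cases hsm : ∃ (M : Subgroup Ω) (k : ℕ), MinSC F M ∧ Nat.card M = p ^ k ∧ k < d
    · obtain ⟨M, k, hM, hk, hkd⟩ := hsm
      obtain ⟨hhyp, hk1⟩ := key M k hM hk hkd
      have hk0 : 1 ≤ k := by
        by_contra h
        rw [show k = 0 by omega, pow_zero, Subgroup.card_eq_one] at hk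
        exact hM.2.1 hk
      have hk2 : 2 ≤ k := by
        by_contra h
        exact hk1 (by omega)
      exact not_hyperfocal_min hS hF hk2 hkd hdn hn hwe hM hk hhyp fun M' j hM' hj hjd =>
        ((key M' j hM' hj hjd).1.symm.trans hhyp)
    · push Not at hsm
      obtain ⟨M, -, hM⟩ := exists_minSC hH hne
      refine hne (hyperfocal_bot_of_all hS hF hd hdn hn hwe hni (fun M' hM' => ?_) hM)
      obtain ⟨k, hk⟩ := card_eq_pow hS hM'.1.1
      rw [hk, le_antisymm (card_min_le hS hd hwe hM' hk) (hsm M' k hM' hk)]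

theorem inner_of_weakly_embedded (hS : IsPGroup p S) (hF : F.IsSaturated p) {d n : ℕ} (hd : 1 ≤ d) (hdn : d < n)
    (hn : Nat.card S = p ^ n) (hwe : WE F p d) (hni : NI F p d) : F = innerFusionSystem S :=
  inner_of_hyperfocal_bot hS hF (hyperfocal_bot_aux n F hS hF d n hd hdn hn le_rfl hwe hni)

end Cfsg.Agent.WeakEmbInner
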