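/-
Faithful representations of extraspecial groups over prime fields.
-/
import Cfsg.Prelude.Def_Transfer
import Cfsg.Agent.Lib.Rep.Heisenberg
import Cfsg.Agent.Lib.Transfer.PGroup

set_option autoImplicit false
set_option linter.style.haveILetI false

namespace Cfsg.Agent.LEXSFaithful

open Polynomial
open scoped commutatorElement

theorem card_lower {p r : ℕ} [Fact p.Prime] [Fact r.Prime] (hpr : p ≠ r) {E V : Type*} [Group E] [Finite E]
    [AddCommGroup V] [Module (ZMod r) V] [Finite V] (hE : Cfsg.IsExtraspecial p E) {w : ℕ}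
    (hcard : Nat.card E = p ^ (2 * w + 1)) (ρ : E →* Module.End (ZMod r) V) (hρ : Function.Injective ρ)
    {n : ℕ} (hmin : ∀ k : ℕ, 1 ≤ k → p ∣ r ^ k - 1 → n ≤ k) : r ^ (n * p ^ w) ≤ Nat.card V := by
  classical
  have hp : p.Prime := Fact.out
  have hrp : r.Prime := Fact.out
  obtain ⟨hcom, -, -⟩ := PGroupBasics.special_center hE.1
  -- a central element of order `p`
  obtain ⟨z, hzc, hzne⟩ : ∃ z ∈ Subgroup.center E, z ≠ 1 :=
    (Subgroup.bot_or_exists_ne_one _).resolve_left fun h => by
      have h2 := hE.2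
      rw [h, Subgroup.card_bot] at h2
      exact hp.one_lt.ne h2
  have hzgen : ∀ c ∈ Subgroup.center E, ∃ i : ℕ, z ^ i = c := by
    intro c hc
    have h1 : Subgroup.zpowers (⟨z, hzc⟩ : ↥(Subgroup.center E)) = ⊤ :=
      zpowers_eq_top_of_prime_card hE.2 (fun h => hzne (congrArg Subtype.val h))
    have h2 : (⟨c, hc⟩ : ↥(Subgroup.center E)) ∈ Submonoid.powers (⟨z, hzc⟩ : ↥(Subgroup.center E)) :=
      mem_powers_iff_mem_zpowers.2 (h1 ▸ Subgroup.mem_top _)
    obtain ⟨i, hi⟩ := Submonoid.mem_powers_iff _ _ |>.1 h2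
    exact ⟨i, congrArg Subtype.val hi⟩
  have hzp : z ^ p = 1 := by
    have h := pow_card_eq_one' (x := (⟨z, hzc⟩ : ↥(Subgroup.center E)))
    rw [hE.2] at h
    exact congrArg Subtype.val h
  set T := ρ z with hT
  have hTp : T ^ p = 1 := by rw [hT, ← map_pow, hzp, map_one]
  have hTne : T ≠ 1 := fun h => hzne (hρ (h.trans (map_one ρ).symm))
  have hTcomm : ∀ e, T * ρ e = ρ e * T := fun e => by
    rw [hT, ← map_mul, ← map_mul, ((Subgroup.mem_center_iff.1 hzc e)).symm]
  -- an irreducible factor with nontrivial kernel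
  set Φ : (ZMod r)[X] := ∑ i ∈ Finset.range p, X ^ i with hΦ
  have hΦeval : Φ.eval 1 ≠ 0 := by
    simp only [hΦ, eval_finsetSum, eval_pow, eval_X, one_pow, Finset.sum_const, Finset.card_range, nsmul_eq_mul,
      mul_one]
    intro h
    rw [ZMod.natCast_eq_zero_iff] at h
    exact hpr ((Nat.prime_dvd_prime_iff_eq hrp hp).1 h).symm
  have hΦ0 : Φ ≠ 0 := fun h => hΦeval (by rw [h, eval_zero])
  have hkerΦ : ¬ Function.Injective (aeval T Φ) := by
    intro hinj
    apply hTne
    refine LinearMap.ext fun v => hinj ?_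
    have h1 : aeval T Φ * (T - 1) = 0 := by
      rw [show T - 1 = aeval T (X - 1 : (ZMod r)[X]) by simp, ← map_mul, hΦ, geom_sum_mul]
      simp [hTp]
    have h2 := LinearMap.congr_fun h1 v
    rw [Module.End.mul_apply, LinearMap.sub_apply, map_sub, LinearMap.zero_apply, sub_eq_zero] at h2
    exact h2
  obtain ⟨f, hfirr, hfΦ, hfker⟩ : ∃ f : (ZMod r)[X], Irreducible f ∧ f ∣ Φ ∧ ¬ Function.Injective (aeval T f) := by
    by_contra hc
    push Not at hc
    apply hkerΦ
    suffices h : ∀ g : (ZMod r)[X], g ≠ 0 → g ∣ Φ → Function.Injective (aeval T g) from h Φ hΦ0 dvd_rfl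
    intro g
    induction g using WfDvdMonoid.induction_on_irreducible with
    | zero => intro h; exact absurd rfl h
    | unit u hu =>
      intro _ _
      have := hu.map (aeval T)
      obtain ⟨U, hU⟩ := this
      rw [← hU]
      intro a b hab
      have h1 := congrArg (U⁻¹ : (Module.End (ZMod r) V)ˣ).1 hab
      rw [← Module.End.mul_apply, ← Module.End.mul_apply, Units.inv_mul] at h1
      exact h1
    | mul a i ha hi ih =>
      intro _ hdvd
      rw [map_mul]
      exact (hc i hi (dvd_of_mul_right_dvd hdvd)).comp (ih ha (dvd_of_mul_left_dvd hdvd))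
  haveI : Fact (Irreducible f) := ⟨hfirr⟩
  let W : Submodule (ZMod r) V := LinearMap.ker (aeval T f)
  have hWne : ∃ v : V, v ∈ W ∧ v ≠ 0 := by
    obtain ⟨v, hv, hv0⟩ := Submodule.exists_mem_ne_zero_of_ne_bot
      (fun h => hfker (LinearMap.ker_eq_bot.1 h) : W ≠ ⊥)
    exact ⟨v, hv, hv0⟩
  have hcommW : ∀ g : (ZMod r)[X], ∀ e, aeval T g * ρ e = ρ e * aeval T g := by
    intro g e
    induction g using Polynomial.induction_on with
    | C a => simp [Algebra.commutes]
    | add a b ha hb => rw [map_add, add_mul, mul_add, ha, hb]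
    | monomial k a ih =>
      rw [pow_succ, ← mul_assoc, map_mul, aeval_X, mul_assoc, hTcomm, ← mul_assoc, ih, mul_assoc]
  have hWe : ∀ e, ∀ v ∈ W, ρ e v ∈ W := fun e v hv => by
    rw [LinearMap.mem_ker] at hv ⊢
    rw [← Module.End.mul_apply, hcommW, Module.End.mul_apply, hv, map_zero]
  let σ : E →* Module.End (ZMod r) W :=
    { toFun := fun e => (ρ e).restrict (hWe e)
      map_one' := LinearMap.ext fun v => Subtype.ext (by simp)
      map_mul' := fun a b => LinearMap.ext fun v => Subtype.ext (by simp) }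
  set t := σ z with ht
  have htcomm : ∀ e, t * σ e = σ e * t := fun e => by
    rw [ht, ← map_mul, ← map_mul, ((Subgroup.mem_center_iff.1 hzc e)).symm]
  have hfac : ∀ g : (ZMod r)[X], ∀ v : W, ((aeval t g) v : V) = aeval T g v := by
    intro g
    induction g using Polynomial.induction_on with
    | C a => intro v; simp [Module.algebraMap_end_apply]
    | add a b ha hb => intro v; simp [ha v, hb v]
    | monomial k a ih =>
      intro v
      rw [pow_succ, ← mul_assoc, map_mul (aeval t), map_mul (aeval T), aeval_X, aeval_X, Module.End.mul_apply, Module.End.mul_apply, ih]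
      rfl
  have hf0 : aeval t f = 0 := LinearMap.ext fun v => Subtype.ext (by
    rw [hfac]; exact LinearMap.mem_ker.1 v.2)
  let ψ : AdjoinRoot f →ₐ[ZMod r] Module.End (ZMod r) W :=
    Ideal.Quotient.liftₐ (Ideal.span {f}) (aeval t) (fun a ha => by
      obtain ⟨b, rfl⟩ := Ideal.mem_span_singleton'.1 ha
      rw [map_mul, hf0, mul_zero])
  have hψroot : ψ (AdjoinRoot.root f) = t := by
    show Ideal.Quotient.liftₐ _ _ _ (Ideal.Quotient.mk _ X) = t
    exact aeval_X t
  letI : Module (AdjoinRoot f) W := Module.compHom W ψ.toRingHom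
  have hsmul : ∀ (a : AdjoinRoot f) (v : W), a • v = ψ a v := fun _ _ => rfl
  have hψcomm : ∀ (a : AdjoinRoot f) e, ψ a * σ e = σ e * ψ a := by
    intro a e
    induction a using AdjoinRoot.induction_on with
    | ih g =>
      show aeval t g * σ e = σ e * aeval t g
      induction g using Polynomial.induction_on with
      | C a => simp [Algebra.commutes]
      | add a b ha hb => rw [map_add, add_mul, mul_add, ha, hb]
      | monomial k a ih =>
        rw [pow_succ, ← mul_assoc, map_mul, aeval_X, mul_assoc, htcomm, ← mul_assoc, ih, mul_assoc]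
  let τ : E →* Module.End (AdjoinRoot f) W :=
    { toFun := fun e =>
        { toFun := σ e
          map_add' := map_add _
          map_smul' := fun a v => (LinearMap.congr_fun (hψcomm a e) v).symm }
      map_one' := LinearMap.ext fun v => Subtype.ext (by simp [σ])
      map_mul' := fun a b => LinearMap.ext fun v => Subtype.ext (by simp [σ]) }
  have hτz : τ z = (AdjoinRoot.root f) • (1 : Module.End (AdjoinRoot f) W) := LinearMap.ext fun v => by
    show σ z v = AdjoinRoot.root f • v
    rw [hsmul, hψroot]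
  set ζ := AdjoinRoot.root f with hζ
  obtain ⟨v₀, hv₀, hv₀0⟩ := hWne
  have hsinj : ∀ a b : AdjoinRoot f, a • (⟨v₀, hv₀⟩ : W) = b • (⟨v₀, hv₀⟩ : W) → a = b := fun a b h => by
    rw [← sub_eq_zero, ← sub_smul, smul_eq_zero] at h
    rcases h with h | h
    · exact sub_eq_zero.1 h
    · exact absurd (congrArg Subtype.val h) hv₀0
  have hζp : ζ ^ p = 1 := by
    apply hsinj
    rw [one_smul, hsmul, map_pow, hψroot, ht, ← map_pow, hzp, map_one, Module.End.one_apply]
  have hζ1 : ζ ≠ 1 := by
    intro h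
    obtain ⟨g, hg⟩ := hfΦ
    have h0 : AdjoinRoot.mk f Φ = 0 := by rw [hg, map_mul, AdjoinRoot.mk_self, zero_mul]
    rw [← AdjoinRoot.aeval_eq, ← hζ, h, ← map_one (algebraMap (ZMod r) (AdjoinRoot f)),
      aeval_algebraMap_apply, coe_aeval_eq_eval] at h0
    exact hΦeval ((map_eq_zero _).1 h0)
  have hζo : orderOf ζ = p := orderOf_eq_prime hζp hζ1
  -- the degree of the field
  haveI : Module.Finite (ZMod r) (AdjoinRoot f) := (AdjoinRoot.powerBasis hfirr.ne_zero).finite
  haveI : Finite (AdjoinRoot f) := Module.finite_of_finite (ZMod r)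
  have hK : Nat.card (AdjoinRoot f) = r ^ f.natDegree := by
    rw [Module.natCard_eq_pow_finrank (K := ZMod r), Nat.card_zmod, (AdjoinRoot.powerBasis hfirr.ne_zero).finrank,
      AdjoinRoot.powerBasis_dim]
  have hn : n ≤ f.natDegree := by
    refine hmin _ hfirr.natDegree_pos ?_
    haveI := Fintype.ofFinite (AdjoinRoot f)
    have hne : ζ ≠ 0 := fun h => by rw [h, zero_pow hp.ne_zero] at hζp; exact zero_ne_one hζp
    have h1 : orderOf ζ ∣ r ^ f.natDegree - 1 := by
      refine orderOf_dvd_of_pow_eq_one ?_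
      rw [← hK, Nat.card_eq_fintype_card]
      exact FiniteField.pow_card_sub_one_eq_one ζ hne
    rwa [hζo] at h1
  -- the scalars of central elements
  have hχex : ∀ c : ↥(Subgroup.center E), ∃ a : AdjoinRoot f, τ c = a • (1 : Module.End (AdjoinRoot f) W) := by
    intro c
    obtain ⟨i, hi⟩ := hzgen c c.2
    refine ⟨ζ ^ i, ?_⟩
    rw [← hi, map_pow, hτz, _root_.smul_pow, one_pow]
  choose χ hχ using hχex
  have hχu : ∀ (c : ↥(Subgroup.center E)) (a : AdjoinRoot f), τ c = a • 1 → χ c = a := fun c a h =>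
    hsinj _ _ (LinearMap.congr_fun ((hχ c).symm.trans h) _)
  let χh : ↥(Subgroup.center E) →* AdjoinRoot f :=
    { toFun := χ
      map_one' := hχu _ _ (by rw [one_smul]; exact map_one τ)
      map_mul' := fun a b => hχu _ _ (by
        rw [Subgroup.coe_mul, map_mul, hχ a, hχ b, smul_mul_smul_comm, one_mul]) }
  have hχinj : ∀ c, χ c = 1 → c = 1 := by
    intro c hc
    obtain ⟨i, hi⟩ := hzgen c c.2
    have h1 : χ c = ζ ^ i := hχu c _ (by rw [← hi, map_pow, hτz, _root_.smul_pow, one_pow])
    rw [hc] at h1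
    obtain ⟨k, hk⟩ := orderOf_dvd_of_pow_eq_one h1.symm
    refine Subtype.ext ?_
    rw [← hi, hk, hζo, pow_mul, hzp, one_pow]
    rfl
  -- independent operators
  let ι := E ⧸ Subgroup.center E
  let cm : E → E →* ↥(Subgroup.center E) := fun t =>
    MonoidHom.mk' (fun e => ⟨⁅e, t⁆, hcom e t⟩) (fun a b => Subtype.ext (by
      have e : ⁅a * b, t⁆ = a * ⁅b, t⁆ * a⁻¹ * ⁅a, t⁆ := by simp only [commutatorElement_def]; group
      show ⁅a * b, t⁆ = ⁅a, t⁆ * ⁅b, t⁆
      rw [e, Subgroup.mem_center_iff.1 (hcom b t) a, mul_inv_cancel_right,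
        Subgroup.mem_center_iff.1 (hcom a t) _]))
  let Φe : E → Module.End (AdjoinRoot f) W →ₗ[AdjoinRoot f] Module.End (AdjoinRoot f) W := fun e =>
    (LinearMap.mulLeft (AdjoinRoot f) (τ e)).comp (LinearMap.mulRight (AdjoinRoot f) (τ e⁻¹))
  have hli := Heisenberg.linearIndependent_eigen Φe (fun q : ι => χh.comp (cm q.out))
    (fun q q' h => by
      have h1 : q.out⁻¹ * q'.out ∈ Subgroup.center E := by
        rw [Subgroup.mem_center_iff]
        intro e
        have h2 := DFunLike.congr_fun h e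
        have h3 : cm q.out e = cm q'.out e := by
          have h4 : χh ((cm q'.out e)⁻¹ * cm q.out e) = 1 := by
            rw [map_mul]
            have h5 : χh (cm q'.out e)⁻¹ * χh (cm q'.out e) = 1 := by rw [← map_mul, inv_mul_cancel, map_one]
            simp only [MonoidHom.comp_apply] at h2
            rw [h2, h5]
          exact (inv_mul_eq_one.1 (hχinj _ h4)).symm
        have h6 : e * q.out * e⁻¹ * q.out⁻¹ = e * q'.out * e⁻¹ * q'.out⁻¹ := by
          simpa [cm, commutatorElement_def] using congrArg Subtype.val h3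
        have h7 : q.out⁻¹ * q'.out = e * (q.out⁻¹ * q'.out) * e⁻¹ :=
          calc q.out⁻¹ * q'.out = e * q.out⁻¹ * e⁻¹ * (e * q.out * e⁻¹ * q.out⁻¹) * q'.out := by group
            _ = _ := by rw [h6]; group
        calc e * (q.out⁻¹ * q'.out) = e * (q.out⁻¹ * q'.out) * e⁻¹ * e := by group
          _ = q.out⁻¹ * q'.out * e := by rw [← h7]
      rw [← q.out_eq', ← q'.out_eq']
      exact QuotientGroup.eq.2 h1)
    (fun q => τ q.out)
    (fun q h => hv₀0 (by
      have h1 := LinearMap.congr_fun (congrArg (fun X => τ q.out⁻¹ * X) h) (⟨v₀, hv₀⟩ : W)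
      simp only [← map_mul, inv_mul_cancel, map_one, mul_zero, Module.End.one_apply, LinearMap.zero_apply] at h1
      exact congrArg Subtype.val h1))
    (fun e q => by
      show τ e * (τ q.out * τ e⁻¹) = χ (cm q.out e) • τ q.out
      have h1 : e * (q.out * e⁻¹) = ((cm q.out e : ↥(Subgroup.center E)) : E) * q.out := by
        show _ = ⁅e, q.out⁆ * q.out
        rw [commutatorElement_def]
        group
      rw [← map_mul, ← map_mul, h1, map_mul, hχ, smul_mul_assoc, one_mul])
  haveI : Fintype ι := Fintype.ofFinite ι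
  have hcardι : Fintype.card ι = p ^ (2 * w) := by
    have h1 := Subgroup.card_eq_card_quotient_mul_card_subgroup (Subgroup.center E)
    rw [hcard, hE.2, pow_succ, Nat.card_eq_fintype_card] at h1
    exact (Nat.eq_of_mul_eq_mul_right hp.pos h1).symm
  haveI : Module.Finite (AdjoinRoot f) W := Module.Finite.of_finite
  have hD : p ^ (2 * w) ≤ Module.finrank (AdjoinRoot f) W * Module.finrank (AdjoinRoot f) W :=
    hcardι ▸ hli.fintype_card_le_finrank.trans_eq (Module.finrank_linearMap _ _ _ _)
  have hD' : p ^ w ≤ Module.finrank (AdjoinRoot f) W := by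
    rw [two_mul, pow_add] at hD
    exact Nat.mul_self_le_mul_self_iff.1 hD
  calc r ^ (n * p ^ w) ≤ r ^ (f.natDegree * Module.finrank (AdjoinRoot f) W) :=
        Nat.pow_le_pow_right hrp.pos (Nat.mul_le_mul hn hD')
    _ = Nat.card W := by rw [pow_mul, ← hK, ← Module.natCard_eq_pow_finrank]
    _ ≤ Nat.card V := Nat.card_le_card_of_injective _ Subtype.val_injective

open scoped IsMulCommutative in
/-- A group normalizing an abelian subgroup of exponent `r` acts linearly and faithfully modulo centralizers. -/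
theorem exists_conjHom {G : Type*} [Group G] (r : ℕ) (E A : Subgroup G) [IsMulCommutative ↥A]
    [Module (ZMod r) (Additive ↥A)] (hnorm : E ≤ Subgroup.normalizer (A : Set G))
    (hfaith : E ⊓ Subgroup.centralizer (A : Set G) = ⊥) :
    ∃ ρ : ↥E →* Module.End (ZMod r) (Additive ↥A), Function.Injective ρ := by
  let cj : ↥E → ↥A →* ↥A := fun e =>
    MonoidHom.mk' (fun a => ⟨(e : G) * a * (e : G)⁻¹, (Subgroup.mem_normalizer_iff.1 (hnorm e.2) a).1 a.2⟩)
      (fun a b => Subtype.ext (by simp [mul_assoc]))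
  let ρ₀ : ↥E → Module.End (ZMod r) (Additive ↥A) := fun e => (cj e).toAdditive.toZModLinearMap r
  have hρapp : ∀ (e : ↥E) (v : Additive ↥A),
      (((ρ₀ e v).toMul : ↥A) : G) = (e : G) * ((v.toMul : ↥A) : G) * (e : G)⁻¹ := fun _ _ => rfl
  let ρ : ↥E →* Module.End (ZMod r) (Additive ↥A) :=
    { toFun := ρ₀
      map_one' := LinearMap.ext fun v => Additive.toMul.injective (Subtype.ext (by
        rw [hρapp, Module.End.one_apply]; simp))
      map_mul' := fun e f => LinearMap.ext fun v => Additive.toMul.injective (Subtype.ext (by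
        rw [hρapp, Module.End.mul_apply, hρapp, hρapp]; simp [mul_assoc])) }
  refine ⟨ρ, ?_⟩
  rw [injective_iff_map_eq_one]
  intro e he
  refine Subtype.ext (Subgroup.mem_bot.1 (hfaith ▸ Subgroup.mem_inf.2 ⟨e.2, Subgroup.mem_centralizer_iff.2 ?_⟩))
  intro a ha
  have h2 := LinearMap.congr_fun he (Additive.ofMul (⟨a, ha⟩ : ↥A))
  rw [Module.End.one_apply] at h2
  have h1 : (e : G) * a * (e : G)⁻¹ = a :=
    (hρapp e _).symm.trans (congrArg (fun v : Additive ↥A => ((v.toMul : ↥A) : G)) h2)
  exact (mul_inv_eq_iff_eq_mul.1 h1).symm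

end Cfsg.Agent.LEXSFaithful
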