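/-
Elements of order four in extraspecial 2-groups of plus type.
-/
import Cfsg.Agent.Lib.FGBasics.Extraspecial
import Cfsg.Agent.Lib.Extraspecial.NonSplit
import Cfsg.Prelude.Def_PLocal

set_option autoImplicit false
set_option linter.style.haveILetI false

namespace Cfsg.Agent.LEXSPlus

open Cfsg.Agent.FGBasics

theorem orderOf_eq_four_iff {E : Type*} [Group E] {z : E} (_hz : z ≠ 1) (hz2 : z * z = 1)
    (hsq : ∀ x : E, x * x = 1 ∨ x * x = z) (x : E) : orderOf x = 4 ↔ x * x ≠ 1 := by
  constructor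
  · intro h h1
    have h2 := Nat.le_of_dvd (by norm_num) (orderOf_dvd_of_pow_eq_one (x := x) (n := 2) (by rw [pow_two, h1]))
    omega
  · intro h
    have h4 : x ^ 4 = 1 := by
      rw [show x ^ 4 = (x * x) * (x * x) by simp [pow_succ, mul_assoc]]
      rcases hsq x with h1 | h1 <;> simp [h1, hz2]
    exact orderOf_eq_prime_pow (p := 2) (n := 1) (by rw [pow_one, pow_two]; exact h) (by simpa using h4)

theorem card_order_four {E : Type*} [Group E] [Finite E] (m : ℕ) (hE : Cfsg.IsExtraspecial 2 E)
    (hcard : Nat.card E = 2 ^ (2 * m + 1))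
    (hplus : ∃ A : Subgroup E, Cfsg.IsElementaryAbelian 2 A ∧ Nat.card A = 2 ^ (m + 1)) :
    Nat.card {x : E // orderOf x = 4} = 2 ^ (2 * m) - 2 ^ m := by
  classical
  haveI : Fact (Nat.Prime 2) := ⟨Nat.prime_two⟩
  obtain ⟨A, hA, hAcard⟩ := hplus
  obtain ⟨z, hS, -⟩ := XNonSplit.exists_setup hE
  obtain ⟨hAc, hA2⟩ := hA
  have hcomm : ∀ a ∈ A, ∀ b ∈ A, a * b = b * a := fun a ha b hb =>
    congrArg Subtype.val (hAc.is_comm.comm (⟨a, ha⟩ : ↥A) ⟨b, hb⟩)
  have hsqA : ∀ a ∈ A, a * a = 1 := fun a ha => by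
    have := hA2 a ha
    rwa [pow_two] at this
  -- `A` is self-centralizing
  have hmax : ∀ y, (∀ a ∈ A, a * y = y * a) → y ∈ A := by
    intro y hy
    by_contra hyA
    set S := Subgroup.closure ((A : Set E) ∪ {y})
    have hle : A ≤ S := fun b hb => Subgroup.subset_closure (Or.inl hb)
    have hlt : A < S := lt_of_le_of_ne hle fun h => hyA (h ▸ Subgroup.subset_closure (Or.inr rfl))
    have hSc : IsMulCommutative ↥S := Subgroup.isMulCommutative_closure fun a ha b hb => by
      rcases ha with ha | ha <;> rcases hb with hb | hb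
      · exact hcomm a ha b hb
      · rw [Set.mem_singleton_iff.1 hb]; exact hy a ha
      · rw [Set.mem_singleton_iff.1 ha]; exact (hy b hb).symm
      · rw [Set.mem_singleton_iff.1 ha, Set.mem_singleton_iff.1 hb]
    have h1 := XS.card_abelian_sq_le hE S hSc
    have h2 : Nat.card A < Nat.card S := (Subgroup.card_le_of_le hle).lt_of_ne fun h =>
      hlt.ne (Subgroup.eq_of_le_of_card_ge hle h.ge)
    have h3 := Nat.mul_lt_mul_of_lt_of_lt h2 h2
    rw [hcard, ← pow_succ] at h1
    rw [hAcard, ← pow_add] at h3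
    rw [show m + 1 + (m + 1) = 2 * m + 1 + 1 by ring] at h3
    omega
  -- a partner of every element outside `A`
  let g : Subgroup E → E := fun K => if h : ∃ a ∈ A, a ∉ K then h.choose else 1
  have hg : ∀ K, g K ∈ A := fun K => by
    by_cases h : ∃ a ∈ A, a ∉ K
    · simp only [g, dif_pos h]; exact h.choose_spec.1
    · simp only [g, dif_neg h]; exact one_mem A
  have hgn : ∀ x, x ∉ A → ¬ g (A ⊓ Subgroup.centralizer {x}) * x = x * g (A ⊓ Subgroup.centralizer {x}) := by
    intro x hx
    have h : ∃ a ∈ A, a ∉ A ⊓ Subgroup.centralizer {x} := by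
      by_contra h
      push Not at h
      exact hx (hmax x fun a ha =>
        Subgroup.mem_centralizer_singleton_iff.1 (Subgroup.mem_inf.1 (h a ha)).2)
    intro hc
    simp only [g, dif_pos h] at hc
    exact h.choose_spec.2 (Subgroup.mem_inf.2 ⟨h.choose_spec.1, Subgroup.mem_centralizer_singleton_iff.2 hc⟩)
  let T : E → E := fun x => g (A ⊓ Subgroup.centralizer {x}) * x
  have hTA : ∀ x, T x ∈ A ↔ x ∈ A := fun x => Subgroup.mul_mem_cancel_left A (hg _)
  have hTT : ∀ x, T (T x) = x := by
    intro x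
    have hK : A ⊓ Subgroup.centralizer {T x} = A ⊓ Subgroup.centralizer {x} := by
      ext a
      simp only [Subgroup.mem_inf, Subgroup.mem_centralizer_singleton_iff, T, and_congr_right_iff]
      intro ha
      rw [← mul_assoc, hcomm a ha _ (hg _), mul_assoc, mul_assoc, mul_right_inj]
    show g (A ⊓ Subgroup.centralizer {T x}) * T x = x
    rw [hK]
    show g _ * (g _ * x) = x
    rw [← mul_assoc, hsqA _ (hg _), one_mul]
  have hTsq : ∀ x, x ∉ A → (T x * T x = 1 ↔ x * x ≠ 1) := by
    intro x hx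
    set a := g (A ⊓ Subgroup.centralizer {x})
    have h1 : T x * T x = x * x * z := by
      show a * x * (a * x) = _
      rw [mul_assoc a x, ← mul_assoc x a x, hS.not_comm (fun h => hgn x hx h.symm),
        show a * (a * x * z * x) = (a * a) * (x * (z * x)) by simp [mul_assoc], hsqA a (hg _), hS.central x,
        one_mul, mul_assoc]
    rw [h1]
    rcases hS.square x with h | h
    · rw [h, one_mul]; simp [hS.one_ne]
    · rw [h]; simp [hS.sq, hS.one_ne]
  letI := Fintype.ofFinite E
  let s₄ := (Finset.univ : Finset E).filter fun x => x ∉ A ∧ x * x ≠ 1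
  let s₁ := (Finset.univ : Finset E).filter fun x => x ∉ A ∧ x * x = 1
  have heq : s₄.card = s₁.card := by
    refine Finset.card_nbij' T T ?_ ?_ (fun x _ => hTT x) (fun x _ => hTT x)
    · intro x hx
      simp only [s₄, s₁, Finset.coe_filter, Finset.mem_univ, true_and, Set.mem_setOf_eq] at hx ⊢
      exact ⟨mt (hTA x).1 hx.1, (hTsq x hx.1).2 hx.2⟩
    · intro x hx
      simp only [s₄, s₁, Finset.coe_filter, Finset.mem_univ, true_and, Set.mem_setOf_eq] at hx ⊢
      exact ⟨mt (hTA x).1 hx.1, fun h => (hTsq x hx.1).1 h hx.2⟩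
  have hsum : s₄.card + s₁.card + Nat.card A = Nat.card E := by
    have hu : s₄ ∪ s₁ = Finset.univ.filter (fun x => x ∉ A) := by
      ext x; simp only [s₄, s₁, Finset.mem_union, Finset.mem_filter, Finset.mem_univ, true_and]; tauto
    have hd : Disjoint s₄ s₁ := Finset.disjoint_left.2 fun x hx hx' => by
      simp only [s₄, s₁, Finset.mem_filter] at hx hx'
      exact hx.2.2 hx'.2.2
    rw [← Finset.card_union_of_disjoint hd, hu, Nat.card_eq_fintype_card (α := E), Nat.card_eq_fintype_card (α := A),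
      Fintype.card_subtype, add_comm, ← Finset.card_univ]
    exact Finset.card_filter_add_card_filter_not (s := (Finset.univ : Finset E)) (fun x => x ∈ A)
  have h4 : Nat.card {x : E // orderOf x = 4} = s₄.card := by
    rw [Nat.card_eq_fintype_card, Fintype.card_subtype]
    congr 1
    ext x
    simp only [s₄, Finset.mem_filter, Finset.mem_univ, true_and]
    rw [orderOf_eq_four_iff hS.one_ne hS.sq hS.square x]
    exact ⟨fun h => ⟨fun hx => h (hsqA x hx), h⟩, fun h => h.2⟩
  rw [h4]
  rw [← heq, hcard, hAcard, pow_succ, pow_succ] at hsum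
  have : 2 ^ m ≤ 2 ^ (2 * m) := Nat.pow_le_pow_right (by norm_num) (by omega)
  omega

end Cfsg.Agent.LEXSPlus
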