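/-
The normal closure of `O_p(L) ∩ Y` in a `Y`-minimal group.
-/
import Cfsg.Agent.Lib.LocalEven.PIrred
import Cfsg.Agent.Lib.LocalEven.Frattini
import Cfsg.Agent.Lib.LocalEven.Amalgam
import Cfsg.Agent.Lib.LocalEven.Large
import Cfsg.Agent.Lib.Solvable.NilpotentFrattini

set_option autoImplicit false
set_option linter.unusedSectionVars false
set_option linter.style.haveILetI false

namespace Cfsg.Agent.LEYMinA

open Cfsg.Agent.LEBasic
open scoped commutatorElement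

variable {L : Type*} [Group L] [Finite L] {p : ℕ} [Fact p.Prime]

theorem sup_conj_eq_top {L₀ Y : Subgroup L} (hL₀ : IsCoatom L₀) (hYL₀ : Y ≤ L₀) (hmin : Cfsg.IsMinimalOver Y)
    {g : L} (hg : g ∉ L₀) : Y ⊔ Y.map (MulAut.conj g).toMonoidHom = ⊤ := by
  by_contra hne
  have h1 : Y.map (MulAut.conj g).toMonoidHom ≤ L₀ :=
    le_sup_right.trans (LEPIrred.le_uniqueMax hmin hL₀ hYL₀ hne le_sup_left)
  have h2 := (map_conj_le_iff g).1 h1
  have hne' : L₀.map (MulAut.conj g⁻¹).toMonoidHom ≠ ⊤ := fun h => hL₀.1 (by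
    apply Subgroup.map_injective (f := (MulAut.conj g⁻¹).toMonoidHom) (MulAut.conj g⁻¹).injective
    show L₀.map (MulAut.conj g⁻¹).toMonoidHom = (⊤ : Subgroup L).map (MulAut.conj g⁻¹).toMonoidHom
    rw [h, Subgroup.map_top_of_surjective _ (MulAut.conj g⁻¹).surjective])
  have h3 : L₀.map (MulAut.conj g⁻¹).toMonoidHom = L₀ :=
    Subgroup.eq_of_le_of_card_ge (LEPIrred.le_uniqueMax hmin hL₀ hYL₀ hne' h2) (card_map_conj _ _).ge
  have h4 : g ∈ Subgroup.normalizer (L₀ : Set L) := inv_mem_iff.1 (map_conj_eq_iff_mem_normalizer.1 h3)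
  rcases hL₀.le_iff.1 (Subgroup.le_normalizer (H := L₀)) with h | h
  · exact hL₀.1 (LEPIrred.not_normal_le hmin hL₀ (Subgroup.normalizer_eq_top_iff.1 h) hYL₀)
  · exact hg (h ▸ h4)

theorem main (L₀ : Subgroup L) (hL₀ : IsCoatom L₀) (Y : Subgroup L) (hYL₀ : Y ≤ L₀)
    (hYc : IsMulCommutative ↥Y) (hYp : ∀ y ∈ Y, y ^ p = 1) (hmin : Cfsg.IsMinimalOver Y)
    (hOY : Cfsg.pCore p L ≤ Subgroup.normalizer (Y : Set L)) (A : Subgroup L)
    (hA : A = Subgroup.normalClosure (((Cfsg.pCore p L ⊓ Y : Subgroup L)) : Set L)) (g : L) (hg : g ∉ L₀) :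
    (frattini ↥A).map A.subtype = ⁅A, A⁆ ∧ ⁅A, A⁆ = ⁅A ⊓ Y, A⁆ ∧
      ⁅A ⊓ Y, A⁆ = ⁅A ⊓ Y, A ⊓ Y.map (MulAut.conj g).toMonoidHom⁆ ∧ ⁅A ⊓ Y, A⁆ ≤ Y ⊓ Subgroup.center L ∧
      Y ⊓ Y.map (MulAut.conj g).toMonoidHom = Y ⊓ Subgroup.center L ∧
      (A ⊓ Y) ⊓ (A ⊓ Y.map (MulAut.conj g).toMonoidHom) = Y ⊓ Subgroup.center L ∧
      A ⊓ Subgroup.center L = Y ⊓ Subgroup.center L := by
  haveI hOn := Cfsg.pCore_normal p L
  set O := Cfsg.pCore p L with hO
  set Y' := Y.map (MulAut.conj g).toMonoidHom with hY'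
  set Z := Y ⊓ Subgroup.center L with hZ
  have htop := sup_conj_eq_top hL₀ hYL₀ hmin hg
  have hYab : ∀ a ∈ Y, ∀ b ∈ Y, a * b = b * a := fun a ha b hb =>
    congrArg Subtype.val (hYc.is_comm.comm ⟨a, ha⟩ ⟨b, hb⟩)
  have hY'ab : ∀ a ∈ Y', ∀ b ∈ Y', a * b = b * a := by
    rintro _ ⟨a, ha, rfl⟩ _ ⟨b, hb, rfl⟩
    rw [← map_mul, ← map_mul, hYab a ha b hb]
  have hcen : ∀ x : L, (∀ y ∈ Y, y * x = x * y) → (∀ y ∈ Y', y * x = x * y) → x ∈ Subgroup.center L := by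
    intro x h1 h2
    have h : (⊤ : Subgroup L) ≤ Subgroup.centralizer {x} := htop ▸ sup_le
      (fun y hy => Subgroup.mem_centralizer_singleton_iff.2 (h1 y hy))
      (fun y hy => Subgroup.mem_centralizer_singleton_iff.2 (h2 y hy))
    exact Subgroup.mem_center_iff.2 fun y => Subgroup.mem_centralizer_singleton_iff.1 (h (Subgroup.mem_top y))
  have hfix : ∀ z ∈ Subgroup.center L, (MulAut.conj g).toMonoidHom z = z := fun z hz => by
    show g * z * g⁻¹ = z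
    rw [Subgroup.mem_center_iff.1 hz g, mul_inv_cancel_right]
  have hYY' : Y ⊓ Y' = Z := by
    refine le_antisymm (fun x hx => ?_) (fun x hx => ?_)
    · obtain ⟨h1, h2⟩ := Subgroup.mem_inf.1 hx
      exact Subgroup.mem_inf.2 ⟨h1, hcen x (fun y hy => hYab y hy x h1) (fun y hy => hY'ab y hy x h2)⟩
    · obtain ⟨h1, h2⟩ := Subgroup.mem_inf.1 hx
      exact Subgroup.mem_inf.2 ⟨h1, x, h1, hfix x h2⟩
  have hYpg : IsPGroup p ↥Y := fun y => ⟨1, Subtype.ext (by rw [pow_one]; exact hYp y y.2)⟩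
  have hZO : Z ≤ O := le_pCore ⟨fun z hz x => by
      rwa [Subgroup.mem_center_iff.1 (Subgroup.mem_inf.1 hz).2 x, mul_inv_cancel_right]⟩
    (hYpg.to_le inf_le_left)
  set U := O ⊓ Y with hU
  set V := U.map (MulAut.conj g).toMonoidHom with hV
  haveI hAn : A.Normal := hA ▸ Subgroup.normalClosure_normal
  have hUA : U ≤ A := hA ▸ Subgroup.le_normalClosure
  have hAO : A ≤ O := hA ▸ Subgroup.normalClosure_le_normal inf_le_left
  have hAY : A ⊓ Y = U := le_antisymm (inf_le_inf_right _ hAO) (le_inf hUA inf_le_right)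
  have hVA : V ≤ A := (map_conj_mono g hUA).trans (map_conj_eq_iff_mem_normalizer.2
    (Subgroup.le_normalizer_of_normal (H := A) (K := ⊤) (Subgroup.mem_top g))).le
  have hgO : O.map (MulAut.conj g).toMonoidHom = O :=
    map_conj_eq_iff_mem_normalizer.2 (Subgroup.le_normalizer_of_normal (H := O) (K := ⊤) (Subgroup.mem_top g))
  have hVeq : V = O ⊓ Y' := by
    rw [hV, hU, Subgroup.map_inf_eq _ _ _ (MulAut.conj g).injective, hgO]
  have hAY' : A ⊓ Y' = V :=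
    le_antisymm (hVeq ▸ inf_le_inf_right _ hAO) (le_inf hVA (hVeq ▸ inf_le_right))
  have hOU : O ≤ Subgroup.normalizer (U : Set L) :=
    (le_inf Subgroup.le_normalizer hOY).trans (LELarge.inf_normalizer_le _ _)
  have hOV : O ≤ Subgroup.normalizer (V : Set L) := fun o ho => by
    have ho' : g⁻¹ * o * g ∈ O := by simpa using hOn.conj_mem o ho g⁻¹
    have h := map_conj_eq_iff_mem_normalizer.2 (hOU ho')
    rw [← map_conj_eq_iff_mem_normalizer, hV, map_conj_map_conj]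
    conv_rhs => rw [← h, map_conj_map_conj]
    rw [show g * (g⁻¹ * o * g) = o * g by group]
  have hOYc : ∀ o ∈ O, ∀ y ∈ Y, o * y * o⁻¹ * y⁻¹ ∈ U := fun o ho y hy => Subgroup.mem_inf.2
    ⟨by rw [mul_assoc o y, mul_assoc o]; exact mul_mem ho (hOn.conj_mem _ (inv_mem ho) y),
      mul_mem ((Subgroup.mem_normalizer_iff.1 (hOY ho) y).1 hy) (inv_mem hy)⟩
  have hOY'c : ∀ o ∈ O, ∀ y ∈ Y', o * y * o⁻¹ * y⁻¹ ∈ V := by
    rintro o ho _ ⟨y, hy, rfl⟩
    refine ⟨_, hOYc (g⁻¹ * o * g) (by simpa using hOn.conj_mem o ho g⁻¹) y hy, ?_⟩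
    show g * _ * g⁻¹ = o * (g * y * g⁻¹) * o⁻¹ * (g * y * g⁻¹)⁻¹
    group
  -- `U V` is normal
  set W := U ⊔ V with hW
  have hUO : U ≤ O := inf_le_left
  have hVO : V ≤ O := hVA.trans hAO
  have key : ∀ (P : Subgroup L), (∀ y ∈ P, ∀ o ∈ O, o * y * o⁻¹ * y⁻¹ ∈ W) → P ≤ Subgroup.normalizer (W : Set L) := by
    intro P hP
    refine LEAmalgam.le_normalizer_of_conj fun y hy => ?_
    rintro _ ⟨w, hw, rfl⟩
    have hwO : w ∈ O := (sup_le hUO hVO) hw
    have e : (MulAut.conj y).toMonoidHom w = (w * y * w⁻¹ * y⁻¹)⁻¹ * w := by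
      show y * w * y⁻¹ = _
      group
    rw [e]
    exact mul_mem (inv_mem (hP y hy w hwO)) hw
  haveI hWn : W.Normal := by
    rw [← Subgroup.normalizer_eq_top_iff, ← top_le_iff, ← htop, sup_le_iff]
    exact ⟨key Y fun y hy o ho => Subgroup.mem_sup_left (hOYc o ho y hy),
      key Y' fun y hy o ho => Subgroup.mem_sup_right (hOY'c o ho y hy)⟩
  have hAW : A = W := le_antisymm (hA ▸ Subgroup.normalClosure_le_normal (le_sup_left : U ≤ W)) (sup_le hUA hVA)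
  -- commutators
  have hUV : ∀ u ∈ U, ∀ v ∈ V, ⁅u, v⁆ ∈ Z := fun u hu v hv => by
    rw [← hYY']
    refine Subgroup.mem_inf.2 ⟨?_, ?_⟩
    · rw [commutatorElement_def, mul_assoc u v, mul_assoc u]
      exact mul_mem (Subgroup.mem_inf.1 hu).2 (Subgroup.mem_inf.1
        ((Subgroup.mem_normalizer_iff.1 (hOU (hVO hv)) u⁻¹).1 (inv_mem hu))).2
    · rw [commutatorElement_def]
      have h := (Subgroup.mem_normalizer_iff.1 (hOV (hUO hu)) v).1 hv
      have h' : u * v * u⁻¹ * v⁻¹ ∈ V := mul_mem h (inv_mem hv)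
      exact (hVeq ▸ h' : u * v * u⁻¹ * v⁻¹ ∈ O ⊓ Y').2
  have hmem : ∀ a ∈ A, ∃ u ∈ U, ∃ v ∈ V, a = u * v := fun a ha => by
    obtain ⟨u, hu, v, hv, e⟩ := (SolvBasic.mem_sup_iff_of_le_normalizer (hVO.trans hOU)).1 (hAW ▸ ha)
    exact ⟨u, hu, v, hv, e⟩
  set D := ⁅U, V⁆ with hD
  have hDZ : D ≤ Z := Subgroup.commutator_le.2 hUV
  have hDc : ∀ d ∈ D, ∀ x : L, x * d = d * x := fun d hd x => Subgroup.mem_center_iff.1 (Subgroup.mem_inf.1 (hDZ hd)).2 x
  haveI hDn : D.Normal := ⟨fun d hd x => by rwa [hDc d hd x, mul_inv_cancel_right]⟩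
  let q := QuotientGroup.mk' D
  have hqUV : ∀ u ∈ U, ∀ v ∈ V, Commute (q u) (q v) := fun u hu v hv => by
    show q u * q v = q v * q u
    rw [← commutatorElement_eq_one_iff_mul_comm, ← map_commutatorElement]
    exact (QuotientGroup.eq_one_iff _).2 (Subgroup.commutator_mem_commutator hu hv)
  have hqUU : ∀ u ∈ U, ∀ u' ∈ U, Commute (q u) (q u') := fun u hu u' hu' => by
    show q u * q u' = q u' * q u
    rw [← map_mul, ← map_mul, hYab u (Subgroup.mem_inf.1 hu).2 u' (Subgroup.mem_inf.1 hu').2]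
  have hqVV : ∀ v ∈ V, ∀ v' ∈ V, Commute (q v) (q v') := fun v hv v' hv' => by
    show q v * q v' = q v' * q v
    rw [← map_mul, ← map_mul, hY'ab v (hVeq ▸ hv : v ∈ O ⊓ Y').2 v' (hVeq ▸ hv' : v' ∈ O ⊓ Y').2]
  have hAA : ∀ a ∈ A, ∀ b ∈ A, ⁅a, b⁆ ∈ D := fun a ha b hb => by
    obtain ⟨u, hu, v, hv, rfl⟩ := hmem a ha
    obtain ⟨u', hu', v', hv', rfl⟩ := hmem b hb
    refine (QuotientGroup.eq_one_iff _).1 ?_
    show q ⁅u * v, u' * v'⁆ = 1
    rw [map_commutatorElement, commutatorElement_eq_one_iff_mul_comm, map_mul, map_mul]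
    exact (((hqUU u hu u' hu').mul_right (hqUV u hu v' hv')).mul_left
      ((hqUV u' hu' v hv).symm.mul_right (hqVV v hv v' hv'))).eq
  have hAp : ∀ a ∈ A, a ^ p ∈ D := fun a ha => by
    obtain ⟨u, hu, v, hv, rfl⟩ := hmem a ha
    refine (QuotientGroup.eq_one_iff _).1 ?_
    show q ((u * v) ^ p) = 1
    have hv' : v ^ p = 1 := by
      obtain ⟨y, hy, rfl⟩ := hv
      rw [← map_pow, hYp y (Subgroup.mem_inf.1 hy).2, map_one]
    rw [map_pow, map_mul, (hqUV u hu v hv).mul_pow, ← map_pow, ← map_pow, hYp u (Subgroup.mem_inf.1 hu).2,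
      hv', map_one, mul_one]
  have hAAD : ⁅A, A⁆ = D :=
    le_antisymm (Subgroup.commutator_le.2 hAA) (Subgroup.commutator_mono hUA hVA)
  have hUAD : ⁅U, A⁆ = D :=
    le_antisymm ((Subgroup.commutator_mono hUA le_rfl).trans hAAD.le) (Subgroup.commutator_mono le_rfl hVA)
  have hZA : Z ≤ A := (le_inf hZO inf_le_left).trans hUA
  refine ⟨?_, ?_, ?_, ?_, hYY', ?_, ?_⟩
  · haveI : Group.IsNilpotent ↥A := (pCore_isPGroup.to_le hAO).isNilpotent
    refine le_antisymm ?_ ?_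
    · rw [Subgroup.map_le_iff_le_comap]
      refine LEFrattini.frattini_le (p := p) (fun x y => ?_) (fun x => ?_)
      · show ((⁅x, y⁆ : ↥A) : L) ∈ ⁅A, A⁆
        exact Subgroup.commutator_mem_commutator x.2 y.2
      · show ((x ^ p : ↥A) : L) ∈ ⁅A, A⁆
        rw [hAAD]; exact hAp x x.2
    · have h := Subgroup.map_mono (f := A.subtype) (SolvStruct.commutator_le_frattini ↥A)
      rwa [commutator_def, Subgroup.map_commutator, ← MonoidHom.range_eq_map, Subgroup.range_subtype] at h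
  · rw [hAY, hUAD, hAAD]
  · rw [hAY, hAY', hUAD]
  · rw [hAY, hUAD]; exact hDZ
  · refine le_antisymm (hYY' ▸ inf_le_inf inf_le_right inf_le_right) ?_
    rw [← hYY']
    exact le_inf (le_inf (hYY'.le.trans hZA) inf_le_left) (le_inf (hYY'.le.trans hZA) inf_le_right)
  · refine le_antisymm (fun a ha => ?_) (le_inf hZA inf_le_right)
    obtain ⟨haA, haC⟩ := Subgroup.mem_inf.1 ha
    obtain ⟨u, hu, v, hv, rfl⟩ := hmem a haA
    have hv' : v ∈ Subgroup.center L := by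
      refine hcen v (fun y hy => ?_) (fun y hy => hY'ab y hy v (hVeq ▸ hv : v ∈ O ⊓ Y').2)
      have h1 := Subgroup.mem_center_iff.1 haC y
      rw [← mul_assoc, hYab y hy u (Subgroup.mem_inf.1 hu).2, mul_assoc, mul_assoc] at h1
      exact mul_left_cancel h1
    obtain ⟨y, hy, rfl⟩ := hv
    have hyc : y ∈ Subgroup.center L := Subgroup.mem_center_iff.2 fun z => by
      have h2 := Subgroup.mem_center_iff.1 hv' (g * z * g⁻¹)
      have h3 : g * (z * y) * g⁻¹ = g * (y * z) * g⁻¹ := by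
        calc g * (z * y) * g⁻¹ = g * z * g⁻¹ * (g * y * g⁻¹) := by group
          _ = g * y * g⁻¹ * (g * z * g⁻¹) := h2
          _ = _ := by group
      exact mul_left_cancel (mul_right_cancel h3)
    refine Subgroup.mem_inf.2 ⟨mul_mem (Subgroup.mem_inf.1 hu).2 ?_, haC⟩
    rw [hfix y hyc]
    exact (Subgroup.mem_inf.1 hy).2

end Cfsg.Agent.LEYMinA
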